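import Mathlib.Data.Nat.Choose.Dvd
import Mathlib.GroupTheory.SpecificGroups.Cyclic
import Mathlib.GroupTheory.Frattini
import Mathlib.GroupTheory.Nilpotent
import Mathlib.GroupTheory.PGroup
import Mathlib.GroupTheory.Sylow
import Mathlib.GroupTheory.Commutator.Basic
import Mathlib.GroupTheory.Subgroup.Centralizer

/-! Elementary coprime action inside an ambient group: stabilized series, and the lemmas on
actions on a `p`-group with controlled fixed points. -/

set_option autoImplicit false

namespace Cfsg.Agent.Lib.OddLocal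

open Subgroup
open scoped commutatorElement

universe u

variable {G : Type u} [Group G]

theorem conj_mem_of_le_normalizer {H A : Subgroup G} (hA : A ≤ normalizer (H : Set G)) {a h : G}
    (ha : a ∈ A) (hh : h ∈ H) : a * h * a⁻¹ ∈ H :=
  (mem_normalizer_iff.mp (hA ha) h).mp hh

theorem conj_eq_of_mem_centralizer {S : Set G} {a h : G} (ha : a ∈ centralizer S) (hh : h ∈ S) :
    a * h * a⁻¹ = h := by
  rw [← mem_centralizer_iff.mp ha h hh, mul_inv_cancel_right]

theorem mem_centralizer_of_conj_eq {S : Set G} {a : G} (h : ∀ x ∈ S, a * x * a⁻¹ = x) :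
    a ∈ centralizer S :=
  mem_centralizer_iff.mpr fun x hx => by
    conv_lhs => rw [← h x hx]
    group

theorem conj_pow_eq {a h z : G} (h1 : a * h * a⁻¹ = z * h) (h2 : a * z * a⁻¹ = z) (k : ℕ) :
    a ^ k * h * (a ^ k)⁻¹ = z ^ k * h := by
  induction k with
  | zero => simp
  | succ k ih =>
    have hc : a * z ^ k * a⁻¹ = z ^ k := by rw [← conj_pow, h2]
    calc a ^ (k + 1) * h * (a ^ (k + 1))⁻¹ = a * (a ^ k * h * (a ^ k)⁻¹) * a⁻¹ := by
          rw [pow_succ']; group
      _ = (a * z ^ k * a⁻¹) * (a * h * a⁻¹) := by rw [ih]; group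
      _ = z ^ (k + 1) * h := by rw [hc, h1, pow_succ, mul_assoc]

/-- If `A` stabilizes `H ≥ K ≥ 1`, the `#K`-th powers in `A` centralize `H`. -/
theorem pow_card_centralizes_of_stab [Finite G] {H K A : Subgroup G}
    (hHK : ⁅H, A⁆ ≤ K) {a : G} (ha : a ∈ A) (haK : a ∈ centralizer (K : Set G)) :
    a ^ Nat.card K ∈ centralizer (H : Set G) := by
  refine mem_centralizer_of_conj_eq fun h hh => ?_
  have hz : a * h * a⁻¹ * h⁻¹ ∈ K := by
    have := K.inv_mem (hHK (commutator_mem_commutator hh ha))
    rwa [commutatorElement_inv] at this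
  have := conj_pow_eq (a := a) (h := h) (z := a * h * a⁻¹ * h⁻¹) (by group)
    (conj_eq_of_mem_centralizer haK hz) (Nat.card K)
  rw [this]
  have : (a * h * a⁻¹ * h⁻¹) ^ Nat.card K = 1 := by
    have := pow_card_eq_one' (G := K) (x := ⟨_, hz⟩)
    exact congrArg Subtype.val this
  rw [this, one_mul]

/-- A coprime group stabilizing `H ≥ K ≥ 1` centralizes `H`. -/
theorem le_centralizer_of_coprime_stab [Finite G] {H K A : Subgroup G}
    (hHK : ⁅H, A⁆ ≤ K) (hK : A ≤ centralizer (K : Set G))
    (hcop : (Nat.card A).Coprime (Nat.card K)) : A ≤ centralizer (H : Set G) := by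
  intro a ha
  obtain ⟨b, hb⟩ := (powCoprime hcop).surjective ⟨a, ha⟩
  have : (b : G) ^ Nat.card K = a := congrArg Subtype.val hb
  rw [← this]
  exact pow_card_centralizes_of_stab hHK b.2 (hK b.2)

theorem centralizer_inf_le_normalizer {H A : Subgroup G} (hA : A ≤ normalizer (H : Set G)) :
    A ≤ normalizer ((H ⊓ centralizer (A : Set G) : Subgroup G) : Set G) := by
  intro a ha
  refine mem_normalizer_iff.mpr fun h => ?_
  have key : ∀ b ∈ A, ∀ x ∈ H ⊓ centralizer (A : Set G), b * x * b⁻¹ ∈ H ⊓ centralizer (A : Set G) := by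
    intro b hb x hx
    have : b * x * b⁻¹ = x := by
      rw [mem_centralizer_iff.mp hx.2 b hb, mul_inv_cancel_right]
    rw [this]; exact hx
  refine ⟨key a ha h, fun hx => ?_⟩
  have := key a⁻¹ (A.inv_mem ha) _ hx
  simpa [mul_assoc] using this

theorem eq_of_normalizer_inf_le [Finite G] {H C : Subgroup G} (hH : Group.IsNilpotent H)
    (hC : C ≤ H) (h : H ⊓ normalizer (C : Set G) ≤ C) : C = H := by
  by_contra hne
  have hlt : C.subgroupOf H < ⊤ := by
    rw [lt_top_iff_ne_top, Ne, subgroupOf_eq_top]
    exact fun h' => hne (le_antisymm hC h')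
  have := Group.normalizerCondition_of_isNilpotent (G := H) _ hlt
  rw [← subgroupOf_normalizer_eq hC] at this
  refine this.not_ge ?_
  intro x hx
  rw [mem_subgroupOf] at hx ⊢
  exact h ⟨x.2, hx⟩

/-- Coprime action on a nilpotent group whose fixed point subgroup contains its centralizer. -/
theorem le_centralizer_of_centralizer_fixed_le [Finite G] {H A : Subgroup G}
    (hH : Group.IsNilpotent H) (hA : A ≤ normalizer (H : Set G))
    (hcop : (Nat.card A).Coprime (Nat.card H))
    (hC : H ⊓ centralizer ((H ⊓ centralizer (A : Set G) : Subgroup G) : Set G)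
      ≤ H ⊓ centralizer (A : Set G)) :
    A ≤ centralizer (H : Set G) := by
  let C : Subgroup G := H ⊓ centralizer (A : Set G)
  let N : Subgroup G := H ⊓ normalizer (C : Set G)
  have hAC : A ≤ centralizer (C : Set G) := le_centralizer_iff.mp inf_le_right
  have h2 : ⁅⁅C, A⁆, N⁆ = ⊥ := by
    rw [commutator_eq_bot_iff_le_centralizer.mpr (le_centralizer_iff.mp hAC), commutator_bot_left]
  have h1 : ⁅⁅N, C⁆, A⁆ = ⊥ := by
    rw [commutator_eq_bot_iff_le_centralizer]
    exact ((le_normalizer_iff_commutator_le_right.mp (inf_le_right : N ≤ _)).trans inf_le_right)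
  have h3 : ⁅A, N⁆ ≤ centralizer (C : Set G) :=
    commutator_eq_bot_iff_le_centralizer.mp (commutator_commutator_eq_bot_of_rotate h1 h2)
  have h4 : ⁅A, N⁆ ≤ H :=
    (commutator_mono le_rfl inf_le_left).trans (le_normalizer_iff_commutator_le_right.mp hA)
  have h5 : A ≤ centralizer (N : Set G) := by
    refine le_centralizer_of_coprime_stab (K := C) ?_ hAC ?_
    · rw [commutator_comm]; exact (le_inf h4 h3).trans hC
    · exact hcop.coprime_dvd_right (card_dvd_of_le inf_le_left)
  have h6 : N ≤ C := le_inf inf_le_left (le_centralizer_iff.mp h5)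
  have := eq_of_normalizer_inf_le hH (inf_le_left : C ≤ H) h6
  rw [← this]
  exact hAC

theorem mul_pow_of_central_commutator {z x c : G} (hzc : Commute z c) (hxc : Commute x c)
    (h : x * z = c * z * x) (n : ℕ) : (z * x) ^ n = c ^ n.choose 2 * z ^ n * x ^ n := by
  have hx : ∀ m : ℕ, x * z ^ m = c ^ m * z ^ m * x := by
    intro m
    induction m with
    | zero => simp
    | succ m ih =>
      calc x * z ^ (m + 1) = (x * z ^ m) * z := by rw [pow_succ, mul_assoc]
        _ = c ^ m * z ^ m * (x * z) := by rw [ih]; group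
        _ = c ^ m * (z ^ m * c) * z * x := by rw [h]; group
        _ = c ^ m * (c * z ^ m) * z * x := by rw [(hzc.pow_left m).eq]
        _ = _ := by rw [pow_succ, pow_succ]; group
  induction n with
  | zero => simp
  | succ n ih =>
    calc (z * x) ^ (n + 1) = z * x * (z * x) ^ n := pow_succ' _ _
      _ = z * (x * c ^ n.choose 2) * z ^ n * x ^ n := by rw [ih]; group
      _ = z * c ^ n.choose 2 * (x * z ^ n) * x ^ n := by rw [(hxc.pow_right _).eq]; group
      _ = (z * (c ^ n.choose 2 * c ^ n)) * z ^ n * (x * x ^ n) := by rw [hx]; group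
      _ = ((c ^ n.choose 2 * c ^ n) * z) * z ^ n * (x * x ^ n) := by
          rw [((hzc.pow_right _).mul_right (hzc.pow_right _)).eq]
      _ = _ := by
          rw [← pow_succ', Nat.choose_succ_succ, Nat.choose_one_right, add_comm n (n.choose _), pow_add]
          rw [pow_succ']
          group

theorem map_subtype_frattini_le_normalizer {H A : Subgroup G} (hA : A ≤ normalizer (H : Set G)) :
    A ≤ normalizer (((frattini H).map H.subtype : Subgroup G) : Set G) := by
  intro a ha
  have key : ∀ b ∈ A, ∀ y ∈ (frattini H).map H.subtype, b * y * b⁻¹ ∈ (frattini H).map H.subtype := by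
    intro b hb y hy
    obtain ⟨y', hy', rfl⟩ := mem_map.mp hy
    let φ : H ≃* H :=
      { toFun := fun x => ⟨b * x * b⁻¹, conj_mem_of_le_normalizer hA hb x.2⟩
        invFun := fun x => ⟨b⁻¹ * x * b, by
          simpa using conj_mem_of_le_normalizer hA (A.inv_mem hb) x.2⟩
        left_inv := fun x => by ext; simp [mul_assoc]
        right_inv := fun x => by ext; simp [mul_assoc]
        map_mul' := fun x y => by ext; simp [mul_assoc] }
    exact ⟨φ y', frattini_le_comap_frattini_of_surjective (φ := φ.toMonoidHom) φ.surjective hy', rfl⟩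
  refine mem_normalizer_iff.mpr fun y => ⟨key a ha y, fun hy => ?_⟩
  simpa [mul_assoc] using key a⁻¹ (A.inv_mem ha) _ hy

/-- For odd `p`, a `p'`-group centralizing every element of order dividing `p` of a `p`-group
centralizes the whole group. -/
theorem le_centralizer_of_fixes_pow_eq_one [Finite G] {p : ℕ} [hp : Fact p.Prime] (hp2 : p ≠ 2)
    {A : Subgroup G} (hcop : (Nat.card A).Coprime p) :
    ∀ H : Subgroup G, IsPGroup p H → A ≤ normalizer (H : Set G) →
      (∀ x ∈ H, x ^ p = 1 → A ≤ centralizer ({x} : Set G)) → A ≤ centralizer (H : Set G) := by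
  intro H
  induction hn : Nat.card H using Nat.strong_induction_on generalizing H with
  | _ n ih =>
    intro hHp hA hfix
    subst hn
    have hcopH : ∀ K : Subgroup G, K ≤ H → (Nat.card A).Coprime (Nat.card K) := by
      intro K hK
      obtain ⟨m, hm⟩ := (hHp.to_le hK).exists_card_eq
      rw [hm]; exact hcop.pow_right m
    have hprop : ∀ K : Subgroup G, K < H → A ≤ normalizer (K : Set G) →
        A ≤ centralizer (K : Set G) := fun K hK hKA =>
      ih _ ((card_le_of_le hK.le).lt_of_ne fun he => hK.ne (eq_of_le_of_card_ge hK.le he.ge)) K rfl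
        (hHp.to_le hK.le) hKA fun x hx => hfix x (hK.le hx)
    rcases eq_or_ne H ⊥ with rfl | hne
    · intro a _; exact mem_centralizer_of_conj_eq fun x hx => by simp [mem_bot.mp hx]
    have := (hHp.isNilpotent : Group.IsNilpotent H)
    haveI : Nontrivial H := (nontrivial_iff_ne_bot H).mpr hne
    let F : Subgroup G := (frattini H).map H.subtype
    obtain ⟨M, hM, -⟩ := (eq_top_or_exists_le_coatom (⊥ : Subgroup H)).resolve_left bot_ne_top
    have hFlt : F < H := by
      refine lt_of_le_of_ne (map_subtype_le _) fun he => hM.1 (top_le_iff.mp ?_)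
      intro x _
      have hx : (x : G) ∈ F := he.ge x.2
      obtain ⟨y, hy, hyx⟩ := mem_map.mp hx
      rw [← Subtype.ext hyx]; exact frattini_le_coatom hM hy
    have hFA : A ≤ centralizer (F : Set G) := hprop F hFlt (map_subtype_frattini_le_normalizer hA)
    have hquo : ∀ M : Subgroup H, IsCoatom M → M.Normal ∧ M.index = p := by
      intro M hM
      have hMn : M.Normal := NormalizerCondition.normal_of_coatom M
        (Group.normalizerCondition_of_isNilpotent) hM
      refine ⟨hMn, ?_⟩
      obtain ⟨k, hk⟩ := hHp.index M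
      rcases k with _ | k
      · exact absurd (index_eq_one.mp (by simpa using hk)) hM.1
      · obtain ⟨q, hq⟩ := exists_prime_orderOf_dvd_card' (G := H ⧸ M) p
          (by rw [← Subgroup.index]; exact hk ▸ dvd_pow_self p k.succ_ne_zero)
        have h1 : M < (zpowers q).comap (QuotientGroup.mk' M) := by
          refine lt_of_le_of_ne (fun x hx => ?_) fun he => ?_
          · rw [mem_comap, QuotientGroup.mk'_apply, (QuotientGroup.eq_one_iff x).mpr hx]
            exact one_mem _
          · obtain ⟨x, rfl⟩ := QuotientGroup.mk'_surjective M q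
            have : x ∈ M := he ▸ mem_comap.mpr (mem_zpowers _)
            rw [QuotientGroup.mk'_apply, (QuotientGroup.eq_one_iff x).mpr this, orderOf_one] at hq
            exact hp.out.one_lt.ne hq
        have h2 : zpowers q = ⊤ :=
          comap_injective (QuotientGroup.mk'_surjective M) (by rw [comap_top]; exact hM.2 _ h1)
        rw [Subgroup.index, ← card_top (G := H ⧸ M), ← h2, Nat.card_zpowers, hq]
    have hfrat : ∀ y : H, (∀ M : Subgroup H, IsCoatom M → y ∈ M) → (y : G) ∈ F := by
      intro y hy
      refine mem_map.mpr ⟨y, ?_, rfl⟩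
      change y ∈ Order.radical (Subgroup H)
      simpa [Order.radical, mem_iInf] using hy
    have hpowF : ∀ x ∈ H, x ^ p ∈ F := by
      intro x hx
      refine hfrat (⟨x, hx⟩ ^ p) fun M hM => ?_
      obtain ⟨hMn, hMi⟩ := hquo M hM
      rw [← hMi]; exact M.pow_index_mem _
    have hcommF : ⁅H, H⁆ ≤ F := by
      rw [commutator_le]
      intro x hx y hy
      refine hfrat ⁅(⟨x, hx⟩ : H), (⟨y, hy⟩ : H)⁆ fun M hM => ?_
      obtain ⟨hMn, hMi⟩ := hquo M hM
      haveI : IsCyclic (H ⧸ M) := isCyclic_of_prime_card (p := p) hMi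
      letI := IsCyclic.commGroup (α := H ⧸ M)
      rw [← QuotientGroup.eq_one_iff, ← QuotientGroup.mk'_apply, map_commutatorElement]
      exact commutatorElement_eq_one_iff_mul_comm.mpr (mul_comm _ _)
    -- `[H, A]` is all of `H`, so the fixed points are central
    have hHA : ⁅H, A⁆ ≤ H := le_normalizer_iff_commutator_le_left.mp hA
    rcases hHA.lt_or_eq with hlt | heq
    · exact le_centralizer_of_coprime_stab le_rfl (hprop _ hlt (normalizer_commutator_ge_right _ _))
        (hcopH _ hHA)
    let C : Subgroup G := H ⊓ centralizer (A : Set G)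
    have hFC : F ≤ C := le_inf (map_subtype_le _) (le_centralizer_iff.mp hFA)
    have h1 : ⁅⁅H, C⁆, A⁆ = ⊥ := by
      rw [commutator_eq_bot_iff_le_centralizer]
      exact ((commutator_mono le_rfl inf_le_left).trans hcommF).trans (hFC.trans inf_le_right)
    have h2 : ⁅⁅C, A⁆, H⁆ = ⊥ := by
      rw [commutator_eq_bot_iff_le_centralizer.mpr (inf_le_right : C ≤ _), commutator_bot_left]
    have h3 : H ≤ centralizer (C : Set G) := by
      have := commutator_eq_bot_iff_le_centralizer.mp (commutator_commutator_eq_bot_of_rotate h1 h2)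
      rwa [commutator_comm, heq] at this
    intro a ha
    refine mem_centralizer_of_conj_eq fun x hx => ?_
    let z := a * x * a⁻¹ * x⁻¹
    have hz : z ∈ H := H.mul_mem (conj_mem_of_le_normalizer hA ha hx) (H.inv_mem hx)
    let c := x * z * x⁻¹ * z⁻¹
    have hc : c ∈ C := hFC (hcommF (commutator_mem_commutator hx hz))
    have hxp : x ^ p ∈ C := hFC (hpowF x hx)
    have hcx : ∀ y ∈ H, ∀ w ∈ C, Commute y w := fun y hy w hw =>
      (mem_centralizer_iff.mp (h3 hy) w hw).symm
    have hcp : c ^ p = 1 := by
      have := conj_pow_eq (a := x) (h := z) (z := c) (by simp only [c]; group)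
        (by rw [(hcx x hx c hc).eq, mul_inv_cancel_right]) p
      rw [← (hcx z hz _ hxp).eq, mul_inv_cancel_right] at this
      exact mul_eq_right.mp this.symm
    have hpd : p ∣ p.choose 2 := Nat.Prime.dvd_choose_self hp.out two_ne_zero
      (lt_of_le_of_ne hp.out.two_le fun h => hp2 h.symm)
    have hzp : z ^ p = 1 := by
      have e := mul_pow_of_central_commutator (hcx z hz c hc) (hcx x hx c hc)
        (by simp only [c]; group) p
      obtain ⟨k, hk⟩ := hpd
      rw [hk, pow_mul, hcp, one_pow, one_mul] at e
      have e2 : (z * x) ^ p = x ^ p := by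
        rw [show z * x = a * x * a⁻¹ by simp only [z]; group, conj_pow,
          mem_centralizer_iff.mp hxp.2 a ha, mul_inv_cancel_right]
      exact mul_eq_right.mp (e.symm.trans e2)
    have hza : a * z * a⁻¹ = z :=
      conj_eq_of_mem_centralizer (hfix z hz hzp ha) (Set.mem_singleton z)
    have := conj_pow_eq (a := a) (h := x) (z := z) (by simp only [z]; group) hza (Nat.card A)
    have hak : a ^ Nat.card A = 1 := congrArg Subtype.val (pow_card_eq_one' (G := A) (x := ⟨a, ha⟩))
    rw [hak, one_mul, inv_one, mul_one, eq_comm, mul_eq_right] at this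
    have hz1 : z = 1 := orderOf_eq_one_iff.mp
      (Nat.eq_one_of_dvd_coprimes hcop (orderOf_dvd_of_pow_eq_one this)
        (orderOf_dvd_of_pow_eq_one hzp))
    exact mul_inv_eq_one.mp hz1

/-- A maximal abelian normal subgroup of a nilpotent group contains its centralizer. -/
theorem exists_normal_abelian_centralizer_le (R : Type u) [Group R] [Finite R]
    [Group.IsNilpotent R] :
    ∃ A : Subgroup R, A.Normal ∧ IsMulCommutative A ∧ centralizer (A : Set R) ≤ A := by
  obtain ⟨A, ⟨hAn, hAc⟩, hmax⟩ := Set.Finite.exists_maximal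
    (Set.toFinite {A : Subgroup R | A.Normal ∧ IsMulCommutative A})
    ⟨⊥, inferInstance, inferInstance⟩
  refine ⟨A, hAn, hAc, fun x hx => ?_⟩
  haveI := hAn
  have key : ∀ n, ∀ y ∈ centralizer (A : Set R), y ∈ Subgroup.upperCentralSeries R n → y ∈ A := by
    intro n
    induction n with
    | zero => intro y _ hy; rw [Subgroup.upperCentralSeries_zero, mem_bot] at hy; rw [hy]; exact one_mem _
    | succ n ih =>
      intro y hy hyn
      let B := A ⊔ zpowers y
      have hyA : zpowers y ≤ centralizer (A : Set R) := zpowers_le.mpr hy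
      have hyg : ∀ g : R, ⁅y, g⁆ ∈ A := by
        intro g
        refine ih _ ?_ ?_
        · rw [commutatorElement_def, mul_assoc y g, mul_assoc y]
          exact mul_mem hy ((inferInstance : (centralizer (A : Set R)).Normal).conj_mem _
            (inv_mem hy) g)
        · exact Subgroup.mem_upperCentralSeries_succ_iff.mp hyn g
      have hBD : B ≤ (center (R ⧸ A)).comap (QuotientGroup.mk' A) := by
        refine sup_le (fun b hb => ?_) (zpowers_le.mpr ?_)
        · rw [mem_comap, QuotientGroup.mk'_apply, (QuotientGroup.eq_one_iff b).mpr hb]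
          exact one_mem _
        · rw [mem_comap, mem_center_iff]
          intro q
          obtain ⟨g, rfl⟩ := QuotientGroup.mk'_surjective A q
          rw [eq_comm, ← commutatorElement_eq_one_iff_mul_comm, ← map_commutatorElement,
            QuotientGroup.mk'_apply, QuotientGroup.eq_one_iff]
          exact hyg g
      have hBn : B.Normal := by
        refine ⟨fun b hb g => ?_⟩
        have h1 : ⁅g, b⁆ ∈ A := by
          rw [← QuotientGroup.eq_one_iff, ← QuotientGroup.mk'_apply, map_commutatorElement,
            commutatorElement_eq_one_iff_mul_comm]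
          exact mem_center_iff.mp (mem_comap.mp (hBD hb)) _
        have h2 := B.mul_mem ((le_sup_left : A ≤ B) h1) hb
        simpa [commutatorElement_def] using h2
      have hBc : IsMulCommutative B := by
        rw [← le_centralizer_iff_isMulCommutative]
        have h1 : A ≤ centralizer (B : Set R) := le_centralizer_iff.mp
          (sup_le (le_centralizer_iff_isMulCommutative.mpr hAc) hyA)
        exact sup_le h1 (le_centralizer_iff.mp (sup_le (le_centralizer_iff.mp hyA)
          (le_centralizer_iff_isMulCommutative.mpr inferInstance)))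
      exact hmax ⟨hBn, hBc⟩ le_sup_left ((le_sup_right : zpowers y ≤ B) (mem_zpowers y))
  obtain ⟨n, hn⟩ := Group.IsNilpotent.nilpotent R
  exact key n x hx (hn ▸ mem_top x)

end Cfsg.Agent.Lib.OddLocal
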