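import Cfsg.Agent.Lib.OddLocal.ZassenhausHalf
import Cfsg.Agent.Lib.Characters.ZassenhausReduce
import Cfsg.Agent.Lib.LieExc.Zass
import Cfsg.Agent.Lib.Perm.Zassenhaus
import Cfsg.Agent.S0741

/-!
Zassenhaus groups with abelian kernel: the two-point stabilizer is everything or one half, and in the latter
case every element swapping two points is an involution.
-/

set_option autoImplicit false
set_option linter.style.haveILetI false

namespace Cfsg.Agent.Lib.OddLocal.ZassPSL

open MulAction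
open Cfsg.Agent.Lib.LieExc (ZData ZDataKer)
open Cfsg.Agent.Lib.Characters.ZOdd (ZKer ZHyp)

universe u v

theorem swap_invol_of_even {G Ω : Type*} [Group G] [Finite G] [MulAction G Ω] [Fintype Ω]
    (hZ : Cfsg.IsZassenhausGroup G Ω) {a b : Ω} (hab : a ≠ b)
    (heven : Even (Nat.card ↥(stabilizer G a ⊓ stabilizer G b)))
    (heq : Fintype.card Ω - 2 = 2 * Nat.card ↥(stabilizer G a ⊓ stabilizer G b)) :
    ∀ g : G, g • a = b → g • b = a → g * g = 1 := by
  classical
  obtain ⟨hfaith, h2, h3, -, -⟩ := hZ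
  haveI := hfaith
  haveI := h2
  haveI : Fintype G := Fintype.ofFinite G
  haveI : Fact (Nat.Prime 2) := ⟨Nat.prime_two⟩
  obtain ⟨t, ht⟩ := exists_prime_orderOf_dvd_card'
    (G := ↥(stabilizer G a ⊓ stabilizer G b)) 2 heven.two_dvd
  rw [← Subgroup.orderOf_coe] at ht
  -- an involution fixing exactly two given points
  have hex : ∀ u v : Ω, u ≠ v → ∃ s : G, s * s = 1 ∧ s • u = u ∧ s • v = v ∧
      ∀ z, s • z = z → z = u ∨ z = v := by
    intro u v huv
    obtain ⟨h, hh⟩ := MulAction.exists_smul_eq G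
      (⟨![a, b], by intro i j; fin_cases i <;> fin_cases j <;> simp [hab, hab.symm]⟩ : Fin 2 ↪ Ω)
      (⟨![u, v], by intro i j; fin_cases i <;> fin_cases j <;> simp [huv, huv.symm]⟩ : Fin 2 ↪ Ω)
    have e0 : h • a = u := DFunLike.congr_fun hh 0
    have e1 : h • b = v := DFunLike.congr_fun hh 1
    have hu : (h * (t : G) * h⁻¹) • u = u := by
      rw [← e0, mul_smul, mul_smul, inv_smul_smul, mem_stabilizer_iff.1 t.2.1]
    have hv : (h * (t : G) * h⁻¹) • v = v := by
      rw [← e1, mul_smul, mul_smul, inv_smul_smul, mem_stabilizer_iff.1 t.2.2]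
    have htt : (t : G) * t = 1 := by rw [← sq, ← ht, pow_orderOf_eq_one]
    refine ⟨h * t * h⁻¹, ?_, hu, hv, fun z hz => ?_⟩
    · rw [show h * (t : G) * h⁻¹ * (h * t * h⁻¹) = h * ((t : G) * t) * h⁻¹ by group, htt]
      group
    · by_contra hne
      rw [not_or] at hne
      have := h3 _ u v z huv (Ne.symm hne.2) (Ne.symm hne.1) hu hv hz
      rw [conj_eq_one_iff] at this
      rw [this, orderOf_one] at ht
      omega
  choose s hs hsu hsv hsf using hex
  set d := Nat.card ↥(stabilizer G a ⊓ stabilizer G b)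
  set n := Fintype.card Ω
  -- the triples, and the swaps they give
  let T : Finset ((Ω × Ω) × Ω) := Finset.univ.filter fun q => q.1.1 ≠ q.1.2 ∧ q.2 ≠ q.1.1 ∧ q.2 ≠ q.1.2
  let B : Finset ((Ω × Ω) × G) := Finset.univ.filter fun q => q.1.1 ≠ q.1.2 ∧ q.2 • q.1.1 = q.1.2 ∧ q.2 • q.1.2 = q.1.1
  let φ : (Ω × Ω) × Ω → (Ω × Ω) × G := fun q =>
    if h : q.1.1 ≠ q.1.2 then ((q.2, s _ _ h • q.2), s _ _ h) else ((q.2, q.2), 1)
  have hmaps : Set.MapsTo φ T B := by
    intro q hq
    simp only [T, Finset.coe_filter, Finset.mem_univ, true_and, Set.mem_setOf_eq] at hq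
    simp only [B, φ, dif_pos hq.1, Finset.coe_filter, Finset.mem_univ, true_and, Set.mem_setOf_eq]
    refine ⟨fun e => ?_, ?_⟩
    · rcases hsf _ _ hq.1 q.2 e.symm with h | h
      · exact hq.2.1 h
      · exact hq.2.2 h
    · rw [← mul_smul, hs, one_smul]
  have hfib : ∀ y ∈ B, (T.filter fun q => φ q = y).card ≤ 2 := by
    intro y _
    by_cases hne : (T.filter fun q => φ q = y).Nonempty
    swap
    · rw [Finset.not_nonempty_iff_eq_empty.1 hne]; simp
    obtain ⟨q, hq⟩ := hne
    refine (Finset.card_le_card (t := {q, ((q.1.2, q.1.1), q.2)}) fun r hr => ?_).trans Finset.card_le_two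
    simp only [T, Finset.mem_filter, Finset.mem_univ, true_and] at hq hr
    have hqy := hq.2
    have hry := hr.2
    simp only [φ, dif_pos hq.1.1, dif_pos hr.1.1] at hqy hry
    replace hry := hry.trans hqy.symm
    rw [Prod.ext_iff, Prod.ext_iff] at hry
    obtain ⟨⟨h1, -⟩, h2'⟩ := hry
    simp only at h1 h2'
    have a1 := hsf _ _ hq.1.1 r.1.1 (h2' ▸ hsu _ _ hr.1.1)
    have a2 := hsf _ _ hq.1.1 r.1.2 (h2' ▸ hsv _ _ hr.1.1)
    simp only [Finset.mem_insert, Finset.mem_singleton, Prod.ext_iff]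
    rcases a1 with a1 | a1 <;> rcases a2 with a2 | a2
    · exact absurd (a1.trans a2.symm) hr.1.1
    · exact Or.inl ⟨⟨a1, a2⟩, h1⟩
    · exact Or.inr ⟨⟨a1, a2⟩, h1⟩
    · exact absurd (a1.trans a2.symm) hr.1.1
  have h1 := Finset.card_le_mul_card_image T 2 (fun y hy => hfib y (by
    obtain ⟨q, hq, rfl⟩ := Finset.mem_image.1 hy
    exact hmaps hq))
  have h2c : (T.image φ).card ≤ B.card :=
    Finset.card_le_card fun y hy => by obtain ⟨q, hq, rfl⟩ := Finset.mem_image.1 hy; exact hmaps hq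
  -- count the triples
  let P : Finset (Ω × Ω) := Finset.univ.filter fun q => q.1 ≠ q.2
  have hT : T.card = P.card * (n - 2) := by
    rw [mul_comm, Finset.card_eq_sum_card_fiberwise (f := Prod.fst) (t := P) (fun q hq => by
      simp only [T, Finset.coe_filter, Finset.mem_univ, true_and, Set.mem_setOf_eq] at hq
      simpa [P] using hq.1)]
    rw [Finset.sum_const_nat (m := n - 2), mul_comm]
    intro p hp
    simp only [P, Finset.mem_filter, Finset.mem_univ, true_and] at hp
    rw [show (n - 2) = (Finset.univ \ ({p.1, p.2} : Finset Ω)).card by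
      rw [Finset.card_univ_diff, Finset.card_pair hp]]
    refine Finset.card_bij (fun q _ => q.2) ?_ ?_ ?_
    · intro q hq
      simp only [T, Finset.mem_filter, Finset.mem_univ, true_and] at hq
      simp [← hq.2, hq.1.2.1, hq.1.2.2]
    · intro q hq r hr h
      simp only [Finset.mem_filter] at hq hr
      exact Prod.ext (hq.2.trans hr.2.symm) h
    · intro z hz
      simp at hz
      exact ⟨(p, z), by simp [T, hp, hz.1, hz.2], rfl⟩
  have hB : B.card ≤ P.card * d := by
    rw [mul_comm]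
    refine (Finset.card_le_mul_card_image_of_maps_to (f := Prod.fst) (fun q hq => ?_) d ?_)
    · simp only [B, Finset.mem_filter, Finset.mem_univ, true_and] at hq
      simpa [P] using hq.1
    intro p hp
    simp only [P, Finset.mem_filter, Finset.mem_univ, true_and] at hp
    obtain ⟨h, hh⟩ := MulAction.exists_smul_eq G
      (⟨![a, b], by intro i j; fin_cases i <;> fin_cases j <;> simp [hab, hab.symm]⟩ : Fin 2 ↪ Ω)
      (⟨![p.1, p.2], by intro i j; fin_cases i <;> fin_cases j <;> simp [hp, hp.symm]⟩ : Fin 2 ↪ Ω)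
    have e0 : h • a = p.1 := DFunLike.congr_fun hh 0
    have e1 : h • b = p.2 := DFunLike.congr_fun hh 1
    by_cases hne : (B.filter fun q => q.1 = p).Nonempty
    swap
    · rw [Finset.not_nonempty_iff_eq_empty.1 hne]; simp
    obtain ⟨q₀, hq₀⟩ := hne
    simp only [B, Finset.mem_filter, Finset.mem_univ, true_and] at hq₀
    obtain ⟨⟨-, k1, k2⟩, k3⟩ := hq₀
    rw [k3] at k1 k2
    calc (B.filter fun q => q.1 = p).card
        ≤ ((Finset.univ : Finset ↥(stabilizer G a ⊓ stabilizer G b)).image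
            fun g : ↥(stabilizer G a ⊓ stabilizer G b) => (p, q₀.2 * (h * (g : G) * h⁻¹))).card := by
          refine Finset.card_le_card fun q hq => ?_
          simp only [B, Finset.mem_filter, Finset.mem_univ, true_and] at hq
          obtain ⟨⟨-, l1, l2⟩, l3⟩ := hq
          rw [l3] at l1 l2
          refine Finset.mem_image.2 ⟨⟨h⁻¹ * (q₀.2⁻¹ * q.2) * h, ?_, ?_⟩, Finset.mem_univ _, ?_⟩
          · show h⁻¹ * (q₀.2⁻¹ * q.2) * h ∈ stabilizer G a
            rw [mem_stabilizer_iff, mul_smul, mul_smul, e0, mul_smul, l1,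
              show q₀.2⁻¹ • p.2 = p.1 by rw [inv_smul_eq_iff, k1], inv_smul_eq_iff, e0]
          · show h⁻¹ * (q₀.2⁻¹ * q.2) * h ∈ stabilizer G b
            rw [mem_stabilizer_iff, mul_smul, mul_smul, e1, mul_smul, l2,
              show q₀.2⁻¹ • p.1 = p.2 by rw [inv_smul_eq_iff, k2], inv_smul_eq_iff, e1]
          · refine Prod.ext l3.symm ?_
            show q₀.2 * (h * (h⁻¹ * (q₀.2⁻¹ * q.2) * h) * h⁻¹) = q.2
            group
      _ ≤ _ := Finset.card_image_le
      _ = d := by rw [Finset.card_univ, ← Nat.card_eq_fintype_card]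
  have hP : 0 < P.card := Finset.card_pos.2 ⟨(a, b), by simp [P, hab]⟩
  rw [hT] at h1
  have himg : T.image φ = B := by
    refine Finset.eq_of_subset_of_card_le (fun y hy => ?_) (hB.trans ?_)
    · obtain ⟨q, hq, rfl⟩ := Finset.mem_image.1 hy
      exact hmaps hq
    · have h2d : n - 2 = 2 * d := heq
      rw [h2d] at h1
      nlinarith
  intro g hga hgb
  have hgB : ((a, b), g) ∈ B := by simp [B, hab, hga, hgb]
  rw [← himg] at hgB
  obtain ⟨q, hq, hqg⟩ := Finset.mem_image.1 hgB
  simp only [T, Finset.mem_filter, Finset.mem_univ, true_and] at hq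
  simp only [φ, dif_pos hq.1, Prod.mk.injEq] at hqg
  rw [← hqg.2]
  exact hs _ _ hq.1

variable {G : Type u} [Group G] [Finite G] {Ω : Type v} [MulAction G Ω] [Fintype Ω]
  {a b : Ω} {h e : ℕ} {H : Subgroup G}

theorem ker_of_reg (hZ : Cfsg.IsZassenhausGroup G Ω) (hab : a ≠ b) {F : Subgroup G}
    (hFle : F ≤ stabilizer G a) (hreg : ∀ y z : Ω, y ≠ a → z ≠ a → ∃! u : F, (u : G) • y = z) :
    ZDataKer G a b (Fintype.card Ω - 1)
      (Nat.card ↥(stabilizer G a ⊓ stabilizer G b : Subgroup G)) F := by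
  classical
  have hpos : 0 < Fintype.card Ω := Fintype.card_pos_iff.mpr ⟨a⟩
  refine
    { zass := hZ
      hab := hab
      hh := by omega
      he := rfl
      hHa := hFle
      hHcard := ?_
      hHfix := ?_ }
  · have h1 : Nat.card F = Nat.card {z : Ω // z ≠ a} := by
      refine Nat.card_congr (Equiv.ofBijective (fun u : F => (⟨(u : G) • b, fun e =>
        hab (smul_left_cancel (u : G) ((hFle u.2).trans e.symm))⟩ : {z : Ω // z ≠ a})) ⟨?_, ?_⟩)
      · intro u v huv
        obtain ⟨z, -, hz⟩ := hreg b ((v : G) • b) hab.symm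
          (fun e => hab (smul_left_cancel (v : G) ((hFle v.2).trans e.symm)))
        exact (hz u (congrArg Subtype.val huv)).trans (hz v rfl).symm
      · rintro ⟨z, hz⟩
        obtain ⟨u, hu, -⟩ := hreg b z hab.symm hz
        exact ⟨u, Subtype.ext hu⟩
    rw [h1, Nat.card_eq_fintype_card, Fintype.card_subtype_compl, Fintype.card_subtype_eq]
  · intro u hu hu1 c hc
    by_contra hca
    obtain ⟨v, -, hv⟩ := hreg c c hca hca
    exact hu1 (congrArg Subtype.val ((hv ⟨u, hu⟩ hc).trans (hv 1 (one_smul G c)).symm))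

theorem exists_ker (hZ : Cfsg.IsZassenhausGroup G Ω) (hab : a ≠ b) :
    ∃ H : Subgroup G, ZDataKer G a b (Fintype.card Ω - 1)
      (Nat.card ↥(stabilizer G a ⊓ stabilizer G b : Subgroup G)) H := by
  have hpos : 0 < Fintype.card Ω := Fintype.card_pos_iff.mpr ⟨a⟩
  have D : ZData G a b (Fintype.card Ω - 1) (Nat.card ↥(stabilizer G a ⊓ stabilizer G b : Subgroup G)) :=
    { zass := hZ, hab := hab, hh := by omega, he := rfl }
  obtain ⟨H, h1, h2, h3⟩ := D.exists_kernel
  exact ⟨H, { D with hHa := h1, hHcard := h2, hHfix := h3 }⟩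

theorem hreg_of_ker (K : ZDataKer G a b h e H) :
    ∀ y z : Ω, y ≠ a → z ≠ a → ∃! u : H, (u : G) • y = z := by
  intro y z hy hz
  obtain ⟨u, hu, huy⟩ := K.exists_kernel_smul hy hz
  refine ⟨⟨u, hu⟩, huy, fun v hv => ?_⟩
  have hv' : (v : G) • y = u • y := hv.trans huy.symm
  by_contra hne
  refine hy (K.hHfix (u⁻¹ * v) (mul_mem (inv_mem hu) v.2)
    (fun e => hne (Subtype.ext (inv_mul_eq_one.mp e).symm)) y ?_)
  rw [mul_smul, hv', inv_smul_smul]

theorem normal_of_ker (K : ZDataKer G a b h e H) : (H.subgroupOf (stabilizer G a)).Normal :=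
  ⟨fun u hu g => Subgroup.mem_subgroupOf.mpr (K.conj_mem g.2 (Subgroup.mem_subgroupOf.mp hu))⟩

theorem comm_of_large (K : ZDataKer G a b h e H) (hd : h - 1 ≤ 2 * e) :
    IsMulCommutative H ∧ ∃ p f : ℕ, p.Prime ∧ h = p ^ f := by
  obtain ⟨hc, p, f, hp, -, hΩ⟩ := Lib.Perm.kernel_elementary K.zass K.hab
    (by rw [K.hh, K.he]; omega) H K.hHa (normal_of_ker K) (hreg_of_ker K)
  exact ⟨hc, p, f, hp, by have := K.hh; omega⟩

theorem card_dvd (K : ZData G a b h e) : e ∣ h - 1 ∧ e + 1 ≤ h := by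
  classical
  set E : Subgroup G := stabilizer G a ⊓ stabilizer G b
  let s := {z : Ω // z ≠ a ∧ z ≠ b}
  letI : MulAction E s :=
    { smul := fun x z => ⟨(x : G) • (z : Ω),
        fun e' => z.2.1 (smul_left_cancel (x : G) (e'.trans (Subgroup.mem_inf.mp x.2).1.symm)),
        fun e' => z.2.2 (smul_left_cancel (x : G) (e'.trans (Subgroup.mem_inf.mp x.2).2.symm))⟩
      one_smul := fun z => Subtype.ext (one_smul G (z : Ω))
      mul_smul := fun x y z => Subtype.ext (mul_smul (x : G) (y : G) (z : Ω)) }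
  have hfree : ∀ z : s, Nat.card (MulAction.orbit E z) = e := by
    intro z
    rw [← K.he]
    symm
    refine Nat.card_congr (Equiv.ofBijective (fun x : E => (⟨x • z, x, rfl⟩ : MulAction.orbit E z)) ⟨?_, ?_⟩)
    · intro x y hxy
      have hxy' : (x : G) • (z : Ω) = (y : G) • (z : Ω) :=
        congrArg (fun q : MulAction.orbit E z => ((q : s) : Ω)) hxy
      refine (inv_mul_eq_one.mp (Subtype.ext ?_)).symm
      show (y : G)⁻¹ * x = 1
      refine K.three K.hab z.2.2.symm z.2.1.symm ?_ ?_ ?_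
      · exact (Subgroup.mem_inf.mp (mul_mem (inv_mem y.2) x.2)).1
      · exact (Subgroup.mem_inf.mp (mul_mem (inv_mem y.2) x.2)).2
      · rw [mul_smul, hxy', inv_smul_smul]
    · rintro ⟨_, x, rfl⟩
      exact ⟨x, rfl⟩
  have hs : Nat.card s = h - 1 := by
    rw [Nat.card_eq_fintype_card, Fintype.card_subtype,
      show (Finset.univ.filter fun z : Ω => z ≠ a ∧ z ≠ b) = Finset.univ \ {a, b} by ext; simp [and_comm],
      Finset.card_univ_diff, Finset.card_pair K.hab, K.hh]
    omega
  haveI : Fintype (Quotient (MulAction.orbitRel E s)) := Fintype.ofFinite _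
  have hdvd : e ∣ h - 1 := by
    rw [← hs, Nat.card_congr (MulAction.selfEquivSigmaOrbits E s), Nat.card_sigma]
    exact Finset.dvd_sum fun q _ => dvd_of_eq (hfree q.out).symm
  have h1 := K.one_lt_h
  have := Nat.le_of_dvd (by omega) hdvd
  exact ⟨hdvd, by omega⟩

theorem sharp (K : ZData G a b h e) (hs : e + 1 = h) :
    MulAction.IsMultiplyPretransitive G Ω 3 ∧ ∀ t : Fin 3 ↪ Ω, MulAction.stabilizer G t = ⊥ := by
  classical
  refine ⟨⟨fun s t => ?_⟩, fun t => (Subgroup.eq_bot_iff_forall _).mpr fun g hg => ?_⟩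
  · obtain ⟨g, hg0, hg1⟩ := K.two_trans (s.injective.ne (show (0 : Fin 3) ≠ 1 by decide))
      (t.injective.ne (show (0 : Fin 3) ≠ 1 by decide))
    set E : Subgroup G := stabilizer G (t 0) ⊓ stabilizer G (t 1)
    have h20 : g • s 2 ≠ t 0 := fun e' =>
      s.injective.ne (show (2 : Fin 3) ≠ 0 by decide) (smul_left_cancel g (e'.trans hg0.symm))
    have h21 : g • s 2 ≠ t 1 := fun e' =>
      s.injective.ne (show (2 : Fin 3) ≠ 1 by decide) (smul_left_cancel g (e'.trans hg1.symm))
    have h01 : t 0 ≠ t 1 := t.injective.ne (show (0 : Fin 3) ≠ 1 by decide)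
    have hsub : (Finset.univ : Finset Ω) \ {t 0, t 1} =
        (Set.range fun x : E => (x : G) • g • s 2).toFinset := by
      symm
      refine Finset.eq_of_subset_of_card_le (fun z hz => ?_) ?_
      · obtain ⟨x, rfl⟩ := Set.mem_toFinset.mp hz
        simp only [Finset.mem_sdiff, Finset.mem_univ, true_and, Finset.mem_insert, Finset.mem_singleton,
          not_or]
        exact ⟨fun e' => h20 (smul_left_cancel (x : G) (e'.trans (Subgroup.mem_inf.mp x.2).1.symm)),
          fun e' => h21 (smul_left_cancel (x : G) (e'.trans (Subgroup.mem_inf.mp x.2).2.symm))⟩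
      · rw [Finset.card_univ_diff, Finset.card_pair h01, K.hh, Set.toFinset_card,
          ← Nat.card_eq_fintype_card, Nat.card_range_of_injective, K.card_pair h01]
        · omega
        · intro x y hxy
          have hxy' : (x : G) • g • s 2 = (y : G) • g • s 2 := hxy
          refine (inv_mul_eq_one.mp (Subtype.ext ?_)).symm
          show (y : G)⁻¹ * x = 1
          refine K.three h01 h21.symm h20.symm ?_ ?_ ?_
          · exact (Subgroup.mem_inf.mp (mul_mem (inv_mem y.2) x.2)).1
          · exact (Subgroup.mem_inf.mp (mul_mem (inv_mem y.2) x.2)).2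
          · rw [mul_smul, hxy', inv_smul_smul]
    have hmem : t 2 ∈ (Finset.univ : Finset Ω) \ {t 0, t 1} := by
      simp [t.injective.ne (show (2 : Fin 3) ≠ 0 by decide), t.injective.ne (show (2 : Fin 3) ≠ 1 by decide)]
    rw [hsub, Set.mem_toFinset] at hmem
    obtain ⟨x, hx⟩ := hmem
    refine ⟨(x : G) * g, Function.Embedding.ext fun i => ?_⟩
    fin_cases i
    · show ((x : G) * g) • s 0 = t 0
      rw [mul_smul, hg0]
      exact (Subgroup.mem_inf.mp x.2).1
    · show ((x : G) * g) • s 1 = t 1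
      rw [mul_smul, hg1]
      exact (Subgroup.mem_inf.mp x.2).2
    · show ((x : G) * g) • s 2 = t 2
      rw [mul_smul]
      exact hx
  · refine K.three (t.injective.ne (show (0 : Fin 3) ≠ 1 by decide))
      (t.injective.ne (show (1 : Fin 3) ≠ 2 by decide)) (t.injective.ne (show (0 : Fin 3) ≠ 2 by decide))
      ?_ ?_ ?_ <;> exact DFunLike.congr_fun (mem_stabilizer_iff.mp hg) _

theorem le_two_mul (K : ZDataKer G a b h e H) (hab' : IsMulCommutative H) : h - 1 ≤ 2 * e := by
  rcases Nat.even_or_odd e with hev | hodd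
  · have := Cfsg.Agent.S0741.result K.zass K.hab (by rw [K.he]; exact hev)
    rw [K.hh, K.he] at this
    omega
  · have K' : ZKer G a b h e H :=
      { zass := K.zass, hab := K.hab, hh := K.hh, he := K.he, hodd := hodd,
        hHa := K.hHa, hHcard := K.hHcard, hHfix := K.hHfix }
    rcases K'.feit_inequality with h1 | ⟨-, ⟨u, v, huv⟩, -⟩
    · exact h1
    · exact absurd (hab'.is_comm.comm u v) huv

theorem swap_invol (K : ZDataKer G a b h e H) (hab' : IsMulCommutative H) (hhalf : h = 2 * e + 1) :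
    ∀ g : G, g • a = b → g • b = a → g * g = 1 := by
  rcases Nat.even_or_odd e with hev | hodd
  · refine swap_invol_of_even K.zass K.hab (by rw [K.he]; exact hev) ?_
    rw [K.hh, K.he]
    omega
  have K' : ZKer G a b h e H :=
    { zass := K.zass, hab := K.hab, hh := K.hh, he := K.he, hodd := hodd,
      hHa := K.hHa, hHcard := K.hHcard, hHfix := K.hHfix }
  obtain ⟨N, e', hee, hHN, hsimp, KN⟩ := K'.exists_simple
  haveI := Fintype.ofFinite N
  have hle : h - 1 ≤ 2 * e' := by
    by_contra hlt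
    obtain ⟨-, ⟨u, v, huv⟩, -⟩ := KN.feit_simple (by omega)
    have h' : ((u : N) : G) * ((v : N) : G) = ((v : N) : G) * ((u : N) : G) :=
      congrArg Subtype.val (hab'.is_comm.comm (⟨(u : N), Subgroup.mem_subgroupOf.mp u.2⟩ : H)
        ⟨(v : N), Subgroup.mem_subgroupOf.mp v.2⟩)
    exact huv (Subtype.ext (Subtype.ext h'))
  have hN : N = ⊤ := by
    refine Subgroup.eq_top_of_card_eq N ?_
    rw [KN.toZHyp.card_group, K'.toZHyp.card_group, show e' = e by omega]
  subst hN
  haveI : IsSimpleGroup G := (Subgroup.topEquiv (G := G)).isSimpleGroup_congr.mp hsimp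
  obtain ⟨w, hwa, hwb, hw⟩ := K'.exists_swap
  intro g hga hgb
  have hww : w * w = 1 := by rw [← pow_two, ← hw, pow_orderOf_eq_one]
  have hx : w * g ∈ stabilizer G a ⊓ stabilizer G b := Subgroup.mem_inf.mpr
    ⟨by rw [mem_stabilizer_iff, mul_smul, hga, hwb], by rw [mem_stabilizer_iff, mul_smul, hgb, hwa]⟩
  have h1 := K'.conj_eq_inv hwa hwb hx
  rw [inv_eq_of_mul_eq_one_left hww] at h1
  calc g * g = (w * w) * g * ((w * w) * g) := by rw [hww, one_mul]
    _ = (w * (w * g) * w) * (w * g) := by group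
    _ = 1 := by rw [h1, inv_mul_cancel]

theorem halfZass (K : ZDataKer G a b h e H) (hab' : IsMulCommutative H) (hhalf : h = 2 * e + 1) :
    ∃ w : G, HalfZass G a b H w e := by
  obtain ⟨w, hwa, hwb⟩ := K.two_trans K.hab K.hab.symm
  refine ⟨w,
    { faith := K.zass.1
      three := fun g x y z h1 h2 h3 => K.three h1 h2 h3
      trans := K.isPretransitive
      hab := K.hab
      hd := K.two_le_e
      hFa := K.hHa
      hFn := fun g hg u hu => K.conj_mem hg hu
      hFab := fun u hu v hv => congrArg Subtype.val (hab'.is_comm.comm ⟨u, hu⟩ ⟨v, hv⟩)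
      hreg := hreg_of_ker K
      hwa := hwa
      hwb := hwb
      hswap := fun x hx => swap_invol K hab' hhalf (w * x) ?_ ?_
      hD := K.he
      hF := K.hHcard.trans hhalf }⟩
  · rw [mul_smul, (Subgroup.mem_inf.mp hx).1, hwa]
  · rw [mul_smul, (Subgroup.mem_inf.mp hx).2, hwb]

end Cfsg.Agent.Lib.OddLocal.ZassPSL
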