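import Cfsg.Agent.Lib.OddLocal.ZassenhausField

/-!
The action of a swapping involution in coordinates is `x ↦ -1/x`; hence the group is `PSL(2, q)`.
-/

set_option autoImplicit false
set_option linter.style.haveILetI false

namespace Cfsg.Agent.Lib.OddLocal

open MulAction

variable {G : Type*} [Group G] [Finite G] {Ω : Type*} [MulAction G Ω] {a b : Ω} {F : Subgroup G}
  {w : G} {d : ℕ}

theorem HalfZass.twist (h : HalfZass G a b F w d) {y : G} (hy : y ∈ stabilizer G a ⊓ stabilizer G b) :
    HalfZass G a b F (w * y) d where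
  faith := h.faith
  three := h.three
  trans := h.trans
  hab := h.hab
  hd := h.hd
  hFa := h.hFa
  hFn := h.hFn
  hFab := h.hFab
  hreg := h.hreg
  hwa := by rw [mul_smul, (Subgroup.mem_inf.mp hy).1, h.hwa]
  hwb := by rw [mul_smul, (Subgroup.mem_inf.mp hy).2, h.hwb]
  hswap := fun x hx => by rw [mul_assoc w y x]; exact h.hswap _ (mul_mem hy hx)
  hD := h.hD
  hF := h.hF

theorem HalfZass.card_stab (h : HalfZass G a b F w d) : Nat.card (stabilizer G a) = (2 * d + 1) * d := by
  rw [← h.hF, ← h.hD, ← Nat.card_prod]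
  symm
  refine Nat.card_congr (Equiv.ofBijective (fun p : F × ↥(stabilizer G a ⊓ stabilizer G b : Subgroup G) =>
    (⟨(p.1 : G) * p.2, mul_mem (h.hFa p.1.2) (Subgroup.mem_inf.mp p.2.2).1⟩ : stabilizer G a)) ⟨?_, ?_⟩)
  · rintro ⟨u, x⟩ ⟨v, y⟩ he
    have he' : (u : G) * x = (v : G) * y := congrArg Subtype.val he
    have h1 : ((v : G)⁻¹ * u) • b = b := by
      have h2 : (v : G)⁻¹ * u = (y : G) * (x : G)⁻¹ := by
        rw [inv_mul_eq_iff_eq_mul, ← mul_assoc, ← he', mul_inv_cancel_right]
      rw [h2]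
      exact (Subgroup.mem_inf.mp (mul_mem y.2 (inv_mem x.2))).2
    have h2 := h.eq_one_of_fix (mul_mem (inv_mem v.2) u.2) h1
    have h3 : u = v := Subtype.ext (inv_mul_eq_one.mp h2).symm
    subst h3
    exact Prod.ext rfl (Subtype.ext (mul_left_cancel he'))
  · rintro ⟨g, hg⟩
    have hgb : g • b ≠ a := fun e => h.hab (smul_left_cancel g ((mem_stabilizer_iff.mp hg).trans e.symm))
    obtain ⟨u, hu, -⟩ := h.hreg b (g • b) h.hab.symm hgb
    refine ⟨(u, ⟨(u : G)⁻¹ * g, Subgroup.mem_inf.mpr ⟨mul_mem (inv_mem (h.hFa u.2)) hg, ?_⟩⟩),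
      Subtype.ext (mul_inv_cancel_left _ _)⟩
    rw [mem_stabilizer_iff, mul_smul, ← hu, inv_smul_smul]

theorem HalfZass.card_group [Fintype Ω] (h : HalfZass G a b F w d) :
    Nat.card G = (2 * d + 2) * ((2 * d + 1) * d) := by
  classical
  have hΩ : Fintype.card Ω = 2 * d + 2 := by
    have h1 : Nat.card F = Nat.card {z : Ω // z ≠ a} := by
      refine Nat.card_congr (Equiv.ofBijective (fun u : F => (⟨(u : G) • b, h.smul_ne u.2⟩ : {z : Ω // z ≠ a}))
        ⟨?_, ?_⟩)
      · intro u v huv
        obtain ⟨z, -, hz⟩ := h.hreg b ((v : G) • b) h.hab.symm (h.smul_ne v.2)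
        exact (hz u (congrArg Subtype.val huv)).trans (hz v rfl).symm
      · rintro ⟨z, hz⟩
        obtain ⟨u, hu, -⟩ := h.hreg b z h.hab.symm hz
        exact ⟨u, Subtype.ext hu⟩
    rw [h.hF, Nat.card_eq_fintype_card, Fintype.card_subtype_compl, Fintype.card_subtype_eq] at h1
    have : 0 < Fintype.card Ω := Fintype.card_pos_iff.mpr ⟨a⟩
    omega
  haveI := h.trans
  rw [← (stabilizer G a).index_mul_card, h.card_stab, MulAction.index_stabilizer_of_transitive,
    Nat.card_eq_fintype_card, hΩ]

section Coord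

variable {K : Type} [Field K] [Fintype K]

/-- The points. -/
def HalfCoord.pt (c : HalfCoord G a b F d K) : Option K → Ω
  | none => a
  | some k => c.el k • b

theorem HalfCoord.el_zero (c : HalfCoord G a b F d K) : c.el 0 = 1 := by
  have := c.hel_add 0 0
  rw [add_zero] at this
  exact mul_eq_left.mp this.symm

theorem HalfCoord.pt_zero (c : HalfCoord G a b F d K) : c.pt (some 0) = b := by
  show c.el 0 • b = b
  rw [c.el_zero, one_smul]

theorem HalfCoord.el_smul_b (c : HalfCoord G a b F d K) (k : K) : c.el k • b = c.pt (some k) := rfl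

theorem HalfCoord.pt_bijective (c : HalfCoord G a b F d K) (h : HalfZass G a b F w d) :
    Function.Bijective c.pt := by
  constructor
  · intro o o' he
    cases o <;> cases o'
    · rfl
    · exact absurd he.symm (h.smul_ne (c.hel _))
    · exact absurd he (h.smul_ne (c.hel _))
    · rename_i k l
      obtain ⟨z, -, hz⟩ := h.hreg b (c.el l • b) h.hab.symm (h.smul_ne (c.hel l))
      have := (hz ⟨c.el k, c.hel k⟩ he).trans (hz ⟨c.el l, c.hel l⟩ rfl).symm
      exact congrArg some (c.hel_inj (congrArg Subtype.val this))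
  · intro z
    by_cases hz : z = a
    · exact ⟨none, hz.symm⟩
    · obtain ⟨u, hu, -⟩ := h.hreg b z h.hab.symm hz
      obtain ⟨k, hk⟩ := c.hel_surj u u.2
      exact ⟨some k, by show c.el k • b = z; rw [hk, hu]⟩

theorem HalfCoord.el_smul_none (c : HalfCoord G a b F d K) (h : HalfZass G a b F w d) (k : K) :
    c.el k • c.pt none = c.pt none := h.hFa (c.hel k)

theorem HalfCoord.el_smul (c : HalfCoord G a b F d K) (k x : K) :
    c.el k • c.pt (some x) = c.pt (some (k + x)) := by
  show c.el k • c.el x • b = c.el (k + x) • b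
  rw [← mul_smul, c.hel_add]

theorem HalfCoord.two_smul' (c : HalfCoord G a b F d K) (x : ↥(stabilizer G a ⊓ stabilizer G b : Subgroup G))
    (k : K) : (x : G) • c.pt (some k) = c.pt (some (c.mul x * k)) := by
  show (x : G) • c.el k • b = c.el (c.mul x * k) • b
  rw [c.hmul, mul_smul, mul_smul,
    show (x : G)⁻¹ • b = b from inv_smul_eq_iff.mpr (Subgroup.mem_inf.mp x.2).2.symm]

theorem HalfCoord.ringChar_ne_two (c : HalfCoord G a b F d K) : ringChar K ≠ 2 := by
  intro h2
  have := FiniteField.even_card_of_char_two h2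
  rw [c.hcardK] at this
  omega

theorem HalfCoord.isSquare_pow (c : HalfCoord G a b F d K) {k : K} (hk : k ≠ 0) :
    IsSquare k ↔ k ^ d = 1 := by
  rw [FiniteField.isSquare_iff c.ringChar_ne_two hk, c.hcardK, show (2 * d + 1) / 2 = d by omega]

theorem HalfCoord.pow_dichotomy (c : HalfCoord G a b F d K) {k : K} (hk : k ≠ 0) :
    k ^ d = 1 ∨ k ^ d = -1 := by
  have := FiniteField.pow_dichotomy c.ringChar_ne_two hk
  rwa [c.hcardK, show (2 * d + 1) / 2 = d by omega] at this

theorem HalfCoord.not_mul_not (c : HalfCoord G a b F d K) {k l : K} (hk : ¬ IsSquare k) (hl : ¬ IsSquare l) :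
    IsSquare (k * l) := by
  have hk0 : k ≠ 0 := fun e => hk (e ▸ IsSquare.zero)
  have hl0 : l ≠ 0 := fun e => hl (e ▸ IsSquare.zero)
  rw [c.isSquare_pow hk0] at hk
  rw [c.isSquare_pow hl0] at hl
  rw [c.isSquare_pow (mul_ne_zero hk0 hl0), mul_pow, (c.pow_dichotomy hk0).resolve_left hk,
    (c.pow_dichotomy hl0).resolve_left hl, neg_mul_neg, one_mul]

/-- The multipliers are exactly the non-zero squares. -/
theorem HalfCoord.exists_mul_eq (c : HalfCoord G a b F d K) (h : HalfZass G a b F w d) {k : K} (hk : k ≠ 0)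
    (hs : IsSquare k) : ∃ x, c.mul x = k := by
  classical
  haveI := Fintype.ofFinite ↥(stabilizer G a ⊓ stabilizer G b : Subgroup G)
  set T := (Polynomial.nthRoots d (1 : K)).toFinset with hT
  have hd0 : 0 < d := by have := h.hd; omega
  have hsub : Finset.univ.image c.mul ⊆ T := by
    intro y hy
    obtain ⟨x, -, rfl⟩ := Finset.mem_image.mp hy
    rw [hT, Multiset.mem_toFinset, Polynomial.mem_nthRoots hd0, ← map_pow]
    have hx1 : x ^ Nat.card ↥(stabilizer G a ⊓ stabilizer G b : Subgroup G) = 1 := pow_card_eq_one'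
    rw [h.hD] at hx1
    rw [hx1, map_one]
  have heq := Finset.eq_of_subset_of_card_le hsub (by
    rw [Finset.card_image_of_injective _ c.hmul_inj, Finset.card_univ, ← Nat.card_eq_fintype_card, h.hD]
    exact le_trans (Multiset.toFinset_card_le _) (Polynomial.card_nthRoots d 1))
  have hmem : k ∈ T := by
    rw [hT, Multiset.mem_toFinset, Polynomial.mem_nthRoots hd0]
    exact (c.isSquare_pow hk).mp hs
  rw [← heq] at hmem
  obtain ⟨x, -, hx⟩ := Finset.mem_image.mp hmem
  exact ⟨x, hx⟩

theorem HalfCoord.mul_isSquare (c : HalfCoord G a b F d K) (h : HalfZass G a b F w d)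
    (x : ↥(stabilizer G a ⊓ stabilizer G b : Subgroup G)) : c.mul x ≠ 0 ∧ IsSquare (c.mul x) := by
  have hne : c.mul x ≠ 0 := fun e => by
    have := map_mul c.mul x x⁻¹
    rw [mul_inv_cancel, map_one, e, zero_mul] at this
    exact one_ne_zero this
  refine ⟨hne, (c.isSquare_pow hne).mpr ?_⟩
  have hx1 : x ^ Nat.card ↥(stabilizer G a ⊓ stabilizer G b : Subgroup G) = 1 := pow_card_eq_one'
  rw [h.hD] at hx1
  rw [← map_pow, hx1, map_one]

/-- The map on coordinates induced by the swapping element. -/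
theorem HalfCoord.exists_f (c : HalfCoord G a b F d K) (h : HalfZass G a b F w d) :
    ∃ f : K → K, (∀ x, x ≠ 0 → f x ≠ 0 ∧ w • c.pt (some x) = c.pt (some (f x)) ∧ f (f x) = x) ∧
      ∀ k x, k ≠ 0 → x ≠ 0 → IsSquare k → f (k * x) = k⁻¹ * f x := by
  classical
  have hex : ∀ x : K, ∃ y : K, x ≠ 0 → w • c.pt (some x) = c.pt (some y) := by
    intro x
    obtain ⟨o, ho⟩ := (c.pt_bijective h).2 (w • c.pt (some x))
    cases o with
    | none =>
      refine ⟨0, fun hx => absurd ((c.pt_bijective h).1 (a₁ := some x) (a₂ := some 0) ?_) (by simpa using hx)⟩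
      rw [c.pt_zero]
      apply smul_left_cancel w
      rw [h.hwb, ← ho]
      rfl
    | some y => exact ⟨y, fun _ => ho.symm⟩
  choose f hf using hex
  have hf0 : ∀ x, x ≠ 0 → f x ≠ 0 := by
    intro x hx e
    have h1 := hf x hx
    rw [e, c.pt_zero] at h1
    have := (c.pt_bijective h).1 (a₁ := some x) (a₂ := none) (smul_left_cancel w (h1.trans h.hwa.symm))
    simp at this
  refine ⟨f, fun x hx => ⟨hf0 x hx, hf x hx, ?_⟩, ?_⟩
  · have h1 := hf (f x) (hf0 x hx)
    rw [← hf x hx, ← mul_smul, h.w_sq, one_smul] at h1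
    exact Option.some.inj ((c.pt_bijective h).1 h1.symm)
  · intro k x hk hx hs
    obtain ⟨z, hz⟩ := c.exists_mul_eq h hk hs
    have hzi : c.mul z⁻¹ = k⁻¹ := by
      refine eq_inv_of_mul_eq_one_left ?_
      rw [← hz, ← map_mul, inv_mul_cancel, map_one]
    have h1 := hf (k * x) (mul_ne_zero hk hx)
    rw [← hz, ← c.two_smul' z x, ← mul_smul, h.conj_inv z.2, mul_smul, hf x hx, ← Subgroup.coe_inv,
      c.two_smul', hzi, hz] at h1
    exact (Option.some.inj ((c.pt_bijective h).1 h1)).symm

theorem HalfCoord.exists_normalized (c : HalfCoord G a b F d K) (h : HalfZass G a b F w d) :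
    ∃ w' : G, HalfZass G a b F w' d ∧ w' • c.pt (some 1) = c.pt (some (-1)) := by
  classical
  obtain ⟨f, hf, hfm⟩ := c.exists_f h
  set α := f 1 with hα
  have hα0 : α ≠ 0 := (hf 1 one_ne_zero).1
  have hsq : IsSquare (-α) := by
    by_cases hm1 : IsSquare (-1 : K)
    · have hfneg : ∀ x : K, x ≠ 0 → f (-x) = -f x := by
        intro x hx
        have := hfm (-1) x (neg_ne_zero.mpr one_ne_zero) hx hm1
        rwa [neg_one_mul, inv_neg_one, neg_one_mul] at this
      have hfα : f α = 1 := (hf 1 one_ne_zero).2.2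
      set g := c.el 1 * (w * c.el (-α) * w * c.el 1 * w) with hg
      -- the images of the three points
      have hgs : ∀ P : Ω, g • P = c.el 1 • w • c.el (-α) • w • c.el 1 • w • P := fun P => by
        simp only [hg, mul_smul]
      have hga : g • a = a := by
        rw [hgs, h.hwa, c.el_smul_b, (hf 1 one_ne_zero).2.1, c.el_smul, ← hα,
          neg_add_cancel, c.pt_zero, h.hwb]
        exact c.el_smul_none h 1
      have hgb : g • b = b := by
        rw [hgs, h.hwb, show c.el 1 • a = a from c.el_smul_none h 1, h.hwa, c.el_smul_b, (hf (-α) (neg_ne_zero.mpr hα0)).2.1, c.el_smul, hfneg α hα0, hfα, add_neg_cancel, c.pt_zero]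
      have hgz : g • c.pt (some (-α)) = c.pt (some 1) := by
        rw [hgs, (hf (-α) (neg_ne_zero.mpr hα0)).2.1, hfneg α hα0, hfα, c.el_smul, add_neg_cancel,
          c.pt_zero, h.hwb, show c.el (-α) • a = a from c.el_smul_none h _, h.hwa, c.el_smul_b]
      have hk := c.two_smul' ⟨g, Subgroup.mem_inf.mpr ⟨hga, hgb⟩⟩ (-α)
      rw [show ((⟨g, Subgroup.mem_inf.mpr ⟨hga, hgb⟩⟩ : ↥(stabilizer G a ⊓ stabilizer G b : Subgroup G)) : G)
        = g from rfl, hgz] at hk
      have hk1 := Option.some.inj ((c.pt_bijective h).1 hk)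
      obtain ⟨hn, hs⟩ := c.mul_isSquare h ⟨g, Subgroup.mem_inf.mpr ⟨hga, hgb⟩⟩
      obtain ⟨r, hr⟩ := hs
      refine ⟨r⁻¹, ?_⟩
      rw [← mul_inv, ← hr]
      exact (eq_inv_of_mul_eq_one_right hk1.symm)
    · have hodd : Odd d := by
        by_contra hev
        exact hm1 ((c.isSquare_pow (neg_ne_zero.mpr one_ne_zero)).mpr (Nat.not_odd_iff_even.mp hev).neg_one_pow)
      have hns : ¬ IsSquare α := by
        rintro ⟨s, hs⟩
        have hs0 : s ≠ 0 := fun e => hα0 (by rw [hs, e, zero_mul])
        obtain ⟨x, hx, hxsq, hxx⟩ : ∃ x : K, x ≠ 0 ∧ IsSquare x ∧ x * x = α := by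
          by_cases hsq : IsSquare s
          · exact ⟨s, hs0, hsq, hs.symm⟩
          · refine ⟨-1 * s, mul_ne_zero (neg_ne_zero.mpr one_ne_zero) hs0, c.not_mul_not hm1 hsq, ?_⟩
            rw [hs]; ring
        have hfx : f x = x := by
          have := hfm x 1 hx one_ne_zero hxsq
          rw [mul_one] at this
          rw [this, ← hα, ← hxx, inv_mul_cancel_left₀ hx]
        -- the involution would fix a point
        haveI := h.trans
        obtain ⟨g, hg⟩ := MulAction.exists_smul_eq G a (c.pt (some x))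
        have hmem : g⁻¹ * w * g ∈ stabilizer G a := by
          rw [mem_stabilizer_iff, mul_smul, mul_smul, hg, (hf x hx).2.1, hfx, inv_smul_eq_iff, hg]
        have hord : orderOf (g⁻¹ * w * g) ∣ (2 * d + 1) * d := by
          rw [← h.card_stab, ← Subgroup.orderOf_mk (g⁻¹ * w * g) hmem]
          exact orderOf_dvd_natCard _
        have h2 : orderOf (g⁻¹ * w * g) = 2 := by
          refine orderOf_eq_prime ?_ ?_
          · rw [pow_two, show g⁻¹ * w * g * (g⁻¹ * w * g) = g⁻¹ * (w * w) * g by group, h.w_sq]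
            group
          · intro e
            have hw1 : w = 1 := by
              calc w = g * (g⁻¹ * w * g) * g⁻¹ := by group
                _ = 1 := by rw [e]; group
            exact h.hab (by rw [← h.hwa, hw1, one_smul])
        rw [h2] at hord
        have : Odd ((2 * d + 1) * d) := (odd_two_mul_add_one d).mul hodd
        exact (Nat.not_even_iff_odd.mpr this) (even_iff_two_dvd.mpr hord)
      rw [← neg_one_mul]
      exact c.not_mul_not hm1 hns
  obtain ⟨z, hz⟩ := c.exists_mul_eq h (neg_ne_zero.mpr hα0) hsq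
  refine ⟨w * z, h.twist z.2, ?_⟩
  rw [mul_smul, c.two_smul', hz, (hf (-α * 1) (by simpa using hα0)).2.1,
    hfm (-α) 1 (neg_ne_zero.mpr hα0) one_ne_zero hsq, ← hα, inv_neg, neg_mul, inv_mul_cancel₀ hα0]

theorem HalfCoord.swap_eq (c : HalfCoord G a b F d K) (h : HalfZass G a b F w d)
    (h1 : w • c.pt (some 1) = c.pt (some (-1))) (x : K) (hx : x ≠ 0) :
    w • c.pt (some x) = c.pt (some (-x⁻¹)) := by
  classical
  obtain ⟨f, hf, hfm⟩ := c.exists_f h
  have hf1 : f 1 = -1 := by
    have := (hf 1 one_ne_zero).2.1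
    rw [h1] at this
    exact (Option.some.inj ((c.pt_bijective h).1 this)).symm
  have hfsq : ∀ k : K, k ≠ 0 → IsSquare k → f k = -k⁻¹ := by
    intro k hk hs
    have := hfm k 1 hk one_ne_zero hs
    rw [mul_one, hf1] at this
    rw [this, mul_neg_one]
  rw [(hf x hx).2.1]
  refine congrArg (fun y => c.pt (some y)) ?_
  by_cases hxs : IsSquare x
  · exact hfsq x hx hxs
  -- some non-square has the right image
  suffices hex : ∃ r : K, r ≠ 0 ∧ ¬ IsSquare r ∧ r * f r = -1 by
    obtain ⟨r, hr0, hrs, hr⟩ := hex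
    have hk : IsSquare (x / r) := by
      have : ¬ IsSquare r⁻¹ := fun hh => hrs (inv_inv r ▸ hh.inv)
      rw [div_eq_mul_inv]
      exact c.not_mul_not hxs this
    have := hfm (x / r) r (div_ne_zero hx hr0) hr0 hk
    rw [div_mul_cancel₀ x hr0] at this
    rw [this]
    field_simp
    linear_combination hr
  by_cases hm1 : IsSquare (-1 : K)
  · by_contra hno
    push Not at hno
    have hg : c.el 1 * (w * c.el 1 * w * c.el 1 * w) = 1 := by
      set g := c.el 1 * (w * c.el 1 * w * c.el 1 * w) with hg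
      have hgs : ∀ P : Ω, g • P = c.el 1 • w • c.el 1 • w • c.el 1 • w • P := fun P => by
        simp only [hg, mul_smul]
      have hm10 : (-1 : K) ≠ 0 := neg_ne_zero.mpr one_ne_zero
      refine h.three g a b (c.pt (some 1)) h.hab ?_ ?_ ?_ ?_ ?_
      · exact fun e => zero_ne_one (Option.some.inj ((c.pt_bijective h).1 (c.pt_zero.trans e)))
      · exact fun e => by simpa using (c.pt_bijective h).1 (a₁ := none) (a₂ := some 1) e
      · rw [hgs, h.hwa, c.el_smul_b, h1, c.el_smul, add_neg_cancel, c.pt_zero, h.hwb]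
        exact c.el_smul_none h 1
      · rw [hgs, h.hwb, show c.el 1 • a = a from c.el_smul_none h 1, h.hwa, c.el_smul_b, h1, c.el_smul, add_neg_cancel, c.pt_zero]
      · rw [hgs, h1, c.el_smul, add_neg_cancel, c.pt_zero, h.hwb,
          show c.el 1 • a = a from c.el_smul_none h 1, h.hwa, c.el_smul_b]
    -- squares are closed under subtracting one
    have hstep : ∀ k : K, k ≠ 0 → IsSquare k → IsSquare (k - 1) := by
      intro k hk hs
      by_cases hk1 : k = 1
      · rw [hk1, sub_self]; exact IsSquare.zero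
      by_contra hns
      have hne : k - 1 ≠ 0 := sub_ne_zero.mpr hk1
      have e1 := congrArg (fun t : G => t • c.pt (some k)) hg
      simp only [mul_smul, one_smul] at e1
      have e2 : (1 : K) + f k = k⁻¹ * (k - 1) := by
        rw [hfsq k hk hs]; field_simp; ring
      rw [(hf k hk).2.1, c.el_smul, e2, (hf (k⁻¹ * (k - 1)) (mul_ne_zero (inv_ne_zero hk) hne)).2.1,
        hfm k⁻¹ (k - 1) (inv_ne_zero hk) hne hs.inv, inv_inv, c.el_smul] at e1
      by_cases hz : 1 + k * f (k - 1) = 0
      · rw [hz, c.pt_zero, h.hwb, show c.el 1 • a = a from c.el_smul_none h 1] at e1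
        exact h.smul_ne (c.hel k) e1.symm
      · rw [(hf _ hz).2.1, c.el_smul] at e1
        have e3 := Option.some.inj ((c.pt_bijective h).1 e1)
        have e4 := congrArg f (show f (1 + k * f (k - 1)) = k - 1 by linear_combination e3)
        rw [(hf _ hz).2.2] at e4
        refine hno (k - 1) hne hns ?_
        linear_combination e4
    let S : AddSubgroup K :=
      { carrier := {k | IsSquare k}
        zero_mem' := IsSquare.zero
        add_mem' := by
          intro u v hu hv
          show IsSquare (u + v)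
          by_cases hv0 : v = 0
          · rw [hv0, add_zero]; exact hu
          by_cases hu0 : u = 0
          · rw [hu0, zero_add]; exact hv
          have hnv : IsSquare (-v) := by rw [← neg_one_mul]; exact hm1.mul hv
          have := (hstep (u / (-v)) (div_ne_zero hu0 (neg_ne_zero.mpr hv0)) (hu.div hnv)).mul hnv
          rwa [sub_mul, div_mul_cancel₀ u (neg_ne_zero.mpr hv0), one_mul, sub_neg_eq_add] at this
        neg_mem' := fun {u} hu => by
          show IsSquare (-u)
          rw [← neg_one_mul]; exact hm1.mul hu }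
    let e : Option ↥(stabilizer G a ⊓ stabilizer G b : Subgroup G) → S := fun o =>
      match o with
      | none => 0
      | some z => ⟨c.mul z, (c.mul_isSquare h z).2⟩
    have he : Function.Bijective e := by
      constructor
      · intro o o' heq
        have heq' : ((e o : S) : K) = e o' := congrArg Subtype.val heq
        cases o <;> cases o' <;> simp only [e, ZeroMemClass.coe_zero] at heq'
        · rfl
        · exact absurd heq'.symm (c.mul_isSquare h _).1
        · exact absurd heq' (c.mul_isSquare h _).1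
        · rw [c.hmul_inj heq']
      · rintro ⟨k, hk⟩
        by_cases hk0 : k = 0
        · exact ⟨none, Subtype.ext hk0.symm⟩
        · obtain ⟨z, hz⟩ := c.exists_mul_eq h hk0 hk
          exact ⟨some z, Subtype.ext hz⟩
    have hdvd := AddSubgroup.card_addSubgroup_dvd_card S
    rw [← Nat.card_congr (Equiv.ofBijective e he), Finite.card_option, h.hD,
      Nat.card_eq_fintype_card, c.hcardK] at hdvd
    have h2 : d + 1 ∣ 2 * (d + 1) := dvd_mul_left _ _
    have h3 := Nat.dvd_sub h2 hdvd
    rw [show 2 * (d + 1) - (2 * d + 1) = 1 by omega] at h3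
    have := Nat.dvd_one.mp h3
    have := h.hd
    omega
  · refine ⟨-1, neg_ne_zero.mpr one_ne_zero, hm1, ?_⟩
    have := (hf 1 one_ne_zero).2.2
    rw [hf1] at this
    rw [this, mul_one]

end Coord

/-- Recognition of `PSL(2, q)`, `q` odd. -/
theorem HalfZass.iso_PSL2 [Fintype Ω] (h : HalfZass G a b F w d) :
    ∃ (K : Type) (_ : Field K) (_ : Fintype K), ringChar K ≠ 2 ∧ Fintype.card K = 2 * d + 1 ∧
      Nonempty (G ≃* Matrix.ProjectiveSpecialLinearGroup (Fin 2) K) := by
  obtain ⟨K, _, _, ⟨c⟩⟩ := h.exists_coord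
  obtain ⟨w', h', hw'⟩ := c.exists_normalized h
  haveI := h.faith
  refine ⟨K, inferInstance, inferInstance, c.ringChar_ne_two, c.hcardK, ?_⟩
  refine iso_PSL2_of_line (by rw [c.hcardK]; exact odd_two_mul_add_one d) c.pt (c.pt_bijective h)
    (fun k => ⟨c.el k, c.el_smul_none h k, fun x => by rw [c.el_smul, add_comm]⟩) ?_
    ⟨w', ?_, ?_, fun x hx => c.swap_eq h' hw' x hx⟩ ?_
  · intro k hk
    obtain ⟨z, hz⟩ := c.exists_mul_eq h (mul_ne_zero hk hk) ⟨k, rfl⟩
    exact ⟨z, (Subgroup.mem_inf.mp z.2).1, fun x => by rw [c.two_smul', hz]⟩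
  · rw [c.pt_zero]; exact h'.hwa
  · rw [c.pt_zero]; exact h'.hwb
  · rw [h.card_group, c.hcardK]
    have : (2 * d + 1) ^ 2 - 1 = (2 * d + 2) * (2 * d) := by
      have : (2 * d + 1) ^ 2 = (2 * d + 2) * (2 * d) + 1 := by ring
      omega
    rw [this]
    ring

end Cfsg.Agent.Lib.OddLocal
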