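import Cfsg.Agent.Lib.OddLocal.SharpPGL
import Cfsg.Agent.Lib.Frobenius.Kernel

/-!
Sharply triply transitive groups of odd degree are `PGL(2, 2^f)`.
-/

set_option autoImplicit false
set_option linter.style.haveILetI false

namespace Cfsg.Agent.Lib.OddLocal

open MulAction

variable {G : Type*} [Group G] [Finite G] {Ω : Type*} [MulAction G Ω] [Fintype Ω]

theorem exists_move_three (h3 : MulAction.IsMultiplyPretransitive G Ω 3) {x y z x' y' z' : Ω} (hxy : x ≠ y)
    (hyz : y ≠ z) (hxz : x ≠ z) (hxy' : x' ≠ y') (hyz' : y' ≠ z') (hxz' : x' ≠ z') :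
    ∃ g : G, g • x = x' ∧ g • y = y' ∧ g • z = z' := by
  haveI := h3
  obtain ⟨g, hg⟩ := MulAction.exists_smul_eq G
    (⟨![x, y, z], by
      intro i j; fin_cases i <;> fin_cases j <;> simp [hxy, hyz, hxz, Ne.symm hxy, Ne.symm hyz, Ne.symm hxz]⟩ :
      Fin 3 ↪ Ω)
    (⟨![x', y', z'], by
      intro i j; fin_cases i <;> fin_cases j <;>
        simp [hxy', hyz', hxz', Ne.symm hxy', Ne.symm hyz', Ne.symm hxz']⟩ : Fin 3 ↪ Ω)
  exact ⟨g, DFunLike.congr_fun hg 0, DFunLike.congr_fun hg 1, DFunLike.congr_fun hg 2⟩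

theorem three_of_sharp (hs : ∀ t : Fin 3 ↪ Ω, MulAction.stabilizer G t = ⊥) (g : G) (x y z : Ω) (hxy : x ≠ y)
    (hyz : y ≠ z) (hxz : x ≠ z) (hx : g • x = x) (hy : g • y = y) (hz : g • z = z) : g = 1 := by
  let t : Fin 3 ↪ Ω := ⟨![x, y, z], by
    intro i j; fin_cases i <;> fin_cases j <;> simp [hxy, hyz, hxz, Ne.symm hxy, Ne.symm hyz, Ne.symm hxz]⟩
  have hg : g ∈ MulAction.stabilizer G t := mem_stabilizer_iff.mpr (Function.Embedding.ext fun i => by
    fin_cases i
    · exact hx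
    · exact hy
    · exact hz)
  rw [hs t, Subgroup.mem_bot] at hg
  exact hg

section

variable (h3 : MulAction.IsMultiplyPretransitive G Ω 3)
  (hthree : ∀ g : G, ∀ x y z : Ω, x ≠ y → y ≠ z → x ≠ z → g • x = x → g • y = y → g • z = z → g = 1)
  {a b : Ω} (hab : a ≠ b)

include h3 hthree hab

/-- The two-point stabilizer is regular on the other points. -/
theorem exists_unique_pair {c d : Ω} (hca : c ≠ a) (hcb : c ≠ b) (hda : d ≠ a) (hdb : d ≠ b) :
    ∃! x : ↥(stabilizer G a ⊓ stabilizer G b : Subgroup G), (x : G) • c = d := by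
  obtain ⟨g, hga, hgb, hgc⟩ := exists_move_three h3 hab hcb.symm hca.symm hab hdb.symm hda.symm
  refine ⟨⟨g, hga, hgb⟩, hgc, fun y hy => ?_⟩
  refine (inv_mul_eq_one.mp (Subtype.ext ?_)).symm
  show g⁻¹ * (y : G) = 1
  refine hthree _ a b c hab hcb.symm hca.symm ?_ ?_ ?_
  · rw [mul_smul, (Subgroup.mem_inf.mp y.2).1, inv_smul_eq_iff, hga]
  · rw [mul_smul, (Subgroup.mem_inf.mp y.2).2, inv_smul_eq_iff, hgb]
  · rw [mul_smul, hy, inv_smul_eq_iff, hgc]

theorem card_pair_sharp (hn : 3 ≤ Fintype.card Ω) :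
    Nat.card ↥(stabilizer G a ⊓ stabilizer G b : Subgroup G) = Fintype.card Ω - 2 := by
  classical
  obtain ⟨c, hc⟩ : ∃ c, c ∉ ({a, b} : Finset Ω) := by
    by_contra hh
    push Not at hh
    have h1 : Fintype.card Ω ≤ ({a, b} : Finset Ω).card := Finset.card_le_card fun x _ => hh x
    rw [Finset.card_pair hab] at h1
    omega
  simp only [Finset.mem_insert, Finset.mem_singleton, not_or] at hc
  have h1 : Nat.card ↥(stabilizer G a ⊓ stabilizer G b : Subgroup G) = Nat.card {z : Ω // z ≠ a ∧ z ≠ b} := by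
    refine Nat.card_congr (Equiv.ofBijective (fun x => (⟨(x : G) • c,
      fun e => hc.1 (smul_left_cancel (x : G) (e.trans (Subgroup.mem_inf.mp x.2).1.symm)),
      fun e => hc.2 (smul_left_cancel (x : G) (e.trans (Subgroup.mem_inf.mp x.2).2.symm))⟩ :
        {z : Ω // z ≠ a ∧ z ≠ b})) ⟨?_, ?_⟩)
    · intro x y hxy
      obtain ⟨z, -, hz⟩ := exists_unique_pair h3 hthree hab hc.1 hc.2
        (d := (y : G) • c) (fun e => hc.1 (smul_left_cancel (y : G) (e.trans (Subgroup.mem_inf.mp y.2).1.symm)))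
        (fun e => hc.2 (smul_left_cancel (y : G) (e.trans (Subgroup.mem_inf.mp y.2).2.symm)))
      exact (hz x (congrArg Subtype.val hxy)).trans (hz y rfl).symm
    · rintro ⟨d, hda, hdb⟩
      obtain ⟨x, hx, -⟩ := exists_unique_pair h3 hthree hab hc.1 hc.2 hda hdb
      exact ⟨x, Subtype.ext hx⟩
  rw [h1, Nat.card_eq_fintype_card, Fintype.card_subtype,
    show (Finset.univ.filter fun z : Ω => z ≠ a ∧ z ≠ b) = Finset.univ \ {a, b} by ext; simp [and_comm],
    Finset.card_univ_diff, Finset.card_pair hab]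

/-- In odd degree every element interchanging two points is an involution. -/
theorem swap_invol_sharp [FaithfulSMul G Ω] (hodd : Odd (Fintype.card Ω)) {g : G} (hga : g • a = b)
    (hgb : g • b = a) : g * g = 1 := by
  classical
  let S := {z : Ω // z ≠ a ∧ z ≠ b}
  let T := {s : G // s • a = b ∧ s • b = a}
  choose sc hsa hsb hsc using fun c : S => exists_move_three h3 hab c.2.2.symm c.2.1.symm hab.symm c.2.1.symm c.2.2.symm
    (x' := b) (y' := a) (z' := (c : Ω))
  have hsq : ∀ c : S, sc c * sc c = 1 := fun c => hthree _ a b c hab c.2.2.symm c.2.1.symm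
    (by rw [mul_smul, hsa, hsb]) (by rw [mul_smul, hsb, hsa]) (by rw [mul_smul, hsc, hsc])
  have hinj : ∀ c c' : S, sc c = sc c' → c = c' := by
    intro c c' he
    by_contra hne
    set t := sc c
    have ht1 : t ≠ 1 := fun e => hab (by rw [← hsa c]; show a = t • a; rw [e, one_smul])
    have hfix2 : ∀ z : Ω, t • z = z → z = c ∨ z = c' := by
      intro z hz
      by_contra hz'
      push Not at hz'
      exact ht1 (hthree t c c' z (fun e => hne (Subtype.ext e)) hz'.2.symm hz'.1.symm (hsc c)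
        (by rw [he]; exact hsc c') hz)
    let σ : Equiv.Perm Ω := MulAction.toPerm t
    have hσ : σ ^ 2 ^ 1 = 1 := Equiv.ext fun z => by
      show t • t • z = z
      rw [← mul_smul, hsq c, one_smul]
    have hmod := σ.card_compl_support_modEq (p := 2) hσ
    have hcompl : σ.supportᶜ = {(c : Ω), (c' : Ω)} := by
      ext z
      rw [Finset.mem_compl, Equiv.Perm.mem_support, not_not, Finset.mem_insert, Finset.mem_singleton]
      refine ⟨hfix2 z, ?_⟩
      rintro (rfl | rfl)
      · exact hsc c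
      · show t • (c' : Ω) = c'
        rw [he]; exact hsc c'
    rw [hcompl, Finset.card_pair (fun e => hne (Subtype.ext e)), Nat.ModEq] at hmod
    obtain ⟨k, hk⟩ := hodd
    omega
  have hn : 3 ≤ Fintype.card Ω := by
    obtain ⟨k, hk⟩ := hodd
    have : 1 < Fintype.card Ω := Fintype.one_lt_card_iff.mpr ⟨a, b, hab⟩
    omega
  have hcard : Nat.card T ≤ Nat.card S := by
    have h1 : Nat.card T = Nat.card ↥(stabilizer G a ⊓ stabilizer G b : Subgroup G) := by
      refine Nat.card_congr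
        { toFun := fun s => ⟨g⁻¹ * (s : G), ?_, ?_⟩
          invFun := fun x => ⟨g * (x : G), ?_, ?_⟩
          left_inv := fun s => Subtype.ext (mul_inv_cancel_left _ _)
          right_inv := fun x => Subtype.ext (inv_mul_cancel_left _ _) }
      · show (g⁻¹ * (s : G)) • a = a
        rw [mul_smul, s.2.1, inv_smul_eq_iff, hga]
      · show (g⁻¹ * (s : G)) • b = b
        rw [mul_smul, s.2.2, inv_smul_eq_iff, hgb]
      · rw [mul_smul, (Subgroup.mem_inf.mp x.2).1, hga]
      · rw [mul_smul, (Subgroup.mem_inf.mp x.2).2, hgb]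
    rw [h1, card_pair_sharp h3 hthree hab hn, Nat.card_eq_fintype_card (α := S), Fintype.card_subtype,
      show (Finset.univ.filter fun z : Ω => z ≠ a ∧ z ≠ b) = Finset.univ \ {a, b} by ext; simp [and_comm],
      Finset.card_univ_diff, Finset.card_pair hab]
  haveI : Fintype T := Fintype.ofFinite T
  let f : S → T := fun c => ⟨sc c, hsa c, hsb c⟩
  have hfinj : Function.Injective f := fun c c' he => hinj c c' (congrArg Subtype.val he)
  obtain ⟨c, hc⟩ := ((Fintype.bijective_iff_injective_and_card f).mpr ⟨hfinj, le_antisymm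
    (Fintype.card_le_of_injective f hfinj) (by
      simpa [Nat.card_eq_fintype_card] using hcard)⟩).2 ⟨g, hga, hgb⟩
  rw [← show sc c = g from congrArg Subtype.val hc]
  exact hsq c

/-- The regular normal subgroup of a point stabilizer. -/
theorem exists_kernel_sharp [FaithfulSMul G Ω] (hn : 3 ≤ Fintype.card Ω) :
    ∃ F : Subgroup G, F ≤ stabilizer G a ∧ (∀ g : G, g • a = a → ∀ u ∈ F, g * u * g⁻¹ ∈ F) ∧
      Nat.card F = Fintype.card Ω - 1 ∧ ∀ y z : Ω, y ≠ a → z ≠ a → ∃! u : F, (u : G) • y = z := by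
  classical
  set B := stabilizer G a with hB
  set E := (stabilizer G a ⊓ stabilizer G b : Subgroup G) with hE
  have hEcard : Nat.card E = Fintype.card Ω - 2 := card_pair_sharp h3 hthree hab hn
  have hEB : E ≤ B := inf_le_left
  have horbit : ∀ z : Ω, z ≠ a → ∃ g : G, g • a = a ∧ g • b = z := by
    intro z hz
    by_cases hzb : z = b
    · exact ⟨1, one_smul _ _, by rw [one_smul, hzb]⟩
    · obtain ⟨g, hga, hgb, -⟩ := exists_move_three h3 hab (Ne.symm hzb) (Ne.symm hz) (Ne.symm hz)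
        hzb hab
      exact ⟨g, hga, hgb⟩
  have hBcard : Nat.card B = (Fintype.card Ω - 1) * (Fintype.card Ω - 2) := by
    have key := Nat.card_congr (orbitProdStabilizerEquivGroup B b)
    rw [Nat.card_prod] at key
    have h1 : orbit B b = {z | z ≠ a} := by
      ext z
      refine ⟨?_, fun hz => ?_⟩
      · rintro ⟨⟨g, hg⟩, rfl⟩ e
        exact hab.symm (smul_left_cancel g (e.trans hg.symm))
      · obtain ⟨g, hga, hgb⟩ := horbit z hz
        exact ⟨⟨g, hga⟩, hgb⟩
    have h2 : Nat.card (stabilizer B b) = Fintype.card Ω - 2 := by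
      rw [← hEcard]
      exact Nat.card_congr
        { toFun := fun g => ⟨(g.1 : G), g.1.2, g.2⟩
          invFun := fun g => ⟨⟨g.1, (Subgroup.mem_inf.mp g.2).1⟩, (Subgroup.mem_inf.mp g.2).2⟩
          left_inv := fun _ => rfl
          right_inv := fun _ => rfl }
    rw [← key, h1, h2, Nat.card_eq_fintype_card, Fintype.card_ofFinset]
    simp [Finset.filter_ne']
  by_cases hE1 : Nat.card E = 1
  · refine ⟨B, le_rfl, fun g hg u hu => mul_mem (mul_mem hg hu) (inv_mem hg), ?_, fun y z hy hz => ?_⟩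
    · rw [hBcard]
      rw [show Fintype.card Ω - 2 = 1 by omega, mul_one]
    · obtain ⟨g, hga, hgb⟩ := horbit y hy
      obtain ⟨g', hg'a, hg'b⟩ := horbit z hz
      refine ⟨⟨g' * g⁻¹, mul_mem hg'a (inv_mem hga)⟩, ?_, fun u hu => ?_⟩
      · show (g' * g⁻¹) • y = z
        rw [mul_smul, inv_smul_eq_iff.mpr hgb.symm, hg'b]
      · apply Subtype.ext
        show (u : G) = g' * g⁻¹
        have hu' : (u : G) • y = z := hu
        have hmem : g'⁻¹ * (u : G) * g ∈ E := by
          refine Subgroup.mem_inf.mpr ⟨mul_mem (mul_mem (inv_mem hg'a) u.2) hga, ?_⟩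
          rw [mem_stabilizer_iff, mul_smul, mul_smul, hgb, hu', inv_smul_eq_iff, hg'b]
        have hbot : (⟨g'⁻¹ * (u : G) * g, hmem⟩ : E) = 1 :=
          (Nat.card_eq_one_iff_unique.mp hE1).1.elim _ _
        have h1 : g'⁻¹ * (u : G) * g = 1 := congrArg Subtype.val hbot
        calc (u : G) = g' * (g'⁻¹ * (u : G) * g) * g⁻¹ := by group
          _ = g' * g⁻¹ := by rw [h1, mul_one]
  have hcardE : Nat.card (E.subgroupOf B) = Fintype.card Ω - 2 :=
    (Nat.card_congr (Subgroup.subgroupOfEquivOfLe hEB).toEquiv).trans hEcard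
  have hidx : (E.subgroupOf B).index = Fintype.card Ω - 1 := by
    have h1 := (E.subgroupOf B).index_mul_card
    rw [hcardE, hBcard] at h1
    exact Nat.eq_of_mul_eq_mul_right (by omega) h1
  have hF : Cfsg.IsFrobeniusComplement (E.subgroupOf B) := by
    refine Cfsg.Agent.Lib.Frobenius.isFrobeniusComplement_iff.mpr ⟨fun h0 => ?_, fun h0 => ?_, ?_⟩
    · rw [h0, Subgroup.card_bot] at hcardE; omega
    · rw [h0, Subgroup.index_top] at hidx; omega
    · intro g hg x hx hgx
      by_contra hx1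
      have hxab := Subgroup.mem_inf.mp (Subgroup.mem_subgroupOf.mp hx)
      have hga : (g : G) • a = a := g.2
      have hgb := (Subgroup.mem_inf.mp (Subgroup.mem_subgroupOf.mp hgx)).2
      simp only [mem_stabilizer_iff, Subgroup.coe_mul, Subgroup.coe_inv, mul_smul, inv_smul_eq_iff] at hgb
      refine hg (Subgroup.mem_subgroupOf.mpr (Subgroup.mem_inf.mpr ⟨hga, ?_⟩))
      by_contra hne
      refine hx1 (Subtype.ext (hthree _ a b ((g : G) • b) hab (Ne.symm hne) ?_ hxab.1 hxab.2 hgb))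
      exact fun h' => hab (MulAction.injective (g : G) (hga.trans h'))
  obtain ⟨K, hKn, hK, -, -, -, -, hKc⟩ := Cfsg.Agent.Lib.Frobenius.exists_frobeniusKernel hF
  haveI := hKn
  have hfix : ∀ x ∈ K, ∀ c : Ω, c ≠ a → (x : G) • c = c → x = 1 := by
    intro x hx c hca hc
    have hx' : x ∈ Cfsg.frobeniusKernel (E.subgroupOf B) := hK ▸ hx
    rcases Cfsg.Agent.Lib.Frobenius.mem_frobeniusKernel_iff.mp hx' with rfl | hx'
    · rfl
    exfalso
    obtain ⟨t, hta, htb⟩ := horbit c hca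
    refine hx' ⟨t, hta⟩ (Subgroup.mem_subgroupOf.mpr (Subgroup.mem_inf.mpr ⟨?_, ?_⟩))
    · simp only [mem_stabilizer_iff, Subgroup.coe_mul, Subgroup.coe_inv, mul_smul, inv_smul_eq_iff, hta]
      exact x.2
    · simp only [mem_stabilizer_iff, Subgroup.coe_mul, Subgroup.coe_inv, mul_smul, inv_smul_eq_iff, htb]
      exact hc
  have hcardK : Nat.card K = Fintype.card Ω - 1 := by rw [hKc, hidx]
  refine ⟨K.map B.subtype, Subgroup.map_subtype_le K, ?_, ?_, fun y z hy hz => ?_⟩
  · rintro g hg _ ⟨u, hu, rfl⟩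
    exact ⟨⟨g, hg⟩ * u * ⟨g, hg⟩⁻¹, hKn.conj_mem u hu _, rfl⟩
  · rw [Subgroup.card_subtype, hcardK]
  · have hne : ∀ u : K, ((u : B) : G) • y ≠ a := fun u e =>
      hy (smul_left_cancel ((u : B) : G) (e.trans (u : B).2.symm))
    let ψ : K → {z : Ω // z ≠ a} := fun u => ⟨((u : B) : G) • y, hne u⟩
    have hψ : Function.Injective ψ := by
      intro u v huv
      have h2 : ((u : B) : G) • y = ((v : B) : G) • y := congrArg Subtype.val huv
      refine (inv_mul_eq_one.mp (Subtype.ext (hfix ((v⁻¹ * u : K) : B) (v⁻¹ * u).2 y hy ?_))).symm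
      show (((v : B) : G)⁻¹ * ((u : B) : G)) • y = y
      rw [mul_smul, h2, inv_smul_smul]
    haveI := Fintype.ofFinite K
    have hbij : Function.Bijective ψ := (Fintype.bijective_iff_injective_and_card ψ).mpr ⟨hψ, by
      rw [← Nat.card_eq_fintype_card, hcardK, Fintype.card_subtype_compl, Fintype.card_subtype_eq]⟩
    obtain ⟨u, hu⟩ := hbij.2 ⟨z, hz⟩
    refine ⟨⟨_, (u : B), u.2, rfl⟩, congrArg Subtype.val hu, ?_⟩
    rintro ⟨_, v, hv, rfl⟩ hvy
    have h2 : (⟨v, hv⟩ : K) = u := hψ (Subtype.ext (hvy.trans (congrArg Subtype.val hu).symm))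
    subst h2
    rfl

end

/-- A sharply triply transitive group of odd degree is `PGL(2, 2^f)`. -/
theorem sharp_odd_degree [FaithfulSMul G Ω] (h3 : MulAction.IsMultiplyPretransitive G Ω 3)
    (hthree : ∀ g : G, ∀ x y z : Ω, x ≠ y → y ≠ z → x ≠ z → g • x = x → g • y = y → g • z = z → g = 1)
    (hn : 3 ≤ Fintype.card Ω) (hodd : Odd (Fintype.card Ω)) :
    ∃ (f : ℕ) (K : Type) (_ : Field K) (_ : Fintype K), 1 ≤ f ∧ Fintype.card Ω = 2 ^ f + 1 ∧
      Fintype.card K = 2 ^ f ∧ Nonempty (G ≃* Matrix.ProjGenLinGroup (Fin 2) K) := by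
  classical
  obtain ⟨a, b, hab⟩ := Fintype.one_lt_card_iff.mp (show 1 < Fintype.card Ω by omega)
  obtain ⟨F, hFa, hFn, hFcard, hreg⟩ := exists_kernel_sharp h3 hthree hab hn
  haveI : Fact (Nat.Prime 2) := ⟨Nat.prime_two⟩
  have heven : 2 ∣ Nat.card F := by
    rw [hFcard]
    obtain ⟨k, hk⟩ := hodd
    omega
  obtain ⟨u₀, hu₀⟩ := exists_prime_orderOf_dvd_card' 2 heven
  have hu₀1 : u₀ ≠ 1 := fun e => by rw [e, orderOf_one] at hu₀; omega
  have hu₀2 : (u₀ : G) * u₀ = 1 := congrArg Subtype.val (by rw [← pow_two, ← hu₀, pow_orderOf_eq_one] : u₀ * u₀ = 1)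
  have hub : ∀ u : F, u ≠ 1 → (u : G) • b ≠ b := fun u hu e => by
    obtain ⟨v, -, hv⟩ := hreg b b hab.symm hab.symm
    exact hu ((hv u e).trans (hv 1 (one_smul G b)).symm)
  have hua : ∀ u : F, (u : G) • b ≠ a := fun u e =>
    hab (smul_left_cancel (u : G) ((hFa u.2).trans e.symm))
  have hexp : ∀ u : F, (u : G) * u = 1 := by
    intro u
    by_cases hu : u = 1
    · subst hu; simp
    obtain ⟨x, hx, -⟩ := exists_unique_pair h3 hthree hab (hua u₀) (hub u₀ hu₀1) (hua u) (hub u hu)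
    have hxa : (x : G) • a = a := (Subgroup.mem_inf.mp x.2).1
    have hxb : (x : G) • b = b := (Subgroup.mem_inf.mp x.2).2
    obtain ⟨v, -, hv⟩ := hreg b ((u : G) • b) hab.symm (hua u)
    have h1 : (⟨(x : G) * u₀ * (x : G)⁻¹, hFn x hxa u₀ u₀.2⟩ : F) = u := by
      refine (hv ⟨_, hFn x hxa u₀ u₀.2⟩ ?_).trans (hv u rfl).symm
      show ((x : G) * u₀ * (x : G)⁻¹) • b = (u : G) • b
      rw [mul_smul, mul_smul, inv_smul_eq_iff.mpr hxb.symm, hx]
    rw [← h1]
    show (x : G) * u₀ * (x : G)⁻¹ * ((x : G) * u₀ * (x : G)⁻¹) = 1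
    calc (x : G) * u₀ * (x : G)⁻¹ * ((x : G) * u₀ * (x : G)⁻¹) = (x : G) * ((u₀ : G) * u₀) * (x : G)⁻¹ := by group
      _ = 1 := by rw [hu₀2, mul_one, mul_inv_cancel]
  have hFab : ∀ u ∈ F, ∀ v ∈ F, u * v = v * u := by
    intro u hu v hv
    have h1 := hexp ⟨u * v, mul_mem hu hv⟩
    calc u * v = (u * v)⁻¹ := eq_inv_of_mul_eq_one_left h1
      _ = v⁻¹ * u⁻¹ := mul_inv_rev u v
      _ = v * u := by
        rw [inv_eq_of_mul_eq_one_right (hexp ⟨u, hu⟩), inv_eq_of_mul_eq_one_right (hexp ⟨v, hv⟩)]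
  obtain ⟨f, hf⟩ := IsPGroup.iff_card.mp (show IsPGroup 2 F from fun u => ⟨1, Subtype.ext (by
    rw [pow_one, pow_two]; exact hexp u)⟩)
  obtain ⟨w, hwa, hwb, -⟩ : ∃ w : G, w • a = b ∧ w • b = a ∧ True := by
    obtain ⟨c, hc⟩ : ∃ c, c ∉ ({a, b} : Finset Ω) := by
      by_contra hh
      push Not at hh
      have h1 : Fintype.card Ω ≤ ({a, b} : Finset Ω).card := Finset.card_le_card fun x _ => hh x
      rw [Finset.card_pair hab] at h1
      omega
    simp only [Finset.mem_insert, Finset.mem_singleton, not_or] at hc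
    obtain ⟨g, hga, hgb, -⟩ := exists_move_three h3 hab (Ne.symm hc.2) (Ne.symm hc.1) hab.symm
      (Ne.symm hc.1) (Ne.symm hc.2)
    exact ⟨g, hga, hgb, trivial⟩
  have htr : MulAction.IsPretransitive G Ω := by
    haveI := h3
    haveI : MulAction.IsMultiplyPretransitive G Ω 2 :=
      MulAction.isMultiplyPretransitive_of_le (show 2 ≤ 3 by norm_num) (by
        rw [Nat.card_eq_fintype_card]; exact_mod_cast hn)
    exact MulAction.isPretransitive_of_is_two_pretransitive
  have hZ : SharpZass G a b F w (Fintype.card Ω - 2) :=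
    { faith := inferInstance
      three := hthree
      trans := htr
      hab := hab
      hd := by omega
      hFa := hFa
      hFn := hFn
      hFab := hFab
      hreg := hreg
      hwa := hwa
      hwb := hwb
      hswap := fun x hx => swap_invol_sharp h3 hthree hab hodd
        (by rw [mul_smul, (Subgroup.mem_inf.mp hx).1, hwa]) (by rw [mul_smul, (Subgroup.mem_inf.mp hx).2, hwb])
      hD := card_pair_sharp h3 hthree hab hn
      hF := by omega }
  obtain ⟨K, i1, i2, hK, hiso⟩ := hZ.iso_PGL2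
  refine ⟨f, K, i1, i2, Nat.pos_of_ne_zero fun h0 => ?_, by omega, by omega, hiso⟩
  rw [h0, pow_zero] at hf
  omega

/-- In characteristic two `SL(2)` is `PGL(2)`. -/
noncomputable def sl2_equiv_pgl2 {K : Type} [Field K] [Fintype K] (h : Even (Fintype.card K)) :
    Matrix.SpecialLinearGroup (Fin 2) K ≃* Matrix.ProjGenLinGroup (Fin 2) K := by
  refine MulEquiv.ofBijective (Matrix.SpecialLinearGroup.toPGL) ?_
  haveI : Fintype (Matrix.SpecialLinearGroup (Fin 2) K) := Fintype.ofFinite _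
  haveI : Finite (Matrix.ProjGenLinGroup (Fin 2) K) :=
    Finite.of_surjective _ Matrix.ProjGenLinGroup.mk_surjective
  haveI : Fintype (Matrix.ProjGenLinGroup (Fin 2) K) := Fintype.ofFinite _
  refine (Fintype.bijective_iff_injective_and_card _).mpr ⟨?_, by
    rw [← Nat.card_eq_fintype_card, ← Nat.card_eq_fintype_card, Classical.card_PGL]⟩
  rw [← MonoidHom.ker_eq_bot_iff, Matrix.SpecialLinearGroup.toPGL_ker, Subgroup.eq_bot_iff_forall]
  intro x hx
  obtain ⟨r, hr, hrx⟩ := Matrix.SpecialLinearGroup.mem_center_iff.mp hx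
  have h2 : ringChar K = 2 := FiniteField.even_card_iff_char_two.mpr (Nat.even_iff.mp h)
  haveI : CharP K 2 := h2 ▸ ringChar.charP K
  have hr1 : r = 1 := by
    rw [Fintype.card_fin] at hr
    have h1 : (r - 1) ^ 2 = 0 := by rw [sub_pow_char, hr, one_pow, sub_self]
    exact sub_eq_zero.mp (pow_eq_zero_iff two_ne_zero |>.mp h1)
  apply Subtype.ext
  rw [← hrx, hr1]
  simp

end Cfsg.Agent.Lib.OddLocal
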