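import Cfsg.Agent.Lib.OddLocal.SuzukiChars
import Cfsg.Agent.Lib.OddLocal.ZassenhausDerive
import Cfsg.Agent.Lib.Suzuki.TypeA

/-!
# The Suzuki case of the classification of simple Zassenhaus groups
-/

set_option autoImplicit false
set_option linter.style.haveILetI false

namespace Cfsg.Agent.Lib.OddLocal.SuzukiMain

open MulAction
open Cfsg.Agent.Lib.Characters.ZOdd (ZKer)

universe u v

variable {G : Type u} [Group G] [Finite G] [IsSimpleGroup G] {Ω : Type v} [MulAction G Ω]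
  [Fintype Ω]

theorem of_regular (hZ : Cfsg.IsZassenhausGroup G Ω) {a b : Ω} (hab : a ≠ b) {U : Subgroup G}
    (hUle : U ≤ stabilizer G a) (hreg : ∀ c d : Ω, c ≠ a → d ≠ a → ∃! u : U, (u : G) • c = d)
    (hU2 : IsPGroup 2 U) (hne : ∃ x y : U, x * y ≠ y * x) :
    ∃ n e h : ℕ, ZKer G a b h e U ∧ Odd n ∧ 1 < n ∧ e + 1 = 2 ^ n ∧ h = (e + 1) ^ 2 := by
  haveI : Fact (Nat.Prime 2) := ⟨Nat.prime_two⟩
  have K := ZassPSL.ker_of_reg hZ hab hUle hreg
  set e := Nat.card ↥(stabilizer G a ⊓ stabilizer G b : Subgroup G) with he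
  set h := Fintype.card Ω - 1
  obtain ⟨k, hk⟩ := IsPGroup.iff_card.mp hU2
  rw [K.hHcard] at hk
  have hh1 := K.one_lt_h
  have hodd : Odd e := by
    obtain ⟨m, hm⟩ := (ZassPSL.card_dvd K.toZData).1
    rcases k with _ | k
    · rw [pow_zero] at hk; omega
    have h2 : Odd (h - 1) := ⟨2 ^ k - 1, by rw [hk, pow_succ]; have := Nat.one_le_two_pow (n := k); omega⟩
    rw [hm] at h2
    exact (Nat.odd_mul.mp h2).1
  have K' : ZKer G a b h e U :=
    { zass := K.zass, hab := K.hab, hh := K.hh, he := K.he, hodd := hodd,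
      hHa := K.hHa, hHcard := K.hHcard, hHfix := K.hHfix }
  obtain ⟨n, hn1, hn2, hn3, hn4⟩ := SuzukiChars.numerics K' hU2 hne
  exact ⟨n, e, h, K', hn1, hn2, hn3, hn4⟩

theorem isSuzuki_of_regular (hZ : Cfsg.IsZassenhausGroup G Ω) {a b : Ω} (hab : a ≠ b)
    {U : Subgroup G} (hUle : U ≤ stabilizer G a)
    (hreg : ∀ c d : Ω, c ≠ a → d ≠ a → ∃! u : U, (u : G) • c = d)
    (hU2 : IsPGroup 2 U) (hne : ∃ x y : U, x * y ≠ y * x) : Cfsg.IsSuzuki G := by
  obtain ⟨n, e, h, K, ⟨m, rfl⟩, hn, he, hh⟩ := of_regular hZ hab hUle hreg hU2 hne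
  refine ⟨inferInstance, m, by omega, ?_⟩
  rw [K.card_group, hh, ← he, Nat.add_sub_cancel]
  ring

end Cfsg.Agent.Lib.OddLocal.SuzukiMain
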