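import Cfsg.Agent.Lib.LieExc.Zass
import Cfsg.Agent.Lib.Characters.Induced
import Cfsg.Agent.Lib.Characters.Ortho
import Cfsg.Agent.Lib.Characters.Kernel
import Cfsg.Agent.Lib.Characters.Integrality
import Mathlib

/-!
A sharply triply transitive group of even two-point stabilizer is not simple.

The two-point stabilizer has a non-trivial irreducible character of odd degree fixed by a swapping element;
inducing it from the point stabilizer gives two irreducible constituents whose degrees cannot both divide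
the group order.
-/

set_option autoImplicit false
set_option linter.style.haveILetI false
set_option linter.unusedSectionVars false

namespace Cfsg.Agent.Lib.OddLocal.ZassPSL

open MulAction
open Cfsg.Agent.Lib.LieExc (ZData ZDataKer)
open Cfsg.Agent.Lib.Characters
open scoped ComplexConjugate

universe u v

theorem degree_bound {d e r j : ℕ} (hd : d = r + j * e) (hdvd : d ∣ (e + 2) * ((e + 1) * e)) (hj : j < r)
    (hr : r < 2 * j) (hre : r * r < e) : False := by
  have h1 : Nat.gcd d e ∣ r := by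
    have := Nat.gcd_dvd_left d e
    conv at this => rhs; rw [hd]
    exact (Nat.dvd_add_left ((Nat.gcd_dvd_right d e).mul_left j)).mp this
  have h2 : Nat.gcd d (e + 1) ∣ r - j := by
    have := Nat.gcd_dvd_left d (e + 1)
    conv at this => rhs; rw [hd]
    rw [show r + j * e = (r - j) + j * (e + 1) by rw [mul_add, mul_one]; omega] at this
    exact (Nat.dvd_add_left ((Nat.gcd_dvd_right d (e + 1)).mul_left j)).mp this
  have h3 : Nat.gcd d (e + 2) ∣ 2 * j - r := by
    refine (Nat.dvd_add_right (Nat.gcd_dvd_left d (e + 2))).mp ?_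
    rw [show d + (2 * j - r) = j * (e + 2) by rw [hd, mul_add]; omega]
    exact (Nat.gcd_dvd_right d (e + 2)).mul_left j
  have h4 : d ∣ (2 * j - r) * ((r - j) * r) := by
    refine dvd_trans ?_ (Nat.mul_dvd_mul h3 (Nat.mul_dvd_mul h2 h1))
    have ha : d.gcd ((e + 2) * ((e + 1) * e)) = d := Nat.gcd_eq_left hdvd
    rw [← ha]
    refine dvd_trans (Nat.gcd_mul_right_dvd_mul_gcd d (e + 2) ((e + 1) * e)) ?_
    rw [ha]
    exact Nat.mul_dvd_mul_left _ (Nat.gcd_mul_right_dvd_mul_gcd d (e + 1) e)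
  obtain ⟨x, rfl⟩ : ∃ x, r = j + x + 1 := ⟨r - j - 1, by omega⟩
  obtain ⟨y, rfl⟩ : ∃ y, j = x + 2 + y := ⟨j - x - 2, by omega⟩
  have h5 := Nat.le_of_dvd (Nat.mul_pos (by omega) (Nat.mul_pos (by omega) (by omega))) h4
  rw [show 2 * (x + 2 + y) - (x + 2 + y + x + 1) = y + 1 by omega,
    show x + 2 + y + x + 1 - (x + 2 + y) = x + 1 by omega, hd] at h5
  nlinarith [mul_self_nonneg ((x : ℤ) - y), Nat.zero_le (x * y)]

/-- An involution on a finite set of odd cardinality has a fixed point. -/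
theorem exists_fixed_of_odd {α : Type*} [DecidableEq α] (T : Finset α) (σ : α → α)
    (hσ : ∀ x ∈ T, σ x ∈ T) (hσ2 : ∀ x ∈ T, σ (σ x) = x) (hodd : Odd T.card) : ∃ x ∈ T, σ x = x := by
  by_contra hno
  push Not at hno
  have h1 : ∑ _x ∈ T, (1 : ZMod 2) = 0 :=
    Finset.sum_involution (fun x _ => σ x) (fun _ _ => rfl) (fun x hx _ => hno x hx) hσ hσ2
  rw [Finset.sum_const, nsmul_one, ZMod.natCast_eq_zero_iff_even] at h1
  exact (Nat.not_even_iff_odd.mpr hodd) h1

/-- A non-trivial irreducible character of odd degree fixed by an automorphism whose square is inner. -/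
theorem exists_fixed_odd_irr {D : Type*} [Group D] [Finite D] (hev : Even (Nat.card D)) (φ : D ≃* D)
    (hφ : ∀ x, IsConj x (φ (φ x))) :
    ∃ (ξ : D → ℂ) (r : ℕ), Cfsg.IsIrrCharacter D ξ ∧ ξ ≠ (fun _ => 1) ∧ ξ 1 = (r : ℂ) ∧ Odd r ∧
      r * r < Nat.card D ∧ ∀ x, ξ (φ x) = ξ x := by
  classical
  haveI : Fintype D := Fintype.ofFinite D
  haveI : Fintype (Cfsg.IrrCharacter D) := Fintype.ofFinite _
  choose deg hpos hdeg using fun χ : Cfsg.IrrCharacter D => IsIrrCharacter.exists_apply_one χ.2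
  have hsum : ∑ χ, deg χ ^ 2 = Nat.card D := by
    have h1 := sum_degree_sq (G := D)
    simp only [hdeg] at h1
    exact_mod_cast h1
  have h0 : deg (trivIrr D) = 1 := by
    have h1 : (deg (trivIrr D) : ℂ) = 1 := (hdeg (trivIrr D)).symm
    exact_mod_cast h1
  have hpar : Even (Finset.univ.filter fun χ : Cfsg.IrrCharacter D => Odd (deg χ)).card := by
    have h1 : ∀ χ : Cfsg.IrrCharacter D, (deg χ : ZMod 2) ^ 2 = if Odd (deg χ) then 1 else 0 := by
      intro χ
      by_cases h : Odd (deg χ)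
      · rw [if_pos h, ZMod.natCast_eq_one_iff_odd.mpr h, one_pow]
      · rw [if_neg h, ZMod.natCast_eq_zero_iff_even.mpr (Nat.not_odd_iff_even.mp h), zero_pow two_ne_zero]
    have h2 : ((∑ χ, deg χ ^ 2 : ℕ) : ZMod 2) =
        ((Finset.univ.filter fun χ : Cfsg.IrrCharacter D => Odd (deg χ)).card : ZMod 2) := by
      rw [Nat.cast_sum]
      simp only [Nat.cast_pow, h1]
      rw [Finset.sum_boole]
    rw [hsum, ZMod.natCast_eq_zero_iff_even.mpr hev] at h2
    exact ZMod.natCast_eq_zero_iff_even.mp h2.symm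
  set T := (Finset.univ.filter fun χ : Cfsg.IrrCharacter D => Odd (deg χ)).erase (trivIrr D) with hT
  have hmem0 : trivIrr D ∈ Finset.univ.filter fun χ : Cfsg.IrrCharacter D => Odd (deg χ) := by
    simp [h0]
  have hTodd : Odd T.card := by
    have h1 := Finset.card_erase_add_one hmem0
    rw [← hT] at h1
    rw [← h1, Nat.even_add_one, Nat.not_even_iff_odd] at hpar
    exact hpar
  let σ : Cfsg.IrrCharacter D → Cfsg.IrrCharacter D := fun χ => ⟨χ.1 ∘ φ, IsIrrCharacter.comp_equiv χ.2 φ⟩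
  have hσ2 : ∀ χ, σ (σ χ) = χ := fun χ => Subtype.ext (funext fun x =>
    (IsClassFunction.eq_of_isConj (irr_isClassFunction χ) (hφ x)).symm)
  have hσdeg : ∀ χ, deg (σ χ) = deg χ := by
    intro χ
    have h1 : (deg (σ χ) : ℂ) = deg χ := by
      rw [← hdeg, ← hdeg]
      show χ.1 (φ 1) = χ.1 1
      rw [map_one]
    exact_mod_cast h1
  have hσT : ∀ χ ∈ T, σ χ ∈ T := by
    intro χ hχ
    rw [hT, Finset.mem_erase, Finset.mem_filter] at hχ ⊢
    refine ⟨fun e => hχ.1 ?_, Finset.mem_univ _, by rw [hσdeg]; exact hχ.2.2⟩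
    have h1 : σ (trivIrr D) = trivIrr D := Subtype.ext rfl
    rw [← hσ2 χ, e, h1]
  obtain ⟨χ, hχ, hfix⟩ := exists_fixed_of_odd T σ hσT (fun χ _ => hσ2 χ) hTodd
  rw [hT, Finset.mem_erase, Finset.mem_filter] at hχ
  refine ⟨χ.1, deg χ, χ.2, fun e => hχ.1 (Subtype.ext e), hdeg χ, hχ.2.2, ?_, fun x => ?_⟩
  · have h1 : ∑ x ∈ ({trivIrr D, χ} : Finset (Cfsg.IrrCharacter D)), deg x ^ 2 ≤ ∑ x, deg x ^ 2 :=
      Finset.sum_le_sum_of_subset (Finset.subset_univ _)
    rw [Finset.sum_pair (Ne.symm hχ.1), h0, hsum, pow_two (deg χ)] at h1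
    omega
  · exact congrArg (fun c : Cfsg.IrrCharacter D => c.1 x) hfix

variable {G : Type u} [Group G] [Fintype G] {Ω : Type v} [MulAction G Ω] [Fintype Ω]
  {a b : Ω} {h e : ℕ} {H : Subgroup G}

/-- The projection of the point stabilizer onto the two-point stabilizer. -/
theorem exists_proj' (K : ZDataKer G a b h e H) :
    ∃ π : stabilizer G a →* ↥(stabilizer G a ⊓ stabilizer G b : Subgroup G),
      (∀ (x : stabilizer G a) (hx : (x : G) ∈ stabilizer G a ⊓ stabilizer G b), π x = ⟨(x : G), hx⟩) ∧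
        ∀ u : stabilizer G a, π u = 1 ↔ (u : G) ∈ H := by
  have hne : ∀ g : stabilizer G a, (g : G) • b ≠ a := fun g e' =>
    K.hab (smul_left_cancel (g : G) ((show (g : G) • a = a from g.2).trans e'.symm))
  choose u hu hub using fun g : stabilizer G a => K.exists_kernel_smul K.hab.symm (hne g)
  have huniq : ∀ (g : stabilizer G a) (v : G), v ∈ H → v • b = (g : G) • b → v = u g := by
    intro g v hv hvb
    refine (inv_mul_eq_one.mp (K.disjoint_pair (mul_mem (inv_mem (hu g)) hv) ?_)).symm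
    rw [mul_smul, hvb, ← hub g, inv_smul_smul]
  have hmem : ∀ g : stabilizer G a, (u g)⁻¹ * (g : G) ∈ stabilizer G a ⊓ stabilizer G b := fun g =>
    Subgroup.mem_inf.mpr ⟨mul_mem (inv_mem (K.hHa (hu g))) g.2,
      by rw [mem_stabilizer_iff, mul_smul, ← hub g, inv_smul_smul]⟩
  let π : stabilizer G a →* ↥(stabilizer G a ⊓ stabilizer G b : Subgroup G) :=
    { toFun := fun g => ⟨(u g)⁻¹ * (g : G), hmem g⟩
      map_one' := by
        apply Subtype.ext
        show (u 1)⁻¹ * ((1 : stabilizer G a) : G) = 1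
        rw [← huniq 1 1 H.one_mem rfl]
        simp
      map_mul' := fun g g' => by
        apply Subtype.ext
        show (u (g * g'))⁻¹ * ((g * g' : stabilizer G a) : G) = ((u g)⁻¹ * (g : G)) * ((u g')⁻¹ * (g' : G))
        rw [← huniq (g * g') ((g : G) * u g' * (g : G)⁻¹ * u g) (mul_mem (K.conj_mem g.2 (hu g')) (hu g))
          (by rw [Subgroup.coe_mul, mul_smul _ (u g), hub g, ← mul_smul, inv_mul_cancel_right, mul_smul,
            hub g', ← mul_smul])]
        rw [Subgroup.coe_mul]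
        group }
  refine ⟨π, fun x hx => ?_, fun g => ⟨fun hg => ?_, fun hg => ?_⟩⟩
  · apply Subtype.ext
    show (u x)⁻¹ * (x : G) = x
    rw [← huniq x 1 H.one_mem (by rw [one_smul, (Subgroup.mem_inf.mp hx).2]), inv_one, one_mul]
  · have h1 : (u g)⁻¹ * (g : G) = 1 := congrArg Subtype.val hg
    rw [← inv_mul_eq_one.mp h1]
    exact hu g
  · apply Subtype.ext
    show (u g)⁻¹ * (g : G) = 1
    rw [← huniq g (g : G) hg rfl, inv_mul_cancel]

/-- The character of degree `h - 1` of a point stabilizer. -/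
noncomputable def psi (H : Subgroup G) (h : ℕ) (a : Ω) : stabilizer G a → ℂ :=
  open scoped Classical in
  fun g => if g = 1 then (h : ℂ) - 1 else if (g : G) ∈ H then -1 else 0

theorem sum_coset [DecidableEq Ω] (f : G → ℂ) (v : ℂ) {c : Ω} {g : G} (hg : g • a = c)
    (hf : ∀ x : G, x • a = c → f x = v) :
    ∑ x ∈ Finset.univ.filter (fun x : G => x • a = c), f x = Nat.card (stabilizer G a) * v := by
  rw [Finset.sum_congr rfl fun x hx => hf x (Finset.mem_filter.mp hx).2, Finset.sum_const,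
    nsmul_eq_mul]
  congr 2
  rw [Nat.card_eq_fintype_card, ← Finset.card_univ]
  refine Finset.card_bij (fun x hx => (⟨g⁻¹ * x, ?_⟩ : stabilizer G a))
    (fun _ _ => Finset.mem_univ _) (fun _ _ _ _ h => mul_left_cancel (congrArg Subtype.val h))
    (fun y _ => ⟨g * y, ?_, Subtype.ext (inv_mul_cancel_left g _)⟩)
  · rw [mem_stabilizer_iff, mul_smul, (Finset.mem_filter.mp hx).2, inv_smul_eq_iff, hg]
  · rw [Finset.mem_filter, mul_smul, (show (y : G) • a = a from y.2), hg]
    exact ⟨Finset.mem_univ _, rfl⟩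

/-- The restriction of the induced character. -/
theorem indFun_res (K : ZDataKer G a b h e H)
    (π : stabilizer G a →* ↥(stabilizer G a ⊓ stabilizer G b : Subgroup G))
    (hπ : ∀ (x : stabilizer G a) (hx : (x : G) ∈ stabilizer G a ⊓ stabilizer G b), π x = ⟨(x : G), hx⟩)
    (hπH : ∀ u : stabilizer G a, π u = 1 ↔ (u : G) ∈ H) {w : G} (hwa : w • a = b) (hwb : w • b = a)
    (ξ : ↥(stabilizer G a ⊓ stabilizer G b : Subgroup G) → ℂ)
    (hξc : Cfsg.IsClassFunction _ ξ)
    (hξw : ∀ x y : ↥(stabilizer G a ⊓ stabilizer G b : Subgroup G), (y : G) = w⁻¹ * (x : G) * w → ξ y = ξ x) :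
    (fun g : stabilizer G a => Cfsg.indFun (stabilizer G a) (fun g => ξ (π g)) (g : G)) =
      (2 : ℂ) • (fun g => ξ (π g)) + ξ 1 • psi H h a := by
  classical
  funext g
  set θ : stabilizer G a → ℂ := fun g => ξ (π g) with hθdef
  have hθc : Cfsg.IsClassFunction _ θ := fun x k => by
    show ξ (π (k * x * k⁻¹)) = ξ (π x)
    rw [map_mul, map_mul, map_inv]
    exact hξc _ _
  have hθconj : ∀ (k : G) (hk : k • a = a) (z : G) (hz : z • a = a) (hm : k⁻¹ * z * k ∈ stabilizer G a),
      θ ⟨k⁻¹ * z * k, hm⟩ = θ ⟨z, hz⟩ := by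
    intro k hk z hz hm
    have := hθc ⟨z, hz⟩ (⟨k, hk⟩ : stabilizer G a)⁻¹
    rw [inv_inv] at this
    exact this
  simp only [Pi.add_apply, Pi.smul_apply, smul_eq_mul, psi]
  by_cases hg1 : g = 1
  · subst hg1
    rw [if_pos rfl, show ((1 : stabilizer G a) : G) = 1 from rfl, indFun_one, hθdef]
    haveI := K.isPretransitive
    rw [MulAction.index_stabilizer_of_transitive, Nat.card_eq_fintype_card, K.hh]
    simp only [map_one]
    push_cast
    ring
  have hga : (g : G) • a = a := g.2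
  have hB : (Nat.card (stabilizer G a) : ℂ) ≠ 0 := by exact_mod_cast Nat.card_pos.ne'
  rw [if_neg hg1, indFun_apply]
  by_cases hgH : (g : G) ∈ H
  · have hg1' : (g : G) ≠ 1 := fun e' => hg1 (Subtype.ext e')
    have hθg : θ g = ξ 1 := congrArg ξ ((hπH g).mpr hgH)
    rw [if_pos hgH, ← Finset.sum_subset (Finset.subset_univ (Finset.univ.filter fun x : G => x • a = a))
      fun x _ hx => ?_]
    · rw [sum_coset _ (θ g) (one_smul G a) (fun x hx => ?_), inv_mul_cancel_left₀ hB]
      · show θ g = 2 * θ g + ξ 1 * -1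
        rw [hθg]
        ring
      · have hm : x⁻¹ * (g : G) * x ∈ stabilizer G a := by
          rw [mem_stabilizer_iff, mul_smul, mul_smul, hx, hga, inv_smul_eq_iff, hx]
        rw [extendByZero_of_mem _ _ hm]
        exact hθconj x hx g hga hm
    · refine extendByZero_of_not_mem _ _ fun hm => hx (Finset.mem_filter.mpr ⟨Finset.mem_univ _, ?_⟩)
      rw [mem_stabilizer_iff, mul_smul, mul_smul, inv_smul_eq_iff] at hm
      exact K.hHfix g hgH hg1' _ hm
  rw [if_neg hgH, mul_zero, add_zero]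
  have h2 := (not_congr (K.mem_iff (g : G))).mp hgH
  push Not at h2
  obtain ⟨hg1', hg2⟩ := h2
  obtain ⟨c, hgc, hca⟩ := hg2 hga
  obtain ⟨t, hta, htb⟩ := K.two_trans K.hab (Ne.symm hca)
  have hdisj : Disjoint (Finset.univ.filter fun x : G => x • a = a)
      (Finset.univ.filter fun x : G => x • a = c) :=
    Finset.disjoint_filter.mpr fun x _ h1 h2 => hca (h2.symm.trans h1)
  rw [← Finset.sum_subset (Finset.subset_univ
    ((Finset.univ.filter fun x : G => x • a = a) ∪ (Finset.univ.filter fun x : G => x • a = c)))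
    fun x _ hx => ?_]
  · rw [Finset.sum_union hdisj, sum_coset _ (θ g) (one_smul G a) (fun x hx => ?_),
      sum_coset _ (θ g) (c := c) (g := t * w) (by rw [mul_smul, hwa, htb]) (fun x hx => ?_),
      ← mul_add, inv_mul_cancel_left₀ hB, two_mul]
    · have hm : x⁻¹ * (g : G) * x ∈ stabilizer G a := by
        rw [mem_stabilizer_iff, mul_smul, mul_smul, hx, hgc, inv_smul_eq_iff, hx]
      rw [extendByZero_of_mem _ _ hm]
      have hy : t⁻¹ * (g : G) * t ∈ stabilizer G a ⊓ stabilizer G b := Subgroup.mem_inf.mpr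
        ⟨by rw [mem_stabilizer_iff, mul_smul, mul_smul, hta, hga, inv_smul_eq_iff, hta],
         by rw [mem_stabilizer_iff, mul_smul, mul_smul, htb, hgc, inv_smul_eq_iff, htb]⟩
      have hz : w⁻¹ * (t⁻¹ * (g : G) * t) * w ∈ stabilizer G a ⊓ stabilizer G b := by
        obtain ⟨hya, hyb⟩ := Subgroup.mem_inf.mp hy
        rw [mem_stabilizer_iff] at hya hyb
        exact Subgroup.mem_inf.mpr
          ⟨by rw [mem_stabilizer_iff, mul_smul, mul_smul, hwa, hyb, inv_smul_eq_iff, hwa],
           by rw [mem_stabilizer_iff, mul_smul, mul_smul, hwb, hya, inv_smul_eq_iff, hwb]⟩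
      have hk : (w⁻¹ * t⁻¹ * x) • a = a := by
        rw [mul_smul, mul_smul, hx, ← htb, inv_smul_smul, inv_smul_eq_iff, hwa]
      have hm' : (w⁻¹ * t⁻¹ * x)⁻¹ * (w⁻¹ * (t⁻¹ * (g : G) * t) * w) * (w⁻¹ * t⁻¹ * x) ∈ stabilizer G a := by
        rw [show (w⁻¹ * t⁻¹ * x)⁻¹ * (w⁻¹ * (t⁻¹ * (g : G) * t) * w) * (w⁻¹ * t⁻¹ * x) =
          x⁻¹ * (g : G) * x by group]
        exact hm
      have e1 : (⟨x⁻¹ * (g : G) * x, hm⟩ : stabilizer G a) =
          ⟨(w⁻¹ * t⁻¹ * x)⁻¹ * (w⁻¹ * (t⁻¹ * (g : G) * t) * w) * (w⁻¹ * t⁻¹ * x), hm'⟩ :=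
        Subtype.ext (by group)
      rw [e1, hθconj _ hk _ (Subgroup.mem_inf.mp hz).1 hm']
      have e2 : θ ⟨w⁻¹ * (t⁻¹ * (g : G) * t) * w, (Subgroup.mem_inf.mp hz).1⟩ =
          θ ⟨t⁻¹ * (g : G) * t, (Subgroup.mem_inf.mp hy).1⟩ := by
        rw [hθdef]
        simp only
        rw [hπ ⟨w⁻¹ * (t⁻¹ * (g : G) * t) * w, (Subgroup.mem_inf.mp hz).1⟩ hz,
          hπ ⟨t⁻¹ * (g : G) * t, (Subgroup.mem_inf.mp hy).1⟩ hy]
        exact hξw _ _ rfl
      rw [e2]
      exact hθconj t hta g hga _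
    · have hm : x⁻¹ * (g : G) * x ∈ stabilizer G a := by
        rw [mem_stabilizer_iff, mul_smul, mul_smul, hx, hga, inv_smul_eq_iff, hx]
      rw [extendByZero_of_mem _ _ hm]
      exact hθconj x hx g hga hm
  · refine extendByZero_of_not_mem _ _ fun hm => hx ?_
    rw [mem_stabilizer_iff, mul_smul, mul_smul, inv_smul_eq_iff] at hm
    rw [Finset.mem_union, Finset.mem_filter, Finset.mem_filter]
    by_contra hc
    simp only [Finset.mem_univ, true_and, not_or] at hc
    exact hg1' (K.three (Ne.symm hca) (Ne.symm hc.2) (Ne.symm hc.1) hga hgc hm)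

/-- The character of degree `h - 1` is irreducible. -/
theorem psi_irr (K : ZDataKer G a b h e H) (hs : e + 1 = h) : Cfsg.IsIrrCharacter _ (psi H h a) := by
  classical
  haveI := Fintype.ofFinite (stabilizer G a)
  obtain ⟨w, hwa, hwb⟩ := K.two_trans K.hab K.hab.symm
  obtain ⟨π, hπ, hπH⟩ := exists_proj' K
  have h1 := indFun_res K π hπ hπH hwa hwb (fun _ => 1) (fun _ _ => rfl) (fun _ _ _ => rfl)
  rw [one_smul] at h1
  have hgen : Cfsg.IsGeneralizedCharacter _ (psi H h a) := by
    refine ⟨_, _, (IsCharacter.restrict (IsCharacter.indFun (stabilizer G a) isCharacter_one) (stabilizer G a)),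
      (IsCharacter.natCast_smul isCharacter_one 2), ?_⟩
    rw [h1]
    funext g
    simp
  have hsH : (Finset.univ.filter fun g : stabilizer G a => (g : G) ∈ H ∧ g ≠ 1).card + 1 = h := by
    have h1 : (Finset.univ.filter fun g : stabilizer G a => (g : G) ∈ H ∧ g ≠ 1) =
        (Finset.univ.filter fun g : stabilizer G a => g ∈ H.subgroupOf (stabilizer G a)).erase 1 := by
      ext g
      simp [Subgroup.mem_subgroupOf, and_comm]
    rw [h1, Finset.card_erase_add_one (by simp), ← Fintype.card_subtype, ← Nat.card_eq_fintype_card]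
    exact (Nat.card_congr (Subgroup.subgroupOfEquivOfLe K.hHa).toEquiv).trans K.hHcard
  have hnorm : Cfsg.classInner (psi H h a) (psi H h a) = 1 := by
    have hpt : ∀ g : stabilizer G a, psi H h a g * conj (psi H h a g) =
        (if g = 1 then ((h : ℂ) - 1) ^ 2 else 0) + if (g : G) ∈ H ∧ g ≠ 1 then 1 else 0 := by
      intro g
      unfold psi
      by_cases hg1 : g = 1
      · simp [hg1, pow_two, map_sub, map_natCast]
      · by_cases hgH : (g : G) ∈ H <;> simp [hg1, hgH]
    rw [Cfsg.classInner, Finset.sum_congr rfl fun g _ => hpt g, Finset.sum_add_distrib, Finset.sum_boole,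
      Finset.sum_ite_eq' Finset.univ (1 : stabilizer G a), if_pos (Finset.mem_univ _), K.card_stabilizer a]
    have hh : (h : ℂ) = (e : ℂ) + 1 := by exact_mod_cast hs.symm
    have hc : ((Finset.univ.filter fun g : stabilizer G a => (g : G) ∈ H ∧ g ≠ 1).card : ℂ) = (e : ℂ) := by
      have : (Finset.univ.filter fun g : stabilizer G a => (g : G) ∈ H ∧ g ≠ 1).card = e := by omega
      exact_mod_cast this
    rw [hc, Nat.cast_mul, hh]
    have he0 : (e : ℂ) ≠ 0 := by
      have := K.two_le_e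
      exact_mod_cast (show e ≠ 0 by omega)
    have he1 : (e : ℂ) + 1 ≠ 0 := by exact_mod_cast Nat.succ_ne_zero e
    field_simp
    ring
  obtain ⟨χ, hχ | hχ⟩ := IsGeneralizedCharacter.eq_pm_irr hgen hnorm
  · rw [hχ]; exact χ.2
  · exfalso
    obtain ⟨n, hn, hn1⟩ := IsIrrCharacter.exists_apply_one χ.2
    have h2 := congrFun hχ 1
    rw [Pi.neg_apply, hn1] at h2
    simp only [psi, if_true] at h2
    have h3 : ((h + n : ℕ) : ℂ) = ((1 : ℕ) : ℂ) := by push_cast; linear_combination h2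
    have := Nat.cast_injective h3
    have := K.one_lt_h
    omega

/-- A sharply triply transitive Zassenhaus group with two-point stabilizer of even order is not simple. -/
theorem not_simple_sharp [IsSimpleGroup G] (K : ZDataKer G a b h e H) (hs : e + 1 = h) (hev : Even e) :
    False := by
  classical
  set B := stabilizer G a with hBdef
  set D : Subgroup G := stabilizer G a ⊓ stabilizer G b with hDdef
  haveI := Fintype.ofFinite B
  obtain ⟨w, hwa, hwb⟩ := K.two_trans K.hab K.hab.symm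
  have hwD : ∀ x ∈ D, w⁻¹ * x * w ∈ D := by
    intro x hx
    obtain ⟨hxa, hxb⟩ := Subgroup.mem_inf.mp hx
    rw [mem_stabilizer_iff] at hxa hxb
    exact Subgroup.mem_inf.mpr
      ⟨by rw [mem_stabilizer_iff, mul_smul, mul_smul, hwa, hxb, inv_smul_eq_iff, hwa],
       by rw [mem_stabilizer_iff, mul_smul, mul_smul, hwb, hxa, inv_smul_eq_iff, hwb]⟩
  have hww : w * w ∈ D := Subgroup.mem_inf.mpr
    ⟨by rw [mem_stabilizer_iff, mul_smul, hwa, hwb], by rw [mem_stabilizer_iff, mul_smul, hwb, hwa]⟩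
  let φ₀ : D →* D :=
    { toFun := fun x => ⟨w⁻¹ * (x : G) * w, hwD x x.2⟩
      map_one' := Subtype.ext (by simp)
      map_mul' := fun y z => Subtype.ext (by simp [mul_assoc]) }
  have hφinj : Function.Injective φ₀ := fun y z hyz =>
    Subtype.ext (mul_left_cancel (mul_right_cancel (congrArg Subtype.val hyz)))
  let φ : D ≃* D := MulEquiv.ofBijective φ₀ ⟨hφinj, Finite.injective_iff_surjective.mp hφinj⟩
  obtain ⟨ξ, r, hξ, hξ1, hξr, hodd, hre, hfix⟩ := exists_fixed_odd_irr (D := D) (by rw [K.he]; exact hev) φ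
    (fun x => isConj_iff.mpr ⟨(⟨w * w, hww⟩ : D)⁻¹, Subtype.ext (by
      show (w * w)⁻¹ * (x : G) * ((w * w)⁻¹)⁻¹ = w⁻¹ * (w⁻¹ * (x : G) * w) * w
      simp [mul_assoc])⟩)
  rw [K.he] at hre
  obtain ⟨π, hπ, hπH⟩ := exists_proj' K
  have hres : (fun g : B => Cfsg.indFun B (fun g => ξ (π g)) (g : G)) =
      (2 : ℂ) • (fun g => ξ (π g)) + ξ 1 • psi H h a :=
    indFun_res K π hπ hπH hwa hwb ξ (IsCharacter.isClassFunction (IsIrrCharacter.isCharacter hξ)) (fun x y hxy => by
      rw [show y = φ x from Subtype.ext hxy]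
      exact hfix x)
  set θ₀ : B → ℂ := fun g => ξ (π g) with hθ₀
  have hπs : Function.Surjective π := fun x => ⟨⟨(x : G), (Subgroup.mem_inf.mp x.2).1⟩, hπ _ x.2⟩
  have hθirr : Cfsg.IsIrrCharacter B θ₀ := IsIrrCharacter.comp_surjective hξ π hπs
  set P := psi H h a with hPdef
  have hPirr : Cfsg.IsIrrCharacter B P := psi_irr K hs
  have hθ1 : θ₀ 1 = (r : ℂ) := by rw [hθ₀]; simp [hξr]
  have hr0 : 0 < r := hodd.pos
  obtain ⟨u, hu, hu1⟩ : ∃ u ∈ H, u ≠ 1 := by
    by_contra hno
    push Not at hno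
    have h0 : H = ⊥ := (Subgroup.eq_bot_iff_forall H).mpr hno
    have := K.hHcard
    rw [h0, Subgroup.card_bot] at this
    have := K.one_lt_h
    omega
  set u' : B := ⟨u, K.hHa hu⟩ with hu'
  have hu'1 : u' ≠ 1 := fun e' => hu1 (congrArg Subtype.val e')
  have hθu : θ₀ u' = (r : ℂ) := by
    rw [hθ₀]
    simp only
    rw [(hπH u').mpr hu, hξr]
  have hPu : P u' = -1 := by
    simp only [hPdef, psi]
    rw [if_neg hu'1, if_pos (show ((u' : B) : G) ∈ H from hu)]
  have hne : θ₀ ≠ P := fun e' => by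
    have h1 := congrFun e' u'
    rw [hθu, hPu] at h1
    have h2 : ((r + 1 : ℕ) : ℂ) = ((0 : ℕ) : ℂ) := by push_cast; linear_combination h1
    exact absurd (Nat.cast_injective h2) (Nat.succ_ne_zero r)
  set Φ := Cfsg.indFun B θ₀ with hΦ
  have hΦc : Cfsg.IsCharacter G Φ := IsCharacter.indFun B (IsIrrCharacter.isCharacter hθirr)
  have hnorm : Cfsg.classInner Φ Φ = 2 := by
    rw [hΦ, classInner_indFun B θ₀ (IsCharacter.isClassFunction hΦc), hres, classInner_add_right, classInner_smul_right,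
      classInner_smul_right, (IsIrrCharacter.classInner_self hθirr), IsIrrCharacter.classInner_ne hθirr hPirr hne]
    simp [map_ofNat]
  haveI : Fintype (Cfsg.IrrCharacter G) := Fintype.ofFinite _
  haveI : Fintype (Cfsg.IrrCharacter B) := Fintype.ofFinite _
  obtain ⟨m, hm, hmc⟩ := IsCharacter.exists_nat_decomp hΦc
  have hsum : ∑ χ, m χ ^ 2 = 2 := by
    have h1 : ∑ χ, (m χ : ℂ) * conj (m χ : ℂ) = 2 := by
      rw [← classInner_sum_sum, ← hm]
      exact hnorm
    have h2 : ((∑ χ, m χ ^ 2 : ℕ) : ℂ) = ((2 : ℕ) : ℂ) := by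
      push_cast
      rw [← h1]
      exact Finset.sum_congr rfl fun χ _ => by rw [map_natCast, pow_two]
    exact Nat.cast_injective h2
  have hle1 : ∀ χ, m χ ≤ 1 := by
    intro χ
    have h1 : m χ ^ 2 ≤ 2 :=
      (Finset.single_le_sum (fun x _ => Nat.zero_le (m x ^ 2)) (Finset.mem_univ χ)).trans hsum.le
    nlinarith
  have hcard : (Finset.univ.filter fun χ => m χ = 1).card = 2 := by
    rw [← hsum, Finset.card_filter]
    refine Finset.sum_congr rfl fun χ _ => ?_
    have := hle1 χ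
    interval_cases (m χ) <;> simp
  obtain ⟨χ₁, χ₂, h12, hS⟩ := Finset.card_eq_two.mp hcard
  have hm1 : ∀ χ ∈ ({χ₁, χ₂} : Finset (Cfsg.IrrCharacter G)), m χ = 1 := fun χ hχ => by
    rw [← hS] at hχ
    exact (Finset.mem_filter.mp hχ).2
  have hΦ2 : Φ = χ₁.1 + χ₂.1 := by
    rw [hm, ← Finset.sum_subset (Finset.subset_univ ({χ₁, χ₂} : Finset (Cfsg.IrrCharacter G))) fun χ _ hχ => ?_]
    · rw [Finset.sum_pair h12, hm1 χ₁ (by simp), hm1 χ₂ (by simp)]
      simp
    · rw [← hS, Finset.mem_filter] at hχ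
      have := hle1 χ
      have : m χ = 0 := by
        by_contra h0
        exact hχ ⟨Finset.mem_univ _, by omega⟩
      rw [this]
      simp
  -- the restriction of a constituent
  have hg : ∀ χ : Cfsg.IrrCharacter G, m χ = 1 →
      ∀ η : Cfsg.IrrCharacter B, ∃ k : ℕ,
        Cfsg.classInner ((fun x : B => χ.1 x) - θ₀) η.1 = k := by
    intro χ hχ η
    obtain ⟨k, hk⟩ := IsCharacter.exists_classInner_nat (IsCharacter.restrict (IsIrrCharacter.isCharacter χ.2) B) (IsIrrCharacter.isCharacter η.2)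
    rw [classInner_sub_left, hk]
    by_cases hη : θ₀ = η.1
    · refine ⟨0, ?_⟩
      have h1 : Cfsg.classInner (fun x : B => χ.1 x) θ₀ = 1 := by
        rw [IsCharacter.classInner_comm (IsCharacter.restrict (IsIrrCharacter.isCharacter χ.2) B) (IsIrrCharacter.isCharacter hθirr),
          ← classInner_indFun B θ₀ (IsCharacter.isClassFunction (IsIrrCharacter.isCharacter χ.2)), ← hΦ, hmc, hχ, Nat.cast_one]
      rw [← hk, ← hη, h1, (IsIrrCharacter.classInner_self hθirr)]
      simp
    · exact ⟨k, by rw [IsIrrCharacter.classInner_ne hθirr η.2 hη, sub_zero]⟩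
  choose k₁ hk₁ using hg χ₁ (hm1 χ₁ (by simp))
  choose k₂ hk₂ using hg χ₂ (hm1 χ₂ (by simp))
  have hadd : ((fun x : B => χ₁.1 x) - θ₀) + ((fun x : B => χ₂.1 x) - θ₀) = ξ 1 • P := by
    funext x
    have h1 := congrFun hres x
    rw [hΦ2] at h1
    simp only [Pi.add_apply, Pi.smul_apply, Pi.sub_apply, smul_eq_mul] at h1 ⊢
    linear_combination h1
  have hsum12 : ∀ η : Cfsg.IrrCharacter B, k₁ η + k₂ η = if η.1 = P then r else 0 := by
    intro η
    have h1 : ((k₁ η + k₂ η : ℕ) : ℂ) = ((if η.1 = P then r else 0 : ℕ) : ℂ) := by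
      push_cast
      rw [← hk₁ η, ← hk₂ η, ← classInner_add_left, hadd, classInner_smul_left, hξr]
      by_cases hη : η.1 = P
      · rw [if_pos hη, hη, (IsIrrCharacter.classInner_self hPirr), mul_one]
      · rw [if_neg hη, IsIrrCharacter.classInner_ne hPirr η.2 (Ne.symm hη), mul_zero]
    exact Nat.cast_injective h1
  let P' : Cfsg.IrrCharacter B := ⟨P, hPirr⟩
  have hform : ∀ (χ : Cfsg.IrrCharacter G) (k : Cfsg.IrrCharacter B → ℕ),
      (∀ η, Cfsg.classInner ((fun x : B => χ.1 x) - θ₀) η.1 = k η) → (∀ η, η ≠ P' → k η = 0) →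
        ∀ x : B, χ.1 x = θ₀ x + (k P' : ℂ) * P x := by
    intro χ k hk hk0 x
    have hcf : Cfsg.IsClassFunction B ((fun x : B => χ.1 x) - θ₀) :=
      IsClassFunction.sub (IsCharacter.isClassFunction (IsCharacter.restrict (IsIrrCharacter.isCharacter χ.2) B)) (IsCharacter.isClassFunction (IsIrrCharacter.isCharacter hθirr))
    have h1 : ((fun x : B => χ.1 x) - θ₀) = (k P' : ℂ) • P := by
      refine ext_classInner hcf (IsClassFunction.smul (IsCharacter.isClassFunction (IsIrrCharacter.isCharacter hPirr)) _) fun η => ?_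
      rw [hk η, classInner_smul_left]
      by_cases hη : η = P'
      · subst hη
        rw [(IsIrrCharacter.classInner_self hPirr), mul_one]
      · rw [hk0 η hη, IsIrrCharacter.classInner_ne hPirr η.2 (fun e' => hη (Subtype.ext e'.symm)), mul_zero, Nat.cast_zero]
    have h2 := congrFun h1 x
    simp only [Pi.sub_apply, Pi.smul_apply, smul_eq_mul] at h2
    linear_combination h2
  have hz : ∀ η, η ≠ P' → k₁ η = 0 ∧ k₂ η = 0 := fun η hη => by
    have := hsum12 η
    rw [if_neg (fun e' => hη (Subtype.ext e'))] at this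
    omega
  have hj : k₁ P' + k₂ P' = r := by
    have := hsum12 P'
    rwa [if_pos (show P'.1 = P from rfl)] at this
  have main : ∀ (χ : Cfsg.IrrCharacter G) (j : ℕ), j ≤ r → (∀ x : B, χ.1 x = θ₀ x + (j : ℂ) * P x) →
      j ≠ 0 ∧ (r < 2 * j → j ≠ r → False) := by
    intro χ j hjr hχ
    refine ⟨fun h0 => ?_, fun hlt hjne => ?_⟩
    · subst h0
      have h1 : χ.1 u = χ.1 1 := by
        have e1 := hχ u'
        have e2 := hχ 1
        rw [hθu] at e1
        rw [hθ1] at e2
        simp only [Nat.cast_zero, zero_mul, add_zero, Subgroup.coe_one] at e1 e2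
        rw [e2]
        exact e1
      by_cases hne' : ∃ g, χ.1 g ≠ χ.1 1
      · exact hu1 (IsCharacter.eq_one_of_isSimpleGroup (IsIrrCharacter.isCharacter χ.2) hne' h1)
      · push Not at hne'
        have h3 : χ.1 = fun _ => 1 := by
          by_contra hne1
          obtain ⟨g, hg⟩ := IsIrrCharacter.exists_ne_apply_one χ.2 hne1
          exact hg (hne' g)
        refine hξ1 (funext fun x => ?_)
        obtain ⟨y, rfl⟩ := hπs x
        have e1 := hχ y
        rw [congrFun h3 (y : G)] at e1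
        simp only [hθ₀, Nat.cast_zero, zero_mul, add_zero] at e1
        exact e1.symm
    · obtain ⟨d, -, hd1, hdvd⟩ := IsIrrCharacter.exists_degree_dvd χ.2
      have hd : d = r + j * e := by
        have e2 := hχ 1
        rw [hθ1] at e2
        simp only [hPdef, psi, if_true, Subgroup.coe_one, hd1, ← hs] at e2
        push_cast at e2
        have h2 : ((d : ℕ) : ℂ) = ((r + j * e : ℕ) : ℂ) := by push_cast; linear_combination e2
        exact Nat.cast_injective h2
      haveI := K.isPretransitive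
      rw [← (stabilizer G a).index_mul_card, MulAction.index_stabilizer_of_transitive,
        Nat.card_eq_fintype_card, K.hh, K.card_stabilizer a, ← hs] at hdvd
      exact degree_bound hd hdvd (by omega) hlt hre
  have h1 := main χ₁ (k₁ P') (by omega) (hform χ₁ k₁ hk₁ fun η hη => (hz η hη).1)
  have h2 := main χ₂ (k₂ P') (by omega) (hform χ₂ k₂ hk₂ fun η hη => (hz η hη).2)
  obtain ⟨i, hi⟩ := hodd
  have := h1.1
  have := h2.1
  rcases Nat.lt_or_ge r (2 * k₁ P') with h | h
  · exact h1.2 h (by omega)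
  · exact h2.2 (by omega) (by omega)

end Cfsg.Agent.Lib.OddLocal.ZassPSL
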