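import Cfsg.Agent.Lib.OddLocal.CNMinimal
import Cfsg.Agent.Lib.Transfer.AbelianSylow
import Cfsg.Agent.Lib.Transfer.Frobenius

/-! The maximal subgroups of a minimal simple CN-group of odd order. -/

set_option autoImplicit false

open Pointwise
open scoped commutatorElement

namespace Cfsg.Agent.Lib.OddLocal

universe u

variable {G : Type u} [Group G] [Finite G] (hG : Cfsg.IsMinSimpleOddOrder G) (hCN : Cfsg.IsCNGroup G)

include hG

omit [Finite G] hG in
theorem le_normalizer_fittingHallOf (M : Subgroup G) :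
    M ≤ Subgroup.normalizer (Cfsg.fittingHallOf M : Set G) := by
  refine le_normalizer_of_conj_mem' fun m hm n hn => ?_
  obtain ⟨w, hw, rfl⟩ := hn
  exact ⟨⟨m, hm⟩ * w * ⟨m, hm⟩⁻¹, (inferInstance : (Cfsg.fittingHall M).Normal).conj_mem w hw _, rfl⟩

include hCN

/-- Every proper subgroup with `O_p ≠ 1` normalises a Sylow subgroup. -/
theorem exists_le_normalizer_sylow {X : Subgroup G} (hX : X ≠ ⊤) {p : ℕ} [Fact p.Prime]
    (hp : Cfsg.pCore p X ≠ ⊥) :
    ∃ S : Sylow p G, p ∣ Nat.card G ∧ X ≤ Subgroup.normalizer ((S : Subgroup G) : Set G) := by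
  obtain ⟨R⟩ : Nonempty (Sylow p X) := inferInstance
  obtain ⟨S, -, hS⟩ := exists_le_puigLocal hG hCN hX hp R
  have hpG : p ∣ Nat.card G := by
    obtain ⟨j, hj⟩ := IsPGroup.iff_card.mp (Cfsg.Agent.Lib.Cores.pCore_isPGroup p X)
    have hj0 : j ≠ 0 := fun e => hp (Subgroup.card_eq_one.mp (by rw [hj, e, pow_zero]))
    exact ((dvd_pow_self p hj0).trans (hj ▸ Subgroup.card_subgroup_dvd_card _)).trans
      (Subgroup.card_subgroup_dvd_card X)
  exact ⟨S, hpG, (puigLocal_eq_normalizer hG hCN S hpG) ▸ hS⟩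

theorem exists_eq_normalizer_of_coatom {M : Subgroup G} (hM : IsCoatom M) (hMb : M ≠ ⊥) :
    ∃ (p : ℕ) (_ : Fact p.Prime) (S : Sylow p G), p ∣ Nat.card G ∧
      M = Subgroup.normalizer ((S : Subgroup G) : Set G) := by
  have : Nontrivial M := (Subgroup.nontrivial_iff_ne_bot M).mpr hMb
  have : Group.IsSolvable M := hG.2.2.2 M hM.1
  obtain ⟨p, Q, hp, hQn, hQ, -, hQp, -⟩ :=
    Cfsg.Agent.Lib.Coprime.exists_normal_isPGroup_isMulCommutative M
  have := Fact.mk hp
  obtain ⟨S, hpG, hS⟩ := exists_le_normalizer_sylow hG hCN hM.1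
    (fun e => hQ (le_bot_iff.mp (e ▸ Cfsg.Agent.Lib.Cores.le_pCore hQn hQp)))
  refine ⟨p, ‹_›, S, hpG, ?_⟩
  by_contra hne
  refine normalizer_ne_top hG (S.ne_bot_of_dvd_card hpG) (eq_top_of_isPGroup_absurd hG S.isPGroup') ?_
  exact hM.2 _ (lt_of_le_of_ne hS hne)

omit hCN in
theorem ne_bot_of_coatom {M : Subgroup G} (hM : IsCoatom M) : M ≠ ⊥ := by
  rintro rfl
  have hsimp : IsSimpleGroup G := hG.2.1
  obtain ⟨x, hx⟩ := exists_ne (1 : G)
  have h1 : Subgroup.zpowers x ≠ ⊥ := fun e => hx (Subgroup.zpowers_eq_bot.mp e)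
  have h2 := hM.2 _ (bot_lt_iff_ne_bot.mpr h1)
  apply hG.2.2.1
  refine ⟨⟨fun a b => ?_⟩⟩
  obtain ⟨i, rfl⟩ := Subgroup.mem_zpowers_iff.mp (h2 ▸ Subgroup.mem_top a : a ∈ Subgroup.zpowers x)
  obtain ⟨j, rfl⟩ := Subgroup.mem_zpowers_iff.mp (h2 ▸ Subgroup.mem_top b : b ∈ Subgroup.zpowers x)
  exact (Commute.refl x).zpow_zpow i j

omit hG hCN in
theorem commutator_quotient_eq_top {L : Type u} [Group L] (K : Subgroup L) [K.Normal]
    {R : Subgroup L} (hR : R ⊔ K = ⊤) (hc : R ≤ commutator L) : commutator (L ⧸ K) = ⊤ := by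
  rw [← top_le_iff, ← Subgroup.map_top_of_surjective _ (QuotientGroup.mk'_surjective K), ← hR,
    Subgroup.map_sup, QuotientGroup.map_mk'_self, sup_bot_eq]
  refine (Subgroup.map_mono hc).trans ?_
  rw [commutator_def, commutator_def, Subgroup.map_commutator]
  exact Subgroup.commutator_mono le_top le_top

/-- The structure of the normaliser of a Sylow subgroup. -/
theorem normalizer_structure {p : ℕ} [Fact p.Prime] (S : Sylow p G) (hpG : p ∣ Nat.card G) :
    let M := Subgroup.normalizer ((S : Subgroup G) : Set G)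
    M ≠ ⊤ ∧ (S : Subgroup G) ≤ Cfsg.fittingHallOf M ∧ ⁅M, M⁆ ≤ Cfsg.fittingHallOf M ∧
      ∃ E : Subgroup G, E ≠ ⊥ ∧ Cfsg.IsComplIn (Cfsg.fittingHallOf M) E M ∧
        ∀ e ∈ E, e ≠ 1 → Cfsg.fittingHallOf M ⊓ Subgroup.centralizer ({e} : Set G) = ⊥ := by
  intro M
  have hSne : (S : Subgroup G) ≠ ⊥ := S.ne_bot_of_dvd_card hpG
  have hMtop : M ≠ ⊤ := normalizer_ne_top hG hSne (eq_top_of_isPGroup_absurd hG S.isPGroup')
  have hSM : (S : Subgroup G) ≤ M := Subgroup.le_normalizer
  set R := S.subtype hSM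
  have hRn : (R : Subgroup M).Normal := by
    rw [S.coe_subtype]
    exact Subgroup.normal_subgroupOf_of_le_normalizer le_rfl
  have hRne : (R : Subgroup M) ≠ ⊥ := by
    rw [S.coe_subtype, Ne, Subgroup.subgroupOf_eq_bot, disjoint_iff, inf_eq_left.mpr hSM]
    exact hSne
  have hRc : (R : Subgroup M) ≤ commutator M := by
    have h1 := sylow_le_commutator_puigLocal hG hCN S
    rw [puigLocal_eq_normalizer hG hCN S hpG] at h1
    intro y hy
    have hy' : (y : G) ∈ (⁅M, M⁆ : Subgroup G) := h1 (Subgroup.mem_subgroupOf.mp hy)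
    rw [← Subgroup.map_subtype_commutator] at hy'
    obtain ⟨z, hz, hzy⟩ := hy'
    exact Subtype.ext hzy ▸ hz
  have hsolv : Group.IsSolvable M := hG.2.2.2 M hMtop
  have hnn : ¬ Group.IsNilpotent M := by
    intro hn
    set K := Cfsg.pPrimeCore p M
    have hsup : (R : Subgroup M) ⊔ K = ⊤ := by
      rw [← Subgroup.index_eq_one]
      refine Nat.eq_one_iff_not_exists_prime_dvd.mpr fun q hq hd => ?_
      have := Fact.mk hq
      by_cases hqp : q = p
      · subst hqp
        exact R.not_dvd_index (hd.trans (Subgroup.index_dvd_of_le le_sup_left))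
      · obtain ⟨Q⟩ : Nonempty (Sylow q M) := inferInstance
        have hQn : (Q : Subgroup M).Normal :=
          Sylow.normal_of_normalizerCondition (Group.normalizerCondition_of_isNilpotent) Q
        refine Q.not_dvd_index (hd.trans (Subgroup.index_dvd_of_le
          ((Cfsg.Agent.Lib.Cores.le_pPrimeCore hQn ?_).trans le_sup_right)))
        obtain ⟨j, hj⟩ := IsPGroup.iff_card.mp Q.isPGroup'
        rw [hj]
        exact Nat.Coprime.pow_left j ((Nat.coprime_primes hq Fact.out).mpr hqp)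
    have htop := commutator_quotient_eq_top K hsup hRc
    have : Subsingleton (M ⧸ K) := by
      by_contra hns
      rw [not_subsingleton_iff_nontrivial] at hns
      exact (Group.IsSolvable.commutator_lt_top_of_nontrivial (M ⧸ K)).ne htop
    have hKtop : K = ⊤ := Subgroup.index_eq_one.mp (by
      rw [Subgroup.index_eq_card]; exact Nat.card_of_subsingleton (1 : M ⧸ K))
    have hcK : (Nat.card K).Coprime p := Cfsg.Agent.Lib.Cores.pPrimeCore_coprime p M
    rw [hKtop, Subgroup.card_top] at hcK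
    obtain ⟨j, hj⟩ := IsPGroup.iff_card.mp R.isPGroup'
    have hj0 : j ≠ 0 := fun e => hRne (Subgroup.card_eq_one.mp (by rw [hj, e, pow_zero]))
    exact (Fact.out : p.Prime).not_dvd_one (hcK ▸ Nat.dvd_gcd
      ((dvd_pow_self p hj0).trans (hj ▸ Subgroup.card_subgroup_dvd_card _)) dvd_rfl)
  obtain ⟨hb, ht, ⟨E₀, hE, -, hfix⟩, hq⟩ :=
    Cfsg.Agent.S1474.result (isCNGroup_subgroup hCN M) hnn p R hRne hRn
  set H₀ := Cfsg.fittingHall M
  have hEn : Group.IsNilpotent E₀ := Group.nilpotent_of_mulEquiv hE.symm.QuotientMulEquiv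
  have : Nontrivial H₀ := (Subgroup.nontrivial_iff_ne_bot H₀).mpr hb
  let φ : E₀ →* MulAut H₀ := (MulAut.conjNormal (H := H₀)).comp E₀.subtype
  have hEcyc : IsCyclic E₀ := by
    rcases nilpotent_fixedPointFree_structure hEn φ (fun a ha v hv => by
      have h1 : (v : M) ∈ H₀ ⊓ Subgroup.centralizer ({(a : M)} : Set M) :=
        ⟨v.2, Subgroup.mem_centralizer_singleton_iff.mpr
          (mul_inv_eq_iff_eq_mul.mp (congrArg Subtype.val hv)).symm⟩
      rw [hfix a a.2 (fun h => ha (Subtype.ext h)), Subgroup.mem_bot] at h1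
      exact Subtype.ext h1) with h | ⟨C, Q, hCQ, -, -, -, n, ⟨e⟩⟩
    · exact h
    · exfalso
      have h1 : 2 ∣ Nat.card Q := by
        rw [Nat.card_congr e.toEquiv, Nat.card_eq_fintype_card, QuaternionGroup.card]
        exact ⟨2 * 2 ^ n, by ring⟩
      exact Nat.not_even_iff_odd.mpr hG.1 (even_iff_two_dvd.mpr
        ((h1.trans (Subgroup.card_subgroup_dvd_card Q)).trans (Subgroup.card_subgroup_dvd_card M)))
  have hcomm : commutator M ≤ H₀ := by
    refine Subgroup.Normal.quotient_commutative_iff_commutator_le.mp ?_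
    have : IsCyclic (M ⧸ H₀) := isCyclic_of_surjective hE.symm.QuotientMulEquiv.symm
      hE.symm.QuotientMulEquiv.symm.surjective
    exact IsCyclic.isMulCommutative
  refine ⟨hMtop, ?_, ?_, E₀.map M.subtype, ?_, ⟨?_, ?_, ?_, ?_⟩, ?_⟩
  · rw [← Subgroup.map_subgroupOf_eq_of_le hSM, ← S.coe_subtype hSM]
    exact Subgroup.map_mono (hRc.trans hcomm)
  · rw [← Subgroup.map_subtype_commutator]
    exact Subgroup.map_mono hcomm
  · intro e
    rw [Subgroup.map_eq_bot_iff, Subgroup.ker_subtype, le_bot_iff] at e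
    apply ht
    have h1 := hE.sup_eq_top
    rwa [e, sup_bot_eq] at h1
  · exact Subgroup.map_subtype_le _
  · exact Subgroup.map_subtype_le _
  · rw [Cfsg.fittingHallOf, ← Subgroup.map_inf _ _ _ M.subtype_injective, hE.disjoint.eq_bot,
      Subgroup.map_bot]
  · intro m hm
    obtain ⟨⟨a, b⟩, hab⟩ := hE.2 ⟨m, hm⟩
    exact ⟨(a : M), ⟨a, a.2, rfl⟩, (b : M), ⟨b, b.2, rfl⟩, (congrArg Subtype.val hab).symm⟩
  · rintro _ ⟨e, he, rfl⟩ he1
    refine (Subgroup.eq_bot_iff_forall _).mpr ?_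
    rintro _ ⟨⟨w, hw, rfl⟩, hwc⟩
    have h1 : w ∈ H₀ ⊓ Subgroup.centralizer ({e} : Set M) :=
      ⟨hw, Subgroup.mem_centralizer_singleton_iff.mpr
        (Subtype.ext (Subgroup.mem_centralizer_singleton_iff.mp hwc))⟩
    rw [hfix e he (fun h => he1 (by rw [h]; rfl)), Subgroup.mem_bot] at h1
    rw [h1]; rfl

/-- The normaliser of a Sylow subgroup is maximal. -/
theorem isCoatom_normalizer_sylow {p : ℕ} [Fact p.Prime] (S : Sylow p G) (hpG : p ∣ Nat.card G) :
    IsCoatom (Subgroup.normalizer ((S : Subgroup G) : Set G)) := by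
  have hne := (normalizer_structure hG hCN S hpG).1
  obtain ⟨M, hM, hle⟩ := exists_coatom_ge_cn hG hne
  obtain ⟨q, hq, T, hqG, hMT⟩ := exists_eq_normalizer_of_coatom hG hCN hM (ne_bot_of_coatom hG hM)
  obtain ⟨-, hTH, hMH, -⟩ := normalizer_structure hG hCN T hqG
  rw [← hMT] at hTH hMH
  have hSM : (S : Subgroup G) ≤ M := Subgroup.le_normalizer.trans hle
  by_cases hpH : p ∣ Nat.card (Cfsg.fittingHallOf M)
  · -- `S` is then normal in `M`
    set R := S.subtype hSM
    obtain ⟨hHn, hHc⟩ := fittingHall_spec (G := M)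
    have hcard : Nat.card (Cfsg.fittingHallOf M) = Nat.card (Cfsg.fittingHall M) :=
      (Nat.card_congr ((Cfsg.fittingHall M).equivMapOfInjective M.subtype M.subtype_injective).toEquiv).symm
    rw [hcard] at hpH
    have hidx : ¬ p ∣ (Cfsg.fittingHall M).index := fun h =>
      (Fact.out : p.Prime).not_dvd_one (hHc ▸ Nat.dvd_gcd hpH h)
    obtain ⟨Q⟩ : Nonempty (Sylow p (Cfsg.fittingHall M)) := inferInstance
    have hQn : (Q : Subgroup (Cfsg.fittingHall M)).Normal :=
      Sylow.normal_of_normalizerCondition (Group.normalizerCondition_of_isNilpotent) Q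
    set Q' := (Q : Subgroup (Cfsg.fittingHall M)).map (Cfsg.fittingHall M).subtype
    have hQ'c : Q' ≤ Cfsg.pCore p M :=
      (Subgroup.map_mono (Cfsg.Agent.Lib.Cores.le_pCore hQn Q.isPGroup')).trans
        (Cfsg.Agent.Lib.Cores.map_subtype_pCore_le _)
    have hi : ¬ p ∣ Q'.index := by
      rw [Subgroup.index_map_subtype]
      exact fun h => ((Fact.out : p.Prime).dvd_mul.mp h).elim Q.not_dvd_index hidx
    have heq : Cfsg.pCore p M = (R : Subgroup M) := by
      refine Subgroup.eq_of_le_of_card_ge (Cfsg.Agent.Lib.Cores.pCore_le_sylow R) ?_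
      obtain ⟨j, hj⟩ := IsPGroup.iff_card.mp R.isPGroup'
      have h1 : Nat.card (R : Subgroup M) ∣ Nat.card Q' * Q'.index := by
        rw [Q'.card_mul_index]; exact Subgroup.card_subgroup_dvd_card _
      rw [hj] at h1 ⊢
      exact (Nat.le_of_dvd Nat.card_pos ((Nat.Coprime.pow_left j
        ((Fact.out : p.Prime).coprime_iff_not_dvd.mpr hi)).dvd_of_dvd_mul_right h1)).trans
        (Subgroup.card_le_of_le hQ'c)
    have hRn : (R : Subgroup M).Normal := heq ▸ inferInstance
    have hMN : M ≤ Subgroup.normalizer ((S : Subgroup G) : Set G) := fun m hm => by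
      rw [← Subgroup.map_subgroupOf_eq_of_le hSM, ← S.coe_subtype hSM]
      exact Subgroup.le_normalizer_map _ ⟨⟨m, hm⟩, by
        rw [SetLike.mem_coe, @Subgroup.normalizer_eq_top _ _ _ hRn]; trivial, rfl⟩
    exact (le_antisymm hMN hle).symm ▸ hM
  · exfalso
    have hNC : Subgroup.normalizer ((S : Subgroup G) : Set G) ≤
        Subgroup.centralizer ((S : Subgroup G) : Set G) := by
      intro n hn
      refine Subgroup.mem_centralizer_iff.mpr fun s hs => ?_
      have h1 : ⁅n, s⁆ ∈ Cfsg.fittingHallOf M :=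
        hMH (Subgroup.commutator_mem_commutator (hle hn) (hSM hs))
      have h2 : ⁅n, s⁆ ∈ (S : Subgroup G) :=
        Subgroup.mul_mem _ ((Subgroup.mem_normalizer_iff.mp hn s).mp hs) (inv_mem hs)
      obtain ⟨j, hj⟩ := exists_orderOf_pow_of_mem S.isPGroup' h2
      have h3 : orderOf ⁅n, s⁆ ∣ Nat.card (Cfsg.fittingHallOf M) := by
        rw [show orderOf ⁅n, s⁆ = orderOf (⟨_, h1⟩ : Cfsg.fittingHallOf M) from Subgroup.orderOf_coe ⟨_, h1⟩]
        exact orderOf_dvd_natCard _
      rcases Nat.eq_zero_or_pos j with rfl | hjp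
      · rw [pow_zero, orderOf_eq_one_iff, commutatorElement_eq_one_iff_mul_comm] at hj
        exact hj.symm
      · exact absurd ((dvd_pow_self p hjp.ne').trans (hj ▸ h3)) hpH
    have hsimp : IsSimpleGroup G := hG.2.1
    have hpg := Cfsg.Agent.Lib.Transfer.isPGroup_of_simple
      (Cfsg.Agent.Lib.Transfer.hasNormalPComplement_of_normalizer_le_centralizer S hNC) hpG
    exact eq_top_of_isPGroup_absurd hG (hpg.to_subgroup ⊤) rfl

/-- A nilpotent subgroup containing a Sylow subgroup lies in `H = (N_G(S))_F`. -/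
theorem le_fittingHallOf_of_nilpotent {p : ℕ} [Fact p.Prime] (S : Sylow p G) (hpG : p ∣ Nat.card G)
    {L : Subgroup G} (hL : Group.IsNilpotent L) (hSL : (S : Subgroup G) ≤ L) :
    L ≤ Cfsg.fittingHallOf (Subgroup.normalizer ((S : Subgroup G) : Set G)) := by
  set M := Subgroup.normalizer ((S : Subgroup G) : Set G)
  have hSn : ((S : Subgroup G).subgroupOf L).Normal := by
    rw [← S.coe_subtype hSL]
    exact Sylow.normal_of_normalizerCondition (Group.normalizerCondition_of_isNilpotent) _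
  have hLM : L ≤ M := by
    have := normal_subgroupOf_eq hSn
    rwa [inf_eq_left.mpr hSL] at this
  obtain ⟨-, hSH, -, E, -, ⟨hHM, hEM, -, hprod⟩, hfix⟩ := normalizer_structure hG hCN S hpG
  have hne : (S : Subgroup G).subgroupOf L ≠ ⊥ := by
    rw [Ne, Subgroup.subgroupOf_eq_bot, disjoint_iff, inf_eq_left.mpr hSL]
    exact S.ne_bot_of_dvd_card hpG
  obtain ⟨z, hz, hz1⟩ := exists_center_ne_one.exists_ne_one_of_ne_bot
    (Cfsg.Agent.Lib.Solvable.inf_center_ne_bot hne)
  set H := Cfsg.fittingHallOf M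
  intro y hy
  obtain ⟨h, hh, e, he, rfl⟩ := hprod y (hLM hy)
  by_cases he1 : e = 1
  · rw [he1, mul_one]; exact hh
  exfalso
  let f : H → H := fun m => ⟨(m : G) * (e * (m : G)⁻¹ * e⁻¹),
    H.mul_mem m.2 ((Subgroup.mem_normalizer_iff.mp (le_normalizer_fittingHallOf M (hEM he)) _).mp
      (H.inv_mem m.2))⟩
  have hf : Function.Injective f := by
    intro a b hab
    have hab' : (a : G) * (e * (a : G)⁻¹ * e⁻¹) = b * (e * (b : G)⁻¹ * e⁻¹) := congrArg Subtype.val hab
    have hc : ((b : G)⁻¹ * a) * e = e * ((b : G)⁻¹ * a) := by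
      have := congrArg (fun t => (b : G)⁻¹ * t * (e * a)) hab'
      simp only [mul_assoc, inv_mul_cancel_left, inv_mul_cancel, mul_one] at this ⊢
      exact this
    have h1 : (b : G)⁻¹ * a ∈ H ⊓ Subgroup.centralizer ({e} : Set G) :=
      ⟨H.mul_mem (H.inv_mem b.2) a.2, Subgroup.mem_centralizer_singleton_iff.mpr hc⟩
    rw [hfix e he he1, Subgroup.mem_bot] at h1
    exact Subtype.ext (inv_mul_eq_one.mp h1).symm
  obtain ⟨m, hm⟩ := Finite.surjective_of_injective hf ⟨h, hh⟩
  have hm' : (m : G) * (e * (m : G)⁻¹ * e⁻¹) = h := congrArg Subtype.val hm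
  have hzy : h * e * z = z * (h * e) :=
    congrArg Subtype.val (Subgroup.mem_center_iff.mp hz.2 ⟨h * e, hy⟩)
  have hy' : h * e = m * e * (m : G)⁻¹ := by rw [← hm']; group
  rw [hy'] at hzy
  have hmem : (m : G)⁻¹ * z * m ∈ H ⊓ Subgroup.centralizer ({e} : Set G) := by
    refine ⟨H.mul_mem (H.mul_mem (H.inv_mem m.2) (hSH hz.1)) m.2,
      Subgroup.mem_centralizer_singleton_iff.mpr ?_⟩
    have := congrArg (fun t => (m : G)⁻¹ * t * m) hzy
    simp only [mul_assoc, inv_mul_cancel_left, inv_mul_cancel, mul_one] at this ⊢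
    exact this.symm
  rw [hfix e he he1, Subgroup.mem_bot] at hmem
  refine hz1 (Subtype.ext ?_)
  have := congrArg (fun t => (m : G) * t * (m : G)⁻¹) hmem
  simpa [mul_assoc] using this

theorem fittingHallOf_maxNilpotent {p : ℕ} [Fact p.Prime] (S : Sylow p G) (hpG : p ∣ Nat.card G) :
    Group.IsNilpotent (Cfsg.fittingHallOf (Subgroup.normalizer ((S : Subgroup G) : Set G))) ∧
    ∀ L : Subgroup G, Group.IsNilpotent L →
      Cfsg.fittingHallOf (Subgroup.normalizer ((S : Subgroup G) : Set G)) ≤ L →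
      L = Cfsg.fittingHallOf (Subgroup.normalizer ((S : Subgroup G) : Set G)) := by
  refine ⟨?_, fun L hL hle => le_antisymm ?_ hle⟩
  · have := (fittingHall_spec (G := Subgroup.normalizer ((S : Subgroup G) : Set G))).1
    exact Cfsg.Agent.Lib.Cores.isNilpotent_map _ _
  · exact le_fittingHallOf_of_nilpotent hG hCN S hpG hL ((normalizer_structure hG hCN S hpG).2.1.trans hle)

/-- Maximal nilpotent subgroups are the kernels of the Sylow normalisers. -/
theorem maxNilpotent_eq {H : Subgroup G} (hH : Group.IsNilpotent H)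
    (hmax : ∀ L : Subgroup G, Group.IsNilpotent L → H ≤ L → L = H) :
    H ≠ ⊥ ∧ ∀ (p : ℕ) [Fact p.Prime], p ∣ Nat.card H → ∃ S : Sylow p G, p ∣ Nat.card G ∧
      (S : Subgroup G) ≤ H ∧ H = Cfsg.fittingHallOf (Subgroup.normalizer ((S : Subgroup G) : Set G)) := by
  refine ⟨fun e => ?_, fun p _ hp => ?_⟩
  · have hsimp : IsSimpleGroup G := hG.2.1
    obtain ⟨x, hx⟩ := exists_ne (1 : G)
    have hxn : Group.IsNilpotent (Subgroup.zpowers x) :=
      Cfsg.Agent.Lib.Cores.isNilpotent_of_isMulCommutative _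
    exact hx (Subgroup.zpowers_eq_bot.mp ((hmax _ hxn (e ▸ bot_le)).trans e))
  · have hpG : p ∣ Nat.card G := hp.trans (Subgroup.card_subgroup_dvd_card H)
    obtain ⟨P⟩ : Nonempty (Sylow p H) := inferInstance
    set P' := (P : Subgroup H).map H.subtype
    obtain ⟨S, hS⟩ := (P.isPGroup'.map H.subtype).exists_le_sylow
    have hidx : ¬ p ∣ P'.index := by
      rw [Subgroup.index_map_subtype]
      exact fun h => ((Fact.out : p.Prime).dvd_mul.mp h).elim P.not_dvd_index fun h2 =>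
        (Fact.out : p.Prime).not_dvd_one
          ((coprime_index_of_maxNilpotent hCN hH hmax) ▸ Nat.dvd_gcd hp h2)
    have hSH : (S : Subgroup G) ≤ H := by
      obtain ⟨j, hj⟩ := IsPGroup.iff_card.mp S.isPGroup'
      have h1 : Nat.card (S : Subgroup G) ∣ Nat.card P' * P'.index := by
        rw [P'.card_mul_index]; exact Subgroup.card_subgroup_dvd_card _
      rw [hj] at h1
      have h2 := Nat.le_of_dvd Nat.card_pos ((Nat.Coprime.pow_left j
        ((Fact.out : p.Prime).coprime_iff_not_dvd.mpr hidx)).dvd_of_dvd_mul_right h1)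
      rw [Subgroup.eq_of_le_of_card_ge hS (hj ▸ h2) |>.symm]
      exact Subgroup.map_subtype_le _
    refine ⟨S, hpG, hSH, ?_⟩
    exact (hmax _ (fittingHallOf_maxNilpotent hG hCN S hpG).1
      (le_fittingHallOf_of_nilpotent hG hCN S hpG hH hSH)).symm

theorem maxNilpotent_ti {H : Subgroup G} (hH : Group.IsNilpotent H)
    (hmax : ∀ L : Subgroup G, Group.IsNilpotent L → H ≤ L → L = H) (g : G)
    (hg : H.map (MulAut.conj g).toMonoidHom ≠ H) :
    H ⊓ H.map (MulAut.conj g).toMonoidHom = ⊥ := by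
  by_contra hinf
  obtain ⟨p, hp, hpd⟩ := Nat.exists_prime_and_dvd (mt Subgroup.card_eq_one.mp hinf)
  have := Fact.mk hp
  obtain ⟨⟨x, hxH, y, hy, hyx⟩, hx⟩ := exists_prime_orderOf_dvd_card' p hpd
  rw [← Subgroup.orderOf_coe] at hx
  replace hx : orderOf x = p := hx
  obtain ⟨S, hpG, hSH, hHeq⟩ := (maxNilpotent_eq hG hCN hH hmax).2 p
    (hpd.trans (Subgroup.card_dvd_of_le inf_le_left))
  have hmem : ∀ w ∈ H, orderOf w = p → w ∈ (S : Subgroup G) := by
    intro w hw hwo
    have hSn : ((S.subtype hSH : Sylow p H) : Subgroup H).Normal :=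
      Sylow.normal_of_normalizerCondition (Group.normalizerCondition_of_isNilpotent) _
    have : Subsingleton (Sylow p H) := (Sylow.unique_of_normal _ hSn).instSubsingleton
    obtain ⟨T, hT⟩ := (IsPGroup.of_card (n := 1)
      (show Nat.card (Subgroup.zpowers (⟨w, hw⟩ : H)) = p ^ 1 by
        rw [Nat.card_zpowers, ← Subgroup.orderOf_coe, pow_one]; exact hwo)).exists_le_sylow
    have h := hT (Subgroup.mem_zpowers _)
    rw [Subsingleton.elim T (S.subtype hSH), S.coe_subtype] at h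
    exact h
  have hxS : x ∈ (S : Subgroup G) := hmem x hxH hx
  have hxg : x ∈ ((g • S : Sylow p G) : Subgroup G) := by
    rw [Sylow.coe_subgroup_smul, Cfsg.Agent.Lib.Coprime.mem_conj_smul]
    rw [← hyx]
    have hyo : orderOf y = p := by
      rw [← hx, ← hyx]
      exact (orderOf_injective (MulAut.conj g).toMonoidHom (MulAut.conj g).injective y).symm
    simpa [mul_assoc] using hmem y hy hyo
  have hx1 : x ≠ 1 := fun e => hp.ne_one (by rw [← hx, e, orderOf_one])
  have he := puigLocal_eq_of_inf_ne_bot hG hCN S (g • S)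
    (fun e => hx1 (Subgroup.mem_bot.mp (e ▸ ⟨hxS, hxg⟩)))
  rw [puigLocal_eq_normalizer hG hCN S hpG, puigLocal_eq_normalizer hG hCN (g • S) hpG] at he
  have hgS : g • S = S := by
    have hle : ((g • S : Sylow p G) : Subgroup G) ≤ Subgroup.normalizer ((S : Subgroup G) : Set G) :=
      he ▸ Subgroup.le_normalizer
    refine Sylow.ext (S.is_maximal' ((g • S).isPGroup'.to_sup_of_normal_right' S.isPGroup' hle) le_sup_right ▸
      (Subgroup.eq_of_le_of_card_ge le_sup_left ?_))
    have hs := S.is_maximal' ((g • S).isPGroup'.to_sup_of_normal_right' S.isPGroup' hle) le_sup_right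
    rw [hs, (g • S).card_eq_multiplicity, S.card_eq_multiplicity]
  apply hg
  have hN : g ∈ Subgroup.normalizer ((S : Subgroup G) : Set G) :=
    Cfsg.Agent.Lib.Coprime.mem_normalizer_of_conj_smul_eq (by
      have := congrArg (fun T : Sylow p G => (T : Subgroup G)) hgS
      simpa [Sylow.coe_subgroup_smul] using this)
  have hn := le_normalizer_fittingHallOf _ hN
  rw [← hHeq] at hn
  exact Cfsg.Agent.Lib.Coprime.conj_smul_eq_of_mem_normalizer hn

theorem normalizer_maxNilpotent {H : Subgroup G} (hH : Group.IsNilpotent H)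
    (hmax : ∀ L : Subgroup G, Group.IsNilpotent L → H ≤ L → L = H) {p : ℕ} [Fact p.Prime]
    (S : Sylow p G) (hpG : p ∣ Nat.card G)
    (hHeq : H = Cfsg.fittingHallOf (Subgroup.normalizer ((S : Subgroup G) : Set G))) :
    Subgroup.normalizer (H : Set G) = Subgroup.normalizer ((S : Subgroup G) : Set G) := by
  subst hHeq
  refine normalizer_le_of_coatom hG (isCoatom_normalizer_sylow hG hCN S hpG)
    (maxNilpotent_eq hG hCN hH hmax).1 (fun e => ?_) (le_normalizer_fittingHallOf _)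
  refine (normalizer_structure hG hCN S hpG).1 (top_le_iff.mp ?_)
  rw [← e]
  exact Subgroup.map_subtype_le _

theorem exists_maxNilpotent_ge {L : Subgroup G} (hL : Group.IsNilpotent L) :
    ∃ H : Subgroup G, L ≤ H ∧ Group.IsNilpotent H ∧
      ∀ K : Subgroup G, Group.IsNilpotent K → H ≤ K → K = H := by
  obtain ⟨H, hH, hmax⟩ := Finset.exists_max_image
    (Set.toFinite {K : Subgroup G | Group.IsNilpotent K ∧ L ≤ K}).toFinset (fun K => Nat.card K)
    ⟨L, (Set.Finite.mem_toFinset _).mpr ⟨hL, le_rfl⟩⟩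
  rw [Set.Finite.mem_toFinset] at hH
  exact ⟨H, hH.2, hH.1, fun K hK hle => (Subgroup.eq_of_le_of_card_ge hle
    (hmax K ((Set.Finite.mem_toFinset _).mpr ⟨hK, hH.2.trans hle⟩))).symm⟩

theorem maxNilpotent_conj_of_dvd {H₁ H₂ : Subgroup G}
    (h₁ : Group.IsNilpotent H₁ ∧ ∀ L : Subgroup G, Group.IsNilpotent L → H₁ ≤ L → L = H₁)
    (h₂ : Group.IsNilpotent H₂ ∧ ∀ L : Subgroup G, Group.IsNilpotent L → H₂ ≤ L → L = H₂)
    {p : ℕ} [Fact p.Prime] (d₁ : p ∣ Nat.card H₁) (d₂ : p ∣ Nat.card H₂) :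
    ∃ g : G, H₂ = H₁.map (MulAut.conj g).toMonoidHom := by
  obtain ⟨S₁, hpG, hS₁, -⟩ := (maxNilpotent_eq hG hCN h₁.1 h₁.2).2 p d₁
  obtain ⟨S₂, -, hS₂, he₂⟩ := (maxNilpotent_eq hG hCN h₂.1 h₂.2).2 p d₂
  obtain ⟨g, hg⟩ := MulAction.exists_smul_eq G S₁ S₂
  refine ⟨g, ?_⟩
  have h3 : Group.IsNilpotent (H₁.map (MulAut.conj g).toMonoidHom) :=
    (have := h₁.1; Cfsg.Agent.Lib.Cores.isNilpotent_map _ _)
  have hle : H₁.map (MulAut.conj g).toMonoidHom ≤ H₂ := by
    rw [he₂]
    refine le_fittingHallOf_of_nilpotent hG hCN S₂ hpG h3 ?_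
    rw [← hg, Sylow.coe_subgroup_smul]
    exact Subgroup.map_mono hS₁
  refine le_antisymm ?_ hle
  intro x hx
  have h4 : Group.IsNilpotent (H₂.map (MulAut.conj g⁻¹).toMonoidHom) :=
    (have := h₂.1; Cfsg.Agent.Lib.Cores.isNilpotent_map _ _)
  have h5 : H₁ ≤ H₂.map (MulAut.conj g⁻¹).toMonoidHom := fun w hw =>
    ⟨g * w * g⁻¹, hle ⟨w, hw, rfl⟩, by simp [mul_assoc]⟩
  refine ⟨g⁻¹ * x * g, h₁.2 _ h4 h5 ▸ ⟨x, hx, by simp [mul_assoc]⟩, by simp [mul_assoc]⟩

theorem not_isThreeStep (X : Subgroup G) (p : ℕ) : ¬ Cfsg.IsThreeStepGroup p ↥X := by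
  intro h3
  obtain ⟨hP₀, A, hA, -, -, -, hKn, hKtop, ⟨n, hn⟩, hfix, hlast⟩ := h3
  set P₀ := Cfsg.pCore p X with hP₀def
  rcases eq_or_ne X ⊤ with rfl | hX
  · have hs : IsSimpleGroup G := hG.2.1
    have : IsSimpleGroup (⊤ : Subgroup G) := IsSimpleGroup.isSimpleGroup_of_surjective
      (Subgroup.topEquiv : (⊤ : Subgroup G) ≃* G).symm.toMonoidHom
      (Subgroup.topEquiv : (⊤ : Subgroup G) ≃* G).symm.surjective
    refine hKtop (top_le_iff.mp (le_trans (le_of_eq ?_) le_sup_left))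
    exact ((this.eq_bot_or_eq_top_of_normal _ inferInstance).resolve_left hP₀).symm
  have : Nontrivial X := by
    obtain ⟨a, ha, ha1⟩ := exists_center_ne_one.exists_ne_one_of_ne_bot hA
    exact nontrivial_of_ne a 1 ha1
  have : Group.IsSolvable X := hG.2.2.2 X hX
  have hdvd : ∀ (q : ℕ) [Fact q.Prime], Cfsg.pCore q X ≠ ⊥ → Cfsg.pCore q X ≤ P₀ := by
    intro q _ hq
    by_cases hqp : q ∣ p
    · refine Cfsg.Agent.Lib.Cores.le_pCore inferInstance fun x => ?_
      obtain ⟨k, hk⟩ := Cfsg.Agent.Lib.Cores.pCore_isPGroup q X x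
      exact ⟨k, orderOf_dvd_iff_pow_eq_one.mp ((orderOf_dvd_of_pow_eq_one hk).trans (pow_dvd_pow_of_dvd hqp k))⟩
    exfalso
    set Q := Cfsg.pCore q X
    have hcop : ∀ w : X, w ∈ Q → w ∈ P₀ → w = 1 := by
      intro w hwQ hwP
      obtain ⟨i, hi⟩ := Cfsg.Agent.Lib.Cores.pCore_isPGroup q X ⟨w, hwQ⟩
      obtain ⟨j, hj⟩ := Cfsg.Agent.Lib.Cores.pCore_isPGroup p X ⟨w, hwP⟩
      have h1 : orderOf w ∣ q ^ i := orderOf_dvd_of_pow_eq_one (congrArg Subtype.val hi)
      have h2 : orderOf w ∣ p ^ j := orderOf_dvd_of_pow_eq_one (congrArg Subtype.val hj)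
      have h3 := Nat.dvd_gcd h1 h2
      rw [Nat.Coprime.pow i j ((Fact.out : q.Prime).coprime_iff_not_dvd.mpr hqp), Nat.dvd_one,
        orderOf_eq_one_iff] at h3
      exact h3
    have hcomm : ∀ w ∈ Q, ∀ u ∈ P₀, w * u = u * w := by
      intro w hw u hu
      rw [← commutatorElement_eq_one_iff_mul_comm]
      refine hcop _ ?_ ?_
      · have := Q.mul_mem hw ((inferInstance : Q.Normal).conj_mem _ (Q.inv_mem hw) u)
        simpa [commutatorElement_def, mul_assoc] using this
      · exact P₀.mul_mem ((inferInstance : P₀.Normal).conj_mem u hu w) (P₀.inv_mem hu)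
    obtain ⟨w, hw, hw1⟩ := exists_center_ne_one.exists_ne_one_of_ne_bot hq
    obtain ⟨a, ha, ha1⟩ := exists_center_ne_one.exists_ne_one_of_ne_bot hA
    have hwK : w ∈ P₀ ⊔ A := by
      have := hKn
      obtain ⟨i, hi⟩ := Cfsg.Agent.Lib.Cores.pCore_isPGroup q X ⟨w, hw⟩
      have h1 : orderOf (QuotientGroup.mk' (P₀ ⊔ A) w) ∣ q ^ i :=
        (orderOf_map_dvd _ w).trans (orderOf_dvd_of_pow_eq_one (congrArg Subtype.val hi))
      have h2 : orderOf (QuotientGroup.mk' (P₀ ⊔ A) w) ∣ p ^ n := by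
        rw [← hn, Subgroup.index_eq_card]
        exact orderOf_dvd_natCard _
      have h3 := Nat.dvd_gcd h1 h2
      rw [Nat.Coprime.pow i n ((Fact.out : q.Prime).coprime_iff_not_dvd.mpr hqp), Nat.dvd_one,
        orderOf_eq_one_iff] at h3
      exact (QuotientGroup.eq_one_iff w).mp h3
    obtain ⟨u, hu, b, hb, rfl⟩ := Cfsg.Agent.Lib.Coprime.exists_mul_of_mem_sup
      Subgroup.le_normalizer_of_normal hwK
    by_cases hb1 : b = 1
    · subst hb1
      rw [mul_one] at hw hw1
      exact hw1 (hcop u hw hu)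
    · have hub : b * u = u * b := by
        have := hcomm _ hw u hu
        rw [mul_assoc] at this
        exact mul_left_cancel this
      have hu1 : u = 1 := by
        have : u ∈ P₀ ⊓ Subgroup.centralizer ({b} : Set X) :=
          ⟨hu, Subgroup.mem_centralizer_singleton_iff.mpr hub.symm⟩
        rwa [hfix b hb hb1, Subgroup.mem_bot] at this
      subst hu1
      rw [one_mul] at hw
      obtain ⟨v, hv, hv1⟩ := exists_center_ne_one.exists_ne_one_of_ne_bot hP₀
      have : v ∈ P₀ ⊓ Subgroup.centralizer ({b} : Set X) :=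
        ⟨hv, Subgroup.mem_centralizer_singleton_iff.mpr (hcomm b hw v hv).symm⟩
      rw [hfix b hb hb1, Subgroup.mem_bot] at this
      exact hv1 this
  obtain ⟨q, Q, hq, hQn, hQ, -, hQp, -⟩ :=
    Cfsg.Agent.Lib.Coprime.exists_normal_isPGroup_isMulCommutative X
  have := Fact.mk hq
  obtain ⟨S, hqG, hXS⟩ := exists_le_normalizer_sylow hG hCN hX
    (fun e => hQ (le_bot_iff.mp (e ▸ Cfsg.Agent.Lib.Cores.le_pCore hQn hQp)))
  set M := Subgroup.normalizer ((S : Subgroup G) : Set G)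
  obtain ⟨-, -, hMH, -⟩ := normalizer_structure hG hCN S hqG
  set N := (Cfsg.fittingHallOf M).subgroupOf X
  have hNn : N.Normal := Subgroup.normal_subgroupOf_of_le_normalizer (hXS.trans (le_normalizer_fittingHallOf M))
  have hNnil : Group.IsNilpotent N := by
    have h1 : Group.IsNilpotent (Cfsg.fittingHallOf M) := (fittingHallOf_maxNilpotent hG hCN S hqG).1
    exact Cfsg.Agent.Lib.Cores.isNilpotent_of_injective
      ((X.subtype.comp N.subtype).codRestrict (Cfsg.fittingHallOf M) fun y => y.2)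
      fun a b hab => Subtype.ext (Subtype.ext (congrArg (fun z : Cfsg.fittingHallOf M => (z : G)) hab :))
  have hNP : N ≤ P₀ := by
    intro y hy
    refine isThreeStep_of_no_normal_sylow.mem_of_primeParts fun r hr hry => ?_
    have := Fact.mk hr
    have hmem : y ^ (orderOf y / r ^ (orderOf y).factorization r) ∈ Cfsg.pCore r X :=
      Cfsg.Agent.Lib.Cores.map_subtype_pCore_le N
        ⟨⟨_, N.pow_mem hy _⟩, mem_pCore_of_isNilpotent hNnil r
          ⟨_, by rw [← Subgroup.orderOf_coe]; exact orderOf_pPart r y⟩, rfl⟩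
    refine hdvd r (fun e => ?_) hmem
    rw [e, Subgroup.mem_bot, ← orderOf_eq_one_iff, orderOf_pPart] at hmem
    have := (Nat.pow_eq_one.mp hmem).resolve_left hr.ne_one
    exact absurd this (Nat.pos_iff_ne_zero.mp (hr.factorization_pos_of_dvd (orderOf_pos y).ne' hry))
  obtain ⟨a, ha, ha1⟩ := exists_center_ne_one.exists_ne_one_of_ne_bot hA
  obtain ⟨x, hx⟩ : ∃ x, x ∉ P₀ ⊔ A := by
    by_contra! hall
    exact hKtop (top_le_iff.mp fun x _ => hall x)
  refine hlast x hx a ha ha1 (hNP ?_)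
  exact hMH (Subgroup.commutator_mem_commutator (hXS x.2) (hXS a.2))

end Cfsg.Agent.Lib.OddLocal
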