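import Cfsg.Prelude.Def_OddOrderLocal
import Cfsg.Agent.Lib.OddLocal.Coprime
import Cfsg.Agent.Lib.Coprime.PxQ
import Cfsg.Agent.Lib.PLocal.PGroupBasic

/-! Elements of order `p` of `p`-groups, for odd `p`. -/

set_option autoImplicit false

open scoped commutatorElement

namespace Cfsg.Agent.Lib.OddLocal

universe u

variable {p : ℕ} [hp : Fact p.Prime]

/-- A `p`-th power root is unique up to elements of order `p` when these are central. -/
theorem pow_eq_one_of_mul_pow_eq (hp2 : p ≠ 2) : ∀ (n : ℕ) {H : Type u} [Group H] [Finite H],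
    IsPGroup p H → ∀ T : Subgroup H, T.Normal → Nat.card T ≤ n →
      (∀ t ∈ T, t ^ p = 1 → t ∈ Subgroup.center H) →
      ∀ y : H, ∀ z ∈ T, (y * z) ^ p = y ^ p → z ^ p = 1 := by
  intro n
  induction n with
  | zero => intro H _ _ _ T _ hn; exact absurd hn (not_le.mpr Nat.card_pos)
  | succ n ih =>
    intro H _ _ hH T hTn hn hc y z hz hyz
    by_cases hT : T = ⊥
    · rw [hT, Subgroup.mem_bot] at hz
      rw [hz, one_pow]
    let E : Subgroup H :=
      { carrier := {t | t ∈ T ∧ t ^ p = 1}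
        one_mem' := ⟨one_mem _, one_pow _⟩
        mul_mem' := fun {a b} ha hb => ⟨T.mul_mem ha.1 hb.1, by
          rw [(show Commute a b from (Subgroup.mem_center_iff.mp (hc a ha.1 ha.2) b).symm).mul_pow, ha.2, hb.2, one_mul]⟩
        inv_mem' := fun {a} ha => ⟨T.inv_mem ha.1, by rw [inv_pow, ha.2, inv_one]⟩ }
    have hET : E ≤ T := fun t ht => ht.1
    have hEn : E.Normal := ⟨fun t ht g => by
      rw [Subgroup.mem_center_iff.mp (hc t ht.1 ht.2) g, mul_inv_cancel_right]; exact ht⟩
    have hE1 : E ≠ ⊥ := by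
      obtain ⟨t, ht, hto, -⟩ := PLocal.exists_central_prime_mem hH hT
      intro h
      have h1 : t ∈ E := ⟨ht, by rw [← hto, pow_orderOf_eq_one]⟩
      rw [h, Subgroup.mem_bot] at h1
      rw [h1, orderOf_one] at hto
      exact hp.out.ne_one hto.symm
    have hlt : ⁅T, (⊤ : Subgroup H)⁆ < T := Coprime.commutator_lt_of_isPGroup (hH.to_subgroup T)
      (hH.to_subgroup ⊤) (fun g _ => by rw [Subgroup.normalizer_eq_top]; trivial) hT
    have hTT : Nat.card ↥(⁅T, (⊤ : Subgroup H)⁆) < Nat.card T :=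
      lt_of_le_of_ne (Subgroup.card_le_of_le hlt.le)
        (fun h => hlt.ne (Subgroup.eq_of_le_of_card_ge hlt.le h.ge))
    have hclaim : ∀ u ∈ T, u ^ p ∈ E → ∀ h : H, ⁅h, u⁆ ∈ E := by
      intro u hu hup h
      set w := u⁻¹ * (h * u * h⁻¹) with hw
      have hwT : w ∈ ⁅T, (⊤ : Subgroup H)⁆ := by
        have e : w = ⁅u⁻¹, h⁆ := by rw [hw, commutatorElement_def]; group
        exact e ▸ Subgroup.commutator_mem_commutator (T.inv_mem hu) (Subgroup.mem_top h)
      have hwp : w ^ p = 1 := by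
        refine ih hH ⁅T, (⊤ : Subgroup H)⁆ inferInstance (by omega) (fun t ht => hc t (hlt.le ht)) u w hwT ?_
        have e : u * w = h * u * h⁻¹ := by rw [hw]; group
        rw [e, conj_pow, Subgroup.mem_center_iff.mp (hc _ hup.1 hup.2) h, mul_inv_cancel_right]
      have hwc : w ∈ Subgroup.center H := hc w (hlt.le hwT) hwp
      have e : ⁅h, u⁆ = u * w * u⁻¹ := by rw [hw, commutatorElement_def]; group
      rw [e, Subgroup.mem_center_iff.mp hwc u, mul_inv_cancel_right]
      exact ⟨hlt.le hwT, hwp⟩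
    set π := QuotientGroup.mk' E with hπ
    have hzE : z ^ p ∈ E := by
      rw [← QuotientGroup.eq_one_iff, ← QuotientGroup.mk'_apply, map_pow]
      refine ih (hH.to_quotient E) (T.map π) (hTn.map π (QuotientGroup.mk'_surjective E)) ?_ ?_ (π y) (π z)
        ⟨z, hz, rfl⟩ (by rw [← map_mul, ← map_pow, hyz, map_pow])
      · have h2 : Nat.card (T.map π) * Nat.card E = Nat.card T := by
          have h := Subgroup.card_eq_card_quotient_mul_card_subgroup (E.subgroupOf T)
          rw [Nat.card_congr (Subgroup.subgroupOfEquivOfLe hET).toEquiv] at h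
          have h3 : (π.comp T.subtype).ker = E.subgroupOf T := by
            ext a
            simp [π, Subgroup.mem_subgroupOf, QuotientGroup.eq_one_iff]
          rw [h, ← Subgroup.index_eq_card, ← h3, Subgroup.index_ker, MonoidHom.range_comp,
            Subgroup.range_subtype]
        have hE2 : 2 ≤ Nat.card E := by
          have := Subgroup.one_lt_card_iff_ne_bot (H := E) |>.mpr hE1
          omega
        have : 0 < Nat.card (T.map π) := Nat.card_pos
        nlinarith
      · rintro _ ⟨t, ht, rfl⟩ htp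
        rw [← map_pow, QuotientGroup.mk'_apply, QuotientGroup.eq_one_iff] at htp
        rw [Subgroup.mem_center_iff]
        intro q
        obtain ⟨h, rfl⟩ := QuotientGroup.mk'_surjective E q
        rw [← commutatorElement_eq_one_iff_mul_comm, ← map_commutatorElement, QuotientGroup.mk'_apply,
          QuotientGroup.eq_one_iff]
        exact hclaim t ht htp h
    have hcE := hclaim z hz hzE y
    have hcc : ∀ x, Commute x ⁅z, y⁆ := fun x => by
      rw [← commutatorElement_inv]
      exact (show Commute x ⁅y, z⁆ from Subgroup.mem_center_iff.mp (hc _ hcE.1 hcE.2) x).inv_right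
    have h1 : z * y = ⁅z, y⁆ * y * z := by rw [commutatorElement_def]; group
    obtain ⟨k, hk⟩ : p ∣ p.choose 2 :=
      hp.out.dvd_choose_self two_ne_zero (lt_of_le_of_ne hp.out.two_le (Ne.symm hp2))
    have hcp : ⁅z, y⁆ ^ p = 1 := by rw [← commutatorElement_inv, inv_pow, hcE.2, inv_one]
    rw [mul_pow_of_central_commutator (hcc y) (hcc z) h1, hk, pow_mul, hcp, one_pow, one_mul] at hyz
    exact mul_eq_left.mp hyz

variable {R : Type u} [Group R] [Finite R]

/-- An element of order `p` outside `E` can be chosen central modulo `E` (Alperin). -/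
theorem exists_omega_central_mod (hp2 : p ≠ 2) (hR : IsPGroup p R) (E C : Subgroup R) [C.Normal]
    (hEC : C ≤ Subgroup.centralizer (E : Set R)) (hx : ∃ x ∈ C, x ^ p = 1 ∧ x ∉ E) :
    ∃ x ∈ C, x ^ p = 1 ∧ x ∉ E ∧ ∀ r : R, ⁅r, x⁆ ∈ E := by
  obtain ⟨N, ⟨hNn, hNC, x, hxN, hxp, hxE⟩, hmin⟩ := Set.Finite.exists_minimal
    (Set.toFinite {N : Subgroup R | N.Normal ∧ N ≤ C ∧ ∃ x ∈ N, x ^ p = 1 ∧ x ∉ E})
    ⟨C, inferInstance, le_rfl, hx⟩
  refine ⟨x, hNC hxN, hxp, hxE, fun r => ?_⟩
  set T := ⁅N, (⊤ : Subgroup R)⁆ with hT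
  have hN0 : N ≠ ⊥ := fun h => hxE (by
    rw [h, Subgroup.mem_bot] at hxN; rw [hxN]; exact one_mem _)
  have hlt : T < N := Coprime.commutator_lt_of_isPGroup (hR.to_subgroup N) (hR.to_subgroup ⊤)
    (fun g _ => by rw [Subgroup.normalizer_eq_top]; trivial) hN0
  have hTE : ∀ t ∈ T, t ^ p = 1 → t ∈ E := fun t ht htp => by
    by_contra h
    exact hlt.not_ge (hmin ⟨inferInstance, hlt.le.trans hNC, t, ht, htp, h⟩ hlt.le)
  set m := x⁻¹ * (r * x * r⁻¹) with hm
  have hmT : m ∈ T := by
    have e : m = ⁅x⁻¹, r⁆ := by rw [hm, commutatorElement_def]; group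
    exact e ▸ Subgroup.commutator_mem_commutator (N.inv_mem hxN) (Subgroup.mem_top r)
  have hTC : T ≤ C := hlt.le.trans hNC
  have hmp : m ^ p = 1 := by
    have h := pow_eq_one_of_mul_pow_eq hp2 _ (hR.to_subgroup C) (T.subgroupOf C)
      inferInstance le_rfl (fun t ht htp => Subgroup.mem_center_iff.mpr fun c => Subtype.ext
        (Subgroup.mem_centralizer_iff.mp (hEC c.2) t.1 (hTE t.1 ht (congrArg Subtype.val htp))).symm)
      ⟨x, hNC hxN⟩ ⟨m, hTC hmT⟩ hmT (Subtype.ext (by
        show (x * (x⁻¹ * (r * x * r⁻¹))) ^ p = x ^ p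
        rw [mul_inv_cancel_left, conj_pow, hxp, mul_one, mul_inv_cancel]))
    exact congrArg Subtype.val h
  have e : ⁅r, x⁆ = x * m * x⁻¹ := by rw [hm, commutatorElement_def]; group
  rw [e, ← Subgroup.mem_centralizer_iff.mp (hEC (hNC hxN)) m (hTE m hmT hmp), mul_inv_cancel_right]
  exact hTE m hmT hmp

/-- The centralizer of a normal subgroup of order `p ^ 2` has index at most `p`. -/
theorem index_centralizer_le (hR : IsPGroup p R) (E : Subgroup R) [E.Normal]
    (hE : Nat.card E = p ^ 2) : (Subgroup.centralizer (E : Set R)).index ≤ p := by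
  have hE1 : E ≠ ⊥ := fun h => by
    rw [h, Subgroup.card_bot] at hE
    exact absurd hE.symm (Nat.one_lt_pow two_ne_zero hp.out.one_lt).ne'
  obtain ⟨z, hzE, hzo, hzc⟩ := PLocal.exists_central_prime_mem hR hE1
  obtain ⟨e, he, hez⟩ : ∃ e ∈ E, e ∉ Subgroup.zpowers z := by
    by_contra! h
    have h1 := Subgroup.card_le_of_le (h : E ≤ Subgroup.zpowers z)
    rw [hE, Nat.card_zpowers, hzo] at h1
    exact absurd h1 (not_le.mpr (by nlinarith [hp.out.two_le]))
  set M := ⁅E, (⊤ : Subgroup R)⁆ with hM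
  have hlt : M < E := Coprime.commutator_lt_of_isPGroup (hR.to_subgroup E) (hR.to_subgroup ⊤)
    (fun g _ => by rw [Subgroup.normalizer_eq_top]; trivial) hE1
  have hMp : Nat.card M ≤ p := by
    have hd : Nat.card M ∣ p ^ 2 := hE ▸ Subgroup.card_dvd_of_le hlt.le
    obtain ⟨k, hk, hMk⟩ := (Nat.dvd_prime_pow hp.out).mp hd
    rw [hMk]
    refine (Nat.pow_le_pow_right hp.out.pos (show k ≤ 1 from ?_)).trans (by rw [pow_one])
    by_contra h
    exact hlt.ne (Subgroup.eq_of_le_of_card_ge hlt.le (by rw [hE, hMk, show k = 2 by omega]))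
  have hMc : M ≤ Subgroup.center R := by
    by_cases h : M = ⊥
    · rw [h]; exact bot_le
    obtain ⟨w, hw, hwo, hwc⟩ := PLocal.exists_central_prime_mem hR h
    have : Subgroup.zpowers w = M := Subgroup.eq_of_le_of_card_ge (Subgroup.zpowers_le.mpr hw)
      (by rw [Nat.card_zpowers, hwo]; exact hMp)
    rw [← this]
    exact Subgroup.zpowers_le.mpr hwc
  let φ : R →* M :=
    { toFun := fun r => ⟨⁅r, e⁆, by
        rw [hM, Subgroup.commutator_comm]
        exact Subgroup.commutator_mem_commutator (Subgroup.mem_top r) he⟩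
      map_one' := Subtype.ext (by simp)
      map_mul' := fun r s => Subtype.ext (by
        have h : ⁅r * s, e⁆ = r * ⁅s, e⁆ * r⁻¹ * ⁅r, e⁆ := by simp only [commutatorElement_def]; group
        have hse : ⁅s, e⁆ ∈ Subgroup.center R := hMc (by
          rw [hM, Subgroup.commutator_comm]
          exact Subgroup.commutator_mem_commutator (Subgroup.mem_top s) he)
        show ⁅r * s, e⁆ = ⁅r, e⁆ * ⁅s, e⁆
        rw [h, Subgroup.mem_center_iff.mp hse r, mul_inv_cancel_right,
          Subgroup.mem_center_iff.mp hse ⁅r, e⁆]) }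
  have hgen : Subgroup.closure ({z, e} : Set R) = E := by
    have hle : Subgroup.closure ({z, e} : Set R) ≤ E := by
      rw [Subgroup.closure_le]; rintro a (rfl | rfl) <;> assumption
    refine Subgroup.eq_of_le_of_card_ge hle ?_
    have hd := Subgroup.card_dvd_of_le hle
    rw [hE] at hd
    obtain ⟨k, hk, hck⟩ := (Nat.dvd_prime_pow hp.out).mp hd
    rw [hE, hck]
    refine Nat.pow_le_pow_right hp.out.pos ?_
    by_contra h
    refine hez ?_
    rw [Subgroup.eq_of_le_of_card_ge (H := Subgroup.zpowers z) (K := Subgroup.closure {z, e})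
      (Subgroup.zpowers_le.mpr (Subgroup.subset_closure (Set.mem_insert _ _)))
      (by rw [hck, Nat.card_zpowers, hzo]
          exact (Nat.pow_le_pow_right hp.out.pos (show k ≤ 1 by omega)).trans (by rw [pow_one]))]
    exact Subgroup.subset_closure (Set.mem_insert_of_mem _ rfl)
  have hker : φ.ker ≤ Subgroup.centralizer (E : Set R) := by
    intro r hr
    rw [← hgen, Subgroup.centralizer_closure, Subgroup.mem_centralizer_iff]
    rintro a (rfl | rfl)
    · exact (Subgroup.mem_center_iff.mp hzc r).symm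
    · exact (commutatorElement_eq_one_iff_mul_comm.mp (congrArg Subtype.val hr)).symm
  calc (Subgroup.centralizer (E : Set R)).index ≤ φ.ker.index :=
        Nat.le_of_dvd (Nat.pos_of_ne_zero φ.ker.index_ne_zero_of_finite) (Subgroup.index_dvd_of_le hker)
    _ ≤ Nat.card M := by rw [Subgroup.index_ker]; exact Subgroup.card_le_card_group _
    _ ≤ p := hMp

/-- A normal elementary abelian subgroup of order `p ^ 2` lies in a larger one, if there is one of order `p ^ 3`. -/
theorem exists_normal_elementary_gt (hp2 : p ≠ 2) (hR : IsPGroup p R) (hr : ¬ Cfsg.PRankLE p 2 R)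
    (E : Subgroup R) [E.Normal] (hE : Cfsg.IsElementaryAbelian p E) (hE2 : Nat.card E = p ^ 2) :
    ∃ B : Subgroup R, E ≤ B ∧ B.Normal ∧ Cfsg.IsElementaryAbelian p B ∧ p ^ 2 < Nat.card B := by
  set C := Subgroup.centralizer (E : Set R) with hC
  have hcn : C.Normal := inferInstance
  obtain ⟨x, hxC, hxp, hxE, hxr⟩ := exists_omega_central_mod hp2 hR E C le_rfl (by
    by_contra! h
    unfold Cfsg.PRankLE at hr
    push_neg at hr
    obtain ⟨F, hF, hFp, hFc⟩ := hr
    have hFC : F ⊓ C ≤ E := fun y hy => h y hy.2 (hFp y hy.1)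
    by_cases hle : F ≤ C
    · exact absurd ((Subgroup.card_le_of_le (le_inf le_rfl hle)).trans (Subgroup.card_le_of_le hFC))
        (by rw [hE2]; exact not_le.mpr hFc)
    refine hle ?_
    have hmul : Nat.card (F ⊓ C : Subgroup R) * C.relIndex F = Nat.card F := by
      rw [← Subgroup.inf_relIndex_left, ← Subgroup.relIndex_bot_left, ← Subgroup.relIndex_bot_left]
      exact Subgroup.relIndex_mul_relIndex _ _ _ bot_le inf_le_left
    have hidx : C.relIndex F ≤ p :=
      (Nat.le_of_dvd (Nat.pos_of_ne_zero C.index_ne_zero_of_finite)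
        (Subgroup.relIndex_dvd_index_of_normal C F)).trans (index_centralizer_le hR E hE2)
    have h2 : Nat.card E ≤ Nat.card (F ⊓ C : Subgroup R) := by
      rw [hE2]
      obtain ⟨a, ha⟩ := IsPGroup.iff_card.mp (hR.to_subgroup (F ⊓ C))
      rw [ha] at hmul ⊢
      have h3 : p ^ 2 < p ^ (a + 1) := by
        rw [pow_succ p a]
        calc p ^ 2 < Nat.card F := hFc
          _ = p ^ a * C.relIndex F := hmul.symm
          _ ≤ p ^ a * p := Nat.mul_le_mul_left _ hidx
      exact Nat.pow_le_pow_right hp.out.pos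
        (Nat.lt_succ_iff.mp ((Nat.pow_lt_pow_iff_right hp.out.one_lt).mp h3))
    have hEF : E ≤ F := by
      rw [← Subgroup.eq_of_le_of_card_ge hFC h2]
      exact inf_le_left
    exact fun f hf => Subgroup.mem_centralizer_iff.mpr fun a ha =>
      congrArg Subtype.val (hF.is_comm.comm ⟨a, hEF ha⟩ ⟨f, hf⟩))
  have hBeq : E ⊔ Subgroup.zpowers x = Subgroup.closure ((E : Set R) ∪ {x}) := by
    rw [Subgroup.closure_union, Subgroup.closure_eq, ← Subgroup.zpowers_eq_closure]
  refine ⟨E ⊔ Subgroup.zpowers x, le_sup_left, ?_, ⟨?_, ?_⟩, ?_⟩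
  · have hmem : ∀ (r : R) (b : R), b ∈ E ⊔ Subgroup.zpowers x → r * b * r⁻¹ ∈ E ⊔ Subgroup.zpowers x := by
      intro r
      have : E ⊔ Subgroup.zpowers x ≤ (E ⊔ Subgroup.zpowers x).comap (MulAut.conj r).toMonoidHom := by
        refine sup_le (fun b hb => Subgroup.mem_sup_left ?_) (Subgroup.zpowers_le.mpr ?_)
        · exact (inferInstance : E.Normal).conj_mem b hb r
        · show r * x * r⁻¹ ∈ E ⊔ Subgroup.zpowers x
          have e : r * x * r⁻¹ = ⁅r, x⁆ * x := by rw [commutatorElement_def]; group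
          rw [e]
          exact mul_mem (Subgroup.mem_sup_left (hxr r)) (Subgroup.mem_sup_right (Subgroup.mem_zpowers x))
      exact fun b hb => this hb
    exact ⟨fun b hb r => hmem r b hb⟩
  · rw [hBeq]
    refine Subgroup.isMulCommutative_closure ?_
    rintro a (ha | rfl) b (hb | rfl)
    · exact congrArg Subtype.val (hE.1.is_comm.comm ⟨a, ha⟩ ⟨b, hb⟩)
    · exact hxC a ha
    · exact (hxC b hb).symm
    · rfl
  · intro b hb
    rw [hBeq] at hb
    have hcomm : IsMulCommutative (Subgroup.closure ((E : Set R) ∪ {x})) := Subgroup.isMulCommutative_closure (by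
      rintro a (ha | rfl) b (hb | rfl)
      · exact congrArg Subtype.val (hE.1.is_comm.comm ⟨a, ha⟩ ⟨b, hb⟩)
      · exact hxC a ha
      · exact (hxC b hb).symm
      · rfl)
    induction hb using Subgroup.closure_induction with
    | mem a ha => rcases ha with ha | rfl
                  · exact hE.2 a ha
                  · exact hxp
    | one => exact one_pow _
    | mul a b ha hb iha ihb =>
      rw [(show Commute a b from congrArg Subtype.val (hcomm.is_comm.comm ⟨a, ha⟩ ⟨b, hb⟩)).mul_pow, iha, ihb, one_mul]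
    | inv a _ iha => rw [inv_pow, iha, inv_one]
  · rw [← hE2]
    refine lt_of_le_of_ne (Subgroup.card_le_of_le le_sup_left) fun h => hxE ?_
    rw [Subgroup.eq_of_le_of_card_ge (le_sup_left : E ≤ E ⊔ Subgroup.zpowers x) h.ge]
    exact Subgroup.mem_sup_right (Subgroup.mem_zpowers x)

/-- A normal elementary abelian subgroup of order `p ^ 2` lies in a member of `SCN₃`. -/
theorem exists_scn_three_ge (hp2 : p ≠ 2) (hR : IsPGroup p R) (hr : ¬ Cfsg.PRankLE p 2 R)
    (E : Subgroup R) [E.Normal] (hE : Cfsg.IsElementaryAbelian p E) (hE2 : Nat.card E = p ^ 2) :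
    ∃ A : Subgroup R, E ≤ A ∧ A.Normal ∧ Subgroup.centralizer (A : Set R) = A ∧ ¬ Cfsg.PRankLE p 2 A := by
  obtain ⟨B, hEB, hBn, ⟨hBc, hBp⟩, hBcard⟩ := exists_normal_elementary_gt hp2 hR hr E hE hE2
  obtain ⟨A, hBA, ⟨hAn, hAc⟩, hmax⟩ := Set.Finite.exists_le_maximal
    (Set.toFinite {A : Subgroup R | A.Normal ∧ IsMulCommutative A}) (show B ∈ _ from ⟨hBn, hBc⟩)
  refine ⟨A, hEB.trans hBA, hAn, le_antisymm
    (PLocal.centralizer_le_of_max hR A hAc fun D hD hDc hAD => le_antisymm (hmax ⟨hD, hDc⟩ hAD) hAD)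
    (Subgroup.le_centralizer_iff_isMulCommutative.mpr hAc), fun h => ?_⟩
  have h1 := h (B.subgroupOf A) ⟨⟨fun a b => Subtype.ext (Subtype.ext
    (congrArg Subtype.val (hBc.is_comm.comm ⟨a.1.1, a.2⟩ ⟨b.1.1, b.2⟩) :))⟩⟩
    (fun a ha => Subtype.ext (hBp a.1 ha))
  rw [Nat.card_congr (Subgroup.subgroupOfEquivOfLe hBA).toEquiv] at h1
  exact absurd h1 (not_le.mpr hBcard)

end Cfsg.Agent.Lib.OddLocal
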