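import Cfsg.Prelude.Def_OddOrderLocal
import Cfsg.Prelude.Def_OddOrder
import Cfsg.Agent.Lib.Cores
import Cfsg.Agent.Lib.Coprime

/-! Subgroups satisfying the transitivity hypothesis. -/

set_option autoImplicit false

namespace Cfsg.Agent.Lib.OddLocal

universe u

variable {G : Type u} [Group G] [Finite G]

omit [Finite G] in
theorem le_normalizer_of_conj_mem' {A N : Subgroup G}
    (h : ∀ a ∈ A, ∀ n ∈ N, a * n * a⁻¹ ∈ N) : A ≤ Subgroup.normalizer (N : Set G) := by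
  intro a ha
  rw [Subgroup.mem_normalizer_iff]
  refine fun n => ⟨fun hn => h a ha n hn, fun hn => ?_⟩
  simpa [mul_assoc] using h a⁻¹ (inv_mem ha) _ hn

/-- A noncyclic coprime elementary action has fixed points at a subgroup of index at most `p`. -/
theorem exists_centralizer_corank_one {p : ℕ} [Fact p.Prime] {B Q : Subgroup G}
    (hBc : IsMulCommutative B) (hBp : ∀ b ∈ B, b ^ p = 1) (hQ : Q ≠ ⊥)
    (hBQ : B ≤ Subgroup.normalizer (Q : Set G)) (hcop : (Nat.card B).Coprime (Nat.card Q)) :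
    ∃ B₀ : Subgroup G, B₀ ≤ B ∧ Nat.card B ≤ p * Nat.card B₀ ∧
      Q ⊓ Subgroup.centralizer (B₀ : Set G) ≠ ⊥ := by
  classical
  have hcm : ∀ x ∈ B, ∀ y ∈ B, x * y = y * x := fun x hx y hy =>
    congrArg Subtype.val (hBc.is_comm.comm ⟨x, hx⟩ ⟨y, hy⟩)
  obtain ⟨B₀, hmem₀, hmax⟩ := Finset.exists_max_image
    (Set.toFinite {B' : Subgroup G | B' ≤ B ∧ Q ⊓ Subgroup.centralizer (B' : Set G) ≠ ⊥}).toFinset
    (fun B' => Nat.card B') ⟨⊥, by
      rw [Set.Finite.mem_toFinset]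
      refine ⟨bot_le, ?_⟩
      rw [show Subgroup.centralizer ((⊥ : Subgroup G) : Set G) = ⊤ from
        Subgroup.centralizer_eq_top_iff_subset.mpr (by simp), inf_top_eq]
      exact hQ⟩
  obtain ⟨hB₀, hfix⟩ := (Set.Finite.mem_toFinset _).mp hmem₀
  refine ⟨B₀, hB₀, ?_, hfix⟩
  by_contra hlt
  rw [not_le] at hlt
  obtain ⟨a, haB, ha⟩ : ∃ a ∈ B, a ∉ B₀ := by
    by_contra! h
    have h1 := Nat.le_mul_of_pos_left (Nat.card B₀) (Fact.out : p.Prime).pos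
    have h2 := Subgroup.card_le_of_le (show B ≤ B₀ from h)
    omega
  have horder : ∀ x ∈ B, x ≠ 1 → orderOf x = p := fun x hx hx1 =>
    orderOf_eq_prime (hBp x hx) hx1
  have ha1 : a ≠ 1 := fun h => ha (h ▸ one_mem _)
  have hnorm : ∀ (K : Subgroup G), K ≤ B → B ≤ Subgroup.normalizer (K : Set G) := fun K hK =>
    le_trans (fun x hx => Subgroup.mem_centralizer_iff.mpr fun y hy => hcm y (hK hy) x hx)
      (le_normalizer_of_conj_mem' fun c hc n hn => by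
        rw [show c * n * c⁻¹ = n by
          rw [← Subgroup.mem_centralizer_iff.mp hc n hn, mul_inv_cancel_right]]
        exact hn)
  obtain ⟨b, hbB, hb⟩ : ∃ b ∈ B, b ∉ B₀ ⊔ Subgroup.zpowers a := by
    by_contra! h
    have h1 := Cfsg.Agent.Lib.Coprime.card_sup_mul_card_inf (N := B₀) (H := Subgroup.zpowers a)
      ((Subgroup.zpowers_le.mpr haB).trans (hnorm B₀ hB₀))
    have h2 := Subgroup.card_le_of_le (show B ≤ B₀ ⊔ Subgroup.zpowers a from h)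
    rw [Nat.card_zpowers, horder a haB ha1] at h1
    have h3 : 1 ≤ Nat.card ↥(B₀ ⊓ Subgroup.zpowers a) := Nat.card_pos
    have h4 := Nat.le_mul_of_pos_right (Nat.card ↥(B₀ ⊔ Subgroup.zpowers a)) h3
    rw [h1, Nat.mul_comm] at h4
    omega
  set A := Subgroup.zpowers a ⊔ Subgroup.zpowers b with hA
  have hAB : A ≤ B := sup_le (Subgroup.zpowers_le.mpr haB) (Subgroup.zpowers_le.mpr hbB)
  have : IsMulCommutative A :=
    ⟨⟨fun x y => Subtype.ext (hcm _ (hAB x.2) _ (hAB y.2))⟩⟩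
  have hAcyc : ¬ IsCyclic A := by
    intro hc
    obtain ⟨g, hg⟩ := hc.exists_generator
    have h1 : Nat.card A ∣ p := by
      rw [← orderOf_eq_card_of_forall_mem_zpowers hg, ← Subgroup.orderOf_coe]
      exact orderOf_dvd_of_pow_eq_one (hBp _ (hAB g.2))
    have h2 : Subgroup.zpowers a = A := by
      refine Subgroup.eq_of_le_of_card_ge le_sup_left ?_
      rw [Nat.card_zpowers, horder a haB ha1]
      exact Nat.le_of_dvd (Fact.out : p.Prime).pos h1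
    exact hb (Subgroup.mem_sup_right (h2 ▸ Subgroup.mem_sup_right (Subgroup.mem_zpowers b)))
  have hAQ : A ≤ Subgroup.normalizer ((Q ⊓ Subgroup.centralizer (B₀ : Set G) : Subgroup G) : Set G) := by
    refine le_trans (le_inf (hAB.trans hBQ) ?_) Subgroup.inf_normalizer_le_normalizer_inf
    exact le_trans (fun x hx => Subgroup.mem_centralizer_iff.mpr fun y hy => hcm y (hB₀ hy) x (hAB hx))
      Subgroup.le_normalizer
  have hgen := Cfsg.Agent.Lib.Coprime.iSup_centralizer_eq hAcyc hAQ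
    ((hcop.coprime_dvd_left (Subgroup.card_dvd_of_le hAB)).coprime_dvd_right
      (Subgroup.card_dvd_of_le inf_le_left))
  obtain ⟨x, ⟨hxA, hx1⟩, hx⟩ : ∃ x ∈ {x : G | x ∈ A ∧ x ≠ 1},
      (Q ⊓ Subgroup.centralizer (B₀ : Set G)) ⊓ Subgroup.centralizer ({x} : Set G) ≠ ⊥ := by
    by_contra! h
    apply hfix
    rw [← hgen, eq_bot_iff]
    exact iSup₂_le fun x hx => le_of_eq (h x hx)
  have hxB₀ : x ∉ B₀ := by
    intro hx0
    obtain ⟨u, hu, v, hv, rfl⟩ := Cfsg.Agent.Lib.Coprime.exists_mul_of_mem_sup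
      ((Subgroup.zpowers_le.mpr hbB).trans (hnorm _ (Subgroup.zpowers_le.mpr haB))) hxA
    obtain ⟨i, rfl⟩ := Subgroup.mem_zpowers_iff.mp hu
    obtain ⟨j, rfl⟩ := Subgroup.mem_zpowers_iff.mp hv
    have hbj : b ^ j ∈ B₀ ⊔ Subgroup.zpowers a := by
      rw [show b ^ j = (a ^ i)⁻¹ * (a ^ i * b ^ j) by group]
      exact mul_mem (inv_mem (Subgroup.mem_sup_right (Subgroup.zpow_mem_zpowers a i)))
        (Subgroup.mem_sup_left hx0)
    have hprime : ∀ {K : Subgroup G} {z : G}, z ∈ B → ∀ n : ℤ, z ^ n ∈ K → z ∉ K → z ^ n = 1 := by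
      intro K z hz n hn hzK
      by_contra hne
      have hdvd : ¬ (p : ℤ) ∣ n := fun ⟨m, hm⟩ => hne (by
        rw [hm, zpow_mul, zpow_natCast, hBp z hz, one_zpow])
      have hcop' : IsCoprime (p : ℤ) n :=
        (Prime.coprime_iff_not_dvd (Nat.prime_iff_prime_int.mp Fact.out)).mpr hdvd
      obtain ⟨s, t, hst⟩ := hcop'
      apply hzK
      rw [← zpow_one z, ← hst, zpow_add, mul_comm s, zpow_mul, zpow_natCast, hBp z hz,
        one_zpow, one_mul, mul_comm t, zpow_mul]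
      exact zpow_mem hn t
    have hbj1 := hprime hbB j hbj hb
    rw [hbj1, mul_one] at hx0
    apply hx1
    rw [hbj1, mul_one]
    exact hprime haB i hx0 ha
  have hle : B₀ ⊔ Subgroup.zpowers x ≤ B := sup_le hB₀ (Subgroup.zpowers_le.mpr (hAB hxA))
  have hmem : B₀ ⊔ Subgroup.zpowers x ∈
      {B' : Subgroup G | B' ≤ B ∧ Q ⊓ Subgroup.centralizer (B' : Set G) ≠ ⊥} := by
    refine ⟨hle, fun hbot => hx (eq_bot_iff.mpr (hbot ▸ fun z hz => ⟨hz.1.1, ?_⟩))⟩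
    show z ∈ Subgroup.centralizer ((B₀ ⊔ Subgroup.zpowers x : Subgroup G) : Set G)
    rw [Subgroup.mem_centralizer_iff]
    intro y hy
    have : B₀ ⊔ Subgroup.zpowers x ≤ Subgroup.centralizer ({z} : Set G) := by
      refine sup_le (fun w hw => Subgroup.mem_centralizer_singleton_iff.mpr ?_)
        (Subgroup.zpowers_le.mpr (Subgroup.mem_centralizer_singleton_iff.mpr ?_))
      · exact (Subgroup.mem_centralizer_iff.mp hz.1.2 w hw)
      · exact (Subgroup.mem_centralizer_singleton_iff.mp hz.2).symm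
    exact Subgroup.mem_centralizer_singleton_iff.mp (this hy)
  have h2 := hmax _ ((Set.Finite.mem_toFinset _).mpr hmem)
  have h3 : B₀ = B₀ ⊔ Subgroup.zpowers x := Subgroup.eq_of_le_of_card_ge le_sup_left h2
  exact hxB₀ (h3 ▸ Subgroup.mem_sup_right (Subgroup.mem_zpowers x))

theorem piCoreOf_le (π : Set ℕ) (X : Subgroup G) : Cfsg.piCoreOf π X ≤ X :=
  Subgroup.map_subtype_le _

theorem mem_of_prime_dvd_card_piCoreOf {π : Set ℕ} {X : Subgroup G} {r : ℕ} (hr : r.Prime)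
    (h : r ∣ Nat.card (Cfsg.piCoreOf π X)) : r ∈ π :=
  Cfsg.Agent.Lib.Cores.mem_of_prime_dvd_card_piCore hr
    (h.trans (Subgroup.card_map_dvd _ X.subtype))

theorem le_normalizer_piCoreOf (π : Set ℕ) (X : Subgroup G) :
    X ≤ Subgroup.normalizer (Cfsg.piCoreOf π X : Set G) := by
  refine le_normalizer_of_conj_mem' fun x hx n hn => ?_
  obtain ⟨m, hm, rfl⟩ := hn
  exact ⟨⟨x, hx⟩ * m * ⟨x, hx⟩⁻¹, (piCore_normal π X).conj_mem m hm ⟨x, hx⟩, rfl⟩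

theorem le_piCoreOf {π : Set ℕ} {X N : Subgroup G} (hNX : N ≤ X)
    (hn : X ≤ Subgroup.normalizer (N : Set G))
    (hπ : ∀ r : ℕ, r.Prime → r ∣ Nat.card N → r ∈ π) : N ≤ Cfsg.piCoreOf π X := by
  have h := Cfsg.Agent.Lib.Cores.le_piCore (π := π)
    (Subgroup.normal_subgroupOf_of_le_normalizer (H := X) (N := N) hn) fun r hr hd => hπ r hr (by
      rwa [Nat.card_congr (Subgroup.subgroupOfEquivOfLe hNX).toEquiv] at hd)
  intro x hx
  exact ⟨⟨x, hNX hx⟩, h hx, rfl⟩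

omit [Finite G] in
theorem map_conj_mem_inv {A R : Subgroup G} {π : Set ℕ} {c : G}
    (hc : c ∈ Subgroup.centralizer (A : Set G)) (hR : R ∈ Cfsg.invSubgroups ⊤ A π) :
    R.map (MulAut.conj c).toMonoidHom ∈ Cfsg.invSubgroups ⊤ A π := by
  refine ⟨le_top, fun r hr hd => hR.2.1 r hr (by
    rwa [Nat.card_congr ((R.equivMapOfInjective _ (MulAut.conj c).injective).toEquiv.symm)] at hd),
    le_normalizer_of_conj_mem' ?_⟩
  rintro a ha _ ⟨z, hz, rfl⟩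
  refine ⟨a * z * a⁻¹, (Subgroup.mem_normalizer_iff.mp (hR.2.2 ha) z).mp hz, ?_⟩
  have h1 : a * c = c * a := Subgroup.mem_centralizer_iff.mp hc a ha
  show c * (a * z * a⁻¹) * c⁻¹ = a * (c * z * c⁻¹) * a⁻¹
  calc c * (a * z * a⁻¹) * c⁻¹ = (c * a) * z * (c * a)⁻¹ := by group
    _ = (a * c) * z * (a * c)⁻¹ := by rw [h1]
    _ = _ := by group

theorem map_conj_mem_maxInv {A R : Subgroup G} {π : Set ℕ} {c : G}
    (hR : R ∈ Cfsg.maxInvSubgroups ⊤ A π) (hc : c ∈ Subgroup.centralizer (A : Set G)) :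
    R.map (MulAut.conj c).toMonoidHom ∈ Cfsg.maxInvSubgroups ⊤ A π := by
  refine ⟨map_conj_mem_inv hc hR.1, fun S hS hle => ?_⟩
  have h1 := map_conj_mem_inv (inv_mem hc) hS
  have h2 : R ≤ S.map (MulAut.conj c⁻¹).toMonoidHom := fun x hx =>
    ⟨c * x * c⁻¹, hle ⟨x, hx, rfl⟩, by simp [MulAut.conj_apply, mul_assoc]⟩
  rw [← hR.2 _ h1 h2, Subgroup.map_map]
  ext x
  simp [MulAut.conj_apply, mul_assoc]

section

variable (hG : Cfsg.IsMinSimpleOddOrder G)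

include hG

theorem normalizer_ne_top {R : Subgroup G} (h1 : R ≠ ⊥) (h2 : R ≠ ⊤) :
    Subgroup.normalizer (R : Set G) ≠ ⊤ := by
  intro h
  have : IsSimpleGroup G := hG.2.1
  rcases this.eq_bot_or_eq_top_of_normal R (Subgroup.normalizer_eq_top_iff.mp h) with h' | h'
  · exact h1 h'
  · exact h2 h'

theorem centralizer_singleton_ne_top {b : G} (hb : b ≠ 1) :
    Subgroup.centralizer ({b} : Set G) ≠ ⊤ := by
  intro h
  have : IsSimpleGroup G := hG.2.1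
  have hbc : b ∈ Subgroup.center G := Subgroup.mem_center_iff.mpr fun g =>
    Subgroup.mem_centralizer_singleton_iff.mp (h.symm ▸ Subgroup.mem_top g)
  rcases this.eq_bot_or_eq_top_of_normal (Subgroup.center G) inferInstance with h' | h'
  · exact hb (by simpa [h'] using hbc)
  · exact hG.2.2.1 ⟨⟨fun x y => (Subgroup.mem_center_iff.mp (h'.symm ▸ Subgroup.mem_top y) x)⟩⟩

variable {A : Subgroup G} (hA : Cfsg.TransitivityHypothesis A)

include hA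

/-- Invariant coprime subgroups of a proper subgroup centralizing `A` lie in `O_{π(A)'}(C(A))`. -/
theorem centralizing_inv_le_piCoreOf {Y : Subgroup G}
    (hY : Y ≤ Subgroup.centralizer (A : Set G))
    (hπ : ∀ r : ℕ, r.Prime → r ∣ Nat.card Y → r ∈ Cfsg.primesNotDvd (Nat.card A)) :
    Y ≤ Cfsg.piCoreOf (Cfsg.primesNotDvd (Nat.card A)) (Subgroup.centralizer (A : Set G)) := by
  set π := Cfsg.primesNotDvd (Nat.card A)
  set C := Subgroup.centralizer (A : Set G)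
  set X := Subgroup.normalizer (A : Set G)
  have hX : X ≠ ⊤ := normalizer_ne_top hG hA.1 hA.2.1
  have hmem : Y ∈ Cfsg.invSubgroups X A π := by
    refine ⟨hY.trans (Subgroup.centralizer_le_normalizer _), hπ,
      le_normalizer_of_conj_mem' fun a ha y hy => ?_⟩
    rw [Subgroup.mem_centralizer_iff.mp (hY hy) a ha, mul_inv_cancel_right]
    exact hy
  have h1 : Y ≤ Cfsg.piCoreOf π X :=
    (le_sSup hmem).trans (le_of_eq (hA.2.2 X hX Subgroup.le_normalizer))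
  have hC : C ≤ Subgroup.normalizer ((Cfsg.piCoreOf π X ⊓ C : Subgroup G) : Set G) :=
    le_trans (le_inf ((Subgroup.centralizer_le_normalizer _).trans (le_normalizer_piCoreOf π X))
      Subgroup.le_normalizer) Subgroup.inf_normalizer_le_normalizer_inf
  exact (le_inf h1 hY).trans (le_piCoreOf inf_le_right hC fun r hr hd =>
    mem_of_prime_dvd_card_piCoreOf hr (hd.trans (Subgroup.card_dvd_of_le inf_le_left)))

/-- Two invariant subgroups of a proper subgroup are joined, up to conjugation by the core. -/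
theorem exists_bridge {q : ℕ} [Fact q.Prime] (hqA : ¬ q ∣ Nat.card A)
    {H : Subgroup G} (hH : H ≠ ⊤) (hAH : A ≤ H) {V₁ V₂ : Subgroup G}
    (h₁ : V₁ ∈ Cfsg.invSubgroups H A {q}) (h₂ : V₂ ∈ Cfsg.invSubgroups H A {q}) :
    ∃ R₁ ∈ Cfsg.maxInvSubgroups ⊤ A {q}, ∃ R₂ ∈ Cfsg.maxInvSubgroups ⊤ A {q},
      V₁ ≤ R₁ ∧ V₂ ≤ R₂ ∧
      ∃ k ∈ Cfsg.piCoreOf (Cfsg.primesNotDvd (Nat.card A)) (Subgroup.centralizer (A : Set G)),
        R₂ = R₁.map (MulAut.conj k).toMonoidHom := by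
  set π := Cfsg.primesNotDvd (Nat.card A)
  set D := Cfsg.piCoreOf π H
  have hqπ : q ∈ π := ⟨Fact.out, hqA⟩
  have hVD : ∀ V ∈ Cfsg.invSubgroups H A {q}, V ≤ D := by
    intro V hV
    have : V ∈ Cfsg.invSubgroups H A π :=
      ⟨hV.1, fun r hr hd => (Set.mem_singleton_iff.mp (hV.2.1 r hr hd)) ▸ hqπ, hV.2.2⟩
    exact (le_sSup this).trans (le_of_eq (hA.2.2 H hH hAH))
  have hAD : A ≤ Subgroup.normalizer (D : Set G) := hAH.trans (le_normalizer_piCoreOf π H)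
  have hcop : (Nat.card A).Coprime (Nat.card D) :=
    Nat.coprime_of_dvd fun r hr h1 h2 => (mem_of_prime_dvd_card_piCoreOf hr h2).2 h1
  have hsolv : Group.IsSolvable A := hG.2.2.2 A hA.2.1
  have hpg : ∀ V ∈ Cfsg.invSubgroups H A {q}, IsPGroup q V := fun V hV =>
    IsPGroup.of_card (Nat.eq_prime_pow_of_unique_prime_dvd Nat.card_pos.ne'
      fun {r} hr hd => Set.mem_singleton_iff.mp (hV.2.1 r hr hd))
  obtain ⟨S₁, hS₁, hS₁A⟩ := Cfsg.Agent.Lib.Coprime.exists_invariant_sylow_ge hAD hcop (Or.inl hsolv)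
    q V₁ (hVD V₁ h₁) (hpg V₁ h₁) h₁.2.2
  obtain ⟨S₂, hS₂, hS₂A⟩ := Cfsg.Agent.Lib.Coprime.exists_invariant_sylow_ge hAD hcop (Or.inl hsolv)
    q V₂ (hVD V₂ h₂) (hpg V₂ h₂) h₂.2.2
  obtain ⟨c, hc, hcS⟩ := Cfsg.Agent.Lib.Coprime.exists_centralizer_conj_sylow hAD hcop (Or.inl hsolv)
    S₁ S₂ hS₁A hS₂A
  have hcK : (c : G) ∈ Cfsg.piCoreOf π (Subgroup.centralizer (A : Set G)) := by
    refine centralizing_inv_le_piCoreOf hG hA (Y := D ⊓ Subgroup.centralizer (A : Set G))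
      inf_le_right (fun r hr hd => mem_of_prime_dvd_card_piCoreOf hr
        (hd.trans (Subgroup.card_dvd_of_le inf_le_left))) ⟨c.2, hc⟩
  set T₁ := (S₁ : Subgroup D).map D.subtype
  have hT₁ : T₁ ∈ Cfsg.invSubgroups ⊤ A {q} := by
    refine ⟨le_top, fun r hr hd => ?_, hS₁A⟩
    obtain ⟨n, hn⟩ := IsPGroup.iff_card.mp (S₁.isPGroup'.map D.subtype)
    rw [show Nat.card T₁ = q ^ n from hn] at hd
    exact Set.mem_singleton_iff.mpr ((Nat.prime_dvd_prime_iff_eq hr Fact.out).mp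
      (hr.dvd_of_dvd_pow hd))
  obtain ⟨R₁, hR₁mem, hR₁max⟩ := Finset.exists_max_image
    (Set.toFinite {R : Subgroup G | R ∈ Cfsg.invSubgroups ⊤ A {q} ∧ T₁ ≤ R}).toFinset
    (fun R => Nat.card R) ⟨T₁, (Set.Finite.mem_toFinset _).mpr ⟨hT₁, le_rfl⟩⟩
  rw [Set.Finite.mem_toFinset] at hR₁mem
  have hR₁ : R₁ ∈ Cfsg.maxInvSubgroups ⊤ A {q} := ⟨hR₁mem.1, fun R hR hle =>
    (Subgroup.eq_of_le_of_card_ge hle
      (hR₁max R ((Set.Finite.mem_toFinset _).mpr ⟨hR, hR₁mem.2.trans hle⟩))).symm⟩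
  refine ⟨R₁, hR₁, R₁.map (MulAut.conj (c : G)).toMonoidHom, map_conj_mem_maxInv hR₁ hc,
    hS₁.trans hR₁mem.2, ?_, (c : G), hcK, rfl⟩
  refine hS₂.trans ?_
  rw [← hcS, Cfsg.Agent.Lib.Coprime.sylow_map_conj_smul]
  intro x hx
  rw [Cfsg.Agent.Lib.Coprime.mem_conj_smul] at hx
  exact ⟨(c : G)⁻¹ * x * c, hR₁mem.2 hx, by simp [MulAut.conj_apply, mul_assoc]⟩

omit hG hA in
theorem isPGroup_of_mem_inv {q : ℕ} {H : Subgroup G} {V : Subgroup G}
    (hV : V ∈ Cfsg.invSubgroups H A {q}) : IsPGroup q V :=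
  IsPGroup.of_card (Nat.eq_prime_pow_of_unique_prime_dvd Nat.card_pos.ne'
    fun {r} hr hd => Set.mem_singleton_iff.mp (hV.2.1 r hr hd))

omit hG hA in
theorem inf_mem_inv {q : ℕ} {H Q : Subgroup G} (hAH : A ≤ Subgroup.normalizer (H : Set G))
    (hQ : Q ∈ Cfsg.invSubgroups ⊤ A {q}) : H ⊓ Q ∈ Cfsg.invSubgroups H A {q} :=
  ⟨inf_le_left, fun r hr hd => hQ.2.1 r hr (hd.trans (Subgroup.card_dvd_of_le inf_le_right)),
    le_trans (le_inf hAH hQ.2.2) Subgroup.inf_normalizer_le_normalizer_inf⟩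

omit hA in
theorem eq_top_of_isPGroup_absurd {q : ℕ} [Fact q.Prime] {Q : Subgroup G}
    (hQ : IsPGroup q Q) : Q ≠ ⊤ := by
  intro h
  have : IsSimpleGroup G := hG.2.1
  have hG' : IsPGroup q G := by
    obtain ⟨n, hn⟩ := IsPGroup.iff_card.mp hQ
    exact IsPGroup.of_card (n := n) (by rw [← hn, h, Subgroup.card_top])
  rcases this.eq_bot_or_eq_top_of_normal (Subgroup.center G) inferInstance with h' | h'
  · exact (hG'.bot_lt_center).ne' h'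
  · exact hG.2.2.1 ⟨⟨fun x y => (Subgroup.mem_center_iff.mp (h'.symm ▸ Subgroup.mem_top y) x)⟩⟩

omit hG hA in
theorem exists_mem_normalizer_not_mem {q : ℕ} [Fact q.Prime] {R Q : Subgroup G}
    (hQ : IsPGroup q Q) (hlt : R < Q) :
    ¬ Subgroup.normalizer (R : Set G) ⊓ Q ≤ R := by
  intro h
  have : Group.IsNilpotent Q := hQ.isNilpotent
  have h1 : R.subgroupOf Q < ⊤ := lt_top_iff_ne_top.mpr fun ht =>
    hlt.not_ge (Subgroup.subgroupOf_eq_top.mp ht)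
  obtain ⟨x, hx, hxR⟩ := SetLike.exists_of_lt (Group.normalizerCondition_of_isNilpotent _ h1)
  apply hxR
  refine h ⟨?_, x.2⟩
  show (x : G) ∈ Subgroup.normalizer (R : Set G)
  rw [Subgroup.mem_normalizer_iff]
  intro n
  constructor
  · intro hn
    exact (Subgroup.mem_normalizer_iff.mp hx ⟨n, hlt.le hn⟩).mp hn
  · intro hn
    have hnQ : n ∈ Q := by
      have := mul_mem (mul_mem (inv_mem x.2) (hlt.le hn)) x.2
      simpa [mul_assoc] using this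
    exact (Subgroup.mem_normalizer_iff.mp hx ⟨n, hnQ⟩).mpr hn

/-- Maximal invariant subgroups meeting nontrivially are conjugate under the core. -/
theorem conj_of_inf_ne_bot {q : ℕ} [Fact q.Prime] (hqA : ¬ q ∣ Nat.card A) :
    ∀ Q₁ ∈ Cfsg.maxInvSubgroups ⊤ A {q}, ∀ Q₂ ∈ Cfsg.maxInvSubgroups ⊤ A {q}, Q₁ ⊓ Q₂ ≠ ⊥ →
    ∃ k ∈ Cfsg.piCoreOf (Cfsg.primesNotDvd (Nat.card A)) (Subgroup.centralizer (A : Set G)),
      Q₂ = Q₁.map (MulAut.conj k).toMonoidHom := by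
  suffices h : ∀ d : ℕ, ∀ Q₁ ∈ Cfsg.maxInvSubgroups ⊤ A {q}, ∀ Q₂ ∈ Cfsg.maxInvSubgroups ⊤ A {q},
      Nat.card G - Nat.card ↥(Q₁ ⊓ Q₂) = d → Q₁ ⊓ Q₂ ≠ ⊥ →
      ∃ k ∈ Cfsg.piCoreOf (Cfsg.primesNotDvd (Nat.card A)) (Subgroup.centralizer (A : Set G)),
        Q₂ = Q₁.map (MulAut.conj k).toMonoidHom by
    exact fun Q₁ h₁ Q₂ h₂ hne => h _ Q₁ h₁ Q₂ h₂ rfl hne
  intro d
  induction d using Nat.strongRecOn with
  | ind d ih =>
  intro Q₁ h₁ Q₂ h₂ hd hne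
  by_cases heq : Q₁ = Q₂
  · refine ⟨1, one_mem _, ?_⟩
    ext x
    simp [heq]
  set R := Q₁ ⊓ Q₂ with hR
  have hlt₁ : R < Q₁ := lt_of_le_of_ne inf_le_left fun h =>
    heq (h₁.2 Q₂ h₂.1 (h ▸ inf_le_right)).symm
  have hlt₂ : R < Q₂ := lt_of_le_of_ne inf_le_right fun h =>
    heq (h₂.2 Q₁ h₁.1 (h ▸ inf_le_left))
  have hRtop : R ≠ ⊤ := (eq_top_of_isPGroup_absurd hG
    ((isPGroup_of_mem_inv h₁.1).to_le inf_le_left))
  have hH : Subgroup.normalizer (R : Set G) ≠ ⊤ := normalizer_ne_top hG hne hRtop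
  have hAH : A ≤ Subgroup.normalizer (R : Set G) :=
    le_trans (le_inf h₁.1.2.2 h₂.1.2.2) Subgroup.inf_normalizer_le_normalizer_inf
  have hAHn := hAH.trans Subgroup.le_normalizer
  obtain ⟨R₁, hR₁, R₂, hR₂, hV₁, hV₂, k, hk, hkR⟩ := exists_bridge hG hA hqA hH hAH
    (inf_mem_inv hAHn h₁.1) (inf_mem_inv hAHn h₂.1)
  have hstep : ∀ Q : Subgroup G, Q ∈ Cfsg.maxInvSubgroups ⊤ A {q} → R < Q →
      ∀ S ∈ Cfsg.maxInvSubgroups ⊤ A {q}, Subgroup.normalizer (R : Set G) ⊓ Q ≤ S →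
      R < Q ⊓ S := by
    intro Q hQ hlt S hS hle
    refine lt_of_lt_of_le (lt_of_le_not_ge ?_
      (exists_mem_normalizer_not_mem (isPGroup_of_mem_inv hQ.1) hlt)) (le_inf inf_le_right hle)
    exact le_inf Subgroup.le_normalizer hlt.le
  have hmeasure : ∀ X : Subgroup G, R < X → Nat.card G - Nat.card X < d := by
    intro X hX
    have h1 : Nat.card R < Nat.card X := lt_of_le_of_ne (Subgroup.card_le_of_le hX.le)
      fun h => hX.ne (Subgroup.eq_of_le_of_card_ge hX.le h.ge)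
    have h2 := Subgroup.card_le_card_group X
    omega
  have s₁ := hstep Q₁ h₁ hlt₁ R₁ hR₁ hV₁
  have s₂ := hstep Q₂ h₂ hlt₂ R₂ hR₂ hV₂
  rw [inf_comm] at s₂
  obtain ⟨k₁, hk₁, e₁⟩ := ih _ (hmeasure _ s₁) Q₁ h₁ R₁ hR₁ rfl (ne_bot_of_gt s₁)
  obtain ⟨k₂, hk₂, e₂⟩ := ih _ (hmeasure _ s₂) R₂ hR₂ Q₂ h₂ rfl (ne_bot_of_gt s₂)
  refine ⟨k₂ * k * k₁, mul_mem (mul_mem hk₂ hk) hk₁, ?_⟩
  rw [e₂, hkR, e₁, Subgroup.map_map, Subgroup.map_map]
  congr 1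
  ext x
  simp [MulAut.conj_apply, mul_assoc]

theorem conj_of_meet {q : ℕ} [Fact q.Prime] (hqA : ¬ q ∣ Nat.card A)
    {H : Subgroup G} (hH : H ≠ ⊤) (hAH : A ≤ H) {Q₁ Q₂ : Subgroup G}
    (h₁ : Q₁ ∈ Cfsg.maxInvSubgroups ⊤ A {q}) (h₂ : Q₂ ∈ Cfsg.maxInvSubgroups ⊤ A {q})
    (hH₁ : H ⊓ Q₁ ≠ ⊥) (hH₂ : H ⊓ Q₂ ≠ ⊥) :
    ∃ k ∈ Cfsg.piCoreOf (Cfsg.primesNotDvd (Nat.card A)) (Subgroup.centralizer (A : Set G)),
      Q₂ = Q₁.map (MulAut.conj k).toMonoidHom := by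
  have hAHn := hAH.trans Subgroup.le_normalizer
  obtain ⟨R₁, hR₁, R₂, hR₂, hV₁, hV₂, k, hk, hkR⟩ := exists_bridge hG hA hqA hH hAH
    (inf_mem_inv hAHn h₁.1) (inf_mem_inv hAHn h₂.1)
  obtain ⟨k₁, hk₁, e₁⟩ := conj_of_inf_ne_bot hG hA hqA Q₁ h₁ R₁ hR₁
    fun h => hH₁ (eq_bot_iff.mpr (h ▸ le_inf inf_le_right hV₁))
  obtain ⟨k₂, hk₂, e₂⟩ := conj_of_inf_ne_bot hG hA hqA R₂ hR₂ Q₂ h₂
    fun h => hH₂ (eq_bot_iff.mpr (h ▸ le_inf hV₂ inf_le_right))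
  refine ⟨k₂ * k * k₁, mul_mem (mul_mem hk₂ hk) hk₁, ?_⟩
  rw [e₂, hkR, e₁, Subgroup.map_map, Subgroup.map_map]
  congr 1
  ext x
  simp [MulAut.conj_apply, mul_assoc]

omit hG hA in
theorem eq_of_maxInv_bot {π : Set ℕ} {Q₁ Q₂ : Subgroup G}
    (h₁ : Q₁ ∈ Cfsg.maxInvSubgroups ⊤ A π) (h₂ : Q₂ ∈ Cfsg.maxInvSubgroups ⊤ A π)
    (hb : Q₁ = ⊥ ∨ Q₂ = ⊥) : Q₂ = Q₁.map (MulAut.conj (1 : G)).toMonoidHom := by
  have : Q₁ = Q₂ := by
    rcases hb with h | h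
    · exact (h₁.2 Q₂ h₂.1 (h ▸ bot_le)).symm
    · exact h₂.2 Q₁ h₁.1 (h ▸ bot_le)
  ext x
  simp [this]

omit hA in
theorem exists_elemAbelian_center {n : ℕ}
    (h : ¬ Cfsg.RankLE n ↥(A ⊓ Subgroup.centralizer (A : Set G))) :
    ∃ (p : ℕ) (B : Subgroup G), p.Prime ∧ p ≠ 0 ∧ B ≤ A ⊓ Subgroup.centralizer (A : Set G) ∧
      IsMulCommutative B ∧ (∀ b ∈ B, b ^ p = 1) ∧ p ^ n < Nat.card B := by
  have : IsSimpleGroup G := hG.2.1
  simp only [Cfsg.RankLE, Cfsg.PRankLE] at h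
  push Not at h
  obtain ⟨p, hp, B, hBc, hBp, hcard⟩ := h
  refine ⟨p, B.map (A ⊓ Subgroup.centralizer (A : Set G)).subtype, hp, hp.ne_zero,
    Subgroup.map_subtype_le _, ?_, ?_, ?_⟩
  · refine ⟨⟨?_⟩⟩
    rintro ⟨_, x, hx, rfl⟩ ⟨_, y, hy, rfl⟩
    exact Subtype.ext (congrArg (fun z => ((z : B) : ↥(A ⊓ Subgroup.centralizer (A : Set G))).1)
      (hBc.is_comm.comm ⟨x, hx⟩ ⟨y, hy⟩))
  · rintro _ ⟨x, hx, rfl⟩
    rw [← map_pow, hBp x hx, map_one]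
  · rwa [Nat.card_congr (B.equivMapOfInjective _ (Subgroup.subtype_injective _)).toEquiv.symm]

omit hG hA in
theorem coprime_card_of_dvd {p q : ℕ} {B Q : Subgroup G} (hBA : B ≤ A)
    (hqA : ¬ q ∣ Nat.card A) (hp : p.Prime) (hQ : Q ∈ Cfsg.invSubgroups ⊤ A {q}) :
    (Nat.card B).Coprime (Nat.card Q) :=
  Nat.coprime_of_dvd fun r hr h1 h2 => hqA (by
    rw [← Set.mem_singleton_iff.mp (hQ.2.1 r hr h2)]
    exact h1.trans (Subgroup.card_dvd_of_le hBA))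

theorem conj_of_rank_three (h : ¬ Cfsg.RankLE 2 ↥(A ⊓ Subgroup.centralizer (A : Set G)))
    {q : ℕ} [Fact q.Prime] (hqA : ¬ q ∣ Nat.card A) :
    ∀ Q₁ ∈ Cfsg.maxInvSubgroups ⊤ A {q}, ∀ Q₂ ∈ Cfsg.maxInvSubgroups ⊤ A {q},
    ∃ k ∈ Cfsg.piCoreOf (Cfsg.primesNotDvd (Nat.card A)) (Subgroup.centralizer (A : Set G)),
      Q₂ = Q₁.map (MulAut.conj k).toMonoidHom := by
  intro Q₁ h₁ Q₂ h₂
  by_cases hb : Q₁ = ⊥ ∨ Q₂ = ⊥
  · exact ⟨1, one_mem _, eq_of_maxInv_bot h₁ h₂ hb⟩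
  obtain ⟨p, B, hp, -, hB, hBc, hBp, hcard⟩ := exists_elemAbelian_center hG h
  have := Fact.mk hp
  have hBA : B ≤ A := hB.trans inf_le_left
  obtain ⟨B₁, hB₁, hc₁, hf₁⟩ := exists_centralizer_corank_one hBc hBp (not_or.mp hb).1
    (hBA.trans h₁.1.2.2) (coprime_card_of_dvd hBA hqA hp h₁.1)
  obtain ⟨B₂, hB₂, hc₂, hf₂⟩ := exists_centralizer_corank_one hBc hBp (not_or.mp hb).2
    (hBA.trans h₂.1.2.2) (coprime_card_of_dvd hBA hqA hp h₂.1)
  obtain ⟨b, hb12, hb1⟩ : ∃ b ∈ B₁ ⊓ B₂, b ≠ 1 := by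
    by_contra! hall
    have hbot : B₁ ⊓ B₂ = ⊥ := (Subgroup.eq_bot_iff_forall _).mpr hall
    have hn : B₂ ≤ Subgroup.normalizer (B₁ : Set G) := le_normalizer_of_conj_mem' fun a ha n hn => by
      rw [show a * n = n * a from
        congrArg Subtype.val (hBc.is_comm.comm ⟨a, hB₂ ha⟩ ⟨n, hB₁ hn⟩), mul_inv_cancel_right]
      exact hn
    have e := Cfsg.Agent.Lib.Coprime.card_sup_mul_card_inf hn
    rw [hbot, Subgroup.card_bot, mul_one] at e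
    have l1 := Subgroup.card_le_of_le (sup_le hB₁ hB₂)
    rw [e] at l1
    have l2 : Nat.card B * Nat.card B ≤ (p * p) * (Nat.card B₁ * Nat.card B₂) := by
      calc Nat.card B * Nat.card B ≤ (p * Nat.card B₁) * (p * Nat.card B₂) := Nat.mul_le_mul hc₁ hc₂
        _ = _ := by ring
    have l3 : Nat.card B * Nat.card B ≤ (p * p) * Nat.card B := l2.trans (Nat.mul_le_mul_left _ l1)
    have l4 := Nat.le_of_mul_le_mul_right l3 Nat.card_pos
    rw [pow_two] at hcard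
    omega
  have hbz := hB (hB₁ hb12.1)
  refine conj_of_meet hG hA hqA (centralizer_singleton_ne_top hG hb1)
    (fun a ha => Subgroup.mem_centralizer_singleton_iff.mpr
      (Subgroup.mem_centralizer_iff.mp hbz.2 a ha)) h₁ h₂
    (fun he => hf₁ (eq_bot_iff.mpr (he ▸ fun x hx => ⟨?_, hx.1⟩)))
    (fun he => hf₂ (eq_bot_iff.mpr (he ▸ fun x hx => ⟨?_, hx.1⟩)))
  · exact Subgroup.mem_centralizer_singleton_iff.mpr
      (Subgroup.mem_centralizer_iff.mp hx.2 b hb12.1).symm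
  · exact Subgroup.mem_centralizer_singleton_iff.mpr
      (Subgroup.mem_centralizer_iff.mp hx.2 b hb12.2).symm

theorem conj_of_rank_two (h : ¬ Cfsg.RankLE 1 ↥(A ⊓ Subgroup.centralizer (A : Set G)))
    {q : ℕ} [Fact q.Prime] (hqA : ¬ q ∣ Nat.card A)
    (hqC : q ∣ Nat.card (Subgroup.centralizer (A : Set G))) :
    ∀ Q₁ ∈ Cfsg.maxInvSubgroups ⊤ A {q}, ∀ Q₂ ∈ Cfsg.maxInvSubgroups ⊤ A {q},
    ∃ k ∈ Cfsg.piCoreOf (Cfsg.primesNotDvd (Nat.card A)) (Subgroup.centralizer (A : Set G)),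
      Q₂ = Q₁.map (MulAut.conj k).toMonoidHom := by
  set C := Subgroup.centralizer (A : Set G)
  obtain ⟨x, hx⟩ := exists_prime_orderOf_dvd_card' q hqC
  set V := Subgroup.zpowers (x : G)
  have hVC : V ≤ C := Subgroup.zpowers_le.mpr x.2
  have hxq : orderOf (x : G) = q := by rw [Subgroup.orderOf_coe, hx]
  have hV : V ∈ Cfsg.invSubgroups ⊤ A {q} := by
    refine ⟨le_top, fun r hr hd => ?_, le_normalizer_of_conj_mem' fun a ha n hn => ?_⟩
    · rw [Nat.card_zpowers, hxq] at hd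
      exact Set.mem_singleton_iff.mpr ((Nat.prime_dvd_prime_iff_eq hr Fact.out).mp hd)
    · rw [Subgroup.mem_centralizer_iff.mp (hVC hn) a ha, mul_inv_cancel_right]
      exact hn
  obtain ⟨Q₃, hQ₃mem, hQ₃max⟩ := Finset.exists_max_image
    (Set.toFinite {R : Subgroup G | R ∈ Cfsg.invSubgroups ⊤ A {q} ∧ V ≤ R}).toFinset
    (fun R => Nat.card R) ⟨V, (Set.Finite.mem_toFinset _).mpr ⟨hV, le_rfl⟩⟩
  rw [Set.Finite.mem_toFinset] at hQ₃mem
  have h₃ : Q₃ ∈ Cfsg.maxInvSubgroups ⊤ A {q} := ⟨hQ₃mem.1, fun R hR hle =>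
    (Subgroup.eq_of_le_of_card_ge hle
      (hQ₃max R ((Set.Finite.mem_toFinset _).mpr ⟨hR, hQ₃mem.2.trans hle⟩))).symm⟩
  obtain ⟨p, B, hp, -, hB, hBc, hBp, hcard⟩ := exists_elemAbelian_center hG h
  have := Fact.mk hp
  have hBA : B ≤ A := hB.trans inf_le_left
  have key : ∀ Q ∈ Cfsg.maxInvSubgroups ⊤ A {q}, Q ≠ ⊥ →
      ∃ k ∈ Cfsg.piCoreOf (Cfsg.primesNotDvd (Nat.card A)) C,
        Q = Q₃.map (MulAut.conj k).toMonoidHom := by
    intro Q hQ hne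
    obtain ⟨B₁, hB₁, hc₁, hf₁⟩ := exists_centralizer_corank_one hBc hBp hne
      (hBA.trans hQ.1.2.2) (coprime_card_of_dvd hBA hqA hp hQ.1)
    obtain ⟨b, hb, hb1⟩ : ∃ b ∈ B₁, b ≠ 1 := by
      by_contra! hall
      rw [(Subgroup.eq_bot_iff_forall _).mpr hall, Subgroup.card_bot, mul_one] at hc₁
      rw [pow_one] at hcard
      omega
    have hbz := hB (hB₁ hb)
    refine conj_of_meet hG hA hqA (centralizer_singleton_ne_top hG hb1)
      (fun a ha => Subgroup.mem_centralizer_singleton_iff.mpr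
        (Subgroup.mem_centralizer_iff.mp hbz.2 a ha)) h₃ hQ (fun he => ?_)
      (fun he => hf₁ (eq_bot_iff.mpr (he ▸ fun y hy => ⟨Subgroup.mem_centralizer_singleton_iff.mpr
        (Subgroup.mem_centralizer_iff.mp hy.2 b hb).symm, hy.1⟩)))
    have hxmem : (x : G) ∈ Subgroup.centralizer ({b} : Set G) ⊓ Q₃ :=
      ⟨Subgroup.mem_centralizer_singleton_iff.mpr
        (Subgroup.mem_centralizer_iff.mp x.2 b (hBA (hB₁ hb))).symm,
        hQ₃mem.2 (Subgroup.mem_zpowers _)⟩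
    rw [he, Subgroup.mem_bot] at hxmem
    rw [hxmem, orderOf_one] at hxq
    exact (Fact.out : q.Prime).ne_one hxq.symm
  intro Q₁ h₁ Q₂ h₂
  by_cases hb : Q₁ = ⊥ ∨ Q₂ = ⊥
  · exact ⟨1, one_mem _, eq_of_maxInv_bot h₁ h₂ hb⟩
  obtain ⟨k₁, hk₁, e₁⟩ := key Q₁ h₁ (not_or.mp hb).1
  obtain ⟨k₂, hk₂, e₂⟩ := key Q₂ h₂ (not_or.mp hb).2
  refine ⟨k₂ * k₁⁻¹, mul_mem hk₂ (inv_mem hk₁), ?_⟩
  rw [e₁, e₂, Subgroup.map_map]
  congr 1
  ext y
  simp [MulAut.conj_apply, mul_assoc]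

end

end Cfsg.Agent.Lib.OddLocal
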