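import Cfsg.Prelude.Def_LieExceptional
import Cfsg.Prelude.Def_OddOrderLocal
import Cfsg.Agent.Lib.Cores
import Cfsg.Agent.Lib.Coprime
import Cfsg.Agent.Lib.Solvable.Nilpotent
import Cfsg.Agent.S1459
import Cfsg.Agent.Lib.OddLocal.Transitivity

/-! Groups with nilpotent centralisers: maximal nilpotent subgroups. -/

set_option autoImplicit false

namespace Cfsg.Agent.Lib.OddLocal

universe u

variable {G : Type u} [Group G] [Finite G]

/-- In a nilpotent subgroup elements of coprime orders commute. -/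
theorem commute_of_mem_nilpotent {K : Subgroup G} (hK : Group.IsNilpotent K) {x y : G}
    (hx : x ∈ K) (hy : y ∈ K) (h : (orderOf x).Coprime (orderOf y)) : x * y = y * x :=
  congrArg Subtype.val (Cfsg.Agent.S1459.commute_of_coprime_orderOf (N := K) ⟨x, hx⟩ ⟨y, hy⟩
    (by rwa [← Subgroup.orderOf_coe, ← Subgroup.orderOf_coe]))

/-- An element lies in a subgroup as soon as its `p`-part and `p'`-part do. -/
theorem mem_of_parts (p : ℕ) [Fact p.Prime] {H : Subgroup G} {y : G}
    (h1 : y ^ p ^ (orderOf y).factorization p ∈ H)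
    (h2 : y ^ (orderOf y / p ^ (orderOf y).factorization p) ∈ H) : y ∈ H := by
  have hcop : IsCoprime ((p ^ (orderOf y).factorization p : ℕ) : ℤ)
      ((orderOf y / p ^ (orderOf y).factorization p : ℕ) : ℤ) :=
    Nat.isCoprime_iff_coprime.mpr
      ((Nat.coprime_ordCompl Fact.out (orderOf_pos y).ne').pow_left _)
  obtain ⟨a, b, hab⟩ := hcop
  rw [← zpow_one y, ← hab, zpow_add, mul_comm a, mul_comm b, zpow_mul, zpow_mul,
    zpow_natCast, zpow_natCast]
  exact mul_mem (zpow_mem h1 a) (zpow_mem h2 b)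

theorem orderOf_pPart (p : ℕ) [Fact p.Prime] (y : G) :
    orderOf (y ^ (orderOf y / p ^ (orderOf y).factorization p)) =
      p ^ (orderOf y).factorization p := by
  have h := Nat.ordProj_mul_ordCompl_eq_self (orderOf y) p
  rw [orderOf_pow, Nat.gcd_eq_right (Nat.ordCompl_dvd _ _)]
  exact Nat.div_eq_of_eq_mul_left (Nat.ordCompl_pos p (orderOf_pos y).ne') (by rw [h])

theorem orderOf_pCompl (p : ℕ) [Fact p.Prime] (y : G) :
    (orderOf (y ^ p ^ (orderOf y).factorization p)).Coprime p := by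
  rw [orderOf_pow, Nat.gcd_eq_right (Nat.ordProj_dvd _ _)]
  exact (Nat.coprime_ordCompl Fact.out (orderOf_pos y).ne').symm

theorem centralizer_center_eq {H : Subgroup G} (hCN : Cfsg.IsCNGroup G)
    (hmax : ∀ L : Subgroup G, Group.IsNilpotent L → H ≤ L → L = H) {z : G} (hz : z ∈ H)
    (hz1 : z ≠ 1) (hc : ∀ h ∈ H, h * z = z * h) : Subgroup.centralizer ({z} : Set G) = H :=
  hmax _ (hCN z hz1) fun h hh => Subgroup.mem_centralizer_singleton_iff.mpr (hc h hh)

theorem exists_center_ne_one {H : Subgroup G} (hH : Group.IsNilpotent H) (hne : H ≠ ⊥) :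
    ∃ z ∈ H, z ≠ 1 ∧ ∀ h ∈ H, h * z = z * h := by
  have : Nontrivial H := (Subgroup.nontrivial_iff_ne_bot H).mpr hne
  have hc : Subgroup.center H ≠ ⊥ := fun e =>
    Cfsg.Agent.Lib.Solvable.inf_center_ne_bot (G := H) (N := ⊤) top_ne_bot (by rw [top_inf_eq, e])
  obtain ⟨z, hz, hz1⟩ := exists_ne_one_of_ne_bot hc
  exact ⟨z, z.2, fun h => hz1 (Subtype.ext h), fun h hh =>
    congrArg Subtype.val (Subgroup.mem_center_iff.mp hz ⟨h, hh⟩)⟩
where
  exists_ne_one_of_ne_bot {X : Type u} [Group X] {H : Subgroup X} (h : H ≠ ⊥) :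
      ∃ z, z ∈ H ∧ z ≠ 1 := by
    by_contra! hall
    exact h ((Subgroup.eq_bot_iff_forall _).mpr hall)

/-- A `p`-element centralised by a Sylow subgroup of a nilpotent `H` is central in `H`. -/
theorem mem_center_of_sylow {H : Subgroup G} (hH : Group.IsNilpotent H) (p : ℕ) [Fact p.Prime]
    (P : Sylow p H) {z : G} (hzP : z ∈ (P : Subgroup H).map H.subtype)
    (hc : ∀ h ∈ (P : Subgroup H).map H.subtype, h * z = z * h) :
    ∀ h ∈ H, h * z = z * h := by
  intro h hh
  have hzH : z ∈ H := Subgroup.map_subtype_le _ hzP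
  have hmem : ∀ w : G, w ∈ H → (∃ k, orderOf w = p ^ k) → w ∈ (P : Subgroup H).map H.subtype := by
    intro w hw hk
    refine ⟨⟨w, hw⟩, ?_, rfl⟩
    have hPn : (P : Subgroup H).Normal := Sylow.normal_of_normalizerCondition (Group.normalizerCondition_of_isNilpotent) P
    have hpg : IsPGroup p (Subgroup.zpowers (⟨w, hw⟩ : H)) := by
      obtain ⟨k, hk⟩ := hk
      exact IsPGroup.of_card (n := k) (by rw [Nat.card_zpowers, ← Subgroup.orderOf_coe]; exact hk)
    obtain ⟨Q, hQ⟩ := hpg.exists_le_sylow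
    have : Subsingleton (Sylow p H) := Sylow.unique_of_normal P hPn |>.instSubsingleton
    rw [Subsingleton.elim P Q]
    exact hQ (Subgroup.mem_zpowers _)
  have key : h ∈ Subgroup.centralizer ({z} : Set G) := by
    refine mem_of_parts p ?_ ?_
    · refine Subgroup.mem_centralizer_singleton_iff.mpr (commute_of_mem_nilpotent hH (pow_mem hh _) hzH ?_)
      obtain ⟨k, hk⟩ : ∃ k, orderOf z = p ^ k := by
        obtain ⟨k, hk⟩ := (IsPGroup.iff_orderOf.mp (P.isPGroup'.map H.subtype)) ⟨z, hzP⟩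
        exact ⟨k, by rw [← hk]; exact Subgroup.orderOf_coe ⟨z, hzP⟩⟩
      rw [hk]
      exact (orderOf_pCompl p h).pow_right k
    · exact Subgroup.mem_centralizer_singleton_iff.mpr
        (hc _ (hmem _ (pow_mem hh _) ⟨_, orderOf_pPart p h⟩))
  exact Subgroup.mem_centralizer_singleton_iff.mp key

variable (hCN : Cfsg.IsCNGroup G) {H : Subgroup G} (hH : Group.IsNilpotent H)
    (hmax : ∀ L : Subgroup G, Group.IsNilpotent L → H ≤ L → L = H)

include hCN hH hmax

/-- Maximal nilpotent subgroups of CN-groups are Hall subgroups. -/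
theorem coprime_index_of_maxNilpotent : (Nat.card H).Coprime H.index := by
  refine Nat.coprime_of_dvd fun p hp h1 h2 => ?_
  have := Fact.mk hp
  obtain ⟨P⟩ : Nonempty (Sylow p H) := inferInstance
  set P' := (P : Subgroup H).map H.subtype with hP'
  have hP'p : IsPGroup p P' := P.isPGroup'.map H.subtype
  obtain ⟨S, hS⟩ := hP'p.exists_le_sylow
  have hP'ne : P' ≠ ⊥ := by
    intro e
    rw [hP', Subgroup.map_eq_bot_iff, Subgroup.ker_subtype, le_bot_iff] at e
    exact P.ne_bot_of_dvd_card h1 e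
  have hSn : Group.IsNilpotent (S : Subgroup G) := S.isPGroup'.isNilpotent
  obtain ⟨x, hxP, hx1, hxc⟩ := exists_center_ne_one hP'p.isNilpotent hP'ne
  have hxH := mem_center_of_sylow hH p P hxP hxc
  have hSne : (S : Subgroup G) ≠ ⊥ := fun e => hP'ne (le_bot_iff.mp (e ▸ hS))
  obtain ⟨c, hcS, hc1, hcc⟩ := exists_center_ne_one hSn hSne
  have hcH : c ∈ H := centralizer_center_eq hCN hmax (Subgroup.map_subtype_le _ hxP) hx1 hxH ▸
    Subgroup.mem_centralizer_singleton_iff.mpr (hcc x (hS hxP)).symm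
  obtain ⟨k, hk⟩ : ∃ k, orderOf c = p ^ k := by
    obtain ⟨k, hk⟩ := (IsPGroup.iff_orderOf.mp S.isPGroup') ⟨c, hcS⟩
    exact ⟨k, by rw [← hk]; exact Subgroup.orderOf_coe ⟨c, hcS⟩⟩
  have hcP : c ∈ P' := by
    have hPn : (P : Subgroup H).Normal :=
      Sylow.normal_of_normalizerCondition (Group.normalizerCondition_of_isNilpotent) P
    obtain ⟨Q, hQ⟩ := (IsPGroup.of_card (n := k)
      (show Nat.card (Subgroup.zpowers (⟨c, hcH⟩ : H)) = p ^ k by
        rw [Nat.card_zpowers, ← Subgroup.orderOf_coe]; exact hk)).exists_le_sylow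
    have : Subsingleton (Sylow p H) := Sylow.unique_of_normal P hPn |>.instSubsingleton
    exact ⟨⟨c, hcH⟩, Subsingleton.elim Q P ▸ hQ (Subgroup.mem_zpowers _), rfl⟩
  have hcc' := mem_center_of_sylow hH p P hcP (fun h hh => hcc h (hS hh))
  have hSH : (S : Subgroup G) ≤ H := fun s hs =>
    centralizer_center_eq hCN hmax hcH hc1 hcc' ▸
      Subgroup.mem_centralizer_singleton_iff.mpr (hcc s hs)
  exact S.not_dvd_index (h2.trans (Subgroup.index_dvd_of_le hSH))

/-- The centraliser of a nontrivial element of a Sylow subgroup of a maximal nilpotent subgroup: its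
`p'`-elements lie in `H`. -/
theorem pCompl_mem {p : ℕ} [Fact p.Prime] {x y : G} (hx : x ∈ H) (hx1 : x ≠ 1)
    (hp : p ∣ orderOf x) (hy : y * x = x * y) (hyp : (orderOf y).Coprime p) : y ∈ H := by
  obtain ⟨P⟩ : Nonempty (Sylow p H) := inferInstance
  have hp' : p ∣ Nat.card H := hp.trans (by
    rw [show orderOf x = orderOf (⟨x, hx⟩ : H) from Subgroup.orderOf_coe ⟨x, hx⟩]
    exact orderOf_dvd_natCard _)
  have hP'p : IsPGroup p ((P : Subgroup H).map H.subtype) := P.isPGroup'.map H.subtype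
  have hP'ne : (P : Subgroup H).map H.subtype ≠ ⊥ := by
    intro e
    rw [Subgroup.map_eq_bot_iff, Subgroup.ker_subtype, le_bot_iff] at e
    exact P.ne_bot_of_dvd_card hp' e
  obtain ⟨z, hzP, hz1, hzc⟩ := exists_center_ne_one hP'p.isNilpotent hP'ne
  have hzH := mem_center_of_sylow hH p P hzP hzc
  obtain ⟨k, hk⟩ : ∃ k, orderOf z = p ^ k := by
    obtain ⟨k, hk⟩ := (IsPGroup.iff_orderOf.mp hP'p) ⟨z, hzP⟩
    exact ⟨k, by rw [← hk]; exact Subgroup.orderOf_coe ⟨z, hzP⟩⟩
  have hcomm := commute_of_mem_nilpotent (hCN x hx1)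
    (Subgroup.mem_centralizer_singleton_iff.mpr hy)
    (Subgroup.mem_centralizer_singleton_iff.mpr (hzH x hx).symm)
    (by rw [hk]; exact hyp.pow_right k)
  exact centralizer_center_eq hCN hmax (Subgroup.map_subtype_le _ hzP) hz1 hzH ▸
    Subgroup.mem_centralizer_singleton_iff.mpr hcomm

/-- Maximal nilpotent subgroups whose order is not a prime power are trivial intersection sets. -/
theorem ti_of_not_isPrimePow (hnpp : ¬ IsPrimePow (Nat.card H)) (hne : Nat.card H ≠ 1) (g : G)
    (hg : H.map (MulAut.conj g).toMonoidHom ≠ H) : H ⊓ H.map (MulAut.conj g).toMonoidHom = ⊥ := by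
  by_contra hinf
  apply hg
  set H' := H.map (MulAut.conj g).toMonoidHom with hH'def
  have hH' : Group.IsNilpotent H' :=
    Cfsg.Agent.Lib.Cores.isNilpotent_map (MulAut.conj g).toMonoidHom H
  have hmax' : ∀ L : Subgroup G, Group.IsNilpotent L → H' ≤ L → L = H' := by
    intro L hL hle
    have h1 : L.map (MulAut.conj g⁻¹).toMonoidHom = H := by
      refine hmax _ (Cfsg.Agent.Lib.Cores.isNilpotent_map _ L) fun h hh =>
        ⟨g * h * g⁻¹, hle ⟨h, hh, rfl⟩, by simp [mul_assoc]⟩
    rw [hH'def, ← h1, Subgroup.map_map]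
    ext l
    simp [mul_assoc]
  have hbot := mt Subgroup.card_eq_one.mp hinf
  obtain ⟨p, hp, hpd⟩ := Nat.exists_prime_and_dvd hbot
  have := Fact.mk hp
  obtain ⟨⟨x, hxH, hxH'⟩, hx⟩ := exists_prime_orderOf_dvd_card' p hpd
  rw [← Subgroup.orderOf_coe] at hx
  have hx1 : x ≠ 1 := fun e => hp.ne_one (hx.symm.trans (by simp [e]))
  have hswap : ∀ {A B : Subgroup G}, Group.IsNilpotent A → x ∈ A →
      (∀ y, y * x = x * y → (orderOf y).Coprime p → y ∈ B) →
      ∀ y ∈ A, (orderOf y).Coprime p → y ∈ B := by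
    intro A B hA hxA hB y hy hyp
    exact hB y (commute_of_mem_nilpotent hA hy hxA (hx.symm ▸ hyp)) hyp
  have h1 := hswap hH hxH (fun y hy hyp => pCompl_mem hCN hH' hmax' hxH' hx1 hx.symm.dvd hy hyp)
  have h2 := hswap hH' hxH' (fun y hy hyp => pCompl_mem hCN hH hmax hxH hx1 hx.symm.dvd hy hyp)
  -- a second prime gives a central element of both
  obtain ⟨r, hr, hrH, hrp⟩ : ∃ r, r.Prime ∧ r ∣ Nat.card H ∧ r ≠ p := by
    by_contra! hall
    have := Nat.eq_prime_pow_of_unique_prime_dvd Nat.card_pos.ne' (fun {r} hr hd => hall r hr hd)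
    exact hnpp ⟨p, _, hp.prime, Nat.pos_of_ne_zero (fun h0 => hne (by rw [this, h0, pow_zero])), this.symm⟩
  have := Fact.mk hr
  obtain ⟨R⟩ : Nonempty (Sylow r H) := inferInstance
  have hRp : IsPGroup r ((R : Subgroup H).map H.subtype) := R.isPGroup'.map H.subtype
  have hRne : (R : Subgroup H).map H.subtype ≠ ⊥ := by
    intro e
    rw [Subgroup.map_eq_bot_iff, Subgroup.ker_subtype, le_bot_iff] at e
    exact R.ne_bot_of_dvd_card hrH e
  obtain ⟨w, hwR, hw1, hwc⟩ := exists_center_ne_one hRp.isNilpotent hRne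
  have hwH := mem_center_of_sylow hH r R hwR hwc
  obtain ⟨k, hk⟩ : ∃ k, orderOf w = r ^ k := by
    obtain ⟨k, hk⟩ := (IsPGroup.iff_orderOf.mp hRp) ⟨w, hwR⟩
    exact ⟨k, by rw [← hk]; exact Subgroup.orderOf_coe ⟨w, hwR⟩⟩
  have hwp : (orderOf w).Coprime p := by
    rw [hk]; exact Nat.Coprime.pow_left k ((Nat.coprime_primes hr hp).mpr hrp)
  have hwH' : w ∈ H' := h1 w (Subgroup.map_subtype_le _ hwR) hwp
  have hle : H' ≤ Subgroup.centralizer ({w} : Set G) := by
    intro h hh
    refine mem_of_parts p (Subgroup.mem_centralizer_singleton_iff.mpr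
      (hwH _ (h2 _ (pow_mem hh _) (orderOf_pCompl p h)))) (Subgroup.mem_centralizer_singleton_iff.mpr ?_)
    refine commute_of_mem_nilpotent hH' (pow_mem hh _) hwH' ?_
    rw [orderOf_pPart]
    exact hwp.symm.pow_left _
  exact (hmax' H hH (hle.trans (le_of_eq
    (centralizer_center_eq hCN hmax (Subgroup.map_subtype_le _ hwR) hw1 hwH)))).symm

/-- In a TI maximal nilpotent subgroup, centralisers of nonidentity elements stay inside. -/
theorem centralizer_le_of_ti
    (hti : ∀ g : G, H.map (MulAut.conj g).toMonoidHom ≠ H → H ⊓ H.map (MulAut.conj g).toMonoidHom = ⊥)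
    {x : G} (hx : x ∈ H) (hx1 : x ≠ 1) : Subgroup.centralizer ({x} : Set G) ≤ H := by
  intro y hy
  have hyx := Subgroup.mem_centralizer_singleton_iff.mp hy
  have hyN : H.map (MulAut.conj y).toMonoidHom = H := by
    by_contra hne
    have hmem : x ∈ H ⊓ H.map (MulAut.conj y).toMonoidHom :=
      ⟨hx, x, hx, by simp [hyx, mul_assoc]⟩
    rw [hti y hne] at hmem
    exact hx1 hmem
  obtain ⟨p, hp, hpx⟩ := Nat.exists_prime_and_dvd (mt orderOf_eq_one_iff.mp hx1)
  have := Fact.mk hp
  refine mem_of_parts p ?_ ?_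
  · exact pCompl_mem hCN hH hmax hx hx1 hpx
      (Commute.pow_left hyx _) (orderOf_pCompl p y)
  · set s := y ^ (orderOf y / p ^ (orderOf y).factorization p) with hs
    by_contra hsH
    have hyNorm : y ∈ Subgroup.normalizer (H : Set G) := by
      rw [Subgroup.mem_normalizer_iff]
      intro h
      constructor
      · intro hh; exact hyN ▸ ⟨h, hh, rfl⟩
      · intro hh
        rw [← hyN] at hh
        obtain ⟨h', hh', e⟩ := hh
        exact (MulAut.conj y).injective e ▸ hh'
    have hsN : Subgroup.zpowers s ≤ Subgroup.normalizer (H : Set G) :=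
      Subgroup.zpowers_le.mpr (hs ▸ pow_mem hyNorm _)
    have h1 := Cfsg.Agent.Lib.Coprime.card_sup_mul_card_inf hsN
    have hpH : p ∣ Nat.card H := hpx.trans (by
      rw [show orderOf x = orderOf (⟨x, hx⟩ : H) from Subgroup.orderOf_coe ⟨x, hx⟩]
      exact orderOf_dvd_natCard _)
    have hcop := coprime_index_of_maxNilpotent hCN hH hmax
    have hnd : ¬ p ∣ H.index := fun h => hp.not_dvd_one (hcop ▸ Nat.dvd_gcd hpH h)
    rw [Nat.card_zpowers, orderOf_pPart] at h1
    have hidx := Subgroup.relIndex_mul_index (show H ≤ H ⊔ Subgroup.zpowers s from le_sup_left)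
    have hrel := Cfsg.Agent.Lib.Coprime.relIndex_mul_card (show H ≤ H ⊔ Subgroup.zpowers s from le_sup_left)
    have hdvd : H.relIndex (H ⊔ Subgroup.zpowers s) ∣ p ^ (orderOf y).factorization p :=
      ⟨Nat.card ↥(H ⊓ Subgroup.zpowers s), Nat.eq_of_mul_eq_mul_left (Nat.card_pos (α := H)) (by
        rw [← h1, ← hrel]; ring)⟩
    obtain ⟨i, -, hi⟩ := (Nat.dvd_prime_pow hp).mp hdvd
    rcases Nat.eq_zero_or_pos i with rfl | hipos
    · exact hsH (Subgroup.relIndex_eq_one.mp (by rw [hi, pow_zero])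
        (Subgroup.mem_sup_right (Subgroup.mem_zpowers s)))
    · exact hnd (hidx ▸ dvd_mul_of_dvd_left (hi ▸ dvd_pow_self p hipos.ne') _)

end Cfsg.Agent.Lib.OddLocal

namespace Cfsg.Agent.Lib.OddLocal

universe v

theorem isNilpotent_of_le {G : Type*} [Group G] {A B : Subgroup G} (h : A ≤ B)
    (hB : Group.IsNilpotent B) : Group.IsNilpotent A :=
  Group.nilpotent_of_mulEquiv (Subgroup.subgroupOfEquivOfLe h)

theorem isCNGroup_of_mulEquiv {G K : Type*} [Group G] [Group K] (e : G ≃* K) (h : Cfsg.IsCNGroup G) :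
    Cfsg.IsCNGroup K := by
  intro g hg
  have hg' : e.symm g ≠ 1 := fun he => hg (e.symm.injective (he.trans e.symm.map_one.symm))
  have hn := h _ hg'
  have heq : (Subgroup.centralizer ({e.symm g} : Set G)).map e.toMonoidHom =
      Subgroup.centralizer ({g} : Set K) := by
    ext y
    constructor
    · rintro ⟨z, hz, rfl⟩
      have := congrArg e (Subgroup.mem_centralizer_singleton_iff.mp hz)
      simp only [map_mul, MulEquiv.apply_symm_apply] at this
      exact Subgroup.mem_centralizer_singleton_iff.mpr this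
    · intro hy
      refine ⟨e.symm y, Subgroup.mem_centralizer_singleton_iff.mpr ?_, e.apply_symm_apply y⟩
      rw [← map_mul, ← map_mul, Subgroup.mem_centralizer_singleton_iff.mp hy]
  exact Group.nilpotent_of_mulEquiv
    (((Subgroup.centralizer ({e.symm g} : Set G)).equivMapOfInjective e.toMonoidHom e.injective).trans
      (MulEquiv.subgroupCongr heq))

theorem centralizer_pow_eq {G : Type*} [Group G] [Finite G] {x : G} {m : ℕ}
    (h : (orderOf x).Coprime m) :
    Subgroup.centralizer ({x ^ m} : Set G) = Subgroup.centralizer ({x} : Set G) := by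
  ext y
  simp only [Subgroup.mem_centralizer_singleton_iff]
  constructor
  · intro hy
    obtain ⟨k, hk⟩ := exists_pow_eq_self_of_coprime h.symm
    rw [← hk]
    exact Commute.pow_right hy k
  · intro hy
    exact Commute.pow_right hy m

section

variable {G : Type v} [Group G] [Finite G] (hCN : Cfsg.IsCNGroup G)
  (V : Subgroup G) [V.Normal] (hVc : IsMulCommutative V) {p : ℕ} [Fact p.Prime]
  (hVp : IsPGroup p V) (hV : V ≠ ⊥)

include hCN hVc hVp hV

theorem isNilpotent_centralizer_quotient (xb : G ⧸ V) (hxb : xb ≠ 1) :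
    Group.IsNilpotent (Subgroup.centralizer ({xb} : Set (G ⧸ V))) := by
  classical
  obtain ⟨r, hr, hrd⟩ := Nat.exists_prime_and_dvd (mt orderOf_eq_one_iff.mp hxb)
  have := Fact.mk hr
  set yb := xb ^ (orderOf xb / r) with hyb
  have hy : orderOf yb = r := orderOf_pow_orderOf_div (orderOf_pos xb).ne' hrd
  refine isNilpotent_of_le (B := Subgroup.centralizer ({yb} : Set (G ⧸ V))) (fun z hz =>
    Subgroup.mem_centralizer_singleton_iff.mpr
      (Commute.pow_right (Subgroup.mem_centralizer_singleton_iff.mp hz) _)) ?_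
  obtain ⟨g, hg⟩ := QuotientGroup.mk'_surjective V yb
  by_cases hrp : r = p
  · subst hrp
    set D := (Subgroup.centralizer ({yb} : Set (G ⧸ V))).comap (QuotientGroup.mk' V) with hD
    set X := V ⊔ Subgroup.zpowers g with hX
    have hgD : g ∈ D := by
      rw [hD, Subgroup.mem_comap, hg, Subgroup.mem_centralizer_singleton_iff]
    have hfix : ∀ d ∈ D, g * d * g⁻¹ * d⁻¹ ∈ V ∧ d * g * d⁻¹ * g⁻¹ ∈ V := by
      intro d hd
      rw [hD, Subgroup.mem_comap, Subgroup.mem_centralizer_singleton_iff, ← hg] at hd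
      constructor <;> rw [← QuotientGroup.eq_one_iff, ← QuotientGroup.mk'_apply] <;>
        simp only [map_mul, map_inv]
      · rw [← hd]; group
      · rw [hd]; group
    have hgn : Subgroup.zpowers g ≤ Subgroup.normalizer (V : Set G) := Subgroup.le_normalizer_of_normal
    have hgp : IsPGroup r (Subgroup.zpowers g) := by
      obtain ⟨k, hk⟩ := IsPGroup.iff_card.mp hVp
      have h1 : g ^ r ∈ V := by
        rw [← QuotientGroup.eq_one_iff, ← QuotientGroup.mk'_apply, map_pow, hg, ← hy,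
          pow_orderOf_eq_one]
      have h2 : g ^ (r * r ^ k) = 1 := by
        rw [pow_mul, ← hk]
        exact congrArg Subtype.val (pow_card_eq_one' (x := (⟨_, h1⟩ : V)))
      obtain ⟨i, -, hi⟩ := (Nat.dvd_prime_pow hr).mp
        (show orderOf g ∣ r ^ (k + 1) by rw [pow_succ']; exact orderOf_dvd_of_pow_eq_one h2)
      exact IsPGroup.of_card (n := i) (by rw [Nat.card_zpowers, hi])
    have hXp : IsPGroup r X := hVp.to_sup_of_normal_left hgp
    set W := V ⊓ Subgroup.centralizer ({g} : Set G) with hW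
    have hcoset : ∀ v ∈ V, ∀ w ∈ W, (g * v) * w = w * (g * v) := by
      intro v hv w hw
      have h1 : v * w = w * v := congrArg Subtype.val (hVc.is_comm.comm ⟨v, hv⟩ ⟨w, hw.1⟩)
      rw [mul_assoc, h1, ← mul_assoc, ← Subgroup.mem_centralizer_singleton_iff.mp hw.2, mul_assoc]
    have hWne : W ≠ ⊥ := by
      have hXn : Group.IsNilpotent X := hXp.isNilpotent
      have hVn : (V.subgroupOf X).Normal := Subgroup.normal_subgroupOf
      have hne : V.subgroupOf X ≠ ⊥ := by
        rw [Ne, Subgroup.subgroupOf_eq_bot, disjoint_iff, inf_eq_left.mpr le_sup_left]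
        exact hV
      intro hbot
      refine Cfsg.Agent.Lib.Solvable.inf_center_ne_bot hne ((Subgroup.eq_bot_iff_forall _).mpr ?_)
      rintro ⟨z, hzX⟩ ⟨hzV, hzc⟩
      have : z ∈ W := ⟨hzV, Subgroup.mem_centralizer_singleton_iff.mpr
        (congrArg Subtype.val (Subgroup.mem_center_iff.mp hzc
          ⟨g, Subgroup.mem_sup_right (Subgroup.mem_zpowers g)⟩)).symm⟩
      rw [hbot, Subgroup.mem_bot] at this
      exact Subtype.ext this
    have hDW : D ≤ Subgroup.normalizer (W : Set G) := by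
      refine le_normalizer_of_conj_mem' fun d hd w hw =>
        ⟨(inferInstance : V.Normal).conj_mem w hw.1 d, Subgroup.mem_centralizer_singleton_iff.mpr ?_⟩
      have h1 := hcoset _ ((inferInstance : V.Normal).conj_mem _ (hfix d⁻¹ (inv_mem hd)).2 g⁻¹) w hw
      have e : g * (g⁻¹ * (d⁻¹ * g * d⁻¹⁻¹ * g⁻¹) * g⁻¹⁻¹) = d⁻¹ * g * d := by group
      rw [e] at h1
      calc d * w * d⁻¹ * g = d * (w * (d⁻¹ * g * d)) * d⁻¹ := by group
        _ = d * ((d⁻¹ * g * d) * w) * d⁻¹ := by rw [h1]
        _ = g * (d * w * d⁻¹) := by group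
    have hp' : ∀ d ∈ D, (orderOf d).Coprime r → ∀ w ∈ W, d * w = w * d := by
      intro d hd hdp w hw
      obtain ⟨j, hj⟩ := IsPGroup.iff_card.mp hVp
      obtain ⟨v, hv, hvc⟩ := Cfsg.Agent.Lib.Coprime.exists_mem_centralizer_of_fixed_coset
        (A := Subgroup.zpowers d) (N := V) (k := g) Subgroup.le_normalizer_of_normal
        (by rw [Nat.card_zpowers, hj]; exact hdp.pow_right j)
        (Or.inl (Cfsg.Agent.Lib.Coprime.isSolvable_zpowers d))
        (Subgroup.le_normalizer_of_normal (Subgroup.mem_top g))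
        (fun a ha => (hfix a (Subgroup.zpowers_le.mpr hd ha)).2)
      have hgv : g * v ≠ 1 := by
        intro e
        have : QuotientGroup.mk' V g = 1 := by
          rw [QuotientGroup.mk'_apply, QuotientGroup.eq_one_iff, eq_inv_of_mul_eq_one_left e]
          exact inv_mem hv
        rw [hg] at this
        rw [this, orderOf_one] at hy
        exact hr.ne_one hy.symm
      refine commute_of_mem_nilpotent (hCN _ hgv) ?_ ?_ ?_
      · exact Subgroup.mem_centralizer_singleton_iff.mpr
          (Subgroup.mem_centralizer_iff.mp hvc d (Subgroup.mem_zpowers d))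
      · exact Subgroup.mem_centralizer_singleton_iff.mpr (hcoset v hv w hw).symm
      · obtain ⟨i, hi⟩ := (IsPGroup.iff_orderOf.mp hVp) ⟨w, hw.1⟩
        rw [show orderOf w = r ^ i by rw [← hi]; exact Subgroup.orderOf_coe ⟨w, hw.1⟩]
        exact hdp.pow_right i
    obtain ⟨S⟩ : Nonempty (Sylow r D) := inferInstance
    obtain ⟨z, hzW, hz1, hzS⟩ : ∃ z ∈ W, z ≠ 1 ∧ ∀ s ∈ (S : Subgroup D).map D.subtype, s * z = z * s := by
      set S' := (S : Subgroup D).map D.subtype
      have hS'W : S' ≤ Subgroup.normalizer (W : Set G) := (Subgroup.map_subtype_le _).trans hDW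
      have hWn : (W.subgroupOf (W ⊔ S')).Normal :=
        Subgroup.normal_subgroupOf_of_le_normalizer (H := W ⊔ S') (sup_le Subgroup.le_normalizer hS'W)
      have hWS : IsPGroup r ↥(W ⊔ S') :=
        IsPGroup.to_sup_of_normal_left' (hVp.to_le inf_le_left) (S.isPGroup'.map D.subtype) hS'W
      have := hWS.isNilpotent
      have hne : W.subgroupOf (W ⊔ S') ≠ ⊥ := by
        rw [Ne, Subgroup.subgroupOf_eq_bot, disjoint_iff, inf_eq_left.mpr le_sup_left]
        exact hWne
      obtain ⟨z, hz, hz1⟩ := exists_center_ne_one.exists_ne_one_of_ne_bot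
        (Cfsg.Agent.Lib.Solvable.inf_center_ne_bot hne)
      exact ⟨z, hz.1, fun h => hz1 (Subtype.ext h), fun s hs =>
        congrArg Subtype.val (Subgroup.mem_center_iff.mp hz.2 ⟨s, Subgroup.mem_sup_right hs⟩)⟩
    have hDz : D ≤ Subgroup.centralizer ({z} : Set G) := by
      rw [← Subgroup.subgroupOf_eq_top, ← Subgroup.index_eq_one]
      refine Nat.eq_one_iff_not_exists_prime_dvd.mpr fun q hq hqd => ?_
      have := Fact.mk hq
      by_cases hqr : q = r
      · subst hqr
        exact S.not_dvd_index (hqd.trans (Subgroup.index_dvd_of_le fun s hs =>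
          Subgroup.mem_centralizer_singleton_iff.mpr (hzS _ ⟨s, hs, rfl⟩)))
      · obtain ⟨Q⟩ : Nonempty (Sylow q D) := inferInstance
        refine Q.not_dvd_index (hqd.trans (Subgroup.index_dvd_of_le fun s hs => ?_))
        refine Subgroup.mem_centralizer_singleton_iff.mpr (hp' _ s.2 ?_ z hzW)
        obtain ⟨i, hi⟩ := (IsPGroup.iff_orderOf.mp Q.isPGroup') ⟨s, hs⟩
        have e : orderOf (s : G) = q ^ i := by
          rw [← hi, ← Subgroup.orderOf_coe (⟨s, hs⟩ : (Q : Subgroup D)), Subgroup.orderOf_coe]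
        rw [e]
        exact Nat.Coprime.pow_left i ((Nat.coprime_primes hq hr).mpr hqr)
    have hDn := isNilpotent_of_le hDz (hCN z hz1)
    have := Cfsg.Agent.Lib.Cores.isNilpotent_map (QuotientGroup.mk' V) D
    rwa [hD, Subgroup.map_comap_eq_self_of_surjective (QuotientGroup.mk'_surjective V)] at this
  · set k := (orderOf g).factorization p
    set x := g ^ p ^ k with hx
    have hcop : (orderOf yb).Coprime (p ^ k) := by
      rw [hy]; exact Nat.Coprime.pow_right k ((Nat.coprime_primes hr Fact.out).mpr hrp)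
    rw [← centralizer_pow_eq hcop, show yb ^ p ^ k = QuotientGroup.mk' V x by rw [hx, map_pow, hg]]
    have hx1 : x ≠ 1 := by
      intro e
      have h1 : yb ^ p ^ k = 1 := by rw [← hg, ← map_pow, ← hx, e, map_one]
      have h2 : r ∣ p ^ k := hy ▸ orderOf_dvd_of_pow_eq_one h1
      exact hrp ((Nat.prime_dvd_prime_iff_eq hr Fact.out).mp (hr.dvd_of_dvd_pow h2))
    have := hCN x hx1
    have := Cfsg.Agent.Lib.Cores.isNilpotent_map (QuotientGroup.mk' V)
      (Subgroup.centralizer ({x} : Set G))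
    refine isNilpotent_of_le ?_ this
    intro db hdb
    obtain ⟨d, rfl⟩ := QuotientGroup.mk'_surjective V db
    have hdb' := Subgroup.mem_centralizer_singleton_iff.mp hdb
    have hdx : ∀ a ∈ Subgroup.zpowers x, a * d * a⁻¹ * d⁻¹ ∈ V := by
      intro a ha
      obtain ⟨i, rfl⟩ := Subgroup.mem_zpowers_iff.mp ha
      rw [← QuotientGroup.eq_one_iff, ← QuotientGroup.mk'_apply]
      simp only [map_mul, map_inv, map_zpow]
      rw [← (Commute.zpow_right hdb' i).eq]
      group
    obtain ⟨j, hj⟩ := IsPGroup.iff_card.mp hVp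
    obtain ⟨v, hv, hvc⟩ := Cfsg.Agent.Lib.Coprime.exists_mem_centralizer_of_fixed_coset
      (A := Subgroup.zpowers x) (N := V) (k := d) Subgroup.le_normalizer_of_normal
      (by rw [Nat.card_zpowers, hj]; exact (orderOf_pCompl p g).pow_right j)
      (Or.inl (Cfsg.Agent.Lib.Coprime.isSolvable_zpowers x))
      (Subgroup.le_normalizer_of_normal (Subgroup.mem_top d)) hdx
    refine ⟨d * v, Subgroup.mem_centralizer_singleton_iff.mpr
      (Subgroup.mem_centralizer_iff.mp hvc x (Subgroup.mem_zpowers x)).symm, ?_⟩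
    rw [map_mul]
    simp [(QuotientGroup.eq_one_iff v).mpr hv]

end

theorem isCNGroup_quotient {G : Type v} [Group G] [Finite G] (hCN : Cfsg.IsCNGroup G)
    (H : Subgroup G) [H.Normal] (hH : Group.IsSolvable H) : Cfsg.IsCNGroup (G ⧸ H) := by
  obtain ⟨c, hc⟩ : ∃ c, Nat.card G = c := ⟨_, rfl⟩
  induction c using Nat.strongRecOn generalizing G with
  | ind c ih =>
  by_cases hbot : H = ⊥
  · subst hbot
    exact isCNGroup_of_mulEquiv (QuotientGroup.quotientBot (G := G)).symm hCN
  obtain ⟨p, V, hp, hVn, hV, hVH, hVc, hVp, -⟩ :=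
    Cfsg.Agent.Lib.Coprime.exists_normal_abelian_pgroup_le hbot hH
  have := Fact.mk hp
  have := hVn
  have hCN1 : Cfsg.IsCNGroup (G ⧸ V) := fun xb hxb =>
    isNilpotent_centralizer_quotient hCN V hVc hVp hV xb hxb
  have hlt : Nat.card (G ⧸ V) < c := by
    rw [← hc, ← V.index_mul_card, ← Subgroup.index_eq_card]
    refine lt_mul_of_one_lt_right (Nat.pos_of_ne_zero V.index_ne_zero_of_finite) ?_
    rw [Finite.one_lt_card_iff_nontrivial]
    exact (Subgroup.nontrivial_iff_ne_bot V).mpr hV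
  have hmn : (H.map (QuotientGroup.mk' V)).Normal :=
    Subgroup.Normal.map inferInstance _ (QuotientGroup.mk'_surjective V)
  exact isCNGroup_of_mulEquiv (QuotientGroup.quotientQuotientEquivQuotient V H hVH)
    (ih _ hlt hCN1 (H.map (QuotientGroup.mk' V))
      (Cfsg.Agent.Lib.Coprime.isSolvable_map (QuotientGroup.mk' V) hH) rfl)

end Cfsg.Agent.Lib.OddLocal
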