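import Mathlib.GroupTheory.PGroup
import Mathlib.GroupTheory.Nilpotent
import Mathlib.GroupTheory.Commutator.Basic
import Cfsg.Agent.Lib.Coprime.PxQ
import Cfsg.Agent.Lib.LocalEven.Series

/-! An invariant `p'`-group of a `p`-group action that fixes every fixed point of the `p`-group acts
trivially: for odd `p` (Baer trick), and for class at most two. -/

set_option autoImplicit false

open scoped commutatorElement

namespace Cfsg.Agent.Lib.OddLocal

universe u v

/-- The abelian case, by averaging. -/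
theorem smul_eq_of_fixed_le {B : Type u} [CommGroup B] [Finite B] {L : Type v} [Group L] [Finite L]
    [MulDistribMulAction L B] {p : ℕ} [Fact p.Prime] (hB : IsPGroup p B) {Q E : Subgroup L}
    (hE : IsPGroup p E) (hEQ : E ≤ Subgroup.normalizer (Q : Set L)) (hQ : (Nat.card Q).Coprime p)
    (hfix : ∀ b : B, (∀ e ∈ E, e • b = b) → ∀ y ∈ Q, y • b = b) :
    ∀ y ∈ Q, ∀ b : B, y • b = b := by
  classical
  have : Fintype Q := Fintype.ofFinite _
  let π : B →* B :=
    { toFun := fun b => ∏ y : Q, (y : L) • b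
      map_one' := by simp
      map_mul' := fun a b => by simp [smul_mul', Finset.prod_mul_distrib] }
  have hπQ : ∀ y₀ : Q, ∀ b, π ((y₀ : L) • b) = π b := by
    intro y₀ b
    show ∏ y : Q, (y : L) • ((y₀ : L) • b) = ∏ y : Q, (y : L) • b
    exact Fintype.prod_equiv (Equiv.mulRight y₀) _ _ fun y => by simp [mul_smul]
  have hπE : ∀ e ∈ E, ∀ b, π (e • b) = e • π b := by
    intro e he b
    show ∏ y : Q, (y : L) • (e • b) = e • ∏ y : Q, (y : L) • b
    rw [Finset.smul_prod']
    let σ : Q ≃ Q :=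
      { toFun := fun y => ⟨e⁻¹ * y * e, (Subgroup.mem_normalizer_iff''.mp (hEQ he) _).mp y.2⟩
        invFun := fun y => ⟨e * y * e⁻¹, (Subgroup.mem_normalizer_iff.mp (hEQ he) _).mp y.2⟩
        left_inv := fun y => Subtype.ext (by simp [mul_assoc])
        right_inv := fun y => Subtype.ext (by simp [mul_assoc]) }
    exact Fintype.prod_equiv σ _ _ fun y => by
      show (y : L) • e • b = e • (e⁻¹ * (y : L) * e) • b
      rw [← mul_smul, ← mul_smul]
      congr 1
      group
  have hker : π.ker = ⊥ := by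
    by_contra hne
    let act : MulAction E π.ker :=
      { smul := fun e k => ⟨(e : L) • (k : B), by rw [MonoidHom.mem_ker, hπE _ e.2, k.2, smul_one]⟩
        one_smul := fun k => Subtype.ext (one_smul L (k : B))
        mul_smul := fun e f k => Subtype.ext (mul_smul (e : L) (f : L) (k : B)) }
    have hd : p ∣ Nat.card π.ker := by
      obtain ⟨n, hn⟩ := IsPGroup.iff_card.mp (hB.to_subgroup π.ker)
      have hn0 : n ≠ 0 := fun h => hne (Subgroup.card_eq_one.mp (by rw [hn, h, pow_zero]))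
      exact hn ▸ dvd_pow_self p hn0
    have h1 : (1 : π.ker) ∈ MulAction.fixedPoints E π.ker := fun e => Subtype.ext (smul_one (e : L))
    obtain ⟨k, hk, hk1⟩ := hE.exists_fixed_point_of_prime_dvd_card_of_fixed_point _ hd h1
    apply hk1
    have hkQ : ∀ y ∈ Q, y • (k : B) = k :=
      hfix k fun e he => congrArg Subtype.val (hk ⟨e, he⟩)
    have h2 : (k : B) ^ Nat.card Q = 1 := by
      have h3 : π (k : B) = (k : B) ^ Nat.card Q := by
        show ∏ y : Q, (y : L) • (k : B) = _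
        rw [Finset.prod_congr rfl fun (y : Q) _ => hkQ y y.2, Finset.prod_const, Nat.card_eq_fintype_card,
          Finset.card_univ]
      rw [← h3, k.2]
    refine Subtype.ext (orderOf_eq_one_iff.mp ?_).symm
    obtain ⟨m, hm⟩ := IsPGroup.iff_orderOf.mp hB (k : B)
    refine Nat.eq_one_of_dvd_coprimes (hQ.pow_right m) (orderOf_dvd_of_pow_eq_one h2) (hm ▸ dvd_rfl)
  intro y hy b
  exact (MonoidHom.ker_eq_bot_iff π).mp hker (hπQ ⟨y, hy⟩ b)

/-- Carrier of the Baer group of a group of class two and odd order. -/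
structure BaerType (C : Type u) where
  val : C

theorem BaerType.ext' {C : Type u} {a b : BaerType C} (h : a.val = b.val) : a = b := by
  cases a; cases b; simp_all

section Baer

variable {C : Type u} [Group C] (h2 : ∀ x y z : C, Commute ⁅x, y⁆ z) (k : ℕ)

include h2

theorem commutatorElement_mul_right' (x y z : C) : ⁅z, x * y⁆ = ⁅z, x⁆ * ⁅z, y⁆ := by
  calc ⁅z, x * y⁆ = ⁅z, x⁆ * (x * ⁅z, y⁆ * x⁻¹) := by simp [commutatorElement_def, mul_assoc]
    _ = _ := by rw [← (h2 z y x).eq, mul_inv_cancel_right]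

theorem commutatorElement_mul_left' (x y z : C) : ⁅x * y, z⁆ = ⁅x, z⁆ * ⁅y, z⁆ := by
  rw [← commutatorElement_inv z, commutatorElement_mul_right' h2, mul_inv_rev,
    commutatorElement_inv, commutatorElement_inv]
  exact (h2 y z _).eq

theorem commutatorElement_central_right (z c : C) (hc : ∀ w, Commute c w) : ⁅z, c⁆ = 1 :=
  commutatorElement_eq_one_iff_commute.mpr (hc z).symm

/-- The Baer group. -/
@[reducible] def baerGroup (hk : ∀ x y : C, ⁅x, y⁆ ^ (2 * k) = ⁅x, y⁆) : CommGroup (BaerType C) where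
  mul a b := ⟨a.val * b.val * ⁅b.val, a.val⁆ ^ k⟩
  one := ⟨1⟩
  inv a := ⟨a.val⁻¹⟩
  mul_assoc a b c := by
    obtain ⟨x⟩ := a
    obtain ⟨y⟩ := b
    obtain ⟨z⟩ := c
    apply BaerType.ext'
    show x * y * ⁅y, x⁆ ^ k * z * ⁅z, x * y * ⁅y, x⁆ ^ k⁆ ^ k =
      x * (y * z * ⁅z, y⁆ ^ k) * ⁅y * z * ⁅z, y⁆ ^ k, x⁆ ^ k
    have hc : ∀ a b w : C, Commute (⁅a, b⁆ ^ k) w := fun a b w => (h2 a b w).pow_left k
    have e1 : ⁅z, x * y * ⁅y, x⁆ ^ k⁆ = ⁅z, x⁆ * ⁅z, y⁆ := by
      rw [commutatorElement_mul_right' h2, commutatorElement_central_right h2 z _ (hc y x), mul_one,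
        commutatorElement_mul_right' h2]
    have e2 : ⁅y * z * ⁅z, y⁆ ^ k, x⁆ = ⁅y, x⁆ * ⁅z, x⁆ := by
      rw [commutatorElement_mul_left' h2, commutatorElement_mul_left' h2,
        commutatorElement_eq_one_iff_commute.mpr (hc z y x), mul_one]
    rw [e1, e2, (h2 z x _).mul_pow, (h2 y x _).mul_pow]
    calc x * y * ⁅y, x⁆ ^ k * z * (⁅z, x⁆ ^ k * ⁅z, y⁆ ^ k)
        = x * y * (⁅y, x⁆ ^ k * z) * (⁅z, x⁆ ^ k * ⁅z, y⁆ ^ k) := by group
      _ = x * y * (z * ⁅y, x⁆ ^ k) * (⁅z, x⁆ ^ k * ⁅z, y⁆ ^ k) := by rw [(hc y x z).eq]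
      _ = x * y * z * ((⁅y, x⁆ ^ k * ⁅z, x⁆ ^ k) * ⁅z, y⁆ ^ k) := by group
      _ = x * y * z * (⁅z, y⁆ ^ k * (⁅y, x⁆ ^ k * ⁅z, x⁆ ^ k)) := by rw [← (hc z y _).eq]
      _ = _ := by group
  one_mul a := BaerType.ext' (by
    show (1 : C) * a.val * ⁅a.val, (1 : C)⁆ ^ k = a.val
    simp)
  mul_one a := BaerType.ext' (by
    show a.val * (1 : C) * ⁅(1 : C), a.val⁆ ^ k = a.val
    simp)
  inv_mul_cancel a := BaerType.ext' (by
    show a.val⁻¹ * a.val * ⁅a.val, a.val⁻¹⁆ ^ k = (1 : C)
    simp [commutatorElement_def])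
  mul_comm a b := by
    obtain ⟨x⟩ := a
    obtain ⟨y⟩ := b
    apply BaerType.ext'
    show x * y * ⁅y, x⁆ ^ k = y * x * ⁅x, y⁆ ^ k
    have e1 : y * x = ⁅y, x⁆ * (x * y) := by simp [commutatorElement_def, mul_assoc]
    have e2 : ⁅x, y⁆ ^ k = ((⁅y, x⁆) ^ k)⁻¹ := by rw [← inv_pow, commutatorElement_inv]
    have e3 : ⁅y, x⁆ = ⁅y, x⁆ ^ k * ⁅y, x⁆ ^ k := by rw [← pow_add, ← two_mul, hk]
    rw [e1, e2, (h2 y x _).eq]
    generalize ⁅y, x⁆ ^ k = s at e3 ⊢
    rw [e3]
    group

end Baer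

variable {G : Type u} [Group G] [Finite G] {p : ℕ} [Fact p.Prime]

theorem le_centralizer_of_fixed_classTwo (hp : p ≠ 2) {C E Q : Subgroup G} (hC : IsPGroup p C)
    (hclass : ∀ x ∈ C, ∀ y ∈ C, ∀ z ∈ C, Commute ⁅x, y⁆ z) (hE : IsPGroup p E)
    (hEC : E ≤ Subgroup.normalizer (C : Set G)) (hQC : Q ≤ Subgroup.normalizer (C : Set G))
    (hEQ : E ≤ Subgroup.normalizer (Q : Set G)) (hQ : (Nat.card Q).Coprime p)
    (hfix : C ⊓ Subgroup.centralizer (E : Set G) ≤ Subgroup.centralizer (Q : Set G)) :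
    Q ≤ Subgroup.centralizer (C : Set G) := by
  have hodd : Odd (Nat.card C) := by
    obtain ⟨n, hn⟩ := IsPGroup.iff_card.mp hC
    exact hn ▸ ((Fact.out : p.Prime).odd_of_ne_two hp).pow
  have h2 : ∀ x y z : C, Commute ⁅x, y⁆ z := fun x y z => Subtype.ext (hclass x x.2 y y.2 z z.2)
  obtain ⟨j, hj⟩ := hodd
  have hk : ∀ x y : C, ⁅x, y⁆ ^ (2 * (j + 1)) = ⁅x, y⁆ := fun x y => by
    rw [show 2 * (j + 1) = Nat.card C + 1 by omega, pow_succ, pow_card_eq_one', one_mul]
  letI := baerGroup h2 (j + 1) hk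
  set N := Subgroup.normalizer (C : Set G) with hN
  let θ : N → C →* C := fun n =>
    { toFun := fun x => ⟨(n : G) * x * (n : G)⁻¹, (Subgroup.mem_normalizer_iff.mp n.2 _).mp x.2⟩
      map_one' := Subtype.ext (by simp)
      map_mul' := fun x y => Subtype.ext (by simp [mul_assoc]) }
  letI act : MulDistribMulAction N (BaerType C) :=
    { smul := fun n a => ⟨θ n a.val⟩
      one_smul := fun a => BaerType.ext' (Subtype.ext (by show (1 : G) * a.val * (1 : G)⁻¹ = a.val; simp))
      mul_smul := fun m n a => BaerType.ext' (Subtype.ext (by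
        show ((m : G) * n) * a.val * ((m : G) * n)⁻¹ = m * (n * a.val * (n : G)⁻¹) * (m : G)⁻¹
        group))
      smul_mul := fun n a b => BaerType.ext' (by
        show θ n (a.val * b.val * ⁅b.val, a.val⁆ ^ (j + 1)) = _
        rw [map_mul, map_mul, map_pow, map_commutatorElement]
        rfl)
      smul_one := fun n => BaerType.ext' (map_one (θ n)) }
  have : Finite (BaerType C) := Finite.of_equiv C ⟨fun x => ⟨x⟩, BaerType.val, fun _ => rfl, fun _ => rfl⟩
  have hB : IsPGroup p (BaerType C) := by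
    obtain ⟨n, hn⟩ := IsPGroup.iff_card.mp hC
    exact IsPGroup.of_card (n := n) ((Nat.card_congr
      ⟨BaerType.val, fun x => ⟨x⟩, fun _ => rfl, fun _ => rfl⟩).trans hn)
  have key := smul_eq_of_fixed_le hB (Q := Q.subgroupOf N) (E := E.subgroupOf N)
    (hE.of_equiv (Subgroup.subgroupOfEquivOfLe hEC).symm)
    (fun e he => Subgroup.mem_normalizer_iff.mpr fun y =>
      Subgroup.mem_normalizer_iff.mp (hEQ he) y)
    (by rw [Nat.card_congr (Subgroup.subgroupOfEquivOfLe hQC).toEquiv]; exact hQ)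
    (fun b hb y hy => BaerType.ext' (Subtype.ext (by
      have hbC : (b.val : G) ∈ Subgroup.centralizer (Q : Set G) :=
        hfix ⟨b.val.2, Subgroup.mem_centralizer_iff.mpr fun e he => by
          have h1 : e * (b.val : G) * e⁻¹ = b.val :=
            congrArg (fun a : BaerType C => (a.val : G)) (hb ⟨e, hEC he⟩ he)
          exact mul_inv_eq_iff_eq_mul.mp h1⟩
      show (y : G) * b.val * (y : G)⁻¹ = b.val
      rw [Subgroup.mem_centralizer_iff.mp hbC y hy, mul_inv_cancel_right])))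
  intro y hy
  rw [Subgroup.mem_centralizer_iff]
  intro x hx
  have h1 : y * x * y⁻¹ = x :=
    congrArg (fun a : BaerType C => (a.val : G)) (key ⟨y, hQC hy⟩ hy ⟨⟨x, hx⟩⟩)
  exact (mul_inv_eq_iff_eq_mul.mp h1).symm

/-- For odd `p`, by reduction to class two. -/
theorem le_centralizer_of_fixed_odd (hp : p ≠ 2) {P E Q : Subgroup G} (hP : IsPGroup p P)
    (hE : IsPGroup p E) (hEP : E ≤ Subgroup.normalizer (P : Set G))
    (hQP : Q ≤ Subgroup.normalizer (P : Set G)) (hEQ : E ≤ Subgroup.normalizer (Q : Set G))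
    (hQ : (Nat.card Q).Coprime p)
    (hfix : P ⊓ Subgroup.centralizer (E : Set G) ≤ Subgroup.centralizer (Q : Set G)) :
    Q ≤ Subgroup.centralizer (P : Set G) := by
  obtain ⟨c, hc⟩ : ∃ c, Nat.card P = c := ⟨_, rfl⟩
  induction c using Nat.strongRecOn generalizing P with
  | ind c ih =>
  by_cases hP0 : P = ⊥
  · intro q hq
    rw [Subgroup.mem_centralizer_iff, hP0]
    intro x hx
    rw [SetLike.mem_coe, Subgroup.mem_bot] at hx
    simp [hx]
  obtain ⟨n, hn⟩ := IsPGroup.iff_card.mp hP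
  have hcopP : (Nat.card Q).Coprime (Nat.card P) := hn ▸ hQ.pow_right n
  have hsub : ∀ R : Subgroup G, R < P → E ≤ Subgroup.normalizer (R : Set G) →
      Q ≤ Subgroup.normalizer (R : Set G) → Q ≤ Subgroup.centralizer (R : Set G) := fun R hR h1 h2 =>
    ih _ (hc ▸ lt_of_not_ge fun h => hR.ne (Subgroup.eq_of_le_of_card_ge hR.le h))
      (hP.to_le hR.le) h1 h2 ((inf_le_inf_right _ hR.le).trans hfix) rfl
  have hD : ∀ X : Subgroup G, X ≤ Subgroup.normalizer (P : Set G) →
      X ≤ Subgroup.normalizer ((⁅P, P⁆ : Subgroup G) : Set G) := fun X hX x hx =>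
    Coprime.mem_normalizer_of_conj_smul_eq (by
      rw [Coprime.conj_smul_commutator, Coprime.conj_smul_eq_of_mem_normalizer (hX hx)])
  have hlt := Coprime.commutator_lt_of_isPGroup hP hP Subgroup.le_normalizer hP0
  by_cases h0 : ⁅P, Q⁆ < P
  · have hEn : E ≤ Subgroup.normalizer ((⁅P, Q⁆ : Subgroup G) : Set G) := fun e he =>
      Coprime.mem_normalizer_of_conj_smul_eq (by
        rw [Coprime.conj_smul_commutator, Coprime.conj_smul_eq_of_mem_normalizer (hEP he),
          Coprime.conj_smul_eq_of_mem_normalizer (hEQ he)])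
    exact Coprime.le_centralizer_of_commutator_commutator_eq_bot hQP hcopP
      (Subgroup.commutator_eq_bot_iff_le_centralizer.mpr (Subgroup.le_centralizer_iff.mp
        (hsub _ h0 hEn (Subgroup.normalizer_commutator_ge_right P Q))))
  · have hPQ : ⁅P, Q⁆ = P := (Coprime.commutator_le_of_le_normalizer hQP).eq_of_not_lt h0
    have hQD := hsub _ hlt (hD E hEP) (hD Q hQP)
    have h1 : ⁅⁅Q, ⁅P, P⁆⁆, P⁆ = ⊥ := by
      rw [Subgroup.commutator_eq_bot_iff_le_centralizer.mpr hQD, Subgroup.commutator_bot_left]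
    have h2 : ⁅⁅⁅P, P⁆, P⁆, Q⁆ = ⊥ := by
      rw [eq_bot_iff]
      refine (Subgroup.commutator_mono (Coprime.commutator_le_of_le_normalizer
        (hD P Subgroup.le_normalizer)) le_rfl).trans ?_
      rw [Subgroup.commutator_comm, Subgroup.commutator_eq_bot_iff_le_centralizer.mpr hQD]
    have h3 := Subgroup.commutator_commutator_eq_bot_of_rotate h1 h2
    rw [hPQ, Subgroup.commutator_eq_bot_iff_le_centralizer] at h3
    refine le_centralizer_of_fixed_classTwo hp hP (fun x hx y hy z hz => ?_) hE hEP hQP hEQ hQ hfix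
    exact (Subgroup.mem_centralizer_iff.mp (h3 hz) _ (Subgroup.commutator_mem_commutator hx hy))

/-- For class at most two. -/
theorem le_centralizer_of_fixed_class_le_two {P E Q : Subgroup G} (hP : IsPGroup p P)
    (hE : IsPGroup p E) (hEP : E ≤ Subgroup.normalizer (P : Set G))
    (hQP : Q ≤ Subgroup.normalizer (P : Set G)) (hEQ : E ≤ Subgroup.normalizer (Q : Set G))
    (hQ : (Nat.card Q).Coprime p)
    (hclass : ∀ x ∈ P ⊔ E, ∀ y ∈ P ⊔ E, ∀ z ∈ P ⊔ E, Commute ⁅x, y⁆ z)
    (hfix : P ⊓ Subgroup.centralizer (E : Set G) ≤ Subgroup.centralizer (Q : Set G)) :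
    Q ≤ Subgroup.centralizer (P : Set G) := by
  obtain ⟨n, hn⟩ := IsPGroup.iff_card.mp hP
  obtain ⟨m, hm⟩ := IsPGroup.iff_card.mp hE
  have hcopE : (Nat.card E).Coprime (Nat.card Q) := hm ▸ (hQ.pow_right m).symm
  set W := P ⊓ Subgroup.centralizer (Q : Set G) with hW
  have hcomW : ∀ X : Subgroup G, X ≤ P ⊔ E → X ≤ Subgroup.normalizer (P : Set G) → ⁅P, X⁆ ≤ W :=
    fun X hX hXn => le_inf (Coprime.commutator_le_of_le_normalizer hXn)
      ((le_inf (Coprime.commutator_le_of_le_normalizer hXn) (Subgroup.commutator_le.mpr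
        fun a ha b hb => Subgroup.mem_centralizer_iff.mpr fun e he =>
          (hclass a (Subgroup.mem_sup_left ha) b (hX hb) e (Subgroup.mem_sup_right he)).symm.eq)).trans hfix)
  have hPW : P ≤ Subgroup.normalizer (W : Set G) := by
    intro x hx
    refine Coprime.mem_normalizer_of_conj_smul_eq ?_
    ext w
    rw [Coprime.mem_conj_smul]
    have hc : ∀ a ∈ W, ∀ b ∈ P, b * a * b⁻¹ ∈ W := fun a ha b hb => by
      have h1 := hcomW P le_sup_left Subgroup.le_normalizer
        (Subgroup.commutator_mem_commutator hb ha.1)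
      simpa [commutatorElement_def, mul_assoc] using W.mul_mem h1 ha
    constructor
    · intro h
      simpa [mul_assoc] using hc _ h x hx
    · intro h
      simpa [mul_assoc] using hc _ h x⁻¹ (inv_mem hx)
  have hEW : E ≤ Subgroup.normalizer (W : Set G) := fun e he =>
    Subgroup.inf_normalizer_le_normalizer_inf ⟨hEP he, Coprime.mem_normalizer_of_conj_smul_eq (by
      ext w
      rw [Coprime.mem_conj_smul, Subgroup.mem_centralizer_iff, Subgroup.mem_centralizer_iff]
      constructor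
      · intro h y hy
        have := h (e⁻¹ * y * e) ((Subgroup.mem_normalizer_iff''.mp (hEQ he) y).mp hy)
        calc y * w = e * ((e⁻¹ * y * e) * (e⁻¹ * w * e)) * e⁻¹ := by group
          _ = e * ((e⁻¹ * w * e) * (e⁻¹ * y * e)) * e⁻¹ := by rw [this]
          _ = w * y := by group
      · intro h y hy
        have := h (e * y * e⁻¹) ((Subgroup.mem_normalizer_iff.mp (hEQ he) y).mp hy)
        calc y * (e⁻¹ * w * e) = e⁻¹ * ((e * y * e⁻¹) * w) * e := by group
          _ = e⁻¹ * (w * (e * y * e⁻¹)) * e := by rw [this]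
          _ = (e⁻¹ * w * e) * y := by group)⟩
  have hWQ : Q ≤ Subgroup.centralizer (W : Set G) := Subgroup.le_centralizer_iff.mp inf_le_right
  have hQW : Q ≤ Subgroup.normalizer (W : Set G) := hWQ.trans (Subgroup.centralizer_le_normalizer _)
  have hEQc : ⁅E, Q⁆ ≤ Q := by
    rw [Subgroup.commutator_comm]
    exact Coprime.commutator_le_of_le_normalizer hEQ
  have h3 : ⁅⁅E, Q⁆, P⁆ ≤ W := by
    refine LocalEven.three_subgroup hEW hQW hPW ?_ ?_
    · refine (Subgroup.commutator_mono ?_ le_rfl).trans (hcomW E le_sup_right hEP)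
      rw [Subgroup.commutator_comm]
      exact Coprime.commutator_le_of_le_normalizer hQP
    · refine (Subgroup.commutator_mono (hcomW E le_sup_right hEP) le_rfl).trans ?_
      rw [Subgroup.commutator_comm, Subgroup.commutator_eq_bot_iff_le_centralizer.mpr hWQ]
      exact bot_le
  have hQ1 : ⁅E, Q⁆ ≤ Subgroup.centralizer (P : Set G) :=
    Coprime.le_centralizer_of_stabilizes (hEQc.trans hQW) hPW
      ((hQ.coprime_dvd_left (Subgroup.card_dvd_of_le hEQc)).pow_right n |> fun h =>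
        (hn ▸ h).coprime_dvd_right (Subgroup.card_dvd_of_le inf_le_left))
      (fun a ha x hx => by
        simpa [commutatorElement_def] using h3 (Subgroup.commutator_mem_commutator ha hx))
      (hEQc.trans hWQ)
  have hQ2 : Q ⊓ Subgroup.centralizer (E : Set G) ≤ Subgroup.centralizer (P : Set G) :=
    Coprime.le_centralizer_of_PxQ hE (hQ.coprime_dvd_left (Subgroup.card_dvd_of_le inf_le_left)) hP
      (Subgroup.le_centralizer_iff.mp inf_le_right) hEP (inf_le_left.trans hQP)
      (hfix.trans (Subgroup.centralizer_le inf_le_left))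
  have hEsolv : Group.IsSolvable E := (have := hE.isNilpotent; inferInstance)
  calc Q = ⁅Q, E⁆ ⊔ (Q ⊓ Subgroup.centralizer (E : Set G)) :=
        (Coprime.commutator_sup_centralizer_eq hEQ hcopE (Or.inl hEsolv)).symm
    _ ≤ _ := sup_le (by rw [Subgroup.commutator_comm]; exact hQ1) hQ2

end Cfsg.Agent.Lib.OddLocal
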