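import Cfsg.Agent.Lib.OddLocal.Transitivity
import Cfsg.Agent.Lib.OddLocal.FixedPoints
import Cfsg.Agent.Lib.OddLocal.CNGroup
import Cfsg.Agent.Lib.Components.Constrained

/-! The transitivity theorem for `p`-groups `E` with `E` a Sylow subgroup of its centralizer, in
groups whose `p`-locals are `p`-constrained. -/

set_option autoImplicit false

open scoped commutatorElement

namespace Cfsg.Agent.Lib.OddLocal

universe u

variable {G : Type u} [Group G] [Finite G]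

/-- A noncyclic coprime elementary action has fixed points at a subgroup of index at most `p`. -/
theorem exists_centralizer_corank_one_outside {p : ℕ} [Fact p.Prime] {B Q : Subgroup G}
    {D : Subgroup G} (hBc : IsMulCommutative B) (hBp : ∀ b ∈ B, b ^ p = 1) (hQ : ¬ Q ≤ D)
    (hBQ : B ≤ Subgroup.normalizer (Q : Set G)) (hcop : (Nat.card B).Coprime (Nat.card Q)) :
    ∃ B₀ : Subgroup G, B₀ ≤ B ∧ Nat.card B ≤ p * Nat.card B₀ ∧
      ¬ Q ⊓ Subgroup.centralizer (B₀ : Set G) ≤ D := by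
  classical
  have hcm : ∀ x ∈ B, ∀ y ∈ B, x * y = y * x := fun x hx y hy =>
    congrArg Subtype.val (hBc.is_comm.comm ⟨x, hx⟩ ⟨y, hy⟩)
  obtain ⟨B₀, hmem₀, hmax⟩ := Finset.exists_max_image
    (Set.toFinite {B' : Subgroup G | B' ≤ B ∧ ¬ Q ⊓ Subgroup.centralizer (B' : Set G) ≤ D}).toFinset
    (fun B' => Nat.card B') ⟨⊥, by
      rw [Set.Finite.mem_toFinset]
      refine ⟨bot_le, ?_⟩
      rw [show Subgroup.centralizer ((⊥ : Subgroup G) : Set G) = ⊤ from
        Subgroup.centralizer_eq_top_iff_subset.mpr (by simp), inf_top_eq]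
      exact hQ⟩
  obtain ⟨hB₀, hfix⟩ := (Set.Finite.mem_toFinset _).mp hmem₀
  refine ⟨B₀, hB₀, ?_, hfix⟩
  by_contra hlt
  rw [not_le] at hlt
  obtain ⟨a, haB, ha⟩ : ∃ a ∈ B, a ∉ B₀ := by
    by_contra! h
    have h1 := Nat.le_mul_of_pos_left (Nat.card B₀) (Fact.out : p.Prime).pos
    have h2 := Subgroup.card_le_of_le (show B ≤ B₀ from h)
    omega
  have horder : ∀ x ∈ B, x ≠ 1 → orderOf x = p := fun x hx hx1 =>
    orderOf_eq_prime (hBp x hx) hx1
  have ha1 : a ≠ 1 := fun h => ha (h ▸ one_mem _)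
  have hnorm : ∀ (K : Subgroup G), K ≤ B → B ≤ Subgroup.normalizer (K : Set G) := fun K hK =>
    le_trans (fun x hx => Subgroup.mem_centralizer_iff.mpr fun y hy => hcm y (hK hy) x hx)
      (le_normalizer_of_conj_mem' fun c hc n hn => by
        rw [show c * n * c⁻¹ = n by
          rw [← Subgroup.mem_centralizer_iff.mp hc n hn, mul_inv_cancel_right]]
        exact hn)
  obtain ⟨b, hbB, hb⟩ : ∃ b ∈ B, b ∉ B₀ ⊔ Subgroup.zpowers a := by
    by_contra! h
    have h1 := Cfsg.Agent.Lib.Coprime.card_sup_mul_card_inf (N := B₀) (H := Subgroup.zpowers a)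
      ((Subgroup.zpowers_le.mpr haB).trans (hnorm B₀ hB₀))
    have h2 := Subgroup.card_le_of_le (show B ≤ B₀ ⊔ Subgroup.zpowers a from h)
    rw [Nat.card_zpowers, horder a haB ha1] at h1
    have h3 : 1 ≤ Nat.card ↥(B₀ ⊓ Subgroup.zpowers a) := Nat.card_pos
    have h4 := Nat.le_mul_of_pos_right (Nat.card ↥(B₀ ⊔ Subgroup.zpowers a)) h3
    rw [h1, Nat.mul_comm] at h4
    omega
  set A := Subgroup.zpowers a ⊔ Subgroup.zpowers b with hA
  have hAB : A ≤ B := sup_le (Subgroup.zpowers_le.mpr haB) (Subgroup.zpowers_le.mpr hbB)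
  have : IsMulCommutative A :=
    ⟨⟨fun x y => Subtype.ext (hcm _ (hAB x.2) _ (hAB y.2))⟩⟩
  have hAcyc : ¬ IsCyclic A := by
    intro hc
    obtain ⟨g, hg⟩ := hc.exists_generator
    have h1 : Nat.card A ∣ p := by
      rw [← orderOf_eq_card_of_forall_mem_zpowers hg, ← Subgroup.orderOf_coe]
      exact orderOf_dvd_of_pow_eq_one (hBp _ (hAB g.2))
    have h2 : Subgroup.zpowers a = A := by
      refine Subgroup.eq_of_le_of_card_ge le_sup_left ?_
      rw [Nat.card_zpowers, horder a haB ha1]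
      exact Nat.le_of_dvd (Fact.out : p.Prime).pos h1
    exact hb (Subgroup.mem_sup_right (h2 ▸ Subgroup.mem_sup_right (Subgroup.mem_zpowers b)))
  have hAQ : A ≤ Subgroup.normalizer ((Q ⊓ Subgroup.centralizer (B₀ : Set G) : Subgroup G) : Set G) := by
    refine le_trans (le_inf (hAB.trans hBQ) ?_) Subgroup.inf_normalizer_le_normalizer_inf
    exact le_trans (fun x hx => Subgroup.mem_centralizer_iff.mpr fun y hy => hcm y (hB₀ hy) x (hAB hx))
      Subgroup.le_normalizer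
  have hgen := Cfsg.Agent.Lib.Coprime.iSup_centralizer_eq hAcyc hAQ
    ((hcop.coprime_dvd_left (Subgroup.card_dvd_of_le hAB)).coprime_dvd_right
      (Subgroup.card_dvd_of_le inf_le_left))
  obtain ⟨x, ⟨hxA, hx1⟩, hx⟩ : ∃ x ∈ {x : G | x ∈ A ∧ x ≠ 1},
      ¬ (Q ⊓ Subgroup.centralizer (B₀ : Set G)) ⊓ Subgroup.centralizer ({x} : Set G) ≤ D := by
    by_contra! h
    apply hfix
    rw [← hgen]
    exact iSup₂_le h
  have hxB₀ : x ∉ B₀ := by
    intro hx0
    obtain ⟨u, hu, v, hv, rfl⟩ := Cfsg.Agent.Lib.Coprime.exists_mul_of_mem_sup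
      ((Subgroup.zpowers_le.mpr hbB).trans (hnorm _ (Subgroup.zpowers_le.mpr haB))) hxA
    obtain ⟨i, rfl⟩ := Subgroup.mem_zpowers_iff.mp hu
    obtain ⟨j, rfl⟩ := Subgroup.mem_zpowers_iff.mp hv
    have hbj : b ^ j ∈ B₀ ⊔ Subgroup.zpowers a := by
      rw [show b ^ j = (a ^ i)⁻¹ * (a ^ i * b ^ j) by group]
      exact mul_mem (inv_mem (Subgroup.mem_sup_right (Subgroup.zpow_mem_zpowers a i)))
        (Subgroup.mem_sup_left hx0)
    have hprime : ∀ {K : Subgroup G} {z : G}, z ∈ B → ∀ n : ℤ, z ^ n ∈ K → z ∉ K → z ^ n = 1 := by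
      intro K z hz n hn hzK
      by_contra hne
      have hdvd : ¬ (p : ℤ) ∣ n := fun ⟨m, hm⟩ => hne (by
        rw [hm, zpow_mul, zpow_natCast, hBp z hz, one_zpow])
      have hcop' : IsCoprime (p : ℤ) n :=
        (Prime.coprime_iff_not_dvd (Nat.prime_iff_prime_int.mp Fact.out)).mpr hdvd
      obtain ⟨s, t, hst⟩ := hcop'
      apply hzK
      rw [← zpow_one z, ← hst, zpow_add, mul_comm s, zpow_mul, zpow_natCast, hBp z hz,
        one_zpow, one_mul, mul_comm t, zpow_mul]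
      exact zpow_mem hn t
    have hbj1 := hprime hbB j hbj hb
    rw [hbj1, mul_one] at hx0
    apply hx1
    rw [hbj1, mul_one]
    exact hprime haB i hx0 ha
  have hle : B₀ ⊔ Subgroup.zpowers x ≤ B := sup_le hB₀ (Subgroup.zpowers_le.mpr (hAB hxA))
  have hmem : B₀ ⊔ Subgroup.zpowers x ∈
      {B' : Subgroup G | B' ≤ B ∧ ¬ Q ⊓ Subgroup.centralizer (B' : Set G) ≤ D} := by
    refine ⟨hle, fun hbot => hx fun z hz => hbot ⟨hz.1.1, ?_⟩⟩
    show z ∈ Subgroup.centralizer ((B₀ ⊔ Subgroup.zpowers x : Subgroup G) : Set G)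
    rw [Subgroup.mem_centralizer_iff]
    intro y hy
    have : B₀ ⊔ Subgroup.zpowers x ≤ Subgroup.centralizer ({z} : Set G) := by
      refine sup_le (fun w hw => Subgroup.mem_centralizer_singleton_iff.mpr ?_)
        (Subgroup.zpowers_le.mpr (Subgroup.mem_centralizer_singleton_iff.mpr ?_))
      · exact (Subgroup.mem_centralizer_iff.mp hz.1.2 w hw)
      · exact (Subgroup.mem_centralizer_singleton_iff.mp hz.2).symm
    exact Subgroup.mem_centralizer_singleton_iff.mp (this hy)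
  have h2 := hmax _ ((Set.Finite.mem_toFinset _).mpr hmem)
  have h3 : B₀ = B₀ ⊔ Subgroup.zpowers x := Subgroup.eq_of_le_of_card_ge le_sup_left h2
  exact hxB₀ (h3 ▸ Subgroup.mem_sup_right (Subgroup.mem_zpowers x))

/-- In a `p`-constrained group the invariant `p'`-subgroups lie in the `p'`-core. -/
theorem le_pPrimeCore_of_constrained {p : ℕ} [Fact p.Prime] (hcon : Cfsg.IsPConstrained p G)
    {E Q : Subgroup G} (hE : IsPGroup p E) (hEc : IsMulCommutative E)
    (hEfull : ∀ x ∈ Subgroup.centralizer (E : Set G), IsPGroup p (Subgroup.zpowers x) → x ∈ E)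
    (h2 : p = 2 → ∀ S : Sylow p G, ∀ x ∈ (S : Subgroup G), ∀ y ∈ (S : Subgroup G),
      ∀ z ∈ (S : Subgroup G), Commute ⁅x, y⁆ z)
    (hEQ : E ≤ Subgroup.normalizer (Q : Set G)) (hQ : (Nat.card Q).Coprime p) :
    Q ≤ Cfsg.pPrimeCore p G := by
  set N := Cfsg.pPrimeCore p G with hN
  set f := QuotientGroup.mk' N with hf
  set P := Cfsg.pCore p (G ⧸ N) with hP
  have hPp : IsPGroup p P := Cores.pCore_isPGroup p _
  have hPc : Subgroup.centralizer (P : Set (G ⧸ N)) ≤ P := by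
    obtain ⟨S⟩ : Nonempty (Sylow p (Cfsg.pPrimePCore p G)) := inferInstance
    rw [← Subgroup.comap_le_comap_of_surjective (QuotientGroup.mk'_surjective N),
      Components.comap_centralizer_pCore_quotient p S]
    exact sup_le (hcon S) (Components.pPrimeCore_le_pPrimePCore p)
  have hEsolv : Group.IsSolvable E := (have := hE.isNilpotent; inferInstance)
  have hEf : IsPGroup p (E.map f) := hE.map f
  have hQf : (Nat.card (Q.map f)).Coprime p := hQ.coprime_dvd_left (Subgroup.card_map_dvd _ _)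
  have hPE : E.map f ≤ Subgroup.normalizer (P : Set (G ⧸ N)) := Subgroup.le_normalizer_of_normal
  have hPQ : Q.map f ≤ Subgroup.normalizer (P : Set (G ⧸ N)) := Subgroup.le_normalizer_of_normal
  have hEQf : E.map f ≤ Subgroup.normalizer ((Q.map f : Subgroup (G ⧸ N)) : Set (G ⧸ N)) :=
    (Subgroup.map_mono hEQ).trans (Subgroup.le_normalizer_map f)
  have hPQbot : P ⊓ Q.map f = ⊥ := by
    obtain ⟨n, hn⟩ := IsPGroup.iff_card.mp hPp
    exact Coprime.inf_eq_bot_of_coprime_card (hn ▸ (hQf.pow_right n).symm)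
  have hlift : P ⊓ Subgroup.centralizer ((E.map f : Subgroup (G ⧸ N)) : Set (G ⧸ N)) ≤ E.map f := by
    rintro w ⟨hwP, hwC⟩
    obtain ⟨x, rfl⟩ := QuotientGroup.mk'_surjective N w
    obtain ⟨i, hi⟩ := IsPGroup.iff_card.mp hE
    obtain ⟨n, hn, hnC⟩ := Coprime.exists_mem_centralizer_of_fixed_coset (A := E) (N := N)
      Subgroup.le_normalizer_of_normal
      (hi ▸ ((Cores.pPrimeCore_coprime p G).pow_right i).symm) (Or.inl hEsolv)
      (Subgroup.le_normalizer_of_normal (H := N) (K := ⊤) trivial)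
      (fun e he => (QuotientGroup.eq_one_iff _).mp (by
        show f (e * x * e⁻¹ * x⁻¹) = 1
        rw [map_mul, map_mul, map_mul, map_inv, map_inv,
          Subgroup.mem_centralizer_iff.mp hwC _ (Subgroup.mem_map_of_mem f he), mul_inv_cancel_right]
        exact mul_inv_cancel _))
    have hfy : f (x * n) = f x := by
      rw [map_mul, show f n = 1 from (QuotientGroup.eq_one_iff n).mpr hn, mul_one]
    obtain ⟨j, hj⟩ : ∃ j, orderOf (f x) = p ^ j := by
      obtain ⟨j, hj⟩ := IsPGroup.iff_orderOf.mp hPp ⟨_, hwP⟩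
      exact ⟨j, by rw [← hj]; exact Subgroup.orderOf_coe ⟨_, hwP⟩⟩
    set y := x * n with hy
    set r := orderOf y / p ^ (orderOf y).factorization p with hr
    have hrp : r.Coprime (orderOf (f y)) := by
      rw [hfy, hj]
      exact (Nat.coprime_ordCompl Fact.out (orderOf_pos y).ne').symm.pow_right j
    obtain ⟨m, hm⟩ := exists_pow_eq_self_of_coprime hrp
    refine ⟨(y ^ r) ^ m, hEfull _ (pow_mem (pow_mem hnC r) m) ?_, ?_⟩
    · have h1 : IsPGroup p (Subgroup.zpowers (y ^ r)) :=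
        IsPGroup.of_card (n := (orderOf y).factorization p) (by
          rw [Nat.card_zpowers]; exact orderOf_pPart p y)
      exact h1.to_le (Subgroup.zpowers_le.mpr (pow_mem (Subgroup.mem_zpowers _) m))
    · rw [map_pow, map_pow, hm, hfy]
  have hfix : P ⊓ Subgroup.centralizer ((E.map f : Subgroup (G ⧸ N)) : Set (G ⧸ N)) ≤
      Subgroup.centralizer ((Q.map f : Subgroup (G ⧸ N)) : Set (G ⧸ N)) := fun w hw => by
    have hwE := hlift hw
    rw [Subgroup.mem_centralizer_iff]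
    intro q hq
    have h1 : ⁅q, w⁆ ∈ P ⊓ Q.map f := by
      refine ⟨P.mul_mem ((Subgroup.mem_normalizer_iff.mp (hPQ hq) w).mp hw.1) (P.inv_mem hw.1), ?_⟩
      have h2 := (Q.map f).mul_mem hq ((Subgroup.mem_normalizer_iff.mp (hEQf hwE) _).mp (inv_mem hq))
      simpa [commutatorElement_def, mul_assoc] using h2
    rw [hPQbot, Subgroup.mem_bot, commutatorElement_eq_one_iff_mul_comm] at h1
    exact h1
  have key : Q.map f ≤ Subgroup.centralizer (P : Set (G ⧸ N)) := by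
    by_cases hp : p = 2
    · refine le_centralizer_of_fixed_class_le_two hPp hEf hPE hPQ hEQf hQf ?_ hfix
      obtain ⟨S', hS'⟩ := (hPp.to_sup_of_normal_left' hEf hPE).exists_le_sylow
      obtain ⟨S, rfl⟩ := Sylow.mapSurjective_surjective (QuotientGroup.mk'_surjective N) p S'
      intro a ha b hb c hc
      obtain ⟨a', ha', rfl⟩ := hS' ha
      obtain ⟨b', hb', rfl⟩ := hS' hb
      obtain ⟨c', hc', rfl⟩ := hS' hc
      rw [← map_commutatorElement]
      exact (h2 hp S a' ha' b' hb' c' hc').map f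
    · exact le_centralizer_of_fixed_odd hp hPp hEf hPE hPQ hEQf hQf hfix
  intro q hq
  have h1 : f q ∈ P ⊓ Q.map f := ⟨hPc (key (Subgroup.mem_map_of_mem f hq)), Subgroup.mem_map_of_mem f hq⟩
  rw [hPQbot, Subgroup.mem_bot] at h1
  exact (QuotientGroup.eq_one_iff q).mp h1

variable {p : ℕ} [Fact p.Prime]
  (hloc : ∀ T : Subgroup G, IsPGroup p T → T ≠ ⊥ →
    Cfsg.IsPConstrained p ↥(Subgroup.normalizer (T : Set G)))
  (h2 : p = 2 → ∀ S : Sylow p G, Group.IsNilpotent (S : Subgroup G) ∧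
    Group.nilpotencyClass (S : Subgroup G) ≤ 2)
  {E : Subgroup G} (hEp : IsPGroup p E) (hEc : IsMulCommutative E)
  (hEfull : ∀ x ∈ Subgroup.centralizer (E : Set G), IsPGroup p (Subgroup.zpowers x) → x ∈ E)

include h2

theorem commute_commutator_of_sylow (hp : p = 2) (S : Sylow p G) {x y z : G}
    (hx : x ∈ (S : Subgroup G)) (hy : y ∈ (S : Subgroup G)) (hz : z ∈ (S : Subgroup G)) :
    Commute ⁅x, y⁆ z := by
  obtain ⟨hn, hc⟩ := h2 hp S
  have htop : Subgroup.upperCentralSeries (S : Subgroup G) 2 = ⊤ :=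
    top_le_iff.mp (upperCentralSeries_nilpotencyClass (G := (S : Subgroup G)) ▸
      Subgroup.upperCentralSeries_mono _ hc)
  have h1 := Subgroup.mem_upperCentralSeries_succ_iff.mp
    (show (⟨x, hx⟩ : (S : Subgroup G)) ∈ Subgroup.upperCentralSeries (S : Subgroup G) (1 + 1) from
      htop ▸ Subgroup.mem_top _) ⟨y, hy⟩
  rw [Subgroup.upperCentralSeries_one, Subgroup.mem_center_iff] at h1
  exact (congrArg Subtype.val (h1 ⟨z, hz⟩)).symm

include hloc hEp hEc hEfull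

/-- Invariant `p'`-subgroups of the local subgroup at an element of `E`. -/
theorem le_piCoreOf_local {T Y : Subgroup G} (hTp : IsPGroup p T) (hT : T ≠ ⊥)
    (hET : E ≤ Subgroup.normalizer (T : Set G)) (hY : Y ≤ Subgroup.normalizer (T : Set G))
    (hEY : E ≤ Subgroup.normalizer (Y : Set G)) (hYp : (Nat.card Y).Coprime p) :
    Y ≤ Cfsg.piCoreOf (Cfsg.primesNotDvd p) (Subgroup.normalizer (T : Set G)) := by
  set H := Subgroup.normalizer (T : Set G) with hH
  have h1 : Y.subgroupOf H ≤ Cfsg.pPrimeCore p H := by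
    refine le_pPrimeCore_of_constrained (hloc T hTp hT) (E := E.subgroupOf H)
      (hEp.of_equiv (Subgroup.subgroupOfEquivOfLe hET).symm) ?_ ?_ ?_ ?_ ?_
    · exact ⟨⟨fun a b => Subtype.ext (Subtype.ext (congrArg (fun z : E => (z : G))
        (hEc.is_comm.comm ⟨((a : H) : G), a.2⟩ ⟨((b : H) : G), b.2⟩) :))⟩⟩
    · intro x hx hxp
      refine hEfull x (Subgroup.mem_centralizer_iff.mpr fun e he =>
        congrArg Subtype.val (Subgroup.mem_centralizer_iff.mp hx ⟨e, hET he⟩ he)) ?_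
      have := hxp.map H.subtype
      rwa [MonoidHom.map_zpowers] at this
    · intro hp S x hx y hy z hz
      obtain ⟨S', hS'⟩ := (S.isPGroup'.map H.subtype).exists_le_sylow
      exact Subtype.ext (commute_commutator_of_sylow h2 hp S' (hS' ⟨x, hx, rfl⟩) (hS' ⟨y, hy, rfl⟩)
        (hS' ⟨z, hz, rfl⟩))
    · exact fun e he => Subgroup.mem_normalizer_iff.mpr fun y =>
        Subgroup.mem_normalizer_iff.mp (hEY he) y
    · rw [Nat.card_congr (Subgroup.subgroupOfEquivOfLe hY).toEquiv]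
      exact hYp
  have h3 : Cfsg.pPrimeCore p H ≤ Cfsg.piCore (Cfsg.primesNotDvd p) H :=
    Cores.le_piCore inferInstance fun q hq hd => ⟨hq, fun hqp => by
      have he := (Nat.prime_dvd_prime_iff_eq hq Fact.out).mp hqp
      subst he
      exact hq.not_dvd_one ((Cores.pPrimeCore_coprime q H) ▸ Nat.dvd_gcd hd dvd_rfl)⟩
  intro y hy
  exact ⟨⟨y, hY hy⟩, h3 (h1 hy), rfl⟩

omit hloc h2 hEp hEc hEfull in
theorem coprime_card_of_pi {X : Subgroup G}
    (hX : ∀ r : ℕ, r.Prime → r ∣ Nat.card X → r ∈ Cfsg.primesNotDvd p) :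
    (Nat.card X).Coprime p := by
  rw [Nat.coprime_comm, (Fact.out : p.Prime).coprime_iff_not_dvd]
  exact fun h => (hX p Fact.out h).2 dvd_rfl

omit hloc h2 hEp hEc hEfull in
theorem exists_maxInv_ge {π : Set ℕ} {R : Subgroup G} (hR : R ∈ Cfsg.invSubgroups ⊤ E π) :
    ∃ Q ∈ Cfsg.maxInvSubgroups ⊤ E π, R ≤ Q := by
  obtain ⟨Q, hQ, hmax⟩ := Finset.exists_max_image
    (Set.toFinite {K : Subgroup G | K ∈ Cfsg.invSubgroups ⊤ E π ∧ R ≤ K}).toFinset
    (fun K => Nat.card K) ⟨R, (Set.Finite.mem_toFinset _).mpr ⟨hR, le_rfl⟩⟩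
  rw [Set.Finite.mem_toFinset] at hQ
  exact ⟨Q, ⟨hQ.1, fun S hS hle => (Subgroup.eq_of_le_of_card_ge hle
    (hmax S ((Set.Finite.mem_toFinset _).mpr ⟨hS, hQ.2.trans hle⟩))).symm⟩, hQ.2⟩

/-- The transitivity theorem. -/
theorem transitivity_of_constrained (hE3 : ¬ Cfsg.PRankLE p 2 E) {q : ℕ} [Fact q.Prime]
    (hqp : q ≠ p) :
    ∀ Q₁ ∈ Cfsg.maxInvSubgroups ⊤ E {q}, ∀ Q₂ ∈ Cfsg.maxInvSubgroups ⊤ E {q},
      ∃ k ∈ Cfsg.piCoreOf (Cfsg.primesNotDvd p) (Subgroup.centralizer (E : Set G)),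
        Q₂ = Q₁.map (MulAut.conj k).toMonoidHom := by
  obtain ⟨B, hBE, hBc, hBp, hcard⟩ : ∃ B : Subgroup G, B ≤ E ∧ IsMulCommutative B ∧
      (∀ b ∈ B, b ^ p = 1) ∧ p ^ 2 < Nat.card B := by
    simp only [Cfsg.PRankLE] at hE3
    push Not at hE3
    obtain ⟨B, hBc, hBp, hcard⟩ := hE3
    refine ⟨B.map E.subtype, Subgroup.map_subtype_le _, inferInstance, ?_, ?_⟩
    · rintro _ ⟨x, hx, rfl⟩
      rw [← map_pow, hBp x hx, map_one]
    · rwa [Nat.card_congr (B.equivMapOfInjective _ (Subgroup.subtype_injective _)).toEquiv.symm]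
  have hEsolv : Group.IsSolvable E := (have := hEp.isNilpotent; inferInstance)
  have hcopE : ∀ X : Subgroup G, (Nat.card X).Coprime p → (Nat.card E).Coprime (Nat.card X) := by
    intro X hX
    obtain ⟨i, hi⟩ := IsPGroup.iff_card.mp hEp
    exact hi ▸ (hX.pow_right i).symm
  have hqcop : ∀ X : Subgroup G, IsPGroup q X → (Nat.card X).Coprime p := by
    intro X hX
    obtain ⟨i, hi⟩ := IsPGroup.iff_card.mp hX
    exact hi ▸ ((Nat.coprime_primes Fact.out Fact.out).mpr hqp).pow_left i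
  suffices h : ∀ d : ℕ, ∀ Q₁ ∈ Cfsg.maxInvSubgroups ⊤ E {q}, ∀ Q₂ ∈ Cfsg.maxInvSubgroups ⊤ E {q},
      Nat.card G - Nat.card ↥(Q₁ ⊓ Q₂) = d →
      ∃ k ∈ Cfsg.piCoreOf (Cfsg.primesNotDvd p) (Subgroup.centralizer (E : Set G)),
        Q₂ = Q₁.map (MulAut.conj k).toMonoidHom by
    exact fun Q₁ h₁ Q₂ h₂' => h _ Q₁ h₁ Q₂ h₂' rfl
  intro d
  induction d using Nat.strongRecOn with
  | ind d ih =>
  intro Q₁ h₁ Q₂ hQ₂ hd
  by_cases heq : Q₁ = Q₂
  · refine ⟨1, one_mem _, ?_⟩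
    ext x
    simp [heq]
  set D := Q₁ ⊓ Q₂ with hD
  have hlt₁ : D < Q₁ := lt_of_le_of_ne inf_le_left fun h =>
    heq (h₁.2 Q₂ hQ₂.1 (h ▸ inf_le_right)).symm
  have hlt₂ : D < Q₂ := lt_of_le_of_ne inf_le_right fun h =>
    heq (hQ₂.2 Q₁ h₁.1 (h ▸ inf_le_left))
  have hDq : IsPGroup q D := (isPGroup_of_mem_inv h₁.1).to_le inf_le_left
  have hED : E ≤ Subgroup.normalizer (D : Set G) :=
    le_trans (le_inf h₁.1.2.2 hQ₂.1.2.2) Subgroup.inf_normalizer_le_normalizer_inf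
  have hfixed : ∀ Q : Subgroup G, Q ∈ Cfsg.maxInvSubgroups ⊤ E {q} → D < Q →
      ∃ B₀ : Subgroup G, B₀ ≤ B ∧ Nat.card B ≤ p * Nat.card B₀ ∧
        ¬ (Subgroup.normalizer (D : Set G) ⊓ Q) ⊓ Subgroup.centralizer (B₀ : Set G) ≤ D := by
    intro Q hQ hlt
    have hq := isPGroup_of_mem_inv hQ.1
    exact exists_centralizer_corank_one_outside hBc hBp (exists_mem_normalizer_not_mem hq hlt)
      (hBE.trans (le_trans (le_inf (hED.trans Subgroup.le_normalizer) hQ.1.2.2)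
        Subgroup.inf_normalizer_le_normalizer_inf))
      ((hcopE _ (hqcop _ (hq.to_le inf_le_right))).coprime_dvd_left (Subgroup.card_dvd_of_le hBE))
  obtain ⟨B₁, hB₁, hc₁, hf₁⟩ := hfixed Q₁ h₁ hlt₁
  obtain ⟨B₂, hB₂, hc₂, hf₂⟩ := hfixed Q₂ hQ₂ hlt₂
  obtain ⟨b, hb12, hb1⟩ : ∃ b ∈ B₁ ⊓ B₂, b ≠ 1 := by
    by_contra! hall
    have hbot : B₁ ⊓ B₂ = ⊥ := (Subgroup.eq_bot_iff_forall _).mpr hall
    have hn : B₂ ≤ Subgroup.normalizer (B₁ : Set G) := le_normalizer_of_conj_mem' fun a ha n hn => by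
      rw [show a * n = n * a from
        congrArg Subtype.val (hBc.is_comm.comm ⟨a, hB₂ ha⟩ ⟨n, hB₁ hn⟩), mul_inv_cancel_right]
      exact hn
    have e := Cfsg.Agent.Lib.Coprime.card_sup_mul_card_inf hn
    rw [hbot, Subgroup.card_bot, mul_one] at e
    have l1 := Subgroup.card_le_of_le (sup_le hB₁ hB₂)
    rw [e] at l1
    have l2 : Nat.card B * Nat.card B ≤ (p * p) * (Nat.card B₁ * Nat.card B₂) := by
      calc Nat.card B * Nat.card B ≤ (p * Nat.card B₁) * (p * Nat.card B₂) := Nat.mul_le_mul hc₁ hc₂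
        _ = _ := by ring
    have l3 : Nat.card B * Nat.card B ≤ (p * p) * Nat.card B := l2.trans (Nat.mul_le_mul_left _ l1)
    have l4 := Nat.le_of_mul_le_mul_right l3 Nat.card_pos
    rw [pow_two] at hcard
    omega
  have hbE : b ∈ E := hBE (hB₁ hb12.1)
  set π := Cfsg.primesNotDvd p with hπdef
  set T := Subgroup.zpowers b with hT
  set H := Subgroup.normalizer (T : Set G) with hH
  have hTp : IsPGroup p T := hEp.to_le (Subgroup.zpowers_le.mpr hbE)
  have hTne : T ≠ ⊥ := fun h => hb1 (Subgroup.zpowers_eq_bot.mp h)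
  have hcent : ∀ z : G, z * b = b * z → z ∈ H := by
    intro z hz
    have h1 : z ∈ Subgroup.centralizer (T : Set G) := Subgroup.mem_centralizer_iff.mpr fun w hw => by
      obtain ⟨i, rfl⟩ := Subgroup.mem_zpowers_iff.mp hw
      exact ((show Commute z b from hz).zpow_right i).symm.eq
    exact Subgroup.centralizer_le_normalizer _ h1
  have hCH : Subgroup.centralizer (E : Set G) ≤ H := fun z hz =>
    hcent z (Subgroup.mem_centralizer_iff.mp hz b hbE).symm
  have hEH : E ≤ H := fun e he => hcent e (congrArg Subtype.val (hEc.is_comm.comm ⟨e, he⟩ ⟨b, hbE⟩))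
  set L := Cfsg.piCoreOf π H ⊓ Subgroup.normalizer (D : Set G) with hL
  have hEL : E ≤ Subgroup.normalizer (L : Set G) :=
    le_trans (le_inf (hEH.trans (le_normalizer_piCoreOf π H)) (hED.trans Subgroup.le_normalizer))
      Subgroup.inf_normalizer_le_normalizer_inf
  have hLp : (Nat.card L).Coprime p := coprime_card_of_pi fun r hr h =>
    mem_of_prime_dvd_card_piCoreOf hr (h.trans (Subgroup.card_dvd_of_le inf_le_left))
  have hcopL := hcopE L hLp
  have hU : ∀ (Q B₀ : Subgroup G), Q ∈ Cfsg.maxInvSubgroups ⊤ E {q} → b ∈ B₀ →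
      ¬ (Subgroup.normalizer (D : Set G) ⊓ Q) ⊓ Subgroup.centralizer (B₀ : Set G) ≤ D →
      ∃ U : Subgroup G, U ≤ L ∧ U ≤ Q ∧ ¬ U ≤ D ∧ IsPGroup q U ∧
        E ≤ Subgroup.normalizer (U : Set G) := by
    intro Q B₀ hQ hb hf
    have hq : IsPGroup q ↥(H ⊓ (Subgroup.normalizer (D : Set G) ⊓ Q)) :=
      (isPGroup_of_mem_inv hQ.1).to_le (inf_le_right.trans inf_le_right)
    have hEU : E ≤ Subgroup.normalizer
        ((H ⊓ (Subgroup.normalizer (D : Set G) ⊓ Q) : Subgroup G) : Set G) :=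
      le_trans (le_inf (hEH.trans Subgroup.le_normalizer) (le_trans (le_inf
        (hED.trans Subgroup.le_normalizer) hQ.1.2.2) Subgroup.inf_normalizer_le_normalizer_inf))
        Subgroup.inf_normalizer_le_normalizer_inf
    refine ⟨_, le_inf (le_piCoreOf_local hloc h2 hEp hEc hEfull hTp hTne hEH inf_le_left hEU
      (hqcop _ hq)) (inf_le_right.trans inf_le_left), inf_le_right.trans inf_le_right, fun hle => ?_,
      hq, hEU⟩
    refine hf fun z hz => hle ⟨hcent z ?_, hz.1⟩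
    exact (Subgroup.mem_centralizer_iff.mp hz.2 b hb).symm
  obtain ⟨U₁, hU₁L, hU₁Q, hU₁D, hU₁q, hEU₁⟩ := hU Q₁ B₁ h₁ hb12.1 hf₁
  obtain ⟨U₂, hU₂L, hU₂Q, hU₂D, hU₂q, hEU₂⟩ := hU Q₂ B₂ hQ₂ hb12.2 hf₂
  obtain ⟨P₁, hUP₁, hEP₁⟩ :=
    Coprime.exists_invariant_sylow_ge hEL hcopL (Or.inl hEsolv) q U₁ hU₁L hU₁q hEU₁
  obtain ⟨P₂, hUP₂, hEP₂⟩ :=
    Coprime.exists_invariant_sylow_ge hEL hcopL (Or.inl hEsolv) q U₂ hU₂L hU₂q hEU₂
  obtain ⟨c, hc, hcP⟩ :=
    Coprime.exists_centralizer_conj_sylow hEL hcopL (Or.inl hEsolv) P₁ P₂ hEP₁ hEP₂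
  set R := (P₂ : Subgroup L).map L.subtype with hR
  have hRL : R ≤ L := Subgroup.map_subtype_le _
  have hRD : R ≤ Subgroup.normalizer (D : Set G) := hRL.trans inf_le_right
  have hTq : IsPGroup q ↥(D ⊔ R) := hDq.to_sup_of_normal_left' (P₂.isPGroup'.map _) hRD
  have hTmem : D ⊔ R ∈ Cfsg.invSubgroups ⊤ E {q} := by
    refine ⟨le_top, fun r hr hd' => ?_, Coprime.le_normalizer_sup hED hEP₂⟩
    obtain ⟨i, hi⟩ := IsPGroup.iff_card.mp hTq
    exact Set.mem_singleton_iff.mpr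
      ((Nat.prime_dvd_prime_iff_eq hr Fact.out).mp (hr.dvd_of_dvd_pow (hi ▸ hd')))
  obtain ⟨Q₃, hQ₃, hTQ₃⟩ := exists_maxInv_ge hTmem
  have hcC : (c : G) ∈ Subgroup.centralizer (E : Set G) := hc
  have hmeasure : ∀ X : Subgroup G, D < X → Nat.card G - Nat.card X < d := by
    intro X hX
    have h1 : Nat.card D < Nat.card X := lt_of_le_of_ne (Subgroup.card_le_of_le hX.le)
      fun h => hX.ne (Subgroup.eq_of_le_of_card_ge hX.le h.ge)
    have h2 := Subgroup.card_le_card_group X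
    omega
  have s₂ : D < Q₃ ⊓ Q₂ := lt_of_le_not_ge (le_inf (le_sup_left.trans hTQ₃) inf_le_right)
    fun h => hU₂D (le_trans (le_inf ((hUP₂.trans le_sup_right).trans hTQ₃) hU₂Q) h)
  have s₁ : D < Q₁.map (MulAut.conj (c : G)).toMonoidHom ⊓ Q₃ := by
    have hDc : D.map (MulAut.conj (c : G)).toMonoidHom = D :=
      Coprime.conj_smul_eq_of_mem_normalizer c.2.2
    have hUc : U₁.map (MulAut.conj (c : G)).toMonoidHom ≤ R := by
      rw [hR, ← hcP, Coprime.sylow_map_conj_smul]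
      exact Subgroup.map_mono hUP₁
    refine lt_of_le_not_ge (le_inf (hDc ▸ Subgroup.map_mono inf_le_left) (le_sup_left.trans hTQ₃))
      fun h => hU₁D fun z hz => ?_
    have h3 : (MulAut.conj (c : G)).toMonoidHom z ∈ D.map (MulAut.conj (c : G)).toMonoidHom :=
      hDc.symm ▸ h ⟨Subgroup.mem_map_of_mem _ (hU₁Q hz),
        hTQ₃ (Subgroup.mem_sup_right (hUc (Subgroup.mem_map_of_mem _ hz)))⟩
    obtain ⟨w, hw, hwz⟩ := h3
    exact (MulAut.conj (c : G)).injective hwz ▸ hw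
  have hQc := map_conj_mem_maxInv h₁ hcC
  obtain ⟨k₁, hk₁, e₁⟩ := ih _ (hmeasure _ s₁) _ hQc Q₃ hQ₃ rfl
  obtain ⟨k₂, hk₂, e₂⟩ := ih _ (hmeasure _ s₂) Q₃ hQ₃ Q₂ hQ₂ rfl
  have hcK : (c : G) ∈ Cfsg.piCoreOf π (Subgroup.centralizer (E : Set G)) :=
    le_piCoreOf (inf_le_right : Cfsg.piCoreOf π H ⊓ Subgroup.centralizer (E : Set G) ≤ _)
      (le_trans (le_inf (hCH.trans (le_normalizer_piCoreOf π H)) Subgroup.le_normalizer)
        Subgroup.inf_normalizer_le_normalizer_inf)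
      (fun r hr h => mem_of_prime_dvd_card_piCoreOf hr (h.trans (Subgroup.card_dvd_of_le inf_le_left)))
      ⟨c.2.1, hcC⟩
  refine ⟨k₂ * k₁ * c, mul_mem (mul_mem hk₂ hk₁) hcK, ?_⟩
  rw [e₂, e₁, Subgroup.map_map, Subgroup.map_map]
  congr 1
  ext x
  simp [MulAut.conj_apply, mul_assoc]

end Cfsg.Agent.Lib.OddLocal
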