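import Cfsg.Agent.Lib.OddLocal.Quadratic
import Cfsg.Agent.Lib.Involutions.BaerSuzuki
import Cfsg.Agent.Lib.Cores

/-! `p`-stability for groups of odd order. -/

set_option autoImplicit false

namespace Cfsg.Agent.Lib.OddLocal

open Subgroup
open scoped commutatorElement

universe u

theorem exists_orderOf_pow_coprime {G : Type u} [Group G] [Finite G] (p : ℕ) [hp : Fact p.Prime]
    (x : G) : ∃ k : ℕ, (orderOf (x ^ p ^ k)).Coprime p := by
  refine ⟨(orderOf x).factorization p, ?_⟩
  rw [orderOf_pow, Nat.gcd_eq_right (Nat.ordProj_dvd _ _)]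
  exact (Nat.coprime_ordCompl hp.out (orderOf_pos x).ne').symm

/-- An element acting quadratically on a normal `p`-subgroup `P` lies in `O_p(G/C_G(P))`. -/
theorem mem_pCore_of_quadratic {G : Type u} [Group G] [Finite G] {p : ℕ} [hp : Fact p.Prime]
    (hp2 : p ≠ 2) (hodd : Odd (Nat.card G)) {P : Subgroup G} [hPn : P.Normal] (hP : IsPGroup p P)
    (C : Subgroup G) [C.Normal] (hC : centralizer (P : Set G) ≤ C) {a : G}
    (hap : ∃ k : ℕ, a ^ p ^ k = 1) (hq : ∀ x ∈ P, Commute a ⁅x, a⁆) :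
    QuotientGroup.mk' C a ∈ Cfsg.pCore p (G ⧸ C) := by
  set π := QuotientGroup.mk' C
  have hX : IsPGroup p (zpowers (π a)) := by
    obtain ⟨k, hk⟩ := hap
    obtain ⟨j, -, hj⟩ := (Nat.dvd_prime_pow hp.out).mp
      (orderOf_dvd_of_pow_eq_one (show (π a) ^ p ^ k = 1 by rw [← map_pow, hk, map_one]))
    exact IsPGroup.of_card (n := j) (by rw [Nat.card_zpowers, hj])
  obtain ⟨N, hNn, hNp, hXN⟩ := Cfsg.Agent.Lib.Involutions.baer_suzuki (zpowers (π a)) hX (by
    intro g
    obtain ⟨g, rfl⟩ := QuotientGroup.mk'_surjective C g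
    let T := closure ({a, g * a * g⁻¹} : Set G)
    have hle : zpowers (π a) ⊔ (zpowers (π a)).map (MulAut.conj (π g)).toMonoidHom ≤ T.map π := by
      refine sup_le (zpowers_le.mpr ⟨a, subset_closure (by simp), rfl⟩) ?_
      rw [MonoidHom.map_zpowers, zpowers_le]
      exact ⟨g * a * g⁻¹, subset_closure (by simp), by simp [π]⟩
    refine IsPGroup.to_le ?_ hle
    rintro ⟨_, t, ht, rfl⟩
    obtain ⟨k, hk⟩ := exists_orderOf_pow_coprime p t
    have hqb : ∀ x ∈ P, Commute (g * a * g⁻¹) ⁅x, g * a * g⁻¹⁆ := by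
      intro x hx
      have h := hq (g⁻¹ * x * g) (by simpa using hPn.conj_mem x hx g⁻¹)
      have h2 := h.map (MulAut.conj g).toMonoidHom
      rw [map_commutatorElement] at h2
      simpa [mul_assoc] using h2
    have h := mem_centralizer_of_quadratic_pair hp2 hP
      (a := a) (b := g * a * g⁻¹) (by rw [normalizer_eq_top]; exact mem_top _)
      (by rw [normalizer_eq_top]; exact mem_top _) (hodd.of_dvd_nat (card_subgroup_dvd_card _))
      hq hqb (T.pow_mem ht (p ^ k)) hk
    refine ⟨k, Subtype.ext ?_⟩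
    show (π t) ^ p ^ k = 1
    rw [← map_pow, QuotientGroup.mk'_apply, QuotientGroup.eq_one_iff]
    exact hC h)
  exact le_sSup (show N ∈ {N : Subgroup (G ⧸ C) | N.Normal ∧ IsPGroup p N} from ⟨hNn, hNp⟩)
    (hXN (mem_zpowers _))

/-- Hall–Higman Lemma 1.2.3 for solvable groups with trivial `p'`-core. -/
theorem centralizer_pCore_le {G : Type u} [Group G] [Finite G] [Group.IsSolvable G] {p : ℕ}
    [Fact p.Prime] (h : Cfsg.pPrimeCore p G = ⊥) :
    centralizer (Cfsg.pCore p G : Set G) ≤ Cfsg.pCore p G := by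
  have hF : Cfsg.fittingSubgroup G = Cfsg.pCore p G := by
    refine le_antisymm ?_ (Cfsg.Agent.Lib.Cores.pCore_le_fittingSubgroup p)
    have := Cfsg.Agent.Lib.Cores.fittingSubgroup_le_pCore_sup_pPrimeCore (G := G) p
    rwa [h, sup_bot_eq] at this
  have := Cfsg.Agent.Lib.Cores.centralizer_fittingSubgroup_le (G := G) inferInstance
  rwa [hF] at this

/-- In a solvable group of odd order with trivial `p'`-core, a `p`-element acting quadratically on
`O_p(G)` lies in it. -/
theorem mem_pCore_of_quadratic_pCore {G : Type u} [Group G] [Finite G] [Group.IsSolvable G] {p : ℕ}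
    [hp : Fact p.Prime] (hp2 : p ≠ 2) (hodd : Odd (Nat.card G)) (h : Cfsg.pPrimeCore p G = ⊥)
    {a : G} (hap : ∃ k : ℕ, a ^ p ^ k = 1) (hq : ∀ x ∈ Cfsg.pCore p G, Commute a ⁅x, a⁆) :
    a ∈ Cfsg.pCore p G := by
  have hT := Cfsg.Agent.Lib.Cores.pCore_isPGroup p G
  set C := centralizer (Cfsg.pCore p G : Set G)
  haveI : C.Normal := inferInstance
  have h1 := mem_pCore_of_quadratic hp2 hodd hT C le_rfl hap hq
  rw [← Cfsg.Agent.Lib.Cores.comap_pCore_quotient (hT.to_le (centralizer_pCore_le h))]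
  exact h1

end Cfsg.Agent.Lib.OddLocal
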