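import Cfsg.Agent.Lib.PLocal.GZJ
import Cfsg.Agent.Lib.OddLocal.Coprime
import Cfsg.Agent.Lib.OddLocal.PStable
import Cfsg.Agent.Lib.OddLocal.CNGroup
import Cfsg.Agent.Lib.Cores.Frattini

/-! The full centre of the Thompson subgroup built from elementary abelian subgroups of largest order
is normal under the hypotheses of Glauberman's theorem. -/

set_option autoImplicit false
set_option linter.style.haveILetI false

open scoped commutatorElement

namespace Cfsg.Agent.Lib.OddLocal

open Cfsg.Agent.Lib.PLocal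

variable {G : Type*} [Group G]

/-- The subgroup generated by the largest elementary abelian subgroups of `S`. -/
def jIn (p : ℕ) (S : Subgroup G) : Subgroup G := sSup {A | MaxIn p S A}

/-- Its centre. -/
def jZ (p : ℕ) (S : Subgroup G) : Subgroup G := jIn p S ⊓ Subgroup.centralizer (jIn p S : Set G)

theorem jZ_comm {p : ℕ} {S : Subgroup G} {x y : G} (hx : x ∈ jZ p S) (hy : y ∈ jZ p S) :
    x * y = y * x :=
  (Subgroup.mem_centralizer_iff.mp hy.2 x hx.1)

theorem jIn_le (p : ℕ) (S : Subgroup G) : jIn p S ≤ S := sSup_le fun _ hA => hA.1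

theorem map_jIn_le {H : Type*} [Group H] (f : G →* H) (hf : Function.Injective f) (p : ℕ)
    (S : Subgroup G) : (jIn p S).map f ≤ jIn p (S.map f) := by
  rw [jIn, Subgroup.map_le_iff_le_comap]
  exact sSup_le fun A hA => Subgroup.map_le_iff_le_comap.mp (le_sSup (maxIn_map f hf hA))

theorem map_jIn {H : Type*} [Group H] (f : G →* H) (hf : Function.Injective f) (p : ℕ)
    (S : Subgroup G) : (jIn p S).map f = jIn p (S.map f) := by
  refine le_antisymm (map_jIn_le f hf p S) (sSup_le fun A hA => ?_)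
  have hAf : (A.comap f).map f = A := Subgroup.map_comap_eq_self (hA.1.trans fun y hy => by
    obtain ⟨s, -, rfl⟩ := hy
    exact ⟨s, rfl⟩)
  rw [← hAf]
  refine Subgroup.map_mono (le_sSup ⟨?_, ?_, fun B hB hBe => ?_⟩)
  · intro x hx
    obtain ⟨s, hs, hsx⟩ := hA.1 hx
    exact hf hsx ▸ hs
  · exact elemAb_of_map hf (hAf.symm ▸ hA.2.1)
  · have := hA.2.2 (B.map f) (Subgroup.map_mono hB) (elemAb_map hBe f)
    rwa [← hAf, Subgroup.card_map_of_injective hf, Subgroup.card_map_of_injective hf] at this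

theorem map_jZ {H : Type*} [Group H] (f : G →* H) (hf : Function.Injective f) (p : ℕ)
    (S : Subgroup G) : (jZ p S).map f = jZ p (S.map f) := by
  rw [jZ, jZ, ← map_jIn f hf]
  apply le_antisymm
  · rintro _ ⟨x, hx, rfl⟩
    refine ⟨⟨x, hx.1, rfl⟩, Subgroup.mem_centralizer_iff.mpr ?_⟩
    rintro _ ⟨y, hy, rfl⟩
    rw [← map_mul, ← map_mul, Subgroup.mem_centralizer_iff.mp hx.2 y hy]
  · rintro _ ⟨⟨x, hx, rfl⟩, hc⟩
    refine ⟨x, ⟨hx, Subgroup.mem_centralizer_iff.mpr fun y hy => hf ?_⟩, rfl⟩
    rw [map_mul, map_mul]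
    exact Subgroup.mem_centralizer_iff.mp hc _ ⟨y, hy, rfl⟩

theorem normalizer_le_normalizer_jIn (p : ℕ) (S : Subgroup G) :
    Subgroup.normalizer (S : Set G) ≤ Subgroup.normalizer (jIn p S : Set G) := fun g hg => by
  rw [Subgroup.mem_normalizer_iff_map_conj_eq] at hg ⊢
  exact (map_jIn (MulAut.conj g).toMonoidHom (MulAut.conj g).injective p S).trans
    (congrArg (jIn p) hg)

theorem normalizer_le_normalizer_jZ (p : ℕ) (S : Subgroup G) :
    Subgroup.normalizer (S : Set G) ≤ Subgroup.normalizer (jZ p S : Set G) := fun g hg => by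
  rw [Subgroup.mem_normalizer_iff_map_conj_eq] at hg ⊢
  exact (map_jZ (MulAut.conj g).toMonoidHom (MulAut.conj g).injective p S).trans
    (congrArg (jZ p) hg)

theorem normalizer_le_normalizer_cJ (p : ℕ) (S : Subgroup G) :
    Subgroup.normalizer (S : Set G) ≤
      Subgroup.normalizer ((Subgroup.centralizer (jIn p S : Set G) : Subgroup G) : Set G) := by
  intro d hd
  have hn := normalizer_le_normalizer_jIn p S hd
  refine Subgroup.mem_normalizer_iff.mpr fun x => ?_
  simp only [Subgroup.mem_centralizer_iff]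
  constructor
  · intro h b hb
    have := h (d⁻¹ * b * d) ((Subgroup.mem_normalizer_iff''.mp hn b).mp hb)
    calc b * (d * x * d⁻¹) = d * ((d⁻¹ * b * d) * x) * d⁻¹ := by group
      _ = d * (x * (d⁻¹ * b * d)) * d⁻¹ := by rw [this]
      _ = _ := by group
  · intro h b hb
    have := h (d * b * d⁻¹) ((Subgroup.mem_normalizer_iff.mp hn b).mp hb)
    calc b * x = d⁻¹ * ((d * b * d⁻¹) * (d * x * d⁻¹)) * d := by group
      _ = d⁻¹ * ((d * x * d⁻¹) * (d * b * d⁻¹)) * d := by rw [this]
      _ = _ := by group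

variable [Finite G] {p : ℕ} [hp : Fact p.Prime]

omit hp in
theorem jZ_omega {S : Subgroup G} {x : G} (hx : x ∈ jZ p S) (hxp : x ^ p = 1) : x ∈ zIn p S :=
  mem_zIn (jIn_le p S hx.1) hxp fun _ hA a ha =>
    (Subgroup.mem_centralizer_iff.mp hx.2 a ((le_sSup (s := {A | MaxIn p S A}) hA) ha)).symm

/-- The centralizer of the elements of order `p` of a `p`-group `B` is a `p`-group modulo `C(B)`. -/
theorem relIndex_centralizer_omega (hp2 : p ≠ 2) {B : Subgroup G} [B.Normal] (hB : IsPGroup p B) :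
    ∃ k, (Subgroup.centralizer (B : Set G)).relIndex (Subgroup.centralizer
      ((Subgroup.closure {x : G | x ∈ B ∧ x ^ p = 1} : Subgroup G) : Set G)) = p ^ k := by
  set C := Subgroup.centralizer ((Subgroup.closure {x : G | x ∈ B ∧ x ^ p = 1} : Subgroup G) : Set G)
  set N := (Subgroup.centralizer (B : Set G)).subgroupOf C
  have hq : IsPGroup p (C ⧸ N) := by
    intro x
    obtain ⟨a, rfl⟩ := QuotientGroup.mk'_surjective N x
    obtain ⟨k, hk⟩ := exists_orderOf_pow_coprime p (a : G)
    refine ⟨k, (QuotientGroup.eq_one_iff _).mpr ?_⟩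
    show ((a ^ p ^ k : C) : G) ∈ Subgroup.centralizer (B : Set G)
    refine le_centralizer_of_fixes_pow_eq_one hp2 (A := Subgroup.zpowers ((a : G) ^ p ^ k))
      (by rwa [Nat.card_zpowers]) B hB Subgroup.le_normalizer_of_normal
      (fun y hy hyp => ?_) (Subgroup.mem_zpowers _)
    rw [Subgroup.zpowers_le, Subgroup.mem_centralizer_singleton_iff]
    exact (Subgroup.mem_centralizer_iff.mp (pow_mem a.2 (p ^ k)) y
      (Subgroup.subset_closure ⟨hy, hyp⟩)).symm
  obtain ⟨k, hk⟩ := IsPGroup.iff_card.mp hq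
  exact ⟨k, by rw [Subgroup.relIndex, Subgroup.index_eq_card, hk]⟩

/-- `Z(J(S)) ∩ B` is normal, for the full centre of `J(S)`. -/
theorem jZ_inf_normal (hp2 : p ≠ 2)
    (hst : ∀ (P : Subgroup G) [P.Normal], IsPGroup p P → Cfsg.IsPStableOn p P) (S : Sylow p G) : ∀ (B : Subgroup G) [B.Normal], B ≤ (S : Subgroup G) →
      (jZ p (S : Subgroup G) ⊓ B).Normal := by
  intro B
  induction hn : Nat.card B using Nat.strong_induction_on generalizing B with
  | _ n ih =>
    intro _ hBS
    subst hn
    set P := (S : Subgroup G) with hP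
    set Z := jZ p P with hZ
    set Z₁ := Z ⊓ B with hZ₁
    have hZP : P ≤ Subgroup.normalizer (Z : Set G) :=
      Subgroup.le_normalizer.trans (normalizer_le_normalizer_jZ p P)
    have hPZ₁ : P ≤ Subgroup.normalizer (Z₁ : Set G) := by
      intro s hs
      rw [Subgroup.mem_normalizer_iff]
      intro x
      rw [hZ₁, Subgroup.mem_inf, Subgroup.mem_inf, ← Subgroup.mem_normalizer_iff.mp (hZP hs) x]
      refine and_congr Iff.rfl ⟨fun hx => Subgroup.Normal.conj_mem inferInstance x hx s, fun hx => ?_⟩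
      have := Subgroup.Normal.conj_mem (inferInstance : B.Normal) _ hx s⁻¹
      rwa [show s⁻¹ * (s * x * s⁻¹) * s⁻¹⁻¹ = x by group] at this
    set B₁ := Subgroup.normalClosure (Z₁ : Set G) with hB₁
    have hB₁B : B₁ ≤ B := Subgroup.normalClosure_le_normal fun x hx => hx.2
    rcases hB₁B.lt_or_eq with hlt | heq
    · have hlt' : Nat.card B₁ < Nat.card B :=
        (Subgroup.card_le_of_le hlt.le).lt_of_ne fun h => hlt.ne (Subgroup.eq_of_le_of_card_ge hlt.le h.ge)
      have h1 := ih _ hlt' B₁ rfl (hB₁B.trans hBS)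
      have : Z ⊓ B₁ = Z₁ := le_antisymm (inf_le_inf_left _ hB₁B)
        (le_inf inf_le_left fun x hx => Subgroup.subset_normalClosure hx)
      rwa [this] at h1
    by_cases hBbot : B = ⊥
    · rw [hZ₁, hBbot, inf_bot_eq]; infer_instance
    -- `B' ≤ Z`
    have hBp : IsPGroup p B := S.2.to_le hBS
    haveI : (⁅B, B⁆).Normal := Subgroup.commutator_normal B B
    have hlt : ⁅B, B⁆ < B := Transfer.commutator_lt_self hBp hBbot
    set Z₂ := Z ⊓ ⁅B, B⁆ with hZ₂
    haveI hZ₂n : Z₂.Normal := ih _ ((Subgroup.card_le_of_le hlt.le).lt_of_ne fun h =>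
      hlt.ne (Subgroup.eq_of_le_of_card_ge hlt.le h.ge)) _ rfl (hlt.le.trans hBS)
    have hB'Z : ⁅B, B⁆ ≤ Z := by
      refine le_trans ?_ (inf_le_left : Z₂ ≤ Z)
      have key : ∀ x ∈ B₁, ∀ y ∈ B, ⁅x, y⁆ ∈ Z₂ := by
        intro x hx
        rw [hB₁, Subgroup.normalClosure] at hx
        induction hx using Subgroup.closure_induction with
        | mem x hx =>
          intro y hy
          obtain ⟨z, hz, hzx⟩ := Group.mem_conjugatesOfSet_iff.mp hx
          obtain ⟨g, rfl⟩ := isConj_iff.mp hzx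
          have hy' : g⁻¹ * y * g ∈ B := by
            simpa using Subgroup.Normal.conj_mem (inferInstance : B.Normal) y hy g⁻¹
          have h1 : ⁅z, g⁻¹ * y * g⁆ ∈ Z₂ := by
            refine Subgroup.mem_inf.mpr ⟨?_, Subgroup.commutator_mem_commutator hz.2 hy'⟩
            rw [commutatorElement_def, mul_assoc z _ z⁻¹, mul_assoc z]
            exact mul_mem hz.1
              ((Subgroup.mem_normalizer_iff.mp (hZP (hBS hy')) z⁻¹).mp (inv_mem hz.1))
          rw [show ⁅g * z * g⁻¹, y⁆ = g * ⁅z, g⁻¹ * y * g⁆ * g⁻¹ by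
            simp only [commutatorElement_def]; group]
          exact hZ₂n.conj_mem _ h1 g
        | one => intro y _; simp
        | mul a c _ _ ha hc =>
          intro y hy
          rw [show ⁅a * c, y⁆ = a * ⁅c, y⁆ * a⁻¹ * ⁅a, y⁆ by simp only [commutatorElement_def]; group]
          exact mul_mem (hZ₂n.conj_mem _ (hc y hy) a) (ha y hy)
        | inv a _ ha =>
          intro y hy
          rw [show ⁅a⁻¹, y⁆ = a⁻¹ * ⁅a, y⁆⁻¹ * a⁻¹⁻¹ by simp only [commutatorElement_def]; group]
          exact hZ₂n.conj_mem _ (inv_mem (ha y hy)) a⁻¹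
      rw [Subgroup.commutator_le]
      intro x hx y hy
      exact key x (heq.ge hx) y hy
    haveI : (Z ⊓ (frattini B).map B.subtype).Normal := by
      have hne : (frattini B).map B.subtype ≠ B := fun h => by
        have : Nontrivial B := (Subgroup.nontrivial_iff_ne_bot B).mpr hBbot
        exact Cores.frattini_ne_top (G := B) (Subgroup.map_injective B.subtype_injective
          (by rw [h, ← MonoidHom.range_eq_map, Subgroup.range_subtype]))
      have hle := Subgroup.map_subtype_le (frattini B)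
      exact ih _ ((Subgroup.card_le_of_le hle).lt_of_ne fun h =>
        hne (Subgroup.eq_of_le_of_card_ge hle h.ge)) _ rfl (hle.trans hBS)
    have hcom : ∀ u ∈ ⁅B, B⁆, ∀ w ∈ B, Commute w u := by
      intro u hu w hw
      have h1 : B₁ ≤ Subgroup.centralizer (⁅B, B⁆ : Subgroup G) := by
        refine Subgroup.normalClosure_le_normal fun z hz => Subgroup.mem_centralizer_iff.mpr fun u hu => ?_
        exact jZ_comm (hB'Z hu) hz.1
      exact (Subgroup.mem_centralizer_iff.mp (h1 (heq.ge hw)) u hu).symm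
    have hgenp : ∀ z ∈ Z₁, ∀ w ∈ B, Commute w (z ^ p) := by
      intro z hz
      obtain ⟨hzZ, hzB⟩ := Subgroup.mem_inf.mp hz
      have hK : z ^ p ∈ Z ⊓ (frattini B).map B.subtype :=
        Subgroup.mem_inf.mpr ⟨pow_mem hzZ p, ⟨⟨z, hzB⟩ ^ p, Cores.pow_mem_frattini hBp _, rfl⟩⟩
      have h1 : B₁ ≤ Subgroup.centralizer ((Z ⊓ (frattini B).map B.subtype : Subgroup G) : Set G) :=
        Subgroup.normalClosure_le_normal fun y hy => Subgroup.mem_centralizer_iff.mpr fun u hu =>
          jZ_comm hu.1 hy.1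
      intro w hw
      exact (Subgroup.mem_centralizer_iff.mp (h1 (heq.ge hw)) _ hK).symm
    have hBW : ⁅B, B⁆ ≤ zIn p P := by
      have hpw : ∀ w ∈ B, ∀ v ∈ B, Commute (v ^ p) w → ⁅v, w⁆ ^ p = 1 := by
        intro w hw v hv hvw
        have hc := Subgroup.commutator_mem_commutator hv hw
        have h1 : v * w * v⁻¹ = ⁅v, w⁆ * w := by rw [commutatorElement_def]; group
        have h2 : v * ⁅v, w⁆ * v⁻¹ = ⁅v, w⁆ := by rw [(hcom _ hc v hv).eq, mul_inv_cancel_right]
        have h3 := OddLocal.conj_pow_eq h1 h2 p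
        rw [hvw.eq, mul_inv_cancel_right] at h3
        exact mul_eq_right.mp h3.symm
      have key : ∀ x ∈ B₁, ∀ y ∈ B, ⁅x, y⁆ ∈ zIn p P := by
        intro x hx
        rw [hB₁, Subgroup.normalClosure] at hx
        induction hx using Subgroup.closure_induction with
        | mem x hx =>
          intro y hy
          obtain ⟨z, hz, hzx⟩ := Group.mem_conjugatesOfSet_iff.mp hx
          obtain ⟨g, rfl⟩ := isConj_iff.mp hzx
          have hv : g * z * g⁻¹ ∈ B := Subgroup.Normal.conj_mem inferInstance z hz.2 g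
          have hpc : Commute ((g * z * g⁻¹) ^ p) y := by
            have hy' : g⁻¹ * y * g ∈ B := by
              simpa using Subgroup.Normal.conj_mem (inferInstance : B.Normal) y hy g⁻¹
            have h := ((hgenp z hz _ hy').symm).map (MulAut.conj g).toMonoidHom
            rw [conj_pow]
            simpa [mul_assoc] using h
          exact jZ_omega (hB'Z (Subgroup.commutator_mem_commutator hv hy)) (hpw y hy _ hv hpc)
        | one => intro y _; simp
        | mul a c ha hc iha ihc =>
          intro y hy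
          have haB : a ∈ B := hB₁B ha
          have hcB : c ∈ B := hB₁B hc
          have h1 := hcom _ (Subgroup.commutator_mem_commutator hcB hy) a haB
          rw [show ⁅a * c, y⁆ = a * ⁅c, y⁆ * a⁻¹ * ⁅a, y⁆ by simp only [commutatorElement_def]; group,
            h1.eq, mul_inv_cancel_right]
          exact mul_mem (ihc y hy) (iha y hy)
        | inv a ha iha =>
          intro y hy
          have haB : a ∈ B := hB₁B ha
          have h1 := hcom _ (inv_mem (Subgroup.commutator_mem_commutator haB hy)) a⁻¹ (inv_mem haB)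
          rw [show ⁅a⁻¹, y⁆ = a⁻¹ * ⁅a, y⁆⁻¹ * a⁻¹⁻¹ by simp only [commutatorElement_def]; group,
            h1.eq, mul_inv_cancel_right]
          exact inv_mem (iha y hy)
      rw [Subgroup.commutator_le]
      intro x hx y hy
      exact key x (heq.ge hx) y hy
    set V := Subgroup.closure {x : G | x ∈ B ∧ x ^ p = 1} with hV
    haveI hVn : V.Normal := by
      refine ⟨fun x hx g => ?_⟩
      have h1 : V.map (MulAut.conj g).toMonoidHom ≤ V := by
        rw [hV, MonoidHom.map_closure, Subgroup.closure_le]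
        rintro _ ⟨y, hy, rfl⟩
        refine Subgroup.subset_closure ⟨Subgroup.Normal.conj_mem inferInstance y hy.1 g, ?_⟩
        rw [← map_pow, hy.2, map_one]
      exact h1 ⟨x, hx, rfl⟩
    have hVB : V ≤ B := (Subgroup.closure_le B).mpr fun x hx => hx.1
    -- the largest normal subgroup normalizing `Z₁`
    set N₁ := Subgroup.normalizer (Z₁ : Set G) with hN₁
    set L := N₁.normalCore with hL
    have hLN : L ≤ N₁ := Subgroup.normalCore_le _
    obtain ⟨D, hD, hCD, ⟨k, hk⟩, hstab⟩ := pStable_core (p := p) (B := B)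
    haveI := hD
    have hDL : D ≤ L := by
      refine (Subgroup.normal_le_normalCore).mpr ?_
      refine (normal_le_sup_inf_sylow D _ hCD hk S).trans (sup_le ?_ (inf_le_left.trans hPZ₁))
      exact (Subgroup.centralizer_le (show (Z₁ : Set G) ⊆ B from fun x hx => hx.2)).trans
        (Subgroup.centralizer_le_normalizer _)
    have hquad : ∀ a : G, ⁅⁅V, Subgroup.zpowers a⁆, Subgroup.zpowers a⁆ = ⊥ → a ∈ L := by
      intro a ha
      obtain ⟨DV, hDV, hCV, ⟨kV, hkV⟩, hstabV⟩ := pStable_core (p := p) (B := V)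
      haveI := hDV
      obtain ⟨kC, hkC⟩ := relIndex_centralizer_omega hp2 hBp
      refine (Subgroup.normal_le_normalCore.mpr ?_ : DV ≤ L) (hstabV (hst V (hBp.to_le hVB)) a ha)
      have hCle : Subgroup.centralizer (B : Set G) ≤ DV :=
        (Subgroup.centralizer_le hVB).trans hCV
      have hkD : (Subgroup.centralizer (B : Set G)).relIndex DV = p ^ (kC + kV) := by
        rw [← Subgroup.relIndex_mul_relIndex _ _ _ (Subgroup.centralizer_le hVB) hCV, hkV,
          show _ = p ^ kC from hkC, pow_add]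
      refine (normal_le_sup_inf_sylow DV _ hCle hkD S).trans (sup_le ?_ (inf_le_left.trans hPZ₁))
      exact (Subgroup.centralizer_le (show (Z₁ : Set G) ⊆ B from fun x hx => hx.2)).trans
        (Subgroup.centralizer_le_normalizer _)
    set T := P ⊓ L with hT
    have hfrat : L ⊔ Subgroup.normalizer (T : Set G) = ⊤ := by
      have hp1 : IsPGroup p (T.subgroupOf L) :=
        (S.2.to_le inf_le_left).of_equiv (Subgroup.subgroupOfEquivOfLe inf_le_right).symm
      have hidx : ¬ p ∣ (T.subgroupOf L).index := by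
        rw [← Subgroup.relIndex, hT, Subgroup.inf_relIndex_right]
        exact fun h => S.not_dvd_index (h.trans (PGroups.relIndex_dvd_index_of_normal_right L _))
      have h := Sylow.normalizer_sup_eq_top (hp1.toSylow hidx)
      rw [IsPGroup.toSylow_coe, Subgroup.subgroupOf_map_subtype,
        inf_eq_left.mpr (inf_le_right : T ≤ L), sup_comm] at h
      exact h
    by_cases hall : ∀ A, MaxIn p P A → A ≤ L
    · -- `J(S) ≤ L`
      have hJ : jIn p T = jIn p P := by
        rw [jIn, jIn]
        congr 1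
        ext A
        obtain ⟨A₁, hA₁⟩ := exists_maxIn p P
        constructor
        · intro hA
          exact ⟨hA.1.trans inf_le_left, hA.2.1, fun X hX hXe =>
            (hA₁.2.2 X hX hXe).trans (hA.2.2 A₁ (le_inf hA₁.1 (hall A₁ hA₁)) hA₁.2.1)⟩
        · intro hA
          exact ⟨le_inf hA.1 (hall A hA), hA.2.1, fun X hX hXe => hA.2.2 X (hX.trans inf_le_left) hXe⟩
      have hZT : jZ p T = Z := by rw [hZ, jZ, jZ, hJ]
      refine Subgroup.normalizer_eq_top_iff.mp (top_le_iff.mp (hfrat ▸ sup_le hLN ?_))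
      intro g hg
      have hgZ : g ∈ Subgroup.normalizer (Z : Set G) := hZT ▸ normalizer_le_normalizer_jZ p T hg
      rw [Subgroup.mem_normalizer_iff]
      intro x
      rw [hZ₁, Subgroup.mem_inf, Subgroup.mem_inf, ← Subgroup.mem_normalizer_iff.mp hgZ x]
      refine and_congr Iff.rfl ⟨fun hx => Subgroup.Normal.conj_mem inferInstance x hx g, fun hx => ?_⟩
      have := Subgroup.Normal.conj_mem (inferInstance : B.Normal) _ hx g⁻¹
      rwa [show g⁻¹ * (g * x * g⁻¹) * g⁻¹⁻¹ = x by group] at this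
    exfalso
    push Not at hall
    obtain ⟨A, ⟨hA, hAL⟩, hmax⟩ := Set.exists_max_image {A : Subgroup G | MaxIn p P A ∧ ¬ A ≤ L}
      (fun A => Nat.card ↥(A ⊓ B)) (Set.toFinite _) hall
    have hBA : ⁅B, B⁆ ≤ A := hBW.trans (zIn_le hA)
    by_cases hnorm : B ≤ Subgroup.normalizer (A : Set G)
    · refine hAL fun a ha => hDL (hstab (hst B hBp) a ?_)
      rw [Subgroup.commutator_eq_bot_iff_le_centralizer]
      refine le_trans ((Subgroup.commutator_mono le_rfl (Subgroup.zpowers_le.mpr ha)).trans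
        (Subgroup.le_normalizer_iff_commutator_le_right.mp hnorm)) ?_
      intro c hc z hz
      exact commute_of_elemAb hA.2.1 ((Subgroup.zpowers_le.mpr ha) hz) hc
    obtain ⟨A', hA', hlt', hA'N⟩ := exists_replace_sylow hp2 (Or.inl (hp.out.odd_of_ne_two hp2)) S B hBS hA hBA hnorm
    have hA'L : A' ≤ L := by
      by_contra hne
      exact hlt'.ne (Subgroup.eq_of_le_of_card_ge hlt'.le (hmax A' ⟨hA', hne⟩))
    have hA'T : MaxIn p T A' := ⟨le_inf hA'.1 hA'L, hA'.2.1,
      fun X hX hXe => hA'.2.2 X (hX.trans inf_le_left) hXe⟩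
    have hZT : Z ≤ Subgroup.centralizer (jIn p T : Set G) := by
      refine le_trans ?_ (Subgroup.centralizer_le (sSup_le fun X hX => le_sSup ?_ :
        jIn p T ≤ jIn p P))
      · exact inf_le_right
      · exact ⟨hX.1.trans inf_le_left, hX.2.1, fun Y hY hYe =>
          (hA'.2.2 Y hY hYe).trans (hX.2.2 A' hA'T.1 hA'T.2.1)⟩
    have hBT : B₁ ≤ Subgroup.centralizer (jIn p T : Set G) := by
      rw [hB₁, Subgroup.normalClosure, Subgroup.closure_le]
      intro x hx
      obtain ⟨z, hz, hzx⟩ := Group.mem_conjugatesOfSet_iff.mp hx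
      obtain ⟨g, rfl⟩ := isConj_iff.mp hzx
      obtain ⟨n, hn, l, hl, rfl⟩ : ∃ n ∈ Subgroup.normalizer (T : Set G), ∃ l ∈ L, n * l = g := by
        have hg : g ∈ Subgroup.normalizer (T : Set G) ⊔ L := by rw [sup_comm, hfrat]; trivial
        exact Subgroup.mem_sup_of_normal_right.mp hg
      have h1 : l * z * l⁻¹ ∈ Z₁ := (Subgroup.mem_normalizer_iff.mp (hLN hl) z).mp hz
      have h2 := (Subgroup.mem_normalizer_iff.mp (normalizer_le_normalizer_cJ p T hn) _).mp
        (hZT h1.1)
      rw [SetLike.mem_coe, show n * l * z * (n * l)⁻¹ = n * (l * z * l⁻¹) * n⁻¹ by group]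
      exact h2
    have hVA' : V ≤ A' := by
      refine (Subgroup.closure_le A').mpr fun v hv => ?_
      refine zIn_le hA'T (mem_zIn (Subgroup.mem_inf.mpr ⟨hBS hv.1, ?_⟩) hv.2 fun X hX x hx => ?_)
      · exact (Subgroup.normal_le_normalCore.mpr (hBS.trans hPZ₁) : B ≤ L) hv.1
      · exact (Subgroup.mem_centralizer_iff.mp (hBT (heq.ge hv.1)) x ((le_sSup (s := {A | MaxIn p T A}) hX) hx)).symm
    refine hAL fun a ha => hquad a ?_
    rw [Subgroup.commutator_eq_bot_iff_le_centralizer]
    refine le_trans ((Subgroup.commutator_mono le_rfl (Subgroup.zpowers_le.mpr ha)).trans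
      (Subgroup.le_normalizer_iff_commutator_le_right.mp (hVA'.trans hA'N))) ?_
    intro c hc z hz
    exact commute_of_elemAb hA.2.1 ((Subgroup.zpowers_le.mpr ha) hz) hc

/-- Glauberman's theorem for the full centre. -/
theorem jZ_normal (hp2 : p ≠ 2)
    (hc : Subgroup.centralizer (Cfsg.pCore p G : Set G) ≤ Cfsg.pCore p G)
    (hst : ∀ (P : Subgroup G) [P.Normal], IsPGroup p P → Cfsg.IsPStableOn p P) (S : Sylow p G) :
    (jZ p (S : Subgroup G)).Normal := by
  haveI := Cfsg.pCore_normal p G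
  set Q := Cfsg.pCore p G with hQ
  set Z := jZ p (S : Subgroup G) with hZ
  have hQS : Q ≤ (S : Subgroup G) := Cores.pCore_le_sylow S
  have hZQ : Z ≤ Q := by
    obtain ⟨D, hD, hCD, ⟨k, hk⟩, hstab⟩ := pStable_core (p := p) (B := Q)
    intro z hz
    refine Cores.le_pCore hD ?_ (hstab (hst Q (Cores.pCore_isPGroup p G)) z ?_)
    · obtain ⟨m, hm⟩ := IsPGroup.iff_card.mp ((Cores.pCore_isPGroup p G).to_le hc)
      refine IsPGroup.of_card (n := m + k) ?_
      rw [pow_add, ← hm, ← hk, ← Subgroup.relIndex_bot_left, ← Subgroup.relIndex_bot_left]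
      exact (Subgroup.relIndex_mul_relIndex _ _ _ bot_le hCD).symm
    · rw [Subgroup.commutator_eq_bot_iff_le_centralizer]
      refine le_trans ((Subgroup.commutator_mono le_rfl (Subgroup.zpowers_le.mpr hz)).trans
        (Subgroup.le_normalizer_iff_commutator_le_right.mp
          (hQS.trans (Subgroup.le_normalizer.trans (normalizer_le_normalizer_jZ p _))))) ?_
      intro c hc w hw
      exact jZ_comm ((Subgroup.zpowers_le.mpr hz) hw) hc
  have h := jZ_inf_normal hp2 hst S Q hQS
  rwa [inf_eq_left.mpr hZQ] at h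

/-- Solvable groups of odd order are stable on their normal `p`-subgroups. -/
theorem isPStableOn_of_odd (hp2 : p ≠ 2) (hodd : Odd (Nat.card G)) (P : Subgroup G) [P.Normal]
    (hP : IsPGroup p P) : Cfsg.IsPStableOn p P := by
  intro a ha
  set C := Subgroup.centralizer (P : Set G) with hC
  have hq : ∀ x ∈ P, Commute a ⁅x, a⁆ := fun x hx => by
    have h1 : ⁅x, a⁆ ∈ ⁅P, Subgroup.zpowers a⁆ :=
      Subgroup.commutator_mem_commutator hx (Subgroup.mem_zpowers a)
    exact Subgroup.mem_centralizer_iff.mp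
      (Subgroup.commutator_eq_bot_iff_le_centralizer.mp ha h1) a (Subgroup.mem_zpowers a)
  have hconj : ∀ x ∈ P, ∀ n : ℕ, a ^ n * x * (a ^ n)⁻¹ = (⁅a, x⁆ ^ n) * x := by
    intro x hx n
    refine conj_pow_eq (by rw [commutatorElement_def]; group) ?_ n
    rw [← commutatorElement_inv x a, (hq x hx).inv_right.eq, mul_inv_cancel_right]
  refine mem_of_parts (H := (Cfsg.pCore p (G ⧸ C)).comap (QuotientGroup.mk' C)) p ?_ ?_
  · have hb : a ^ p ^ (orderOf a).factorization p ∈ C := by
      rw [hC, Subgroup.mem_centralizer_iff]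
      intro x hx
      set n := p ^ (orderOf a).factorization p with hn
      have h1 := hconj x hx (n * orderOf (a ^ n))
      rw [pow_mul, pow_orderOf_eq_one, one_mul, inv_one, mul_one] at h1
      have h2 : (⁅a, x⁆ ^ n) ^ orderOf (a ^ n) = 1 := by
        rw [← pow_mul]; exact mul_eq_right.mp h1.symm
      have hzP : ⁅a, x⁆ ^ n ∈ P := by
        refine pow_mem ?_ n
        rw [commutatorElement_def]
        exact P.mul_mem (Subgroup.Normal.conj_mem inferInstance x hx a) (P.inv_mem hx)
      obtain ⟨j, hj⟩ := IsPGroup.iff_orderOf.mp hP ⟨_, hzP⟩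
      rw [← Subgroup.orderOf_coe] at hj
      replace hj : orderOf (⁅a, x⁆ ^ n) = p ^ j := hj
      have h3 : ⁅a, x⁆ ^ n = 1 := orderOf_eq_one_iff.mp (Nat.eq_one_of_dvd_coprimes
        (hj ▸ (orderOf_pCompl p a).symm.pow_left j :
          (orderOf (⁅a, x⁆ ^ n)).Coprime (orderOf (a ^ n))) dvd_rfl (orderOf_dvd_of_pow_eq_one h2))
      have h4 := hconj x hx n
      rw [h3, one_mul] at h4
      exact (mul_inv_eq_iff_eq_mul.mp h4).symm
    rw [Subgroup.mem_comap, QuotientGroup.mk'_apply, (QuotientGroup.eq_one_iff _).mpr hb]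
    exact one_mem _
  · refine mem_pCore_of_quadratic hp2 hodd hP C le_rfl
      ⟨(orderOf a).factorization p, orderOf_dvd_iff_pow_eq_one.mp (dvd_of_eq (orderOf_pPart p a))⟩ fun x hx => ?_
    set j := orderOf a / p ^ (orderOf a).factorization p
    have h1 : ⁅x, a ^ j⁆ = (⁅a, x⁆ ^ j)⁻¹ := by
      rw [← commutatorElement_inv (a ^ j) x, commutatorElement_def (a ^ j), hconj x hx j,
        mul_inv_cancel_right]
    rw [h1]
    have h2 : Commute a ⁅a, x⁆ := by
      rw [← commutatorElement_inv x a]; exact (hq x hx).inv_right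
    exact (h2.pow_pow j j).inv_right

end Cfsg.Agent.Lib.OddLocal
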