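import Cfsg.Agent.Lib.OddLocal.OmegaExtend

/-! Elements of order `p` in the centre and second centre, and rank-two maximal elementary subgroups. -/

set_option autoImplicit false

open scoped commutatorElement

namespace Cfsg.Agent.Lib.OddLocal

universe u

variable {p : ℕ} [hp : Fact p.Prime] {R : Type u} [Group R] [Finite R]

/-- Adjoining a commuting element of order `p` to an elementary abelian subgroup. -/
theorem isElementary_sup_zpowers {E : Subgroup R} (hE : Cfsg.IsElementaryAbelian p E) {x : R}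
    (hx : x ∈ Subgroup.centralizer (E : Set R)) (hxp : x ^ p = 1) :
    Cfsg.IsElementaryAbelian p (E ⊔ Subgroup.zpowers x) := by
  have hBeq : E ⊔ Subgroup.zpowers x = Subgroup.closure ((E : Set R) ∪ {x}) := by
    rw [Subgroup.closure_union, Subgroup.closure_eq, ← Subgroup.zpowers_eq_closure]
  have hcomm : IsMulCommutative (Subgroup.closure ((E : Set R) ∪ {x})) :=
    Subgroup.isMulCommutative_closure (by
      rintro a (ha | rfl) b (hb | rfl)
      · exact congrArg Subtype.val (hE.1.is_comm.comm ⟨a, ha⟩ ⟨b, hb⟩)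
      · exact hx a ha
      · exact (hx b hb).symm
      · rfl)
  rw [hBeq]
  refine ⟨hcomm, fun b hb => ?_⟩
  induction hb using Subgroup.closure_induction with
  | mem a ha => rcases ha with ha | rfl
                · exact hE.2 a ha
                · exact hxp
  | one => exact one_pow _
  | mul a b ha hb iha ihb =>
    rw [(show Commute a b from congrArg Subtype.val (hcomm.is_comm.comm ⟨a, ha⟩ ⟨b, hb⟩)).mul_pow,
      iha, ihb, one_mul]
  | inv a _ iha => rw [inv_pow, iha, inv_one]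

/-- A maximal elementary abelian subgroup contains every element of order `p` centralizing it. -/
theorem mem_of_maximal_elementary {E : Subgroup R} (hE : Cfsg.IsElementaryAbelian p E)
    (hEmax : ∀ B : Subgroup R, Cfsg.IsElementaryAbelian p B → E ≤ B → B = E) {x : R}
    (hx : x ∈ Subgroup.centralizer (E : Set R)) (hxp : x ^ p = 1) : x ∈ E :=
  hEmax _ (isElementary_sup_zpowers hE hx hxp) le_sup_left ▸
    Subgroup.mem_sup_right (Subgroup.mem_zpowers x)

theorem mem_omega_center {x : R}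
    (hx : x ∈ Subgroup.closure {x : R | x ∈ Subgroup.center R ∧ x ^ p = 1}) :
    x ∈ Subgroup.center R ∧ x ^ p = 1 := by
  induction hx using Subgroup.closure_induction with
  | mem a ha => exact ha
  | one => exact ⟨one_mem _, one_pow _⟩
  | mul a b _ _ ha hb => exact ⟨mul_mem ha.1 hb.1, by
      rw [(show Commute a b from (Subgroup.mem_center_iff.mp ha.1 b).symm).mul_pow, ha.2, hb.2, one_mul]⟩
  | inv a _ ha => exact ⟨inv_mem ha.1, by rw [inv_pow, ha.2, inv_one]⟩

theorem mem_omega_center_two (hp2 : p ≠ 2) {x : R}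
    (hx : x ∈ Subgroup.closure {x : R | x ∈ Subgroup.upperCentralSeries R 2 ∧ x ^ p = 1}) :
    x ∈ Subgroup.upperCentralSeries R 2 ∧ x ^ p = 1 := by
  induction hx using Subgroup.closure_induction with
  | mem a ha => exact ha
  | one => exact ⟨one_mem _, one_pow _⟩
  | mul a b _ _ ha hb =>
    refine ⟨mul_mem ha.1 hb.1, ?_⟩
    have hc : ⁅b, a⁆ ∈ Subgroup.center R := by
      rw [← Subgroup.upperCentralSeries_one]
      exact Subgroup.mem_upperCentralSeries_succ_iff.mp hb.1 a
    have hcx : ∀ g, Commute g ⁅b, a⁆ := fun g => Subgroup.mem_center_iff.mp hc g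
    have h1 : b * a = ⁅b, a⁆ * a * b := by rw [commutatorElement_def]; group
    have hcp : ⁅b, a⁆ ^ p = 1 := by
      have h2 : b * a * b⁻¹ = ⁅b, a⁆ * a := by rw [commutatorElement_def]; group
      have h3 : b * ⁅b, a⁆ * b⁻¹ = ⁅b, a⁆ := by rw [(hcx b).eq, mul_inv_cancel_right]
      have h4 := conj_pow_eq h2 h3 p
      rw [hb.2, one_mul, inv_one, mul_one] at h4
      exact mul_eq_right.mp h4.symm
    obtain ⟨k, hk⟩ : p ∣ p.choose 2 :=
      hp.out.dvd_choose_self two_ne_zero (lt_of_le_of_ne hp.out.two_le (Ne.symm hp2))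
    rw [mul_pow_of_central_commutator (hcx a) (hcx b) h1, ha.2, hb.2, hk, pow_mul, hcp, one_pow, one_mul,
      one_mul]
  | inv a _ ha => exact ⟨inv_mem ha.1, by rw [inv_pow, ha.2, inv_one]⟩

/-- A subgroup generated by an invariant set is characteristic. -/
theorem characteristic_closure {s : Set R} (h : ∀ (φ : R ≃* R), ∀ x ∈ s, φ x ∈ s) :
    (Subgroup.closure s).Characteristic := Subgroup.characteristic_iff_map_le.mpr fun φ => by
  rw [MonoidHom.map_closure, Subgroup.closure_le]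
  rintro _ ⟨x, hx, rfl⟩
  exact Subgroup.subset_closure (h φ x hx)

/-- Rank-two maximal elementary subgroups of a `p`-group of rank at least three. -/
theorem maximal_elementary_sq (hp2 : p ≠ 2) (hR : IsPGroup p R) (hr : ¬ Cfsg.PRankLE p 2 R)
    (E : Subgroup R) (hE : Cfsg.IsElementaryAbelian p E) (hE2 : Nat.card E = p ^ 2)
    (hEmax : ∀ B : Subgroup R, Cfsg.IsElementaryAbelian p B → E ≤ B → B = E)
    (Z W : Subgroup R) (hZdef : Z = Subgroup.closure {x : R | x ∈ Subgroup.center R ∧ x ^ p = 1})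
    (hWdef : W = Subgroup.closure {x : R | x ∈ Subgroup.upperCentralSeries R 2 ∧ x ^ p = 1}) :
    ¬ E ≤ Subgroup.centralizer (W : Set R) ∧ Nat.card Z = p ∧
      (Cfsg.IsElementaryAbelian p W ∧ Nat.card W = p ^ 2) ∧
      (Subgroup.centralizer (W : Set R)).Characteristic ∧
      (Subgroup.centralizer (W : Set R)).index = p := by
  have hZmem : ∀ z, z ∈ Z ↔ z ∈ Subgroup.center R ∧ z ^ p = 1 := fun z =>
    ⟨fun h => mem_omega_center (hZdef ▸ h), fun h => hZdef ▸ Subgroup.subset_closure h⟩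
  have hWmem : ∀ z, z ∈ W ↔ z ∈ Subgroup.upperCentralSeries R 2 ∧ z ^ p = 1 := fun z =>
    ⟨fun h => mem_omega_center_two hp2 (hWdef ▸ h), fun h => hWdef ▸ Subgroup.subset_closure h⟩
  have hcomm : ∀ w ∈ W, ∀ r : R, ⁅w, r⁆ ∈ Z := by
    intro w hw r
    obtain ⟨hw1, hw2⟩ := (hWmem w).mp hw
    have hc : ⁅w, r⁆ ∈ Subgroup.center R := by
      rw [← Subgroup.upperCentralSeries_one]
      exact Subgroup.mem_upperCentralSeries_succ_iff.mp hw1 r
    refine (hZmem _).mpr ⟨hc, ?_⟩
    have h2 : r * w * r⁻¹ = ⁅w, r⁆⁻¹ * w := by rw [commutatorElement_def]; group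
    have h4 := congrArg (· ^ p) h2
    have hcw : Commute ⁅w, r⁆⁻¹ w :=
      (show Commute ⁅w, r⁆ w from (Subgroup.mem_center_iff.mp hc w).symm).inv_left
    rw [conj_pow, hw2, mul_one, mul_inv_cancel, hcw.mul_pow, hw2, mul_one, inv_pow] at h4
    exact inv_eq_one.mp h4.symm
  have hEnn : ¬ E.Normal := fun hEn => by
    obtain ⟨B, hEB, -, hBe, hBc⟩ := exists_normal_elementary_gt hp2 hR hr E hE hE2
    rw [hEmax B hBe hEB, hE2] at hBc
    exact lt_irrefl _ hBc
  have hZE : Z ≤ E := fun z hz => by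
    obtain ⟨h1, h2⟩ := (hZmem z).mp hz
    exact mem_of_maximal_elementary hE hEmax
      (Subgroup.mem_centralizer_iff.mpr fun a _ => Subgroup.mem_center_iff.mp h1 a) h2
  have hR0 : (⊤ : Subgroup R) ≠ ⊥ := by
    intro h
    have h1 := Subgroup.card_le_of_le (h ▸ le_top : E ≤ ⊥)
    rw [Subgroup.card_bot, hE2] at h1
    exact absurd h1 (not_le.mpr (Nat.one_lt_pow two_ne_zero hp.out.one_lt))
  obtain ⟨z₀, -, hz₀o, hz₀c⟩ := PLocal.exists_central_prime_mem hR hR0
  have hz₀ : z₀ ∈ Z := (hZmem z₀).mpr ⟨hz₀c, by rw [← hz₀o, pow_orderOf_eq_one]⟩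
  have hZne : Z ≠ E := fun h => hEnn ⟨fun a ha g => by
    rw [← h] at ha ⊢
    rw [Subgroup.mem_center_iff.mp ((hZmem a).mp ha).1 g, mul_inv_cancel_right]; exact ha⟩
  have hZp : Nat.card Z = p := by
    obtain ⟨k, hk, hZk⟩ := (Nat.dvd_prime_pow hp.out).mp (hE2 ▸ Subgroup.card_dvd_of_le hZE)
    have h0 : k ≠ 0 := fun h => by
      rw [h, pow_zero, Subgroup.card_eq_one] at hZk
      rw [hZk, Subgroup.mem_bot] at hz₀
      rw [hz₀, orderOf_one] at hz₀o
      exact hp.out.ne_one hz₀o.symm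
    have h2 : k ≠ 2 := fun h => hZne (Subgroup.eq_of_le_of_card_ge hZE (by rw [hE2, hZk, h]))
    rw [hZk, show k = 1 by omega, pow_one]
  obtain ⟨e, heE, heZ⟩ : ∃ e ∈ E, e ∉ Z := by
    by_contra! h
    exact hZne (le_antisymm hZE h)
  have hgen : E ≤ Z ⊔ Subgroup.zpowers e := by
    have hle : Z ⊔ Subgroup.zpowers e ≤ E := sup_le hZE (Subgroup.zpowers_le.mpr heE)
    obtain ⟨k, hk, hck⟩ := (Nat.dvd_prime_pow hp.out).mp (hE2 ▸ Subgroup.card_dvd_of_le hle)
    refine (Subgroup.eq_of_le_of_card_ge hle ?_).ge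
    rw [hE2, hck]
    refine Nat.pow_le_pow_right hp.out.pos ?_
    by_contra h
    refine heZ ?_
    rw [Subgroup.eq_of_le_of_card_ge (le_sup_left : Z ≤ Z ⊔ Subgroup.zpowers e)
      (by rw [hck, hZp]; exact (Nat.pow_le_pow_right hp.out.pos (show k ≤ 1 by omega)).trans (by rw [pow_one]))]
    exact Subgroup.mem_sup_right (Subgroup.mem_zpowers e)
  obtain ⟨w₀, hw₀W, hw₀Z⟩ : ∃ w ∈ W, w ∉ Z := by
    obtain ⟨x, -, hxp, hxZ, hxr⟩ := exists_omega_central_mod hp2 hR Z ⊤
      (fun g _ => Subgroup.mem_centralizer_iff.mpr fun z hz =>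
        (Subgroup.mem_center_iff.mp ((hZmem z).mp hz).1 g).symm)
      ⟨e, Subgroup.mem_top _, hE.2 e heE, heZ⟩
    refine ⟨x, (hWmem x).mpr ⟨?_, hxp⟩, hxZ⟩
    rw [Subgroup.mem_upperCentralSeries_succ_iff]
    intro r
    rw [Subgroup.upperCentralSeries_one, ← commutatorElement_inv]
    exact inv_mem ((hZmem _).mp (hxr r)).1
  have hWE : ∀ w ∈ W, w ∈ E → w ∈ Z := by
    intro w hw hwE
    by_contra hwZ
    have hle : Z ⊔ Subgroup.zpowers w ≤ E := sup_le hZE (Subgroup.zpowers_le.mpr hwE)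
    have hlt : Z < Z ⊔ Subgroup.zpowers w := lt_of_le_of_ne le_sup_left fun h =>
      hwZ (h ▸ Subgroup.mem_sup_right (Subgroup.mem_zpowers w))
    have heq : Z ⊔ Subgroup.zpowers w = E := by
      refine Subgroup.eq_of_le_of_card_ge hle ?_
      obtain ⟨k, hk, hck⟩ := (Nat.dvd_prime_pow hp.out).mp (hE2 ▸ Subgroup.card_dvd_of_le hle)
      rw [hE2, hck]
      refine Nat.pow_le_pow_right hp.out.pos ?_
      by_contra h
      exact hlt.ne (Subgroup.eq_of_le_of_card_ge hlt.le (by
        rw [hck, hZp]; exact (Nat.pow_le_pow_right hp.out.pos (show k ≤ 1 by omega)).trans (by rw [pow_one])))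
    have hEW : E ≤ W := heq ▸ sup_le
      (fun z hz => (hWmem z).mpr ⟨Subgroup.mem_upperCentralSeries_succ_iff.mpr fun r => by
        rw [Subgroup.upperCentralSeries_one]
        rw [commutatorElement_eq_one_iff_mul_comm.mpr (Subgroup.mem_center_iff.mp ((hZmem z).mp hz).1 r).symm]
        exact one_mem _, ((hZmem z).mp hz).2⟩)
      (Subgroup.zpowers_le.mpr hw)
    refine hEnn ⟨fun a ha g => ?_⟩
    have h2 : g * a * g⁻¹ = ⁅a, g⁆⁻¹ * a := by rw [commutatorElement_def]; group
    rw [h2]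
    exact mul_mem (inv_mem (hZE (hcomm a (hEW ha) g))) ha
  let φ : W →* Z :=
    { toFun := fun w => ⟨⁅(w : R), e⁆, hcomm w w.2 e⟩
      map_one' := Subtype.ext (by simp)
      map_mul' := fun r s => Subtype.ext (by
        have hs : ⁅(s : R), e⁆ ∈ Subgroup.center R := ((hZmem _).mp (hcomm s s.2 e)).1
        have h : ⁅(r : R) * s, e⁆ = r * ⁅(s : R), e⁆ * (r : R)⁻¹ * ⁅(r : R), e⁆ := by
          simp only [commutatorElement_def]; group
        show ⁅(r : R) * s, e⁆ = ⁅(r : R), e⁆ * ⁅(s : R), e⁆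
        rw [h, Subgroup.mem_center_iff.mp hs r, mul_inv_cancel_right,
          Subgroup.mem_center_iff.mp hs ⁅(r : R), e⁆]) }
  have hker : φ.ker ≤ Z.subgroupOf W := fun w hw => hWE w w.2 (mem_of_maximal_elementary hE hEmax
    (Subgroup.centralizer_le hgen (by
      have : Z ⊔ Subgroup.zpowers e ≤ Subgroup.centralizer ({(w : R)} : Set R) := by
        refine sup_le (fun z hz => Subgroup.mem_centralizer_singleton_iff.mpr
          (Subgroup.mem_center_iff.mp ((hZmem z).mp hz).1 w).symm) (Subgroup.zpowers_le.mpr ?_)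
        exact Subgroup.mem_centralizer_singleton_iff.mpr
          (commutatorElement_eq_one_iff_mul_comm.mp (congrArg Subtype.val hw)).symm
      exact Subgroup.mem_centralizer_iff.mpr fun a ha =>
        Subgroup.mem_centralizer_singleton_iff.mp (this ha))) ((hWmem w).mp w.2).2)
  have hZW : Z ≤ W := fun z hz => (hWmem z).mpr ⟨Subgroup.mem_upperCentralSeries_succ_iff.mpr fun r => by
      rw [Subgroup.upperCentralSeries_one,
        commutatorElement_eq_one_iff_mul_comm.mpr (Subgroup.mem_center_iff.mp ((hZmem z).mp hz).1 r).symm]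
      exact one_mem _, ((hZmem z).mp hz).2⟩
  have hWle : Nat.card W ≤ p ^ 2 := by
    rw [← φ.ker.card_mul_index, pow_two]
    refine Nat.mul_le_mul ((Subgroup.card_le_of_le hker).trans ?_) ?_
    · rw [Nat.card_congr (Subgroup.subgroupOfEquivOfLe hZW).toEquiv, hZp]
    · rw [Subgroup.index_ker]
      exact (Subgroup.card_le_card_group _).trans hZp.le
  obtain ⟨k, hWk⟩ := IsPGroup.iff_card.mp (hR.to_subgroup W)
  have hW2 : Nat.card W = p ^ 2 := by
    rw [hWk] at hWle ⊢
    congr 1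
    refine le_antisymm ((Nat.pow_le_pow_iff_right hp.out.one_lt).mp hWle) ?_
    by_contra h
    refine hw₀Z ?_
    rw [Subgroup.eq_of_le_of_card_ge hZW (by
      rw [hWk, hZp]; exact (Nat.pow_le_pow_right hp.out.pos (show k ≤ 1 by omega)).trans (by rw [pow_one]))]
    exact hw₀W
  have hWc : W.Characteristic := hWdef ▸ characteristic_closure fun φ' x hx => by
    refine ⟨?_, by rw [← map_pow, hx.2, map_one]⟩
    have hch : (Subgroup.upperCentralSeries R 2).Characteristic := inferInstance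
    exact Subgroup.characteristic_iff_map_le.mp hch φ' ⟨x, hx.1, rfl⟩
  refine ⟨fun h => ?_, hZp, ⟨⟨IsPGroup.isMulCommutative_of_card_eq_prime_sq hW2, fun a ha => ((hWmem a).mp ha).2⟩, hW2⟩,
    inferInstance, ?_⟩
  · exact hw₀Z (hWE w₀ hw₀W (mem_of_maximal_elementary hE hEmax
      (Subgroup.le_centralizer_iff.mp h hw₀W) ((hWmem w₀).mp hw₀W).2))
  · haveI : W.Normal := inferInstance
    have hle := index_centralizer_le hR W hW2
    obtain ⟨m, hm⟩ := hR.index (Subgroup.centralizer (W : Set R))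
    rw [hm] at hle ⊢
    have hm0 : m ≠ 0 := fun h => by
      rw [h, pow_zero, Subgroup.index_eq_one] at hm
      refine hw₀Z ((hZmem w₀).mpr ⟨Subgroup.mem_center_iff.mpr fun g => ?_, ((hWmem w₀).mp hw₀W).2⟩)
      exact ((Subgroup.mem_centralizer_iff.mp (hm ▸ Subgroup.mem_top g)) w₀ hw₀W).symm
    have hm1 : m ≤ 1 := (Nat.pow_le_pow_iff_right hp.out.one_lt).mp (hle.trans (pow_one p).ge)
    rw [show m = 1 by omega, pow_one]

end Cfsg.Agent.Lib.OddLocal
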