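import Cfsg.Agent.Lib.OddLocal.FrobeniusCN
import Cfsg.Agent.Lib.Frobenius.Complement

/-! Solvable groups with nilpotent centralisers. -/

set_option autoImplicit false

open Pointwise

namespace Cfsg.Agent.Lib.OddLocal

universe u

variable {G : Type u} [Group G] [Finite G]

theorem mem_pCore_of_isNilpotent (hG : Group.IsNilpotent G) (p : ℕ) [Fact p.Prime] {x : G}
    (hx : ∃ k, orderOf x = p ^ k) : x ∈ Cfsg.pCore p G := by
  obtain ⟨k, hk⟩ := hx
  obtain ⟨T, hT⟩ := (IsPGroup.of_card (n := k)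
    (show Nat.card (Subgroup.zpowers x) = p ^ k by rw [Nat.card_zpowers, hk])).exists_le_sylow
  have hTn : (T : Subgroup G).Normal :=
    Sylow.normal_of_normalizerCondition (Group.normalizerCondition_of_isNilpotent) T
  exact Cfsg.Agent.Lib.Cores.le_pCore hTn T.isPGroup' (hT (Subgroup.mem_zpowers x))

theorem exists_orderOf_pow_of_mem {p : ℕ} [Fact p.Prime] {S : Subgroup G} (hS : IsPGroup p S)
    {x : G} (hx : x ∈ S) : ∃ k, orderOf x = p ^ k := by
  obtain ⟨k, hk⟩ := (IsPGroup.iff_orderOf.mp hS) ⟨x, hx⟩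
  exact ⟨k, by rw [← hk]; exact Subgroup.orderOf_coe ⟨x, hx⟩⟩

/-- In a CN-group a Sylow subgroup is normal as soon as its `O_p` commutes with some nontrivial
normal subgroup of coprime order. -/
theorem sylow_normal_of_commuting (hCN : Cfsg.IsCNGroup G) {p : ℕ} [Fact p.Prime]
    (hp : Cfsg.pCore p G ≠ ⊥) {W : Subgroup G} [W.Normal] (hW : W ≠ ⊥)
    (hWp : (Nat.card W).Coprime p)
    (hc : ∀ a ∈ Cfsg.pCore p G, ∀ w ∈ W, a * w = w * a) (S : Sylow p G) :
    (S : Subgroup G).Normal := by
  have := S.isPGroup'.isNilpotent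
  have hle := Cfsg.Agent.Lib.Cores.pCore_le_sylow S
  have hne : (Cfsg.pCore p G).subgroupOf (S : Subgroup G) ≠ ⊥ := by
    rw [Ne, Subgroup.subgroupOf_eq_bot, disjoint_iff, inf_eq_left.mpr hle]
    exact hp
  obtain ⟨z, hz, hz1⟩ := exists_center_ne_one.exists_ne_one_of_ne_bot
    (Cfsg.Agent.Lib.Solvable.inf_center_ne_bot hne)
  have hz1' : (z : G) ≠ 1 := fun x => hz1 (Subtype.ext x)
  set K := Subgroup.centralizer (W : Set G)
  have hSK : (S : Subgroup G) ≤ K := by
    intro s hs
    refine Subgroup.mem_centralizer_iff.mpr fun w hw => commute_of_mem_nilpotent (hCN z hz1')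
      (Subgroup.mem_centralizer_singleton_iff.mpr (hc z hz.1 w hw).symm)
      (Subgroup.mem_centralizer_singleton_iff.mpr (congrArg Subtype.val
        (Subgroup.mem_center_iff.mp hz.2 ⟨s, hs⟩))) ?_
    obtain ⟨j, hj⟩ := exists_orderOf_pow_of_mem S.isPGroup' hs
    rw [hj]
    refine Nat.Coprime.pow_right j (hWp.coprime_dvd_left ?_)
    rw [show orderOf w = orderOf (⟨w, hw⟩ : W) from Subgroup.orderOf_coe ⟨w, hw⟩]
    exact orderOf_dvd_natCard _
  obtain ⟨w, hw, hw1⟩ := exists_center_ne_one.exists_ne_one_of_ne_bot hW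
  have hKn : Group.IsNilpotent K := isNilpotent_of_le (fun x hx =>
    Subgroup.mem_centralizer_singleton_iff.mpr (Subgroup.mem_centralizer_iff.mp hx w hw).symm)
    (hCN w hw1)
  have : K.Normal := Subgroup.normal_centralizer
  have hSc : (S : Subgroup G) ≤ Cfsg.pCore p G := fun s hs => by
    obtain ⟨j, hj⟩ := exists_orderOf_pow_of_mem S.isPGroup' hs
    exact Cfsg.Agent.Lib.Cores.map_subtype_pCore_le K
      ⟨⟨s, hSK hs⟩, mem_pCore_of_isNilpotent hKn p ⟨j, by rw [← Subgroup.orderOf_coe]; exact hj⟩, rfl⟩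
  exact le_antisymm hle hSc ▸ inferInstance

/-- A nilpotent fixed-point-free group is cyclic, or cyclic of odd order times quaternion. -/
theorem nilpotent_fixedPointFree_structure {E : Subgroup G} (hE : Group.IsNilpotent E)
    {V : Type u} [Group V] [Finite V] [Nontrivial V] (φ : E →* MulAut V)
    (hfpf : ∀ a : E, a ≠ 1 → ∀ v : V, φ a v = v → v = 1) :
    IsCyclic E ∨ ∃ C Q : Subgroup G, C ⊔ Q = E ∧ (∀ a ∈ C, ∀ b ∈ Q, a * b = b * a) ∧ IsCyclic C ∧
      Odd (Nat.card C) ∧ ∃ n : ℕ, Nonempty (↥Q ≃* QuaternionGroup (2 ^ n)) := by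
  classical
  have hsyl : ∀ (s : ℕ) [Fact s.Prime] (S : Sylow s E), s ≠ 2 → IsCyclic (S : Subgroup E) := by
    intro s _ S hs
    exact (Cfsg.Agent.Lib.Frobenius.isCyclic_or_quaternion_of_fixedPointFree φ hfpf _
      S.isPGroup').resolve_right fun h => hs h.1
  obtain ⟨T⟩ : Nonempty (Sylow 2 E) := inferInstance
  rcases Cfsg.Agent.Lib.Frobenius.isCyclic_or_quaternion_of_fixedPointFree φ hfpf _ T.isPGroup' with
    hT | ⟨-, m, ⟨e⟩⟩
  · left
    have : IsZGroup E := ⟨fun s hs S => by
      by_cases h : s = 2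
      · subst h
        have hTn : (T : Subgroup E).Normal :=
          Sylow.normal_of_normalizerCondition (Group.normalizerCondition_of_isNilpotent) T
        have : Subsingleton (Sylow 2 E) := (Sylow.unique_of_normal T hTn).instSubsingleton
        rwa [Subsingleton.elim S T]
      · exact @hsyl s ⟨hs⟩ S h⟩
    infer_instance
  · right
    set C := Cfsg.pPrimeCore 2 E
    have hC2 : (Nat.card C).Coprime 2 := Cfsg.Agent.Lib.Cores.pPrimeCore_coprime 2 E
    have hTn : (T : Subgroup E).Normal :=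
      Sylow.normal_of_normalizerCondition (Group.normalizerCondition_of_isNilpotent) T
    have hZ : IsZGroup C := ⟨fun s hs S => by
      have := Fact.mk hs
      have hsp : IsPGroup s ((S : Subgroup C).map C.subtype) := S.isPGroup'.map C.subtype
      obtain ⟨S', hS'⟩ := hsp.exists_le_sylow
      by_cases h : s = 2
      · subst h
        have hbot : (S : Subgroup C) = ⊥ := by
          obtain ⟨j, hj⟩ := IsPGroup.iff_card.mp S.isPGroup'
          rcases Nat.eq_zero_or_pos j with rfl | hjp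
          · exact Subgroup.card_eq_one.mp (by rw [hj, pow_zero])
          · exact absurd hC2 (fun hc => Nat.prime_two.not_dvd_one (hc ▸ Nat.dvd_gcd
              ((dvd_pow_self 2 hjp.ne').trans (hj ▸ Subgroup.card_subgroup_dvd_card _)) dvd_rfl))
        exact hbot ▸ inferInstance
      · have := hsyl s S' h
        exact isCyclic_of_injective ((Subgroup.inclusion hS').comp
          ((S : Subgroup C).equivMapOfInjective C.subtype C.subtype_injective).toMonoidHom)
          ((Subgroup.inclusion_injective hS').comp (MulEquiv.injective _))⟩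
    have hCn : Group.IsNilpotent C := inferInstance
    have hsup : C ⊔ (T : Subgroup E) = ⊤ := by
      rw [← Subgroup.index_eq_one]
      refine Nat.eq_one_iff_not_exists_prime_dvd.mpr fun s hs hd => ?_
      have := Fact.mk hs
      by_cases h : s = 2
      · subst h
        exact T.not_dvd_index (hd.trans (Subgroup.index_dvd_of_le le_sup_right))
      · obtain ⟨S⟩ : Nonempty (Sylow s E) := inferInstance
        have hSn : (S : Subgroup E).Normal :=
          Sylow.normal_of_normalizerCondition (Group.normalizerCondition_of_isNilpotent) S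
        refine S.not_dvd_index (hd.trans (Subgroup.index_dvd_of_le
          ((Cfsg.Agent.Lib.Cores.le_pPrimeCore hSn ?_).trans le_sup_left)))
        obtain ⟨j, hj⟩ := IsPGroup.iff_card.mp S.isPGroup'
        rw [hj]
        exact Nat.Coprime.pow_left j ((Nat.coprime_primes hs Nat.prime_two).mpr h)
    refine ⟨C.map E.subtype, (T : Subgroup E).map E.subtype, ?_, ?_, ?_, ?_, m + 1,
      ⟨(((T : Subgroup E).equivMapOfInjective E.subtype E.subtype_injective).symm.trans e)⟩⟩
    · rw [← Subgroup.map_sup, hsup, ← MonoidHom.range_eq_map, Subgroup.range_subtype]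
    · rintro _ ⟨a, ha, rfl⟩ _ ⟨b, hb, rfl⟩
      obtain ⟨j, hj⟩ := exists_orderOf_pow_of_mem T.isPGroup' hb
      refine congrArg Subtype.val (Cfsg.Agent.S1459.commute_of_coprime_orderOf a b ?_)
      rw [hj]
      refine Nat.Coprime.pow_right j (hC2.coprime_dvd_left ?_)
      rw [show orderOf a = orderOf (⟨a, ha⟩ : C) from Subgroup.orderOf_coe ⟨a, ha⟩]
      exact orderOf_dvd_natCard _
    · exact (C.equivMapOfInjective E.subtype E.subtype_injective).isCyclic.mp inferInstance
    · rw [← Nat.card_congr (C.equivMapOfInjective E.subtype E.subtype_injective).toEquiv]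
      exact Nat.odd_iff.mpr (Nat.two_dvd_ne_zero.mp fun h =>
        Nat.prime_two.not_dvd_one (hC2 ▸ Nat.dvd_gcd h dvd_rfl))

theorem isThreeStep_of_no_normal_sylow [Group.IsSolvable G] [Nontrivial G] (hCN : Cfsg.IsCNGroup G)
    (hns : ∀ (p : ℕ) [Fact p.Prime] (S : Sylow p G), (S : Subgroup G) ≠ ⊥ → ¬ (S : Subgroup G).Normal) :
    ∃ p : ℕ, p.Prime ∧ Cfsg.IsThreeStepGroup p G := by
  classical
  have hs : Group.IsSolvable G := inferInstance
  set F := Cfsg.fittingSubgroup G
  have hF : F ≠ ⊥ := Cfsg.Agent.Lib.Cores.fittingSubgroup_ne_bot_of_isSolvable hs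
  have hFn : Group.IsNilpotent F := Cfsg.Agent.Lib.Cores.fittingSubgroup_isNilpotent G
  obtain ⟨p, hp, hpd⟩ := Nat.exists_prime_and_dvd (mt Subgroup.card_eq_one.mp hF)
  have := Fact.mk hp
  refine ⟨p, hp, ?_⟩
  set P₀ := Cfsg.pCore p G with hP₀def
  have hP₀p : IsPGroup p P₀ := Cfsg.Agent.Lib.Cores.pCore_isPGroup p G
  have hP₀ : P₀ ≠ ⊥ := by
    obtain ⟨x, hx⟩ := exists_prime_orderOf_dvd_card' p hpd
    have h1 : (x : G) ∈ P₀ := Cfsg.Agent.Lib.Cores.map_subtype_pCore_le F
      ⟨x, mem_pCore_of_isNilpotent hFn p ⟨1, by rw [pow_one, hx]⟩, rfl⟩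
    intro e
    rw [e, Subgroup.mem_bot] at h1
    exact hp.ne_one (by rw [← hx, ← Subgroup.orderOf_coe, h1, orderOf_one])
  have hSne : ∀ S : Sylow p G, (S : Subgroup G) ≠ ⊥ := fun S e =>
    hP₀ (le_bot_iff.mp (e ▸ Cfsg.Agent.Lib.Cores.pCore_le_sylow S))
  have hFle : F ≤ P₀ := by
    intro x hx
    refine mem_of_parts p ?_ ?_
    · by_contra hnot
      set W := (Cfsg.pPrimeCore p F).map F.subtype
      have : W.Normal := Cfsg.Agent.Lib.Cores.normal_map_subtype_of_char F _
      have hWp : (Nat.card W).Coprime p := by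
        rw [← Nat.card_congr ((Cfsg.pPrimeCore p F).equivMapOfInjective F.subtype
          F.subtype_injective).toEquiv]
        exact Cfsg.Agent.Lib.Cores.pPrimeCore_coprime p F
      have hmem : x ^ p ^ (orderOf x).factorization p ∈ W := by
        set y : F := ⟨_, pow_mem hx (p ^ (orderOf x).factorization p)⟩
        refine ⟨y, ?_, rfl⟩
        have htop : ∀ z : F, (orderOf z).Coprime p → z ∈ Cfsg.pPrimeCore p F := by
          intro z hz
          have hidx : (Subgroup.zpowers z ⊔ Cfsg.pPrimeCore p F) = Cfsg.pPrimeCore p F := by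
            refine sup_eq_right.mpr (Subgroup.zpowers_le.mpr ?_)
            refine mem_of_primeParts (fun q hq hqz => ?_)
            have := Fact.mk hq
            have hqp : q ≠ p := fun e => hq.not_dvd_one (hz ▸ Nat.dvd_gcd hqz (e ▸ dvd_rfl))
            refine (Cfsg.Agent.Lib.Cores.le_pPrimeCore (N := Cfsg.pCore q F) inferInstance ?_)
              (mem_pCore_of_isNilpotent hFn q ⟨_, orderOf_pPart q z⟩)
            obtain ⟨j, hj⟩ := IsPGroup.iff_card.mp (Cfsg.Agent.Lib.Cores.pCore_isPGroup q F)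
            rw [hj]
            exact Nat.Coprime.pow_left j ((Nat.coprime_primes hq hp).mpr hqp)
          exact hidx ▸ Subgroup.mem_sup_left (Subgroup.mem_zpowers z)
        exact htop y (by rw [← Subgroup.orderOf_coe]; exact orderOf_pCompl p x)
      have hW : W ≠ ⊥ := fun e => hnot (by
        rw [e, Subgroup.mem_bot] at hmem
        rw [hmem]; exact one_mem _)
      obtain ⟨S⟩ : Nonempty (Sylow p G) := inferInstance
      refine hns p S (hSne S) (sylow_normal_of_commuting hCN hP₀ hW hWp ?_ S)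
      intro a ha w hw
      have haF : a ∈ F := Cfsg.Agent.Lib.Cores.pCore_le_fittingSubgroup p ha
      refine commute_of_mem_nilpotent hFn haF (Subgroup.map_subtype_le _ hw) ?_
      obtain ⟨j, hj⟩ := exists_orderOf_pow_of_mem hP₀p ha
      rw [hj]
      refine Nat.Coprime.pow_left j (hWp.coprime_dvd_left ?_).symm
      rw [show orderOf w = orderOf (⟨w, hw⟩ : W) from Subgroup.orderOf_coe ⟨w, hw⟩]
      exact orderOf_dvd_natCard _
    · exact Cfsg.Agent.Lib.Cores.map_subtype_pCore_le F
        ⟨⟨_, pow_mem hx _⟩, mem_pCore_of_isNilpotent hFn p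
          ⟨_, by rw [← Subgroup.orderOf_coe]; exact orderOf_pPart p x⟩, rfl⟩
  have hCP₀ : Subgroup.centralizer (P₀ : Set G) ≤ P₀ :=
    le_trans (le_trans (Subgroup.centralizer_le (SetLike.coe_subset_coe.mpr hFle))
      (Cfsg.Agent.Lib.Cores.centralizer_fittingSubgroup_le hs)) hFle
  -- the second layer
  set π := QuotientGroup.mk' P₀
  set Fb := Cfsg.fittingSubgroup (G ⧸ P₀)
  set K := Fb.comap π with hKdef
  have hKnormal : K.Normal := Subgroup.normal_comap π
  have hP₀K : P₀ ≤ K := fun x hx => by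
    rw [hKdef, Subgroup.mem_comap, show π x = 1 from (QuotientGroup.eq_one_iff x).mpr hx]
    exact one_mem _
  have hFbn : Group.IsNilpotent Fb := Cfsg.Agent.Lib.Cores.fittingSubgroup_isNilpotent _
  have hFbp : (Nat.card Fb).Coprime p := by
    refine (hp.coprime_iff_not_dvd.mpr fun hd => ?_).symm
    obtain ⟨x, hx⟩ := exists_prime_orderOf_dvd_card' p hd
    have h1 : (x : G ⧸ P₀) ∈ Cfsg.pCore p (G ⧸ P₀) := Cfsg.Agent.Lib.Cores.map_subtype_pCore_le Fb
      ⟨x, mem_pCore_of_isNilpotent hFbn p ⟨1, by rw [pow_one, hx]⟩, rfl⟩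
    rw [Cfsg.Agent.Lib.Cores.pCore_quotient_pCore p G, Subgroup.mem_bot] at h1
    exact hp.ne_one (by rw [← hx, ← Subgroup.orderOf_coe, h1, orderOf_one])
  have hP₀sol : Group.IsSolvable P₀ := inferInstance
  have hcardK : Nat.card K = Nat.card Fb * Nat.card P₀ :=
    (Cfsg.Agent.Lib.Cores.card_comap_mk' P₀ Fb).trans (mul_comm _ _)
  have hidx : (P₀.subgroupOf K).index = Nat.card Fb := by
    have h := (P₀.subgroupOf K).card_mul_index
    rw [hcardK, Nat.card_congr (Subgroup.subgroupOfEquivOfLe hP₀K).toEquiv, mul_comm (Nat.card Fb)] at h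
    exact Nat.eq_of_mul_eq_mul_left Nat.card_pos h
  have hcop : (Nat.card (P₀.subgroupOf K)).Coprime (P₀.subgroupOf K).index := by
    obtain ⟨j, hj⟩ := IsPGroup.iff_card.mp hP₀p
    rw [hidx, Nat.card_congr (Subgroup.subgroupOfEquivOfLe hP₀K).toEquiv, hj]
    exact Nat.Coprime.pow_left j hFbp.symm
  obtain ⟨A₀, hA₀⟩ := Subgroup.exists_right_complement'_of_coprime hcop
  set A := A₀.map K.subtype with hAdef
  have hAK : A ≤ K := Subgroup.map_subtype_le A₀
  have hAcard : Nat.card A = Nat.card Fb := by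
    rw [hAdef, ← Nat.card_congr (A₀.equivMapOfInjective K.subtype K.subtype_injective).toEquiv,
      ← hidx, hA₀.symm.index_eq_card]
  have hAp : (Nat.card A).Coprime p := hAcard ▸ hFbp
  have hPA : P₀ ⊔ A = K := by
    refine le_antisymm (sup_le hP₀K hAK) ?_
    rw [← Subgroup.subgroupOf_eq_top, Subgroup.subgroupOf_sup hP₀K hAK]
    rw [hAdef, Subgroup.subgroupOf, Subgroup.subgroupOf, Subgroup.comap_map_eq_self_of_injective K.subtype_injective]
    exact hA₀.sup_eq_top
  have hcopPA : (Nat.card P₀).Coprime (Nat.card A) := by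
    obtain ⟨j, hj⟩ := IsPGroup.iff_card.mp hP₀p
    rw [hj]
    exact Nat.Coprime.pow_left j hAp.symm
  have hP₀A : ∀ x, x ∈ P₀ → x ∈ A → x = 1 := fun x h1 h2 =>
    Cfsg.Agent.Lib.Coprime.eq_one_of_mem_of_mem hcopPA h1 h2
  have hFb : Fb ≠ ⊥ := by
    have : Nontrivial (G ⧸ P₀) := by
      rw [← Finite.one_lt_card_iff_nontrivial, ← Subgroup.index_eq_card]
      by_contra hlt
      have h1 : P₀ = ⊤ := Subgroup.index_eq_one.mp
        (le_antisymm (not_lt.mp hlt) (Nat.pos_of_ne_zero P₀.index_ne_zero_of_finite))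
      obtain ⟨S⟩ : Nonempty (Sylow p G) := inferInstance
      have h2 : (S : Subgroup G) = ⊤ := top_le_iff.mp (h1 ▸ Cfsg.Agent.Lib.Cores.pCore_le_sylow S)
      exact hns p S (hSne S) (h2 ▸ inferInstance)
    exact Cfsg.Agent.Lib.Cores.fittingSubgroup_ne_bot_of_isSolvable inferInstance
  have hA : A ≠ ⊥ := fun e => hFb (Subgroup.card_eq_one.mp (by rw [← hAcard, e, Subgroup.card_bot]))
  have hAn : Group.IsNilpotent A := by
    refine Cfsg.Agent.Lib.Cores.isNilpotent_of_injective
      ((π.comp A.subtype).codRestrict Fb fun a => hAK a.2) ?_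
    intro a b hab
    have h1 : π a = π b := congrArg Subtype.val hab
    have h2 : (a : G)⁻¹ * b ∈ P₀ := QuotientGroup.eq.mp h1
    exact Subtype.ext (inv_mul_eq_one.mp (hP₀A _ h2 (mul_mem (inv_mem a.2) b.2)))
  -- fixed-point-freeness on the first layer
  have hfpf : ∀ a ∈ A, a ≠ 1 → ∀ v ∈ P₀, a * v = v * a → v = 1 := by
    intro a₀ ha₀ ha₁ v hv hcomm
    by_contra hv1
    obtain ⟨r, hr, hrd⟩ := Nat.exists_prime_and_dvd (mt orderOf_eq_one_iff.mp ha₁)
    have := Fact.mk hr
    have := hP₀p.isNilpotent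
    obtain ⟨z, hzP, hz1, hzc⟩ := exists_center_ne_one hP₀p.isNilpotent hP₀
    have hcop' : ∀ a ∈ A, ∀ u ∈ P₀, (orderOf a).Coprime (orderOf u) := by
      intro a ha u hu
      obtain ⟨j, hj⟩ := exists_orderOf_pow_of_mem hP₀p hu
      rw [hj]
      refine Nat.Coprime.pow_right j (hAp.coprime_dvd_left ?_)
      rw [show orderOf a = orderOf (⟨a, ha⟩ : A) from Subgroup.orderOf_coe ⟨a, ha⟩]
      exact orderOf_dvd_natCard _
    have haz : a₀ * z = z * a₀ := commute_of_mem_nilpotent (hCN v hv1)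
      (Subgroup.mem_centralizer_singleton_iff.mpr hcomm)
      (Subgroup.mem_centralizer_singleton_iff.mpr (hzc v hv).symm) (hcop' a₀ ha₀ z hzP)
    have haC : a₀ ∈ Subgroup.centralizer (P₀ : Set G) :=
      Subgroup.mem_centralizer_iff.mpr fun u hu => (commute_of_mem_nilpotent (hCN z hz1)
        (Subgroup.mem_centralizer_singleton_iff.mpr haz)
        (Subgroup.mem_centralizer_singleton_iff.mpr (hzc u hu)) (hcop' a₀ ha₀ u hu)).symm
    exact ha₁ (hP₀A a₀ (hCP₀ haC) ha₀)
  -- the normaliser of the complement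
  set N := Subgroup.normalizer (A : Set G) with hNdef
  have hAN : A ≤ N := Subgroup.le_normalizer
  have hGN : ∀ g : G, ∃ u ∈ P₀, ∃ n ∈ N, g = u * n := by
    intro g
    have hcj : (MulAut.conj g • A : Subgroup G) ≤ P₀ ⊔ A := by
      intro x hx
      rw [Cfsg.Agent.Lib.Coprime.mem_conj_smul] at hx
      rw [hPA]
      simpa [mul_assoc] using hKnormal.conj_mem _ (hAK hx) g
    obtain ⟨u, hu, he⟩ := Cfsg.Agent.Lib.Coprime.exists_conj_eq_of_le_sup
      Subgroup.le_normalizer_of_normal hcopPA (Or.inl hP₀sol)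
      (Cfsg.Agent.Lib.Coprime.card_conj_smul g A) hcj
    refine ⟨u, hu, u⁻¹ * g, Cfsg.Agent.Lib.Coprime.mem_normalizer_of_conj_smul_eq ?_, by group⟩
    rw [Cfsg.Agent.Lib.Coprime.conj_mul_smul, ← he, ← Cfsg.Agent.Lib.Coprime.conj_mul_smul,
      inv_mul_cancel, Cfsg.Agent.Lib.Coprime.conj_one_smul]
  have hNP₀ : ∀ n ∈ N, n ∈ P₀ → n = 1 := by
    intro n hn hnP
    obtain ⟨a, ha, ha1⟩ := exists_center_ne_one.exists_ne_one_of_ne_bot hA
    refine hfpf a ha ha1 n hnP ?_
    have h1 : n * a * n⁻¹ * a⁻¹ ∈ A :=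
      mul_mem ((Subgroup.mem_normalizer_iff.mp hn a).mp ha) (inv_mem ha)
    have h2 : n * a * n⁻¹ * a⁻¹ ∈ P₀ := by
      have := mul_mem hnP ((inferInstance : P₀.Normal).conj_mem _ (inv_mem hnP) a)
      simpa [mul_assoc] using this
    exact (mul_inv_eq_iff_eq_mul.mp (mul_inv_eq_one.mp (hP₀A _ h2 h1))).symm
  have hpK : ¬ p ∣ K.index → False := by
    intro h
    obtain ⟨S⟩ : Nonempty (Sylow p G) := inferInstance
    apply hns p S (hSne S)
    have : Cfsg.pCore p G = (S : Subgroup G) := by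
      refine Subgroup.eq_of_le_of_card_ge (Cfsg.Agent.Lib.Cores.pCore_le_sylow S) ?_
      obtain ⟨j, hj⟩ := IsPGroup.iff_card.mp S.isPGroup'
      have h1 : Nat.card (S : Subgroup G) ∣ Nat.card K * K.index := by
        rw [K.card_mul_index]; exact Subgroup.card_subgroup_dvd_card _
      rw [hj] at h1 ⊢
      have h2 := (Nat.Coprime.pow_left j (hp.coprime_iff_not_dvd.mpr h)).dvd_of_dvd_mul_right h1
      rw [hcardK] at h2
      exact Nat.le_of_dvd Nat.card_pos
        ((Nat.Coprime.pow_left j hFbp.symm).dvd_of_dvd_mul_left h2)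
    exact this ▸ inferInstance
  have hpNA : p ∣ Nat.card N := by
    have hd : p ∣ K.index := by by_contra h; exact hpK h
    have hf : Function.Surjective (π.comp N.subtype) := by
      intro g
      obtain ⟨g, rfl⟩ := QuotientGroup.mk'_surjective P₀ g
      obtain ⟨u, hu, n, hn, rfl⟩ := hGN g
      exact ⟨⟨n, hn⟩, by simp [π, (QuotientGroup.eq_one_iff u).mpr hu]⟩
    rw [hKdef, Subgroup.index_comap_of_surjective _ (QuotientGroup.mk'_surjective P₀)] at hd
    exact hd.trans ((Subgroup.index_dvd_card _).trans (Subgroup.card_dvd_of_surjective _ hf))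
  have hCNA : ∀ a ∈ A, a ≠ 1 → ∀ y ∈ N, y * a = a * y → ∀ k, orderOf y = p ^ k → y = 1 := by
    intro a ha ha1 y hyN hya k hk
    by_contra hy1
    obtain ⟨v, hvP, hv1, hvy⟩ : ∃ v ∈ P₀, v ≠ 1 ∧ v * y = y * v := by
      have hyp : IsPGroup p (Subgroup.zpowers y) := IsPGroup.of_card (n := k) (by rw [Nat.card_zpowers, hk])
      have hSp : IsPGroup p ↥(P₀ ⊔ Subgroup.zpowers y) := hP₀p.to_sup_of_normal_left hyp
      have := hSp.isNilpotent
      have hne : P₀.subgroupOf (P₀ ⊔ Subgroup.zpowers y) ≠ ⊥ := by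
        rw [Ne, Subgroup.subgroupOf_eq_bot, disjoint_iff, inf_eq_left.mpr le_sup_left]
        exact hP₀
      obtain ⟨z, hz, hz1⟩ := exists_center_ne_one.exists_ne_one_of_ne_bot
        (Cfsg.Agent.Lib.Solvable.inf_center_ne_bot hne)
      exact ⟨z, hz.1, fun e => hz1 (Subtype.ext e), (congrArg Subtype.val (Subgroup.mem_center_iff.mp hz.2
        ⟨y, Subgroup.mem_sup_right (Subgroup.mem_zpowers y)⟩)).symm⟩
    refine hv1 (hfpf a ha ha1 v hvP ?_)
    refine commute_of_mem_nilpotent (hCN y hy1) (Subgroup.mem_centralizer_singleton_iff.mpr hya.symm)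
      (Subgroup.mem_centralizer_singleton_iff.mpr hvy) ?_
    obtain ⟨j, hj⟩ := exists_orderOf_pow_of_mem hP₀p hvP
    rw [hj]
    refine Nat.Coprime.pow_right j (hAp.coprime_dvd_left ?_)
    rw [show orderOf a = orderOf (⟨a, ha⟩ : A) from Subgroup.orderOf_coe ⟨a, ha⟩]
    exact orderOf_dvd_natCard _
  obtain ⟨y₀, hy₀⟩ := exists_prime_orderOf_dvd_card' p hpNA
  -- the complement is cyclic of odd order
  have := hP₀p.isNilpotent
  let φ : A →* MulAut P₀ := (MulAut.conjNormal (H := P₀)).comp A.subtype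
  have : Nontrivial P₀ := (Subgroup.nontrivial_iff_ne_bot P₀).mpr hP₀
  have hφ : ∀ a : A, a ≠ 1 → ∀ v : P₀, φ a v = v → v = 1 := fun a ha v hv =>
    Subtype.ext (hfpf a a.2 (fun h => ha (Subtype.ext h)) v v.2
      (mul_inv_eq_iff_eq_mul.mp (congrArg Subtype.val hv)))
  have hAodd : Odd (Nat.card A) := by
    refine Nat.odd_iff.mpr (Nat.two_dvd_ne_zero.mp fun h2 => ?_)
    obtain ⟨i, hi⟩ := exists_prime_orderOf_dvd_card' 2 h2
    have hiN : ∀ n ∈ N, n * (i : G) * n⁻¹ = i := by
      intro n hn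
      have hmem := (Subgroup.mem_normalizer_iff.mp hn (i : G)).mp i.2
      refine congrArg Subtype.val (Cfsg.Agent.Lib.Frobenius.eq_of_orderOf_eq_two φ hφ
        (s := (⟨_, hmem⟩ : A)) (t := i) ?_ hi)
      rw [← hi, ← Subgroup.orderOf_coe (⟨_, hmem⟩ : A), ← Subgroup.orderOf_coe i]
      exact orderOf_injective (MulAut.conj n).toMonoidHom (MulAut.conj n).injective (i : G)
    have hi1 : (i : G) ≠ 1 := fun e => by
      rw [← Subgroup.orderOf_coe, e, orderOf_one] at hi
      exact absurd hi (by norm_num)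
    have h1 := hCNA i i.2 hi1 y₀ y₀.2 (mul_inv_eq_iff_eq_mul.mp (hiN y₀ y₀.2)) 1
      (by rw [pow_one, Subgroup.orderOf_coe, hy₀])
    rw [← Subgroup.orderOf_coe, h1, orderOf_one] at hy₀
    exact hp.ne_one hy₀.symm
  have hAcyc : IsCyclic A := by
    rcases nilpotent_fixedPointFree_structure hAn φ hφ with h | ⟨C, Q, hCQ, -, -, -, n, ⟨e⟩⟩
    · exact h
    · exfalso
      have h1 : Nat.card Q = 4 * 2 ^ n := by
        rw [Nat.card_congr e.toEquiv, Nat.card_eq_fintype_card, QuaternionGroup.card]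
      have h2 : 2 ∣ Nat.card A :=
        (show 2 ∣ Nat.card Q by rw [h1]; exact ⟨2 * 2 ^ n, by ring⟩).trans
          (Subgroup.card_dvd_of_le (hCQ ▸ le_sup_right))
      exact Nat.not_even_iff_odd.mpr hAodd (even_iff_two_dvd.mpr h2)
  -- N'/A
  have hconj : ∀ n ∈ N, ∀ a ∈ A, n * a * n⁻¹ ∈ A := fun n hn a ha =>
    (Subgroup.mem_normalizer_iff.mp hn a).mp ha
  have hFN : ∀ (M : Subgroup G), M ≤ N → N ≤ Subgroup.normalizer (M : Set G) →
      Group.IsNilpotent M → M ≤ A := by
    intro M hMN hNM hMn x hx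
    have hMnorm : (M.map π).Normal := by
      refine ⟨?_⟩
      rintro _ ⟨m, hm, rfl⟩ g
      obtain ⟨g, rfl⟩ := QuotientGroup.mk'_surjective P₀ g
      obtain ⟨u, hu, n, hn, rfl⟩ := hGN g
      refine ⟨n * m * n⁻¹, (Subgroup.mem_normalizer_iff.mp (hNM hn) m).mp hm, ?_⟩
      simp [π, (QuotientGroup.eq_one_iff u).mpr hu]
    have hxK : x ∈ K := Cfsg.Agent.Lib.Cores.le_fittingSubgroup hMnorm
      (Cfsg.Agent.Lib.Cores.isNilpotent_map π M) ⟨x, hx, rfl⟩
    rw [← hPA] at hxK
    obtain ⟨u, hu, a, ha, rfl⟩ := Cfsg.Agent.Lib.Coprime.exists_mul_of_mem_sup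
      Subgroup.le_normalizer_of_normal hxK
    have : u = 1 := hNP₀ u (by simpa using mul_mem (hMN hx) (inv_mem (hAN ha))) hu
    rw [this, one_mul]
    exact ha
  let θ : N →* MulAut A :=
    { toFun := fun n =>
        { toFun := fun a => ⟨n * a * (n : G)⁻¹, hconj n n.2 a a.2⟩
          invFun := fun a => ⟨(n : G)⁻¹ * a * n, by simpa using hconj _ (inv_mem n.2) a a.2⟩
          left_inv := fun a => Subtype.ext (by simp [mul_assoc])
          right_inv := fun a => Subtype.ext (by simp [mul_assoc])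
          map_mul' := fun a b => Subtype.ext (by simp [mul_assoc]) }
      map_one' := by ext a; simp
      map_mul' := fun m n => by ext a; simp [mul_assoc] }
  have hθ : ∀ m n : N, θ m * θ n = θ n * θ m := fun m n =>
    (IsCyclic.mulAutMulEquiv A).injective (by rw [map_mul, map_mul, mul_comm])
  have hNA : ∀ m n : G, m ∈ N → n ∈ N → m * n * m⁻¹ * n⁻¹ ∈ A := by
    intro m n hm hn
    have hker : (⟨m, hm⟩ * ⟨n, hn⟩ * ⟨m, hm⟩⁻¹ * ⟨n, hn⟩⁻¹ : N) ∈ θ.ker := by
      rw [MonoidHom.mem_ker, map_mul, map_mul, map_mul, map_inv, map_inv, hθ ⟨m, hm⟩ ⟨n, hn⟩]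
      group
    set M := θ.ker.map N.subtype
    refine hFN M (Subgroup.map_subtype_le _) ?_ ?_ ⟨_, hker, rfl⟩
    · refine le_normalizer_of_conj_mem' fun g hg z hz => ?_
      obtain ⟨w, hw, rfl⟩ := hz
      exact ⟨⟨g, hg⟩ * w * ⟨g, hg⟩⁻¹, (inferInstance : θ.ker.Normal).conj_mem w hw _, rfl⟩
    · obtain ⟨a, ha, ha1⟩ := exists_center_ne_one.exists_ne_one_of_ne_bot hA
      refine isNilpotent_of_le ?_ (hCN a ha1)
      rintro _ ⟨w, hw, rfl⟩
      have h1 : (θ w) ⟨a, ha⟩ = ⟨a, ha⟩ := by rw [MonoidHom.mem_ker.mp hw]; rfl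
      exact Subgroup.mem_centralizer_singleton_iff.mpr
        (mul_inv_eq_iff_eq_mul.mp (congrArg Subtype.val h1))
  have hAcomm : ∀ a ∈ A, ∀ b ∈ A, a * b = b * a := fun a ha b hb =>
    congrArg Subtype.val ((IsCyclic.isMulCommutative (α := A)).is_comm.comm ⟨a, ha⟩ ⟨b, hb⟩)
  have hCA : ∀ a ∈ A, a ≠ 1 → ∀ n ∈ N, n * a = a * n → n ∈ A := by
    intro a ha ha1 n hn hna
    set M := Subgroup.centralizer ({a} : Set G) ⊓ N
    refine hFN M inf_le_right ?_ (isNilpotent_of_le inf_le_left (hCN a ha1))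
      ⟨Subgroup.mem_centralizer_singleton_iff.mpr hna, hn⟩
    refine le_normalizer_of_conj_mem' fun g hg z hz =>
      ⟨?_, N.mul_mem (N.mul_mem hg hz.2) (N.inv_mem hg)⟩
    have h1 : g * z * g⁻¹ * z⁻¹ ∈ A := hNA g z hg hz.2
    have : g * z * g⁻¹ = (g * z * g⁻¹ * z⁻¹) * z := by group
    rw [this]
    exact Subgroup.mul_mem _ (Subgroup.mem_centralizer_singleton_iff.mpr (hAcomm _ h1 a ha)) hz.1
  refine ⟨hP₀, A, hA, hAcyc, hAodd, hAp, hPA.symm ▸ hKnormal, ?_, ?_, ?_, ?_⟩
  · rw [hPA]
    intro e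
    exact hpK fun h => hp.not_dvd_one (by rwa [e, Subgroup.index_top] at h)
  · rw [hPA]
    refine ⟨_, Nat.eq_prime_pow_of_unique_prime_dvd Subgroup.index_ne_zero_of_finite
      fun {q} hq hqd => ?_⟩
    by_contra hqp
    have := Fact.mk hq
    by_cases hqA : q ∣ Nat.card A
    · -- a `q`-element centralises the element of order `q` of `A`
      obtain ⟨a, ha⟩ := exists_prime_orderOf_dvd_card' q hqA
      obtain ⟨T⟩ : Nonempty (Sylow q N) := inferInstance
      have hTA : ∀ t ∈ (T : Subgroup N), (t : G) ∈ A := by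
        intro t ht
        refine hCA a a.2 (fun e => hq.ne_one (by rw [← ha, ← Subgroup.orderOf_coe, e, orderOf_one]))
          t t.2 ?_
        set R := Subgroup.zpowers (a : G)
        have hR : R ≤ A := Subgroup.zpowers_le.mpr a.2
        have hRcard : Nat.card R = q := by rw [Nat.card_zpowers, Subgroup.orderOf_coe, ha]
        have htR : ∀ u ∈ N, u * (a : G) * u⁻¹ ∈ R := by
          intro u hu
          have hbA := hconj u hu a a.2
          have hbo : orderOf (⟨_, hbA⟩ : A) = q := by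
            rw [← ha, ← Subgroup.orderOf_coe (⟨_, hbA⟩ : A), ← Subgroup.orderOf_coe a]
            exact orderOf_injective (MulAut.conj u).toMonoidHom (MulAut.conj u).injective (a : G)
          have hz := Cfsg.Agent.Lib.Frobenius.mem_zpowers_of_commute φ hφ hq hbo ha
            (Subtype.ext (hAcomm _ hbA _ a.2))
          obtain ⟨i, hi⟩ := Subgroup.mem_zpowers_iff.mp hz
          exact Subgroup.mem_zpowers_iff.mpr ⟨i, by simpa using congrArg Subtype.val hi⟩
        set U := (T : Subgroup N).map N.subtype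
        have hUp : IsPGroup q U := T.isPGroup'.map N.subtype
        have hUR : U ≤ Subgroup.normalizer (R : Set G) := by
          refine le_normalizer_of_conj_mem' fun g hg z hz => ?_
          obtain ⟨g, hg, rfl⟩ := hg
          obtain ⟨i, rfl⟩ := Subgroup.mem_zpowers_iff.mp hz
          rw [← conj_zpow]
          exact zpow_mem (htR g g.2) i
        have hRU : IsPGroup q ↥(R ⊔ U) := IsPGroup.to_sup_of_normal_left'
          (IsPGroup.of_card (n := 1) (by rw [hRcard, pow_one])) hUp hUR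
        have := hRU.isNilpotent
        have : (R.subgroupOf (R ⊔ U)).Normal :=
          Subgroup.normal_subgroupOf_of_le_normalizer (H := R ⊔ U) (sup_le Subgroup.le_normalizer hUR)
        have hne : R.subgroupOf (R ⊔ U) ≠ ⊥ := by
          rw [Ne, Subgroup.subgroupOf_eq_bot, disjoint_iff, inf_eq_left.mpr le_sup_left]
          intro e
          rw [e, Subgroup.card_bot] at hRcard
          exact hq.ne_one hRcard.symm
        obtain ⟨z, hz, hz1⟩ := exists_center_ne_one.exists_ne_one_of_ne_bot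
          (Cfsg.Agent.Lib.Solvable.inf_center_ne_bot hne)
        have hzR : Subgroup.zpowers (z : G) = R := by
          refine Subgroup.eq_of_le_of_card_ge (Subgroup.zpowers_le.mpr hz.1) ?_
          rw [hRcard, Nat.card_zpowers, orderOf_eq_prime (p := q) ?_ (fun e => hz1 (Subtype.ext e))]
          have h := congrArg Subtype.val (pow_card_eq_one' (x := (⟨z, hz.1⟩ : R)))
          rw [hRcard] at h
          exact h
        obtain ⟨i, hi⟩ := Subgroup.mem_zpowers_iff.mp (hzR.symm ▸ Subgroup.mem_zpowers (a : G) :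
          (a : G) ∈ Subgroup.zpowers (z : G))
        rw [← hi]
        exact (Commute.zpow_right (congrArg Subtype.val (Subgroup.mem_center_iff.mp hz.2
          ⟨t, Subgroup.mem_sup_right ⟨t, ht, rfl⟩⟩)) i).eq
      have h1 : ¬ q ∣ (A.subgroupOf N).index := fun h => T.not_dvd_index (h.trans
        (Subgroup.index_dvd_of_le fun t ht => Subgroup.mem_subgroupOf.mpr (hTA t ht)))
      apply h1
      exact hqd.trans (index_dvd_subgroupOf hGN hPA)
    · have hqN : q ∣ Nat.card N :=
        (hqd.trans (index_dvd_subgroupOf hGN hPA)).trans (Subgroup.index_dvd_card _)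
      obtain ⟨x, hx⟩ := exists_prime_orderOf_dvd_card' q hqN
      rw [← Subgroup.orderOf_coe] at hx
      set X := A ⊔ Subgroup.zpowers (x : G)
      have hXN : X ≤ N := sup_le hAN (Subgroup.zpowers_le.mpr x.2)
      have hcopAx : (Nat.card A).Coprime (Nat.card (Subgroup.zpowers (x : G))) := by
        rw [Nat.card_zpowers, hx]
        exact (hq.coprime_iff_not_dvd.mpr hqA).symm
      have hNX : ∀ n ∈ N, ∃ b ∈ A, b⁻¹ * n ∈ Subgroup.normalizer (Subgroup.zpowers (x : G) : Set G) := by
        intro n hn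
        have hcj : (MulAut.conj n • Subgroup.zpowers (x : G) : Subgroup G) ≤ X := by
          intro z hz
          rw [Cfsg.Agent.Lib.Coprime.mem_conj_smul] at hz
          obtain ⟨i, hi⟩ := Subgroup.mem_zpowers_iff.mp hz
          have e : z = (n * (x : G) ^ i * n⁻¹ * ((x : G) ^ i)⁻¹) * (x : G) ^ i := by rw [hi]; group
          rw [e]
          exact mul_mem (Subgroup.mem_sup_left (hNA n _ hn (zpow_mem x.2 i)))
            (Subgroup.mem_sup_right (Subgroup.zpow_mem_zpowers _ i))
        obtain ⟨b, hb, he⟩ := Cfsg.Agent.Lib.Coprime.exists_conj_eq_of_le_sup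
          (Subgroup.zpowers_le.mpr x.2)
          hcopAx (Or.inr (Cfsg.Agent.Lib.Coprime.isSolvable_zpowers (x : G)))
          (Cfsg.Agent.Lib.Coprime.card_conj_smul n _) hcj
        refine ⟨b, hb, Cfsg.Agent.Lib.Coprime.mem_normalizer_of_conj_smul_eq ?_⟩
        rw [Cfsg.Agent.Lib.Coprime.conj_mul_smul, ← he, ← Cfsg.Agent.Lib.Coprime.conj_mul_smul,
          inv_mul_cancel, Cfsg.Agent.Lib.Coprime.conj_one_smul]
      set L := N ⊓ Subgroup.normalizer (Subgroup.zpowers (x : G) : Set G)
      have hpL : p ∣ Nat.card L := by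
        have hle : N ≤ A ⊔ L := by
          intro n hn
          obtain ⟨b, hb, hbn⟩ := hNX n hn
          rw [show n = b * (b⁻¹ * n) by group]
          exact mul_mem (Subgroup.mem_sup_left hb)
            (Subgroup.mem_sup_right ⟨N.mul_mem (N.inv_mem (hAN hb)) hn, hbn⟩)
        have h1 := Cfsg.Agent.Lib.Coprime.card_sup_mul_card_inf (N := A) (H := L) inf_le_left
        have h2 : p ∣ Nat.card A * Nat.card L :=
          h1 ▸ dvd_mul_of_dvd_left (hpNA.trans (Subgroup.card_dvd_of_le hle)) _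
        exact (hp.dvd_mul.mp h2).resolve_left fun h => hp.not_dvd_one (hAp ▸ Nat.dvd_gcd h dvd_rfl)
      obtain ⟨y, hy⟩ := exists_prime_orderOf_dvd_card' p hpL
      rw [← Subgroup.orderOf_coe] at hy
      have hxy : (y : G) * x = x * y := by
        have h1 : (y : G) * x * (y : G)⁻¹ * (x : G)⁻¹ ∈ A := hNA y x y.2.1 x.2
        have h2 : (y : G) * x * (y : G)⁻¹ * (x : G)⁻¹ ∈ Subgroup.zpowers (x : G) :=
          mul_mem ((Subgroup.mem_normalizer_iff.mp y.2.2 _).mp (Subgroup.mem_zpowers _))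
            (inv_mem (Subgroup.mem_zpowers _))
        exact mul_inv_eq_iff_eq_mul.mp
          (mul_inv_eq_one.mp (Cfsg.Agent.Lib.Coprime.eq_one_of_mem_of_mem hcopAx h1 h2))
      have hy1 : (y : G) ≠ 1 := fun e => hp.ne_one (by rw [← hy, e, orderOf_one])
      have hxC : Subgroup.zpowers (x : G) ≤ Subgroup.centralizer (P₀ : Set G) := by
        refine Cfsg.Agent.Lib.Coprime.le_centralizer_of_PxQ (p := p) (P := Subgroup.zpowers (y : G))
          (IsPGroup.of_card (n := 1) (by rw [Nat.card_zpowers, hy, pow_one]))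
          (by rw [Nat.card_zpowers, hx]; exact (Nat.coprime_primes hq hp).mpr hqp) hP₀p ?_
          Subgroup.le_normalizer_of_normal Subgroup.le_normalizer_of_normal ?_
        · rw [Subgroup.zpowers_le, Subgroup.mem_centralizer_iff]
          intro z hz
          obtain ⟨i, rfl⟩ := Subgroup.mem_zpowers_iff.mp hz
          exact (Commute.zpow_left hxy.symm i).eq
        · rintro v ⟨hvP, hvy⟩
          rw [Subgroup.mem_centralizer_iff]
          intro z hz
          obtain ⟨i, rfl⟩ := Subgroup.mem_zpowers_iff.mp hz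
          refine (Commute.zpow_left ?_ i).eq
          refine commute_of_mem_nilpotent (hCN y hy1)
            (Subgroup.mem_centralizer_singleton_iff.mpr hxy.symm)
            (Subgroup.mem_centralizer_singleton_iff.mpr
              (Subgroup.mem_centralizer_iff.mp hvy y (Subgroup.mem_zpowers _)).symm) ?_
          obtain ⟨j, hj⟩ := exists_orderOf_pow_of_mem hP₀p hvP
          rw [hx, hj]
          exact Nat.Coprime.pow_right j ((Nat.coprime_primes hq hp).mpr hqp)
      have := hNP₀ x x.2 (hCP₀ (hxC (Subgroup.mem_zpowers _)))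
      rw [this, orderOf_one] at hx
      exact hq.ne_one hx.symm
  · intro a ha ha1
    refine (Subgroup.eq_bot_iff_forall _).mpr fun v hv => hfpf a ha ha1 v hv.1 ?_
    exact (Subgroup.mem_centralizer_singleton_iff.mp hv.2).symm
  · intro x hx a ha ha1 hmem
    rw [hPA] at hx
    obtain ⟨u, hu, n, hn, rfl⟩ := hGN x
    have hmem' : n * a * n⁻¹ * a⁻¹ ∈ P₀ := by
      have := P₀.mul_mem (P₀.mul_mem (P₀.inv_mem hu) hmem)
        ((inferInstance : P₀.Normal).conj_mem u hu a)
      simpa [mul_assoc] using this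
    have h1 := hP₀A _ hmem' (mul_mem (hconj n hn a ha) (inv_mem ha))
    exact hx (mul_mem (hP₀K hu)
      (hAK (hCA a ha ha1 n hn (mul_inv_eq_iff_eq_mul.mp (mul_inv_eq_one.mp h1)))))
where
  mem_of_primeParts {H : Type u} [Group H] [Finite H] {K : Subgroup H} {z : H}
      (h : ∀ q : ℕ, q.Prime → q ∣ orderOf z →
        z ^ (orderOf z / q ^ (orderOf z).factorization q) ∈ K) : z ∈ K := by
    by_contra hz
    set S := Subgroup.zpowers z
    have hne : (K.subgroupOf S).index ≠ 1 := fun e =>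
      hz (show (⟨z, Subgroup.mem_zpowers z⟩ : S) ∈ K.subgroupOf S by
        rw [Subgroup.index_eq_one.mp e]; exact Subgroup.mem_top _)
    obtain ⟨q, hq, hqd⟩ := Nat.exists_prime_and_dvd hne
    have := Fact.mk hq
    have hqz : q ∣ orderOf z := by
      rw [← Nat.card_zpowers]
      exact hqd.trans (Subgroup.index_dvd_card _)
    have hle : (Subgroup.zpowers (z ^ (orderOf z / q ^ (orderOf z).factorization q))).subgroupOf S ≤
        K.subgroupOf S := fun w hw => (Subgroup.zpowers_le.mpr (h q hq hqz)) hw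
    have h1 := hqd.trans (Subgroup.index_dvd_of_le hle)
    have hsub : Subgroup.zpowers (z ^ (orderOf z / q ^ (orderOf z).factorization q)) ≤ S :=
      Subgroup.zpowers_le.mpr (pow_mem (Subgroup.mem_zpowers z) _)
    have h2 := ((Subgroup.zpowers (z ^ (orderOf z / q ^ (orderOf z).factorization q))).subgroupOf S).card_mul_index
    rw [Nat.card_congr (Subgroup.subgroupOfEquivOfLe hsub).toEquiv, Nat.card_zpowers, Nat.card_zpowers,
      orderOf_pPart] at h2
    refine Nat.not_dvd_ordCompl hq (orderOf_pos z).ne' ?_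
    refine h1.trans (dvd_of_eq ?_)
    refine (Nat.div_eq_of_eq_mul_right (pow_pos hq.pos _) ?_).symm
    exact h2.symm
  index_dvd_subgroupOf {H : Type u} [Group H] [Finite H] {P A K : Subgroup H} [P.Normal]
      (hGN : ∀ g : H, ∃ u ∈ P, ∃ n ∈ Subgroup.normalizer (A : Set H), g = u * n)
      (hPA : P ⊔ A = K) : K.index ∣ (A.subgroupOf (Subgroup.normalizer (A : Set H))).index := by
    set N := Subgroup.normalizer (A : Set H)
    have h1 : K.index = (K.subgroupOf N).index := by
      rw [Subgroup.index_eq_card, Subgroup.index_eq_card]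
      refine (Nat.card_congr (Equiv.ofBijective
        (Quotient.map' (fun n : N => (n : H)) fun a b hab => ?_) ⟨?_, ?_⟩)).symm
      · rw [QuotientGroup.leftRel_apply] at hab ⊢
        exact hab
      · intro a b
        induction a using QuotientGroup.induction_on with | H a =>
        induction b using QuotientGroup.induction_on with | H b =>
        intro hab
        exact QuotientGroup.eq.mpr (QuotientGroup.eq.mp hab :)
      · intro g
        induction g using QuotientGroup.induction_on with | H g =>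
        obtain ⟨u, hu, n, hn, rfl⟩ := hGN g
        refine ⟨QuotientGroup.mk (s := K.subgroupOf N) ⟨n, hn⟩, QuotientGroup.eq.mpr ?_⟩
        rw [← hPA]
        exact Subgroup.mem_sup_left (by simpa [mul_assoc] using
          (inferInstance : P.Normal).conj_mem u hu n⁻¹)
    rw [h1]
    exact Subgroup.index_dvd_of_le fun a ha => Subgroup.mem_subgroupOf.mpr
      (hPA ▸ Subgroup.mem_sup_right ha)

end Cfsg.Agent.Lib.OddLocal
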