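import Cfsg.Agent.Lib.OddLocal.CNGroup
import Cfsg.Agent.Lib.OddLocal.Transitivity
import Cfsg.Agent.Lib.OddLocal.CNSolvable
import Cfsg.Agent.Lib.Cores.Fitting
import Cfsg.Agent.Lib.Cores.PCore
import Cfsg.Agent.Lib.Cores.PiCore

/-! The `p`-part and the `p'`-part of a nilpotent subgroup, and of the Fitting subgroup. -/

set_option autoImplicit false

open scoped commutatorElement

namespace Cfsg.Agent.Lib.OddLocal

universe u

variable {G : Type u} [Group G]

/-- `O_p(M)` inside `G`. -/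
def pPartOf (p : ℕ) (M : Subgroup G) : Subgroup G := (Cfsg.pCore p M).map M.subtype

/-- `O_{p'}(M)` inside `G`. -/
def pComplOf (p : ℕ) (M : Subgroup G) : Subgroup G := (Cfsg.pPrimeCore p M).map M.subtype

theorem pPartOf_le (p : ℕ) (M : Subgroup G) : pPartOf p M ≤ M := Subgroup.map_subtype_le _

theorem pComplOf_le (p : ℕ) (M : Subgroup G) : pComplOf p M ≤ M := Subgroup.map_subtype_le _

theorem isPGroup_pPartOf (p : ℕ) (M : Subgroup G) : IsPGroup p (pPartOf p M) :=
  (Cores.pCore_isPGroup p M).map _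

theorem normalizer_le_normalizer_pPartOf (p : ℕ) (M : Subgroup G) :
    Subgroup.normalizer (M : Set G) ≤ Subgroup.normalizer (pPartOf p M : Set G) :=
  Cores.normalizer_le_normalizer_map_subtype M _

theorem le_normalizer_fittingOf (H : Subgroup G) :
    H ≤ Subgroup.normalizer (Cfsg.fittingOf H : Set G) := by
  refine le_normalizer_of_conj_mem' fun m hm n hn => ?_
  obtain ⟨w, hw, rfl⟩ := hn
  exact ⟨⟨m, hm⟩ * w * ⟨m, hm⟩⁻¹, (Cores.fittingSubgroup_normal _).conj_mem w hw _, rfl⟩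

theorem fittingOf_le (H : Subgroup G) : Cfsg.fittingOf H ≤ H := Subgroup.map_subtype_le _

theorem le_normalizer_fitting_pPart (p : ℕ) (H : Subgroup G) :
    H ≤ Subgroup.normalizer (pPartOf p (Cfsg.fittingOf H) : Set G) :=
  (le_normalizer_fittingOf H).trans (normalizer_le_normalizer_pPartOf p _)

variable [Finite G]

theorem normalizer_le_normalizer_pComplOf (p : ℕ) (M : Subgroup G) :
    Subgroup.normalizer (M : Set G) ≤ Subgroup.normalizer (pComplOf p M : Set G) :=
  Cores.normalizer_le_normalizer_map_subtype M _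

theorem coprime_pComplOf (p : ℕ) (M : Subgroup G) : (Nat.card (pComplOf p M)).Coprime p :=
  (Cores.pPrimeCore_coprime p M).coprime_dvd_left (Subgroup.card_map_dvd _ _)

theorem le_normalizer_fitting_pCompl (p : ℕ) (H : Subgroup G) :
    H ≤ Subgroup.normalizer (pComplOf p (Cfsg.fittingOf H) : Set G) :=
  (le_normalizer_fittingOf H).trans (normalizer_le_normalizer_pComplOf p _)

theorem isNilpotent_fittingOf (H : Subgroup G) : Group.IsNilpotent (Cfsg.fittingOf H) :=
  have := Cores.fittingSubgroup_isNilpotent H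
  Cores.isNilpotent_map _ _

theorem exists_orderOf_of_mem {p : ℕ} [Fact p.Prime] {P : Subgroup G} (hP : IsPGroup p P) {x : G}
    (hx : x ∈ P) : ∃ k, orderOf x = p ^ k := by
  obtain ⟨k, hk⟩ := IsPGroup.iff_orderOf.mp hP ⟨x, hx⟩
  exact ⟨k, by rw [← hk]; exact Subgroup.orderOf_coe ⟨x, hx⟩⟩

theorem mem_pPartOf {p : ℕ} [Fact p.Prime] {M : Subgroup G} (hM : Group.IsNilpotent M) {x : G}
    (hx : x ∈ M) (hp : ∃ k, orderOf x = p ^ k) : x ∈ pPartOf p M := by
  obtain ⟨k, hk⟩ := hp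
  exact ⟨⟨x, hx⟩, mem_pCore_of_isNilpotent hM p ⟨k, by rw [← hk, ← Subgroup.orderOf_coe]⟩, rfl⟩

theorem mem_pComplOf {p : ℕ} [Fact p.Prime] {M : Subgroup G} (hM : Group.IsNilpotent M) {x : G}
    (hx : x ∈ M) (hp : (orderOf x).Coprime p) : x ∈ pComplOf p M := by
  refine ⟨⟨x, hx⟩, isThreeStep_of_no_normal_sylow.mem_of_primeParts (fun q hq hqz => ?_), rfl⟩
  have := Fact.mk hq
  have hord : orderOf (⟨x, hx⟩ : M) = orderOf x := by rw [← Subgroup.orderOf_coe]
  have hqp : q ≠ p := fun e => hq.not_dvd_one (hp ▸ Nat.dvd_gcd (hord ▸ hqz) (e ▸ dvd_rfl))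
  refine (Cores.le_pPrimeCore (N := Cfsg.pCore q M) inferInstance ?_)
    (mem_pCore_of_isNilpotent hM q ⟨_, orderOf_pPart q _⟩)
  obtain ⟨j, hj⟩ := IsPGroup.iff_card.mp (Cores.pCore_isPGroup q M)
  rw [hj]
  exact Nat.Coprime.pow_left j ((Nat.coprime_primes hq Fact.out).mpr hqp)

theorem pPartOf_le_centralizer_pComplOf (p : ℕ) [Fact p.Prime] (M : Subgroup G) :
    pPartOf p M ≤ Subgroup.centralizer (pComplOf p M : Set G) := by
  rintro _ ⟨x, hx, rfl⟩
  rw [Subgroup.mem_centralizer_iff]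
  rintro _ ⟨y, hy, rfl⟩
  exact (congrArg Subtype.val (Cores.commute_of_mem_pCore_of_mem_pPrimeCore hx hy)).symm

theorem inf_pPartOf_pComplOf (p : ℕ) [Fact p.Prime] (M : Subgroup G) :
    pPartOf p M ⊓ pComplOf p M = ⊥ := by
  obtain ⟨n, hn⟩ := IsPGroup.iff_card.mp (isPGroup_pPartOf p M)
  exact Coprime.inf_eq_bot_of_coprime_card (hn ▸ ((coprime_pComplOf p M).pow_right n).symm)

theorem pPartOf_le_pComplOf {p s : ℕ} [Fact p.Prime] [Fact s.Prime] (hps : p ≠ s)
    {M : Subgroup G} (hM : Group.IsNilpotent M) : pPartOf p M ≤ pComplOf s M := fun x hx => by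
  refine mem_pComplOf hM (pPartOf_le p M hx) ?_
  obtain ⟨k, hk⟩ := exists_orderOf_of_mem (isPGroup_pPartOf p M) hx
  exact hk ▸ ((Nat.coprime_primes Fact.out Fact.out).mpr hps).pow_left k

/-- A subgroup centralizing every `pPartOf` centralizes a nilpotent subgroup. -/
theorem le_centralizer_of_parts {M Y : Subgroup G} (hM : Group.IsNilpotent M)
    (h : ∀ p : ℕ, p.Prime → p ∣ Nat.card M → Y ≤ Subgroup.centralizer (pPartOf p M : Set G)) :
    Y ≤ Subgroup.centralizer (M : Set G) := by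
  intro y hy
  rw [Subgroup.mem_centralizer_iff]
  intro x hx
  have h1 : (⟨x, hx⟩ : M) ∈ (Subgroup.centralizer ({y} : Set G)).subgroupOf M := by
    refine isThreeStep_of_no_normal_sylow.mem_of_primeParts fun q hq hqz => ?_
    have := Fact.mk hq
    have hmem := mem_pCore_of_isNilpotent hM q ⟨_, orderOf_pPart q (⟨x, hx⟩ : M)⟩
    exact Subgroup.mem_centralizer_singleton_iff.mpr (Subgroup.mem_centralizer_iff.mp
      (h q hq (hqz.trans (orderOf_dvd_natCard _)) hy) _ ⟨_, hmem, rfl⟩)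
  exact Subgroup.mem_centralizer_singleton_iff.mp h1

theorem pPartOf_ne_bot {p : ℕ} [Fact p.Prime] {M : Subgroup G} (hM : Group.IsNilpotent M)
    (hp : p ∣ Nat.card M) : pPartOf p M ≠ ⊥ := by
  intro h
  obtain ⟨x, hx⟩ := exists_prime_orderOf_dvd_card' p hp
  have h1 := mem_pPartOf (p := p) hM x.2 ⟨1, by rw [pow_one, Subgroup.orderOf_coe, hx]⟩
  rw [h, Subgroup.mem_bot, ← orderOf_eq_one_iff, Subgroup.orderOf_coe, hx] at h1
  exact (Fact.out : p.Prime).ne_one h1

/-- The `p`-part of the centre of `F(H)`. -/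
def fittingCenterPart (p : ℕ) (H : Subgroup G) : Subgroup G :=
  pPartOf p (Cfsg.fittingOf H) ⊓ Subgroup.centralizer (Cfsg.fittingOf H : Set G)

theorem le_normalizer_fittingCenterPart (p : ℕ) (H : Subgroup G) :
    H ≤ Subgroup.normalizer (fittingCenterPart p H : Set G) := by
  refine le_trans (le_inf (le_normalizer_fitting_pPart p H) ?_)
    Subgroup.inf_normalizer_le_normalizer_inf
  refine le_normalizer_of_conj_mem' fun d hd x hx => ?_
  rw [Subgroup.mem_centralizer_iff] at hx ⊢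
  intro b hb
  have := hx (d⁻¹ * b * d)
    ((Subgroup.mem_normalizer_iff''.mp (le_normalizer_fittingOf H hd) b).mp hb)
  calc b * (d * x * d⁻¹) = d * ((d⁻¹ * b * d) * x) * d⁻¹ := by group
    _ = d * (x * (d⁻¹ * b * d)) * d⁻¹ := by rw [this]
    _ = _ := by group

theorem fittingCenterPart_le (p : ℕ) (H : Subgroup G) :
    fittingCenterPart p H ≤ Cfsg.fittingOf H ⊓ Subgroup.centralizer (Cfsg.fittingOf H : Set G) :=
  inf_le_inf_right _ (pPartOf_le p _)

theorem fittingCenterPart_ne_bot {p : ℕ} [Fact p.Prime] {H : Subgroup G}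
    (hp : p ∣ Nat.card (Cfsg.fittingOf H)) : fittingCenterPart p H ≠ ⊥ := by
  have hn := isNilpotent_fittingOf H
  have hne : Cfsg.pCore p (Cfsg.fittingOf H) ≠ ⊥ := fun e => pPartOf_ne_bot hn hp (by
    rw [pPartOf, e, Subgroup.map_bot])
  obtain ⟨z, hz, hz1⟩ :=
    exists_center_ne_one.exists_ne_one_of_ne_bot (Solvable.inf_center_ne_bot (N := Cfsg.pCore p _) hne)
  intro h
  have h1 : (z : G) ∈ fittingCenterPart p H := ⟨⟨z, hz.1, rfl⟩, Subgroup.mem_centralizer_iff.mpr
    fun f hf => congrArg Subtype.val (Subgroup.mem_center_iff.mp hz.2 ⟨f, hf⟩)⟩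
  rw [h, Subgroup.mem_bot] at h1
  exact hz1 (Subtype.ext h1)

/-- `p`-subgroups subnormal in `H` lie in the `p`-part of `F(H)`. -/
theorem le_pPartOf_fitting_of_isSubnormal {p : ℕ} [Fact p.Prime] {H U : Subgroup G} (hUH : U ≤ H)
    (hU : IsPGroup p U) (hs : (U.subgroupOf H).IsSubnormal) : U ≤ pPartOf p (Cfsg.fittingOf H) := by
  have h1 : U.subgroupOf H ≤ Cfsg.pCore p H :=
    Cores.le_pCore_of_isSubnormal hs (hU.of_equiv (Subgroup.subgroupOfEquivOfLe hUH).symm)
  intro x hx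
  exact mem_pPartOf (isNilpotent_fittingOf H)
    ⟨⟨x, hUH hx⟩, Cores.pCore_le_fittingSubgroup p (h1 hx), rfl⟩ (exists_orderOf_of_mem hU hx)

/-- The centralizer of the Fitting subgroup of a solvable subgroup lies in it. -/
theorem inf_centralizer_fittingOf_le {H : Subgroup G} (hs : Group.IsSolvable H) :
    H ⊓ Subgroup.centralizer (Cfsg.fittingOf H : Set G) ≤ Cfsg.fittingOf H := by
  rintro x ⟨hxH, hxC⟩
  refine ⟨⟨x, hxH⟩, Cores.centralizer_fittingSubgroup_le hs
    (Subgroup.mem_centralizer_iff.mpr fun f hf => Subtype.ext ?_), rfl⟩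
  exact Subgroup.mem_centralizer_iff.mp hxC (f : G) ⟨f, hf, rfl⟩

end Cfsg.Agent.Lib.OddLocal
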