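import Cfsg.Agent.Lib.OddLocal.RankTwoStructure
import Cfsg.Agent.Lib.OddLocal.NilpotentParts
import Cfsg.Agent.Lib.Cores.Fitting
import Cfsg.Agent.Lib.Coprime.Hall

/-! Solvable groups of odd order whose Fitting subgroup has rank at most two. -/

set_option autoImplicit false

open scoped commutatorElement

namespace Cfsg.Agent.Lib.OddLocal

universe u

theorem pRankLE_of_injective {G : Type u} [Group G] {H : Type u} [Group H] {p k : ℕ} (f : H →* G)
    (hf : Function.Injective f) (hr : Cfsg.PRankLE p k G) : Cfsg.PRankLE p k H := by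
  intro B hB hBp
  have h := hr (B.map f) inferInstance (by
    rintro _ ⟨x, hx, rfl⟩
    rw [← map_pow, hBp x hx, map_one])
  rwa [Subgroup.card_map_of_injective hf] at h

variable {G : Type u} [Group G] [Finite G]

/-- Operators of odd order on a normal `q`-subgroup of rank at most two. -/
theorem centralizes_of_rank_two [Group.IsSolvable G] (hodd : Odd (Nat.card G)) (q : ℕ) [hq : Fact q.Prime]
    (R : Subgroup G) [R.Normal] (hR : IsPGroup q R) (hr : Cfsg.PRankLE q 2 R) :
    (∀ c ∈ commutator G, (orderOf c).Coprime q → c ∈ Subgroup.centralizer (R : Set G)) ∧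
      ∀ g : G, (∀ r : ℕ, r.Prime → r ∣ orderOf g → q < r) → g ∈ Subgroup.centralizer (R : Set G) := by
  by_cases hq2 : q = 2
  · have hR1 : R = ⊥ := by
      obtain ⟨k, hk⟩ := IsPGroup.iff_card.mp hR
      have h : Odd (q ^ k) := hk ▸ hodd.of_dvd_nat (Subgroup.card_subgroup_dvd_card R)
      rcases eq_or_ne k 0 with rfl | hk0
      · exact Subgroup.card_eq_one.mp (by rw [hk, pow_zero])
      · rw [Nat.odd_pow_iff hk0, hq2] at h
        exact absurd h (by decide)
    subst hR1
    have h : ∀ g : G, g ∈ Subgroup.centralizer ((⊥ : Subgroup G) : Set G) := fun g =>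
      Subgroup.mem_centralizer_iff.mpr fun x hx => by rw [Subgroup.mem_bot.mp hx, one_mul, mul_one]
    exact ⟨fun c _ _ => h c, fun g _ => h g⟩
  obtain ⟨ψ', hψ'⟩ := exists_twoDim hq2 hR hr (A := ⊤)
    (fun g _ => by rw [Subgroup.normalizer_eq_top]; trivial)
  set ψ := ψ'.comp Subgroup.topEquiv.symm.toMonoidHom with hψdef
  have hψ : ∀ g : G, ψ g = 1 → (orderOf g).Coprime q → g ∈ Subgroup.centralizer (R : Set G) :=
    fun g hg hc => hψ' ⟨g, trivial⟩ hg hc
  set K := ψ.toHomUnits.ker with hK
  let f : G ⧸ K →* Matrix (Fin 2) (Fin 2) (ZMod q) :=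
    (Units.coeHom _).comp (QuotientGroup.kerLift ψ.toHomUnits)
  have hf : Function.Injective f := Units.val_injective.comp (QuotientGroup.kerLift_injective _)
  have hoddX : Odd (Nat.card (G ⧸ K)) := hodd.of_dvd_nat (Subgroup.card_quotient_dvd_card K)
  have hmem : ∀ g ∈ K, ψ g = 1 := fun g hg => congrArg Units.val (MonoidHom.mem_ker.mp hg)
  refine ⟨fun c hc hcop => hψ c (hmem c ?_) hcop, fun g hg => hψ g (hmem g ?_) ?_⟩
  · have hcm : QuotientGroup.mk' K c ∈ commutator (G ⧸ K) := by
      have h : (commutator G).map (QuotientGroup.mk' K) ≤ commutator (G ⧸ K) := by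
        rw [commutator_def, commutator_def, Subgroup.map_commutator]
        exact Subgroup.commutator_mono le_top le_top
      exact h ⟨c, hc, rfl⟩
    have h := pow_eq_one_of_mem_commutator q hq2 hoddX f hf _ hcm
    rw [← QuotientGroup.eq_one_iff, ← QuotientGroup.mk'_apply]
    rw [← orderOf_eq_one_iff]
    exact Nat.eq_one_of_dvd_coprimes hcop (orderOf_map_dvd _ c) (orderOf_dvd_of_pow_eq_one h)
  · rw [← QuotientGroup.eq_one_iff, ← QuotientGroup.mk'_apply, ← orderOf_eq_one_iff]
    by_contra hne
    obtain ⟨r, hr', hrd⟩ := Nat.exists_prime_and_dvd hne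
    have hrX : r ∣ Nat.card (G ⧸ K) := hrd.trans (orderOf_dvd_natCard _)
    have hr2 : r ≠ 2 := fun h => by
      have := hoddX.of_dvd_nat hrX
      rw [h] at this
      exact absurd this (by decide)
    exact absurd (le_of_prime_dvd_card_two q f hf hr' hr2 hq2 hrX).1
      (not_le.mpr (hg r hr' (hrd.trans (orderOf_map_dvd _ _))))
  · exact Nat.coprime_of_dvd fun r hr' h1 h2 =>
      (hg r hr' h1).ne ((Nat.prime_dvd_prime_iff_eq hr' hq.out).mp h2).symm

variable [Group.IsSolvable G]

/-- The derived subgroup lies in the Fitting subgroup when its `q'`-elements centralize every `O_q(G)`. -/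
theorem commutator_le_fitting_of_centralizes
    (hc : ∀ q : ℕ, q.Prime → ∀ c ∈ commutator G, (orderOf c).Coprime q →
      c ∈ Subgroup.centralizer (Cfsg.pCore q G : Set G)) : commutator G ≤ Cfsg.fittingSubgroup G := by
  set F := Cfsg.fittingSubgroup G with hFdef
  have hFn : Group.IsNilpotent F := Cores.fittingSubgroup_isNilpotent G
  have hpart : ∀ q : ℕ, q.Prime → pPartOf q F ≤ Cfsg.pCore q G := fun q hq => by
    have := Fact.mk hq
    exact Cores.map_subtype_pCore_le F
  intro x hx
  refine isThreeStep_of_no_normal_sylow.mem_of_primeParts fun r hr' hrx => ?_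
  have := Fact.mk hr'
  set y := x ^ (orderOf x / r ^ (orderOf x).factorization r) with hydef
  have hy : y ∈ Subgroup.zpowers x := pow_mem (Subgroup.mem_zpowers x) _
  have hyk : ∃ k, orderOf y = r ^ k := ⟨_, orderOf_pPart r x⟩
  have := Fact.mk hr'
  set D := commutator G ⊓ Subgroup.centralizer (pComplOf r F : Set G) with hD
  have hcompl : (pComplOf r F).Normal := Cores.normal_map_subtype_of_char F _
  have hDn : D.Normal := inferInstance
  have hy1 : y ∈ D := by
    refine ⟨Subgroup.zpowers_le.mpr hx hy, ?_⟩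
    refine le_centralizer_of_parts (Y := Subgroup.zpowers y) (Cores.isNilpotent_of_le (pComplOf_le r F))
      (fun q hq hqd => ?_) (Subgroup.mem_zpowers y)
    have := Fact.mk hq
    have hqr : q ≠ r := fun e => hr'.not_dvd_one
      ((coprime_pComplOf r F) ▸ Nat.dvd_gcd (e ▸ hqd) dvd_rfl)
    have hle : pPartOf q (pComplOf r F) ≤ Cfsg.pCore q G := by
      exact Cores.map_subtype_pCore_le (pComplOf r F)
    rw [Subgroup.zpowers_le]
    refine Subgroup.centralizer_le hle (hc q hq y (Subgroup.zpowers_le.mpr hx hy) ?_)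
    obtain ⟨k, hk⟩ := hyk
    exact hk ▸ ((Nat.coprime_primes hr' hq).mpr hqr.symm).pow_left k
  have hDF : ∀ z ∈ D, (orderOf z).Coprime r → z ∈ F ∧ ∀ d ∈ D, Commute d z := by
    intro z hz hzc
    have hzF : z ∈ F := by
      refine Cores.centralizer_fittingSubgroup_le (G := G) inferInstance
        (le_centralizer_of_parts (Y := Subgroup.zpowers z) hFn (fun q hq _ => ?_) (Subgroup.mem_zpowers z))
      have := Fact.mk hq
      rw [Subgroup.zpowers_le]
      by_cases hqr : q = r
      · subst hqr
        exact Subgroup.centralizer_le (hpart q hq) (hc q hq z hz.1 hzc)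
      · exact Subgroup.centralizer_le (pPartOf_le_pComplOf hqr hFn) hz.2
    exact ⟨hzF, fun d hd => (Subgroup.mem_centralizer_iff.mp hd.2 z (mem_pComplOf hFn hzF hzc)).symm⟩
  have hnil : Group.IsNilpotent D := by
    have hq : IsPGroup r (D ⧸ Subgroup.center D) := by
      intro g
      obtain ⟨d, rfl⟩ := QuotientGroup.mk'_surjective _ g
      refine ⟨(orderOf d).factorization r, ?_⟩
      rw [← map_pow, QuotientGroup.mk'_apply, QuotientGroup.eq_one_iff, Subgroup.mem_center_iff]
      intro e
      refine Subtype.ext ((hDF _ (d ^ r ^ (orderOf d).factorization r).2 ?_).2 e e.2).eq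
      rw [Subgroup.orderOf_coe, orderOf_pow_of_dvd (pow_ne_zero _ hr'.ne_zero) (Nat.ordProj_dvd _ _)]
      exact (Nat.coprime_ordCompl hr' (orderOf_pos d).ne').symm
    have := hq.isNilpotent
    exact Subgroup.isNilpotent_of_ker_le_center (QuotientGroup.mk' (Subgroup.center D))
      (by rw [QuotientGroup.ker_mk'])
  exact Cores.le_fittingSubgroup hDn hnil hy1

/-- The derived subgroup lies in the Fitting subgroup when this has rank at most two. -/
theorem commutator_le_fitting_of_rank_two (hodd : Odd (Nat.card G))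
    (hr : ∀ q : ℕ, q.Prime → Cfsg.PRankLE q 2 (Cfsg.pCore q G))
    : commutator G ≤ Cfsg.fittingSubgroup G :=
  commutator_le_fitting_of_centralizes fun q hq c hc hcop =>
    have := Fact.mk hq
    (centralizes_of_rank_two hodd q (Cfsg.pCore q G) (Cores.pCore_isPGroup q G) (hr q hq)).1 c hc hcop

/-- A Hall subgroup for the primes greater than `p` is normal. -/
theorem exists_characteristic_hall_gt (hodd : Odd (Nat.card G))
    (hr : ∀ q : ℕ, q.Prime → Cfsg.PRankLE q 2 (Cfsg.pCore q G)) (p : ℕ) :
    ∃ N : Subgroup G, N.Characteristic ∧ Cfsg.IsPiHall {q | q.Prime ∧ p < q} N := by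
  set π : Set ℕ := {q | q.Prime ∧ p < q} with hπ
  obtain ⟨H, hH1, hH2⟩ := Coprime.exists_hall_of_solvable (G := G) (fun q => p < q)
  set F := Cfsg.fittingSubgroup G with hFdef
  have hFH : F ≤ Subgroup.normalizer (H : Set G) := by
    refine Cores.fittingSubgroup_le_of_pCore_le fun q hq => ?_
    have := Fact.mk hq
    by_cases hpq : p < q
    · refine le_trans ?_ Subgroup.le_normalizer
      have hsup : H ⊔ Cfsg.pCore q G = H := by
        refine (Subgroup.eq_of_le_of_card_ge le_sup_left (Nat.le_of_dvd Nat.card_pos ?_)).symm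
        refine Nat.Coprime.dvd_of_dvd_mul_right (n := H.index) (Nat.coprime_of_dvd fun r hr' h1 h2 => ?_)
          (show Nat.card ↥(H ⊔ Cfsg.pCore q G) ∣ Nat.card H * H.index from
            H.card_mul_index ▸ Subgroup.card_subgroup_dvd_card (H ⊔ Cfsg.pCore q G))
        refine hH2 r hr' h2 ?_
        rcases hr'.dvd_mul.mp (h1.trans (Cores.card_sup_dvd H (Cfsg.pCore q G))) with h | h
        · exact hH1 r hr' h
        · obtain ⟨k, hk⟩ := IsPGroup.iff_card.mp (Cores.pCore_isPGroup q G)
          exact (Nat.prime_dvd_prime_iff_eq hr' hq).mp (hr'.dvd_of_dvd_pow (hk ▸ h)) ▸ hpq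
      exact sup_eq_left.mp hsup
    · intro g hg
      refine Subgroup.centralizer_le_normalizer _ (Subgroup.mem_centralizer_iff.mpr fun h hh => ?_)
      exact (Subgroup.mem_centralizer_iff.mp ((centralizes_of_rank_two hodd q (Cfsg.pCore q G)
        (Cores.pCore_isPGroup q G) (hr q hq)).2 h fun r hr' hd => lt_of_le_of_lt (not_lt.mp hpq)
          (hH1 r hr' (hd.trans (Subgroup.orderOf_coe (⟨h, hh⟩ : H) ▸ orderOf_dvd_natCard _)))) g hg).symm
  set L := H ⊔ F with hL
  have hLn : L.Normal := ⟨fun x hx g => by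
    have h : ⁅g, x⁆ ∈ L := Subgroup.mem_sup_right (commutator_le_fitting_of_rank_two hodd hr
      (Subgroup.commutator_mem_commutator (Subgroup.mem_top g) (Subgroup.mem_top x)))
    have := mul_mem h hx
    simpa [commutatorElement_def] using this⟩
  have hLN : L ≤ Subgroup.normalizer (H : Set G) := sup_le Subgroup.le_normalizer hFH
  have : (H.subgroupOf L).Normal := Subgroup.normal_subgroupOf_of_le_normalizer hLN
  have hmax : ∀ x ∈ L, (∀ r : ℕ, r.Prime → r ∣ orderOf x → p < r) → x ∈ H := by
    intro x hx h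
    have h1 : QuotientGroup.mk' (H.subgroupOf L) ⟨x, hx⟩ = 1 := by
      rw [← orderOf_eq_one_iff]
      by_contra hne
      obtain ⟨r, hr', hrd⟩ := Nat.exists_prime_and_dvd hne
      refine hH2 r hr' ?_ (h r hr' ?_)
      · refine (hrd.trans (orderOf_dvd_natCard _)).trans ?_
        rw [← Subgroup.index_eq_card]
        exact Subgroup.relIndex_dvd_index_of_le le_sup_left
      · rw [show x = ((⟨x, hx⟩ : L) : G) from rfl, Subgroup.orderOf_coe]
        exact hrd.trans (orderOf_map_dvd _ _)
    exact Subgroup.mem_subgroupOf.mp ((QuotientGroup.eq_one_iff _).mp h1)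
  have hHn : H.Normal := ⟨fun h hh g => by
    refine hmax _ (hLn.conj_mem _ (Subgroup.mem_sup_left hh) g) fun r hr' hd => hH1 r hr' ?_
    have he : orderOf (g * h * g⁻¹) = orderOf h :=
      orderOf_injective (MulAut.conj g).toMonoidHom (MulAut.conj g).injective h
    rw [he] at hd
    exact hd.trans (Subgroup.orderOf_coe (⟨h, hh⟩ : H) ▸ orderOf_dvd_natCard _)⟩
  have hle : H ≤ Cfsg.piCore π G :=
    Cores.le_piCore hHn fun r hr' hd => ⟨hr', hH1 r hr' hd⟩
  refine ⟨Cfsg.piCore π G, inferInstance, fun r hr' hd => Cores.mem_of_prime_dvd_card_piCore hr' hd,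
    fun r hr' hrπ hd => hH2 r hr' (hd.trans (Subgroup.index_dvd_of_le hle)) hrπ.2⟩

end Cfsg.Agent.Lib.OddLocal
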