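import Cfsg.Agent.Lib.OddLocal.RankTwo
import Cfsg.Agent.Lib.OddLocal.PStable
import Cfsg.Agent.Lib.Cores.PCore
import Cfsg.Agent.Lib.Transfer.Basic

/-! Structure of solvable groups of odd order and `p`-rank at most two. -/

set_option autoImplicit false

open scoped commutatorElement

namespace Cfsg.Agent.Lib.OddLocal

universe u

variable {p : ℕ} [hp : Fact p.Prime]

/-- Operators with a representation by `2 × 2` matrices having no kernel of order prime to `p`. -/
theorem derived_isPGroup_of_twoDim {A : Type u} [Group A] [Finite A] [Group.IsSolvable A] (hp2 : p ≠ 2)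
    (hodd : Odd (Nat.card A)) (ψ : A →* Matrix (Fin 2) (Fin 2) (ZMod p))
    (hker : ∀ a, ψ a = 1 → (orderOf a).Coprime p → a = 1) :
    IsPGroup p (commutator A) ∧
      ∀ q : ℕ, q.Prime → q ∣ Nat.card A → q ≤ p ∧ (q = p ∨ q ∣ p - 1 ∨ q ∣ p + 1) := by
  set K := ψ.toHomUnits.ker with hK
  have hpow : ∀ a ∈ K, ∃ k : ℕ, a ^ (p ^ k) = 1 := by
    intro a ha
    have hψ : ψ a = 1 := congrArg Units.val (MonoidHom.mem_ker.mp ha)
    have hn : orderOf a ≠ 0 := (orderOf_pos a).ne'
    refine ⟨(orderOf a).factorization p, hker _ (by rw [map_pow, hψ, one_pow]) ?_⟩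
    rw [orderOf_pow_of_dvd (pow_ne_zero _ hp.out.ne_zero) (Nat.ordProj_dvd _ _)]
    exact (Nat.coprime_ordCompl hp.out hn).symm
  have hKp : IsPGroup p K := fun a => by
    obtain ⟨k, hk⟩ := hpow a a.2
    exact ⟨k, Subtype.ext hk⟩
  let f : A ⧸ K →* Matrix (Fin 2) (Fin 2) (ZMod p) :=
    (Units.coeHom _).comp (QuotientGroup.kerLift ψ.toHomUnits)
  have hf : Function.Injective f := Units.val_injective.comp (QuotientGroup.kerLift_injective _)
  have hoddX : Odd (Nat.card (A ⧸ K)) :=
    hodd.of_dvd_nat (Subgroup.card_quotient_dvd_card K)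
  refine ⟨fun c => ?_, fun q hq hqA => ?_⟩
  · have hmem : QuotientGroup.mk' K (c : A) ∈ commutator (A ⧸ K) := by
      have h : (commutator A).map (QuotientGroup.mk' K) ≤ commutator (A ⧸ K) := by
        rw [commutator_def, commutator_def, Subgroup.map_commutator]
        exact Subgroup.commutator_mono le_top le_top
      exact h ⟨c, c.2, rfl⟩
    have h := pow_eq_one_of_mem_commutator p hp2 hoddX f hf _ hmem
    rw [← map_pow, QuotientGroup.mk'_apply, QuotientGroup.eq_one_iff] at h
    obtain ⟨k, hk⟩ := hpow _ h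
    exact ⟨1 + k, Subtype.ext (by rw [pow_add, pow_one, pow_mul]; exact hk)⟩
  · by_cases hqp : q = p
    · exact ⟨hqp.le, Or.inl hqp⟩
    · have hd : q ∣ Nat.card (A ⧸ K) := by
        rw [K.card_eq_card_quotient_mul_card_subgroup] at hqA
        refine (hq.dvd_mul.mp hqA).resolve_right fun h => hqp ?_
        obtain ⟨k, hk⟩ := IsPGroup.iff_card.mp hKp
        exact (Nat.prime_dvd_prime_iff_eq hq hp.out).mp (hq.dvd_of_dvd_pow (hk ▸ h))
      have hq2 : q ≠ 2 := fun h => by
        have := hodd.of_dvd_nat hqA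
        rw [h] at this
        exact absurd this (by decide)
      exact le_of_prime_dvd_card_two p f hf hq hq2 hp2 hd

/-- Quotients by `p'`-subgroups do not increase the `p`-rank. -/
theorem pRankLE_quotient {G : Type u} [Group G] [Finite G] {k : ℕ} (N : Subgroup G) [N.Normal]
    (hN : (Nat.card N).Coprime p) (hr : Cfsg.PRankLE p k G) : Cfsg.PRankLE p k (G ⧸ N) := by
  intro B hB hBp
  have hBP : IsPGroup p B := fun b => ⟨1, Subtype.ext (by rw [pow_one]; exact hBp b b.2)⟩
  obtain ⟨e, he⟩ := IsPGroup.iff_card.mp hBP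
  have hdvd : p ^ e ∣ Nat.card (B.comap (QuotientGroup.mk' N)) := by
    rw [Cores.card_comap_mk', he]
    first
      | exact dvd_mul_left _ _
      | exact dvd_mul_right _ _
  obtain ⟨H, hH⟩ := Sylow.exists_subgroup_card_pow_prime p hdvd
  set H' := H.map (B.comap (QuotientGroup.mk' N)).subtype with hH'
  have hcard : Nat.card H' = p ^ e := by
    rw [hH', Subgroup.card_map_of_injective Subtype.val_injective, hH]
  have hinj : ∀ x ∈ H', QuotientGroup.mk' N x = 1 → x = 1 := by
    intro x hx h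
    refine Transfer.eq_one_of_isPGroup_of_coprime (IsPGroup.of_card hcard) hx ?_
    exact Transfer.coprime_orderOf_of_mem hN ((QuotientGroup.eq_one_iff x).mp h)
  have hHB : ∀ x ∈ H', QuotientGroup.mk' N x ∈ B := by
    rintro _ ⟨x, -, rfl⟩
    exact x.2
  rw [he, ← hcard]
  refine hr H' ⟨⟨fun a b => Subtype.ext (commutatorElement_eq_one_iff_mul_comm.mp ?_)⟩⟩ fun a ha => ?_
  · refine hinj _ ?_ ?_
    · exact mul_mem (mul_mem (mul_mem a.2 b.2) (inv_mem a.2)) (inv_mem b.2)
    · rw [map_commutatorElement, commutatorElement_eq_one_iff_mul_comm]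
      exact congrArg Subtype.val (hB.is_comm.comm ⟨_, hHB _ a.2⟩ ⟨_, hHB _ b.2⟩)
  · exact hinj _ (pow_mem ha p) (by rw [map_pow]; exact hBp _ (hHB a ha))

/-- `p`-structure of a solvable group of odd order and `p`-rank at most two with trivial `p'`-core. -/
theorem commutator_le_pCore_of_rank_two {X : Type u} [Group X] [Finite X] [Group.IsSolvable X]
    (hp2 : p ≠ 2) (hodd : Odd (Nat.card X)) (hX : Cfsg.pPrimeCore p X = ⊥)
    (hr : Cfsg.PRankLE p 2 X) :
    commutator X ≤ Cfsg.pCore p X ∧ (Cfsg.pCore p X).index.Coprime p ∧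
      ∀ q : ℕ, q.Prime → q ∣ Nat.card X → q ≤ p ∧ (q = p ∨ q ∣ p - 1 ∨ q ∣ p + 1) := by
  set P := Cfsg.pCore p X with hP
  have hPp : IsPGroup p P := Cores.pCore_isPGroup p X
  have hrP : Cfsg.PRankLE p 2 P := by
    intro B hB hBp
    have h := hr (B.map P.subtype) inferInstance (by
      rintro _ ⟨x, hx, rfl⟩
      rw [← map_pow, hBp x hx, map_one])
    rwa [Subgroup.card_map_of_injective Subtype.val_injective] at h
  obtain ⟨ψ, hψ⟩ := exists_twoDim hp2 hPp hrP (A := ⊤)
    (fun g _ => by rw [Subgroup.normalizer_eq_top]; trivial)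
  have hψ' : ∀ a : X, (ψ.comp Subgroup.topEquiv.symm.toMonoidHom) a = 1 → (orderOf a).Coprime p → a = 1 := by
    intro a ha hc
    have h : a ∈ P := centralizer_pCore_le hX (hψ ⟨a, trivial⟩ ha hc)
    exact Transfer.eq_one_of_isPGroup_of_coprime hPp h hc
  obtain ⟨h1, h2⟩ := derived_isPGroup_of_twoDim hp2 hodd _ hψ'
  have hc : commutator X ≤ P := Cores.le_pCore inferInstance h1
  refine ⟨hc, ?_, h2⟩
  obtain ⟨S⟩ : Nonempty (Sylow p X) := inferInstance
  have hPS : P ≤ S := Cores.pCore_le_sylow S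
  have hSn : (S : Subgroup X).Normal := ⟨fun s hs g => by
    have h : ⁅g, s⁆ ∈ (S : Subgroup X) :=
      hPS (hc (Subgroup.commutator_mem_commutator (Subgroup.mem_top g) (Subgroup.mem_top s)))
    have := mul_mem h hs
    simpa [commutatorElement_def] using this⟩
  have hSP : (S : Subgroup X) = P := le_antisymm (Cores.le_pCore hSn S.isPGroup') hPS
  rw [← hSP]
  exact (hp.out.coprime_iff_not_dvd.mpr S.not_dvd_index).symm

end Cfsg.Agent.Lib.OddLocal
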