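import Cfsg.Agent.Lib.OddLocal.Transitivity

/-! Extending transitivity from `A` to a group `P` containing it subnormally. -/

set_option autoImplicit false

open Pointwise
open scoped commutatorElement

namespace Cfsg.Agent.Lib.OddLocal

universe u

variable {G : Type u} [Group G] [Finite G]

theorem mem_invSubgroups_singleton_of_isPGroup {q : ℕ} [Fact q.Prime] {A X : Subgroup G}
    (hX : IsPGroup q X) (hAX : A ≤ Subgroup.normalizer (X : Set G)) :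
    X ∈ Cfsg.invSubgroups ⊤ A {q} := by
  refine ⟨le_top, fun r hr hd => ?_, hAX⟩
  obtain ⟨i, hi⟩ := IsPGroup.iff_card.mp hX
  exact Set.mem_singleton_iff.mpr
    ((Nat.prime_dvd_prime_iff_eq hr Fact.out).mp (hr.dvd_of_dvd_pow (hi ▸ hd)))

theorem exists_maxInv_ge' {A : Subgroup G} {π : Set ℕ} {R : Subgroup G}
    (hR : R ∈ Cfsg.invSubgroups ⊤ A π) : ∃ Q ∈ Cfsg.maxInvSubgroups ⊤ A π, R ≤ Q := by
  obtain ⟨Q, hQ, hmax⟩ := Finset.exists_max_image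
    (Set.toFinite {K : Subgroup G | K ∈ Cfsg.invSubgroups ⊤ A π ∧ R ≤ K}).toFinset
    (fun K => Nat.card K) ⟨R, (Set.Finite.mem_toFinset _).mpr ⟨hR, le_rfl⟩⟩
  rw [Set.Finite.mem_toFinset] at hQ
  exact ⟨Q, ⟨hQ.1, fun S hS hle => (Subgroup.eq_of_le_of_card_ge hle
    (hmax S ((Set.Finite.mem_toFinset _).mpr ⟨hS, hQ.2.trans hle⟩))).symm⟩, hQ.2⟩

omit [Finite G] in
theorem map_conj_mem_inv_of_normalizer {B R : Subgroup G} {π : Set ℕ} {d : G}
    (hd : d ∈ Subgroup.normalizer (B : Set G)) (hR : R ∈ Cfsg.invSubgroups ⊤ B π) :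
    R.map (MulAut.conj d).toMonoidHom ∈ Cfsg.invSubgroups ⊤ B π := by
  refine ⟨le_top, fun r hr h => hR.2.1 r hr (by
    rwa [Nat.card_congr ((R.equivMapOfInjective _ (MulAut.conj d).injective).toEquiv.symm)] at h),
    le_normalizer_of_conj_mem' ?_⟩
  rintro b hb _ ⟨z, hz, rfl⟩
  have hb' : d⁻¹ * b * d ∈ B := (Subgroup.mem_normalizer_iff''.mp hd b).mp hb
  refine ⟨(d⁻¹ * b * d) * z * (d⁻¹ * b * d)⁻¹, (Subgroup.mem_normalizer_iff.mp (hR.2.2 hb') z).mp hz, ?_⟩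
  show d * ((d⁻¹ * b * d) * z * (d⁻¹ * b * d)⁻¹) * d⁻¹ = b * (d * z * d⁻¹) * b⁻¹
  group

omit [Finite G] in
theorem map_conj_mem_maxInv_of_normalizer {B R : Subgroup G} {π : Set ℕ} {d : G}
    (hd : d ∈ Subgroup.normalizer (B : Set G)) (hR : R ∈ Cfsg.maxInvSubgroups ⊤ B π) :
    R.map (MulAut.conj d).toMonoidHom ∈ Cfsg.maxInvSubgroups ⊤ B π := by
  refine ⟨map_conj_mem_inv_of_normalizer hd hR.1, fun S hS hle => ?_⟩
  have h1 := map_conj_mem_inv_of_normalizer (inv_mem hd) hS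
  have h2 : R ≤ S.map (MulAut.conj d⁻¹).toMonoidHom := fun x hx =>
    ⟨d * x * d⁻¹, hle ⟨x, hx, rfl⟩, by simp [MulAut.conj_apply, mul_assoc]⟩
  rw [← hR.2 _ h1 h2, Subgroup.map_map]
  ext x
  simp [MulAut.conj_apply, mul_assoc]

variable (hG : Cfsg.IsMinSimpleOddOrder G) {A : Subgroup G} (hA : Cfsg.TransitivityHypothesis A)

include hG hA

theorem piCore_inf_centralizer {B : Subgroup G} (hAB : A ≤ B) :
    Cfsg.piCoreOf (Cfsg.primesNotDvd (Nat.card A)) (Subgroup.centralizer (A : Set G)) ⊓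
        Subgroup.centralizer (B : Set G) =
      Cfsg.piCoreOf (Cfsg.primesNotDvd (Nat.card A)) (Subgroup.centralizer (B : Set G)) := by
  have hC : Subgroup.centralizer (B : Set G) ≤ Subgroup.centralizer (A : Set G) :=
    Subgroup.centralizer_le hAB
  refine le_antisymm ?_ (le_inf ?_ (piCoreOf_le _ _))
  · exact le_piCoreOf inf_le_right (le_trans (le_inf (hC.trans (le_normalizer_piCoreOf _ _))
      Subgroup.le_normalizer) Subgroup.inf_normalizer_le_normalizer_inf)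
      fun r hr h => mem_of_prime_dvd_card_piCoreOf hr (h.trans (Subgroup.card_dvd_of_le inf_le_left))
  · exact centralizing_inv_le_piCoreOf hG hA ((piCoreOf_le _ _).trans hC)
      fun r hr h => mem_of_prime_dvd_card_piCoreOf hr h

variable {q : ℕ} [Fact q.Prime] (hqA : ¬ q ∣ Nat.card A)

include hqA

theorem maxInv_of_ne_bot {P : Subgroup G} (hP : P ≠ ⊤) (hAP : A ≤ P)
    (hPπ : ∀ r : ℕ, r.Prime → r ∣ Nat.card P → r ∣ Nat.card A) {Q : Subgroup G}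
    (hQ : Q ∈ Cfsg.maxInvSubgroups ⊤ P {q}) (hQ1 : Q ≠ ⊥) :
    Q ∈ Cfsg.maxInvSubgroups ⊤ A {q} := by
  refine ⟨⟨le_top, hQ.1.2.1, hAP.trans hQ.1.2.2⟩, fun R hR hQR => ?_⟩
  set π := Cfsg.primesNotDvd (Nat.card A)
  have hQq : IsPGroup q Q := isPGroup_of_mem_inv hQ.1
  set N := Subgroup.normalizer (Q : Set G) with hN
  have hNt : N ≠ ⊤ := normalizer_ne_top hG hQ1 (eq_top_of_isPGroup_absurd hG hQq)
  have hAN : A ≤ N := hAP.trans hQ.1.2.2
  set D := Cfsg.piCoreOf π N with hD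
  have hle : ∀ V : Subgroup G, V ≤ N → A ≤ Subgroup.normalizer (V : Set G) → IsPGroup q V → V ≤ D := by
    intro V hVN hAV hV
    have : V ∈ Cfsg.invSubgroups N A π := ⟨hVN, fun r hr hd =>
      (Set.mem_singleton_iff.mp ((mem_invSubgroups_singleton_of_isPGroup hV hAV).2.1 r hr hd)) ▸
        ⟨Fact.out, hqA⟩, hAV⟩
    exact (le_sSup this).trans (le_of_eq (hA.2.2 N hNt hAN))
  have hPD : P ≤ Subgroup.normalizer (D : Set G) := hQ.1.2.2.trans (le_normalizer_piCoreOf π N)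
  have hcop : (Nat.card P).Coprime (Nat.card D) :=
    Nat.coprime_of_dvd fun r hr h1 h2 => (mem_of_prime_dvd_card_piCoreOf hr h2).2 (hPπ r hr h1)
  obtain ⟨S, hS, hSP⟩ := Cfsg.Agent.Lib.Coprime.exists_invariant_sylow_ge hPD hcop
    (Or.inl (hG.2.2.2 P hP)) q Q (hle Q Subgroup.le_normalizer (hAP.trans hQ.1.2.2) hQq) hQq hQ.1.2.2
  have hSQ : (S : Subgroup D).map D.subtype = Q :=
    hQ.2 _ (mem_invSubgroups_singleton_of_isPGroup (S.isPGroup'.map _) hSP) hS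
  by_contra hne
  have hRq : IsPGroup q R := isPGroup_of_mem_inv hR
  refine exists_mem_normalizer_not_mem hRq (lt_of_le_of_ne hQR (Ne.symm hne)) ?_
  set V := N ⊓ R with hV
  have hVA : A ≤ Subgroup.normalizer (V : Set G) :=
    le_trans (le_inf (hAN.trans Subgroup.le_normalizer) hR.2.2) Subgroup.inf_normalizer_le_normalizer_inf
  have hVD : V ≤ D := hle V inf_le_left hVA (hRq.to_le inf_le_right)
  have hSV : (S : Subgroup D) ≤ V.subgroupOf D := fun z hz => by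
    have hzQ : (z : G) ∈ Q := hSQ ▸ Subgroup.mem_map_of_mem _ hz
    exact ⟨Subgroup.le_normalizer hzQ, hQR hzQ⟩
  have heq := S.is_maximal' ((hRq.to_le inf_le_right).of_equiv
    (Subgroup.subgroupOfEquivOfLe hVD).symm) hSV
  intro z hz
  rw [← hSQ, ← heq]
  exact ⟨⟨z, hVD hz⟩, hz, rfl⟩

/-- The inductive step along a subnormal chain. -/
theorem transitivity_step {B D P : Subgroup G} (hP : P ≠ ⊤)
    (hPπ : ∀ r : ℕ, r.Prime → r ∣ Nat.card P → r ∣ Nat.card A) (hAB : A ≤ B) (hBD : B ≤ D)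
    (hDP : D ≤ P) (hDB : D ≤ Subgroup.normalizer (B : Set G))
    (htr : ∀ Q₁ ∈ Cfsg.maxInvSubgroups ⊤ B {q}, ∀ Q₂ ∈ Cfsg.maxInvSubgroups ⊤ B {q},
      ∃ k ∈ Cfsg.piCoreOf (Cfsg.primesNotDvd (Nat.card A)) (Subgroup.centralizer (B : Set G)),
        Q₂ = Q₁.map (MulAut.conj k).toMonoidHom)
    (hsub : Cfsg.maxInvSubgroups ⊤ B {q} ⊆ Cfsg.maxInvSubgroups ⊤ A {q}) :
    (∀ Q₁ ∈ Cfsg.maxInvSubgroups ⊤ D {q}, ∀ Q₂ ∈ Cfsg.maxInvSubgroups ⊤ D {q},
      ∃ k ∈ Cfsg.piCoreOf (Cfsg.primesNotDvd (Nat.card A)) (Subgroup.centralizer (D : Set G)),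
        Q₂ = Q₁.map (MulAut.conj k).toMonoidHom) ∧
    Cfsg.maxInvSubgroups ⊤ D {q} ⊆ Cfsg.maxInvSubgroups ⊤ A {q} := by
  set π := Cfsg.primesNotDvd (Nat.card A)
  set C := Subgroup.centralizer (B : Set G)
  set K := Cfsg.piCoreOf π C with hK
  have hDt : D ≠ ⊤ := fun e => hP (top_le_iff.mp (e ▸ hDP))
  have hDπ : ∀ r : ℕ, r.Prime → r ∣ Nat.card D → r ∣ Nat.card A := fun r hr hd =>
    hPπ r hr (hd.trans (Subgroup.card_dvd_of_le hDP))
  have hCn : D ≤ Subgroup.normalizer (C : Set G) := fun d hd => by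
    refine Subgroup.mem_normalizer_iff.mpr fun x => ?_
    simp only [C, Subgroup.mem_centralizer_iff]
    constructor
    · intro h b hb
      have := h (d⁻¹ * b * d) ((Subgroup.mem_normalizer_iff''.mp (hDB hd) b).mp hb)
      calc b * (d * x * d⁻¹) = d * ((d⁻¹ * b * d) * x) * d⁻¹ := by group
        _ = d * (x * (d⁻¹ * b * d)) * d⁻¹ := by rw [this]
        _ = _ := by group
    · intro h b hb
      have := h (d * b * d⁻¹) ((Subgroup.mem_normalizer_iff.mp (hDB hd) b).mp hb)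
      calc b * x = d⁻¹ * ((d * b * d⁻¹) * (d * x * d⁻¹)) * d := by group
        _ = d⁻¹ * ((d * x * d⁻¹) * (d * b * d⁻¹)) * d := by rw [this]
        _ = _ := by group
  have hDK : D ≤ Subgroup.normalizer (K : Set G) :=
    hCn.trans (Cfsg.Agent.Lib.Cores.normalizer_le_normalizer_map_subtype C _)
  have hcop : (Nat.card D).Coprime (Nat.card K) :=
    Nat.coprime_of_dvd fun r hr h1 h2 => (mem_of_prime_dvd_card_piCoreOf hr h2).2 (hDπ r hr h1)
  have hsolv : Group.IsSolvable D := hG.2.2.2 D hDt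
  let act : MulAction G (Subgroup G) := Cfsg.Agent.Lib.Coprime.conjActionSubgroup G
  obtain ⟨R, hR, -⟩ := exists_maxInv_ge' (A := B) (π := ({q} : Set ℕ))
    (mem_invSubgroups_singleton_of_isPGroup (IsPGroup.of_bot) (by
      rw [Subgroup.normalizer_eq_top]; exact le_top))
  obtain ⟨k, hk, hfix⟩ := Cfsg.Agent.Lib.Coprime.exists_fixed_smul hDK hcop (Or.inl hsolv) R
    (fun d hd => by
      obtain ⟨k, hk, e⟩ := htr R hR _ (map_conj_mem_maxInv_of_normalizer (hDB hd) hR)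
      exact ⟨k, hk, e⟩)
  set R' := R.map (MulAut.conj k).toMonoidHom with hR'
  have hR'B : R' ∈ Cfsg.maxInvSubgroups ⊤ B {q} :=
    map_conj_mem_maxInv hR (piCoreOf_le _ _ hk)
  have hR'D : R' ∈ Cfsg.invSubgroups ⊤ D {q} :=
    ⟨le_top, hR'B.1.2.1, fun d hd =>
      Cfsg.Agent.Lib.Coprime.mem_normalizer_of_conj_smul_eq (hfix d hd)⟩
  have hmemB : ∀ Q ∈ Cfsg.maxInvSubgroups ⊤ D {q},
      Q ∈ Cfsg.maxInvSubgroups ⊤ B {q} ∧ Q ∈ Cfsg.maxInvSubgroups ⊤ A {q} := by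
    intro Q hQ
    by_cases hQ1 : Q = ⊥
    · have h1 : R' = Q := hQ.2 R' hR'D (hQ1 ▸ bot_le)
      exact ⟨h1 ▸ hR'B, hsub (h1 ▸ hR'B)⟩
    · have h1 := maxInv_of_ne_bot hG hA hqA hDt (hAB.trans hBD) hDπ hQ hQ1
      exact ⟨⟨⟨le_top, hQ.1.2.1, hBD.trans hQ.1.2.2⟩, fun S hS hle =>
        h1.2 S ⟨le_top, hS.2.1, hAB.trans hS.2.2⟩ hle⟩, h1⟩
  refine ⟨fun Q₁ h₁ Q₂ h₂ => ?_, fun Q hQ => (hmemB Q hQ).2⟩
  obtain ⟨j, hj, e⟩ := htr Q₁ (hmemB Q₁ h₁).1 Q₂ (hmemB Q₂ h₂).1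
  obtain ⟨c, hcK, hcD, hc⟩ := Cfsg.Agent.Lib.Coprime.exists_centralizer_smul_eq hDK hcop
    (Or.inl hsolv) Q₁ Q₂
    (fun d hd => Cfsg.Agent.Lib.Coprime.conj_smul_eq_of_mem_normalizer (h₁.1.2.2 hd))
    (fun d hd => Cfsg.Agent.Lib.Coprime.conj_smul_eq_of_mem_normalizer (h₂.1.2.2 hd))
    ⟨j, hj, e.symm⟩
  refine ⟨c, ?_, hc.symm⟩
  rw [hK, ← piCore_inf_centralizer hG hA hAB] at hcK
  rw [← piCore_inf_centralizer hG hA (hAB.trans hBD)]
  exact ⟨hcK.1, hcD⟩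

end Cfsg.Agent.Lib.OddLocal
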