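import Cfsg.Prelude.Def_Local
import Cfsg.Agent.Lib.Coprime.Basic

/-! The `p`-core and `p'`-core of a finite group, and the upper `p`-series. -/

set_option autoImplicit false

namespace Cfsg.Agent.Lib.OddLocal

open Subgroup
open Cfsg.Agent.Lib.Coprime (card_sup_mul_card_inf)

universe u

variable {G : Type u} [Group G] [Finite G]

theorem sSup_mem_of_sup_closed {s : Set (Subgroup G)} (h0 : ⊥ ∈ s)
    (hsup : ∀ A ∈ s, ∀ B ∈ s, A ⊔ B ∈ s) : sSup s ∈ s := by
  have hs : s.Finite := Set.toFinite s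
  suffices h : ∀ t : Set (Subgroup G), t ⊆ s → sSup t ∈ s from h s subset_rfl
  intro t ht
  induction t, hs.subset ht using Set.Finite.induction_on with
  | empty => simpa using h0
  | @insert a t _ _ ih =>
    rw [sSup_insert]
    exact hsup a (ht (Set.mem_insert a t)) _ (ih ((Set.subset_insert a t).trans ht))

theorem isPGroup_pCore_odl (p : ℕ) [Fact p.Prime] : IsPGroup p (Cfsg.pCore p G) :=
  (sSup_mem_of_sup_closed (s := {N : Subgroup G | N.Normal ∧ IsPGroup p N})
    ⟨inferInstance, IsPGroup.of_bot⟩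
    fun A hA B hB => by
      haveI := hA.1; haveI := hB.1
      exact ⟨Subgroup.sup_normal A B, hA.2.to_sup_of_normal_right hB.2⟩).2

theorem coprime_card_pPrimeCore_odl (p : ℕ) : (Nat.card (Cfsg.pPrimeCore p G)).Coprime p :=
  (sSup_mem_of_sup_closed (s := {N : Subgroup G | N.Normal ∧ (Nat.card N).Coprime p})
    ⟨inferInstance, by simp⟩
    fun A hA B hB => by
      haveI := hA.1; haveI := hB.1
      refine ⟨Subgroup.sup_normal A B, (hA.2.mul_left hB.2).coprime_dvd_left ?_⟩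
      exact Dvd.intro _ (card_sup_mul_card_inf (N := A) (H := B) le_normalizer_of_normal)).2

theorem le_pCore_odl {p : ℕ} {N : Subgroup G} (hn : N.Normal) (hp : IsPGroup p N) :
    N ≤ Cfsg.pCore p G := le_sSup ⟨hn, hp⟩

theorem le_pPrimeCore_odl {p : ℕ} {N : Subgroup G} (hn : N.Normal)
    (hp : (Nat.card N).Coprime p) : N ≤ Cfsg.pPrimeCore p G := le_sSup ⟨hn, hp⟩

omit [Finite G] in
theorem card_map_mk'_mul (N X : Subgroup G) [N.Normal] (h : N ≤ X) :
    Nat.card (X.map (QuotientGroup.mk' N)) * Nat.card N = Nat.card X := by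
  have h1 := Subgroup.relIndex_map_map (QuotientGroup.mk' N) (⊥ : Subgroup G) X
  rw [Subgroup.map_bot, relIndex_bot_left, bot_sup_eq, QuotientGroup.ker_mk', sup_eq_left.mpr h] at h1
  rw [h1, mul_comm, ← relIndex_bot_left (H := N), ← relIndex_bot_left (H := X)]
  exact relIndex_mul_relIndex _ _ _ bot_le h

/-- A group of `p`-length at most one is a `p'`-normal subgroup times a Sylow normalizer. -/
theorem exists_of_pLengthLE_one {p : ℕ} [hp : Fact p.Prime] (h : Cfsg.PLengthLE p 1 G)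
    (S : Sylow p G) :
    ∃ K : Subgroup G, K.Normal ∧ (Nat.card K).Coprime p ∧ (K ⊔ (S : Subgroup G)).Normal ∧
      K ⊔ normalizer ((S : Subgroup G) : Set G) = ⊤ ∧ K ≤ Cfsg.pPrimeCore p G := by
  have e1 : (Cfsg.upperPSeries p G 1).1 =
      (Cfsg.pPrimeCore p (G ⧸ (⊥ : Subgroup G))).comap (QuotientGroup.mk' ⊥) := rfl
  have e2 : (Cfsg.upperPSeries p G 2).1 = (Cfsg.pCore p (G ⧸ (Cfsg.upperPSeries p G 1).1)).comap
      (QuotientGroup.mk' (Cfsg.upperPSeries p G 1).1) := rfl
  have e3 : (Cfsg.upperPSeries p G 3).1 =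
      (Cfsg.pPrimeCore p (G ⧸ (Cfsg.upperPSeries p G 2).1)).comap
      (QuotientGroup.mk' (Cfsg.upperPSeries p G 2).1) := rfl
  obtain ⟨K, hKdef⟩ : ∃ K, (Cfsg.upperPSeries p G 1).1 = K := ⟨_, rfl⟩
  have hKn : K.Normal := hKdef ▸ (Cfsg.upperPSeries p G 1).2
  have hKcop : (Nat.card K).Coprime p := by
    have hb : (⊥ : Subgroup G) ≤ K := bot_le
    have hc := card_map_mk'_mul ⊥ K hb
    rw [← hKdef, e1, map_comap_eq_self_of_surjective (QuotientGroup.mk'_surjective _),
      card_bot, mul_one, ← e1, hKdef] at hc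
    rw [← hc]
    exact coprime_card_pPrimeCore_odl p
  obtain ⟨X, hXdef⟩ : ∃ X, (Cfsg.upperPSeries p G 2).1 = X := ⟨_, rfl⟩
  have hXn : X.Normal := hXdef ▸ (Cfsg.upperPSeries p G 2).2
  have hKX : K ≤ X := by
    rw [← hKdef, ← hXdef, e2]
    intro x hx
    rw [mem_comap, QuotientGroup.mk'_apply, (QuotientGroup.eq_one_iff x).mpr hx]
    exact one_mem _
  obtain ⟨m, hm⟩ : ∃ m, Nat.card X = p ^ m * Nat.card K := by
    obtain ⟨m, hm⟩ := (isPGroup_pCore_odl (G := G ⧸ (Cfsg.upperPSeries p G 1).1) p).exists_card_eq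
    refine ⟨m, ?_⟩
    have := card_map_mk'_mul _ _ (hKdef.symm ▸ hKX : (Cfsg.upperPSeries p G 1).1 ≤ X)
    rw [← hXdef, e2, map_comap_eq_self_of_surjective (QuotientGroup.mk'_surjective _), hm] at this
    rw [← hXdef, e2, ← this, hKdef]
  have hXi : X.index.Coprime p := by
    unfold Cfsg.PLengthLE at h
    rw [show 2 * 1 + 1 = 3 from rfl, e3, ← comap_top (QuotientGroup.mk' (Cfsg.upperPSeries p G 2).1)] at h
    have h' := comap_injective (QuotientGroup.mk'_surjective _) h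
    have := coprime_card_pPrimeCore_odl (G := G ⧸ (Cfsg.upperPSeries p G 2).1) p
    rw [h', card_top] at this
    rw [← hXdef]; exact this
  have hSX : (S : Subgroup G) ≤ X := by
    intro x hx
    haveI := hXn
    rw [← QuotientGroup.eq_one_iff (N := X)]
    obtain ⟨k, hk⟩ := (S.2.map (QuotientGroup.mk' X)) ⟨_, mem_map_of_mem _ hx⟩
    have hk' : (QuotientGroup.mk' X x) ^ p ^ k = 1 := congrArg Subtype.val hk
    exact orderOf_eq_one_iff.mp (Nat.eq_one_of_dvd_coprimes (hXi.pow_right k)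
      (orderOf_dvd_natCard _) (orderOf_dvd_of_pow_eq_one hk'))
  have hcopS : (Nat.card K).Coprime (Nat.card S) := by
    obtain ⟨j, hj⟩ := S.2.exists_card_eq
    rw [hj]; exact hKcop.pow_right j
  have hKS : K ⊔ (S : Subgroup G) = X := by
    refine Subgroup.eq_of_le_of_card_ge (sup_le hKX hSX) ?_
    rw [Cfsg.Agent.Lib.Coprime.card_sup_of_coprime le_normalizer_of_normal hcopS, hm, mul_comm]
    refine Nat.mul_le_mul_left _ (Nat.le_of_dvd Nat.card_pos ?_)
    have hd : p ^ m ∣ Nat.card G :=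
      dvd_trans (Dvd.intro _ hm.symm) (Subgroup.card_subgroup_dvd_card X)
    exact S.pow_dvd_card_of_pow_dvd_card hd
  refine ⟨K, hKn, hKcop, hKS.symm ▸ hXn, ?_, le_pPrimeCore_odl hKn hKcop⟩
  have hfr := Sylow.normalizer_sup_eq_top (S.subtype hSX)
  rw [show ((S.subtype hSX : Sylow p X) : Subgroup X).map X.subtype = (S : Subgroup G) by
    rw [Sylow.coe_subtype, map_subgroupOf_eq_of_le hSX]] at hfr
  rw [← top_le_iff, ← hfr, ← hKS]
  exact sup_le le_sup_right (sup_le le_sup_left (le_normalizer.trans le_sup_right))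

end Cfsg.Agent.Lib.OddLocal
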