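import Cfsg.Agent.Lib.OddLocal.TransitivityThm
import Cfsg.Agent.Lib.Components.Local
import Cfsg.Agent.Lib.OddLocal.PCore
import Cfsg.Agent.Lib.Transfer.AbelianSylow

/-! Sufficient conditions for the transitivity hypothesis. -/

set_option autoImplicit false

open scoped commutatorElement

namespace Cfsg.Agent.Lib.OddLocal

universe u

variable {G : Type u} [Group G] [Finite G] {p : ℕ} [Fact p.Prime]

/-- A fixed point of a `p`-group on `O_p` of the quotient by the `p'`-core lifts to a centralizing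
`p`-element. -/
theorem exists_lift_fixed {A : Subgroup G} (hA : IsPGroup p A) {w : G ⧸ Cfsg.pPrimeCore p G}
    (hw : w ∈ Cfsg.pCore p (G ⧸ Cfsg.pPrimeCore p G))
    (hfix : w ∈ Subgroup.centralizer
      ((A.map (QuotientGroup.mk' (Cfsg.pPrimeCore p G)) : Subgroup (G ⧸ Cfsg.pPrimeCore p G)) :
        Set (G ⧸ Cfsg.pPrimeCore p G))) :
    ∃ z ∈ Subgroup.centralizer (A : Set G), IsPGroup p (Subgroup.zpowers z) ∧
      QuotientGroup.mk' (Cfsg.pPrimeCore p G) z = w := by
  obtain ⟨x, rfl⟩ := QuotientGroup.mk'_surjective (Cfsg.pPrimeCore p G) w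
  set N := Cfsg.pPrimeCore p G with hN
  set f := QuotientGroup.mk' N with hf
  obtain ⟨i, hi⟩ := IsPGroup.iff_card.mp hA
  have hAsolv : Group.IsSolvable A := (have := hA.isNilpotent; inferInstance)
  obtain ⟨n, hn, hnC⟩ := Coprime.exists_mem_centralizer_of_fixed_coset (A := A) (N := N)
    Subgroup.le_normalizer_of_normal
    (hi ▸ ((Cores.pPrimeCore_coprime p G).pow_right i).symm) (Or.inl hAsolv)
    (Subgroup.le_normalizer_of_normal (H := N) (K := ⊤) trivial)
    (fun e he => (QuotientGroup.eq_one_iff _).mp (by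
      show f (e * x * e⁻¹ * x⁻¹) = 1
      rw [map_mul, map_mul, map_mul, map_inv, map_inv,
        Subgroup.mem_centralizer_iff.mp hfix _ (Subgroup.mem_map_of_mem f he), mul_inv_cancel_right]
      exact mul_inv_cancel _))
  have hfy : f (x * n) = f x := by
    rw [map_mul, show f n = 1 from (QuotientGroup.eq_one_iff n).mpr hn, mul_one]
  obtain ⟨j, hj⟩ := IsPGroup.iff_orderOf.mp (Cores.pCore_isPGroup p (G ⧸ N)) ⟨_, hw⟩
  replace hj : orderOf (f x) = p ^ j := by rw [← hj]; exact Subgroup.orderOf_coe ⟨_, hw⟩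
  set y := x * n with hy
  set r := orderOf y / p ^ (orderOf y).factorization p with hr
  have hrp : r.Coprime (orderOf (f y)) := by
    rw [hfy, hj]
    exact (Nat.coprime_ordCompl Fact.out (orderOf_pos y).ne').symm.pow_right j
  obtain ⟨m, hm⟩ := exists_pow_eq_self_of_coprime hrp
  refine ⟨(y ^ r) ^ m, pow_mem (pow_mem hnC r) m, ?_, by rw [map_pow, map_pow, hm, hfy]⟩
  have h1 : IsPGroup p (Subgroup.zpowers (y ^ r)) :=
    IsPGroup.of_card (n := (orderOf y).factorization p) (by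
      rw [Nat.card_zpowers]; exact orderOf_pPart p y)
  exact h1.to_le (Subgroup.zpowers_le.mpr (pow_mem (Subgroup.mem_zpowers _) m))

/-- In a constrained group of `p`-length one, `p'`-subgroups invariant under `A = Ω₁(C(A))` lie in
the `p'`-core. -/
theorem le_pPrimeCore_of_omega (hp : p ≠ 2) (hcon : Cfsg.IsPConstrained p G)
    (hlen : Cfsg.PLengthLE p 1 G) {A Q : Subgroup G} (hA : IsPGroup p A)
    (hfull : ∀ x ∈ Subgroup.centralizer (A : Set G), x ^ p = 1 → x ∈ A)
    (hAQ : A ≤ Subgroup.normalizer (Q : Set G)) (hQ : (Nat.card Q).Coprime p) :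
    Q ≤ Cfsg.pPrimeCore p G := by
  set N := Cfsg.pPrimeCore p G with hN
  set f := QuotientGroup.mk' N with hf
  set P := Cfsg.pCore p (G ⧸ N) with hP
  have hPp : IsPGroup p P := Cores.pCore_isPGroup p _
  have hPc : Subgroup.centralizer (P : Set (G ⧸ N)) ≤ P := by
    obtain ⟨S⟩ : Nonempty (Sylow p (Cfsg.pPrimePCore p G)) := inferInstance
    rw [← Subgroup.comap_le_comap_of_surjective (QuotientGroup.mk'_surjective N),
      Components.comap_centralizer_pCore_quotient p S]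
    exact sup_le (hcon S) (Components.pPrimeCore_le_pPrimePCore p)
  have hall : ∀ T : Subgroup G, IsPGroup p T → T.map f ≤ P := by
    intro T hT
    obtain ⟨S, hTS⟩ := hT.exists_le_sylow
    obtain ⟨K, -, -, hKS, -, hKN⟩ := exists_of_pLengthLE_one hlen S
    refine (Subgroup.map_mono hTS).trans (Cores.le_pCore ?_ (S.isPGroup'.map f))
    have h1 : (K ⊔ (S : Subgroup G)).map f = (S : Subgroup G).map f := by
      rw [Subgroup.map_sup, (Subgroup.map_eq_bot_iff K).mpr (by rw [hf, QuotientGroup.ker_mk']; exact hKN),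
        bot_sup_eq]
    rw [← h1]
    exact hKS.map f (QuotientGroup.mk'_surjective N)
  have hQf : (Nat.card (Q.map f)).Coprime p := hQ.coprime_dvd_left (Subgroup.card_map_dvd _ _)
  have hPA : A.map f ≤ Subgroup.normalizer (P : Set (G ⧸ N)) := Subgroup.le_normalizer_of_normal
  have hPQ : Q.map f ≤ Subgroup.normalizer (P : Set (G ⧸ N)) := Subgroup.le_normalizer_of_normal
  have hAQf : A.map f ≤ Subgroup.normalizer ((Q.map f : Subgroup (G ⧸ N)) : Set (G ⧸ N)) :=
    (Subgroup.map_mono hAQ).trans (Subgroup.le_normalizer_map f)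
  have hPQbot : P ⊓ Q.map f = ⊥ := by
    obtain ⟨n, hn⟩ := IsPGroup.iff_card.mp hPp
    exact Coprime.inf_eq_bot_of_coprime_card (hn ▸ (hQf.pow_right n).symm)
  have hQA : Q.map f ≤ Subgroup.centralizer ((A.map f : Subgroup (G ⧸ N)) : Set (G ⧸ N)) := by
    intro q hq
    rw [Subgroup.mem_centralizer_iff]
    intro w hw
    have h1 : ⁅q, w⁆ ∈ P ⊓ Q.map f := by
      refine ⟨P.mul_mem ((Subgroup.mem_normalizer_iff.mp (hPQ hq) w).mp (hall A hA hw))
        (P.inv_mem (hall A hA hw)), ?_⟩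
      have h2 := (Q.map f).mul_mem hq
        ((Subgroup.mem_normalizer_iff.mp (hAQf hw) _).mp (inv_mem hq))
      simpa [commutatorElement_def, mul_assoc] using h2
    rw [hPQbot, Subgroup.mem_bot, commutatorElement_eq_one_iff_mul_comm] at h1
    exact h1.symm
  set C := P ⊓ Subgroup.centralizer ((A.map f : Subgroup (G ⧸ N)) : Set (G ⧸ N)) with hC
  have hQC : Q.map f ≤ Subgroup.normalizer (C : Set (G ⧸ N)) :=
    le_trans (le_inf hPQ (hQA.trans Subgroup.le_normalizer))
      Subgroup.inf_normalizer_le_normalizer_inf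
  have hQCc : Q.map f ≤ Subgroup.centralizer (C : Set (G ⧸ N)) := by
    refine le_centralizer_of_fixes_pow_eq_one hp hQf C (hPp.to_le inf_le_left) hQC fun x hx hxp => ?_
    obtain ⟨z, hzC, hzp, hzx⟩ := exists_lift_fixed hA hx.1 hx.2
    have hzN : z ^ p ∈ N :=
      (QuotientGroup.eq_one_iff _).mp (show f (z ^ p) = 1 by rw [map_pow, hzx, hxp])
    have hz1 : z ^ p = 1 := by
      have h1 : z ^ p ∈ Subgroup.zpowers z ⊓ N := ⟨pow_mem (Subgroup.mem_zpowers z) p, hzN⟩
      rwa [Components.isPGroup_inf_pPrimeCore_eq_bot hzp, Subgroup.mem_bot] at h1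
    intro q hq
    exact Subgroup.mem_centralizer_singleton_iff.mpr (Subgroup.mem_centralizer_iff.mp (hQA hq) x
      (hzx ▸ Subgroup.mem_map_of_mem f (hfull z hzC hz1))).symm
  have key : Q.map f ≤ Subgroup.centralizer (P : Set (G ⧸ N)) :=
    Coprime.le_centralizer_of_PxQ (hA.map f) hQf hPp (Subgroup.le_centralizer_iff.mp hQA) hPA hPQ
      (Subgroup.le_centralizer_iff.mp hQCc)
  intro q hq
  have h1 : f q ∈ P ⊓ Q.map f := ⟨hPc (key (Subgroup.mem_map_of_mem f hq)), Subgroup.mem_map_of_mem f hq⟩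
  rw [hPQbot, Subgroup.mem_bot] at h1
  exact (QuotientGroup.eq_one_iff q).mp h1

/-- From cores of proper subgroups to the transitivity hypothesis. -/
theorem transitivityHypothesis_of_le_pPrimeCore {A : Subgroup G} (hA : IsPGroup p A) (hA1 : A ≠ ⊥)
    (hAt : A ≠ ⊤)
    (h : ∀ X : Subgroup G, X ≠ ⊤ → ∀ _hAX : A ≤ X, ∀ Y : Subgroup X,
      A.subgroupOf X ≤ Subgroup.normalizer (Y : Set X) → (Nat.card Y).Coprime p →
      Y ≤ Cfsg.pPrimeCore p X) :
    Cfsg.TransitivityHypothesis A := by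
  have hpA : p ∣ Nat.card A := by
    obtain ⟨n, hn⟩ := IsPGroup.iff_card.mp hA
    have hn0 : n ≠ 0 := fun e => hA1 (Subgroup.card_eq_one.mp (by rw [hn, e, pow_zero]))
    exact hn ▸ dvd_pow_self p hn0
  refine ⟨hA1, hAt, fun X hX hAX => le_antisymm (sSup_le ?_) (le_sSup ⟨piCoreOf_le _ X,
    fun r hr hd => mem_of_prime_dvd_card_piCoreOf hr hd, hAX.trans (le_normalizer_piCoreOf _ X)⟩)⟩
  rintro Y ⟨hYX, hYπ, hAY⟩
  have h1 : Y.subgroupOf X ≤ Cfsg.pPrimeCore p X := by
    refine h X hX hAX _ (fun e he => Subgroup.mem_normalizer_iff.mpr fun y =>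
      Subgroup.mem_normalizer_iff.mp (hAY he) y) ?_
    rw [Nat.card_congr (Subgroup.subgroupOfEquivOfLe hYX).toEquiv, Nat.coprime_comm,
      (Fact.out : p.Prime).coprime_iff_not_dvd]
    exact fun hd => (hYπ p Fact.out hd).2 hpA
  have h2 : Cfsg.pPrimeCore p X ≤ Cfsg.piCore (Cfsg.primesNotDvd (Nat.card A)) X :=
    Cores.le_piCore inferInstance fun q hq hd => ⟨hq, fun hqA => by
      obtain ⟨n, hn⟩ := IsPGroup.iff_card.mp hA
      have he := (Nat.prime_dvd_prime_iff_eq hq Fact.out).mp (hq.dvd_of_dvd_pow (hn ▸ hqA))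
      subst he
      exact hq.not_dvd_one ((Cores.pPrimeCore_coprime q X) ▸ Nat.dvd_gcd hd dvd_rfl)⟩
  intro y hy
  exact ⟨⟨y, hYX hy⟩, h2 (h1 hy), rfl⟩

/-- An abelian subgroup self-centralizing and normal in a Sylow subgroup contains every `p`-element
of its centralizer. -/
theorem mem_of_centralizer_of_isSCN (S : Sylow p G) {A : Subgroup G} (hAc : IsMulCommutative A)
    (hA : Cfsg.IsSCN (S : Subgroup G) A) {x : G} (hx : x ∈ Subgroup.centralizer (A : Set G))
    (hxp : IsPGroup p (Subgroup.zpowers x)) : x ∈ A := by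
  obtain ⟨hAS, hSA, heq⟩ := hA
  set C := Subgroup.centralizer (A : Set G) with hC
  have hAC : A ≤ C := fun a ha => Subgroup.mem_centralizer_iff.mpr fun b hb =>
    congrArg Subtype.val (hAc.is_comm.comm ⟨b, hb⟩ ⟨a, ha⟩)
  set M := Subgroup.normalizer (A : Set G) with hM
  have hCM : C ≤ M := Subgroup.centralizer_le_normalizer _
  have hCn : (C.subgroupOf M).Normal := by
    refine ⟨fun y hy g => ?_⟩
    rw [Subgroup.mem_subgroupOf, hC, Subgroup.mem_centralizer_iff] at hy ⊢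
    intro a ha
    have h1 := hy ((g : G)⁻¹ * a * g) ((Subgroup.mem_normalizer_iff''.mp g.2 a).mp ha)
    push_cast
    calc a * ((g : G) * y * (g : G)⁻¹) = g * (((g : G)⁻¹ * a * g) * y) * (g : G)⁻¹ := by group
      _ = g * ((y : G) * ((g : G)⁻¹ * a * g)) * (g : G)⁻¹ := by rw [h1]
      _ = _ := by group
  obtain ⟨T, hT⟩ := (hxp.of_equiv
    (Subgroup.subgroupOfEquivOfLe (Subgroup.zpowers_le.mpr (hCM hx))).symm).exists_le_sylow
  obtain ⟨g, hg⟩ := MulAction.exists_smul_eq M T (S.subtype hSA)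
  have h2 : (g : M) * ⟨x, hCM hx⟩ * g⁻¹ ∈ ((S.subtype hSA : Sylow p M) : Subgroup M) := by
    rw [← hg, Sylow.coe_subgroup_smul, Subgroup.mem_pointwise_smul_iff_inv_smul_mem]
    simpa [mul_assoc] using hT (show (⟨x, hCM hx⟩ : M) ∈ (Subgroup.zpowers x).subgroupOf M from
      Subgroup.mem_zpowers x)
  have h3 : ((g : M) * ⟨x, hCM hx⟩ * g⁻¹ : M) ∈ C.subgroupOf M := hCn.conj_mem ⟨x, hCM hx⟩ hx g
  have h4 : (g : G) * x * (g : G)⁻¹ ∈ A := heq.le ⟨h2, h3⟩
  exact (Subgroup.mem_normalizer_iff.mp g.2 x).mpr h4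

end Cfsg.Agent.Lib.OddLocal
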