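import Cfsg.Agent.Lib.OddLocal.InvariantPPrime
import Cfsg.Agent.Lib.OddLocal.OmegaExtend
import Cfsg.Agent.Lib.OddLocal.RankTwoStructure
import Cfsg.Agent.Lib.OddLocal.RankTwoFitting
import Cfsg.Agent.Lib.OddLocal.TransitivityHyp
import Cfsg.Agent.Lib.OddLocal.TransitivityThm
import Cfsg.Agent.Lib.OddLocal.TransitivityExt
import Cfsg.Agent.Lib.Components.Local
import Cfsg.Agent.Lib.Coprime.Generation
import Cfsg.Agent.S1457
import Cfsg.Agent.S1458

/-! Uniqueness of the maximal subgroup over a noncyclic elementary abelian `p`-subgroup (Bender). -/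

set_option autoImplicit false

open scoped commutatorElement

namespace Cfsg.Agent.Lib.OddLocal

universe u

variable {G : Type u} [Group G] [Finite G] {p : ℕ} [hp : Fact p.Prime]

omit [Finite G] hp in
theorem normalizer_le_normalizer_centralizer_u (A : Subgroup G) {g : G}
    (hg : g ∈ Subgroup.normalizer (A : Set G)) :
    g ∈ Subgroup.normalizer (Subgroup.centralizer (A : Set G) : Set G) :=
  Subgroup.mem_normalizer_iff.mpr fun x => ⟨conj_mem_centralizer_of_normalizes hg, fun h => by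
    simpa [mul_assoc] using conj_mem_centralizer_of_normalizes (inv_mem hg) h⟩

/-- Every Sylow `p`-subgroup has a member of `SCN₃` when `G` has `p`-rank at least three. -/
theorem exists_scn_three (hG : Cfsg.IsMinSimpleOddOrder G) (S : Sylow p G) (hr : ¬ Cfsg.PRankLE p 2 G) :
    ∃ A : Subgroup G, Cfsg.IsSCN (S : Subgroup G) A ∧ IsMulCommutative A ∧ ¬ Cfsg.PRankLE p 2 A := by
  unfold Cfsg.PRankLE at hr
  push_neg at hr
  obtain ⟨F, hF, hFp, hFc⟩ := hr
  have hp2 : p ≠ 2 := fun h2 => by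
    have hFP : IsPGroup p F := fun b => ⟨1, Subtype.ext (by rw [pow_one]; exact hFp b b.2)⟩
    obtain ⟨k, hk⟩ := IsPGroup.iff_card.mp hFP
    rcases k with _ | k
    · rw [hk, pow_zero] at hFc
      exact absurd hFc (not_lt.mpr (Nat.one_le_pow _ _ hp.out.pos))
    · have h := hG.1.of_dvd_nat ((dvd_pow_self p k.succ_ne_zero).trans
        (hk ▸ Subgroup.card_subgroup_dvd_card F))
      rw [h2] at h
      exact absurd h (by decide)
  have hFP : IsPGroup p F := fun b => ⟨1, Subtype.ext (by rw [pow_one]; exact hFp b b.2)⟩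
  obtain ⟨T, hT⟩ := hFP.exists_le_sylow
  obtain ⟨g, hg⟩ := MulAction.exists_smul_eq G T S
  let e : (T : Subgroup G) ≃* (S : Subgroup G) := hg ▸ T.equivSMul g
  have hrS : ¬ Cfsg.PRankLE p 2 (S : Subgroup G) := fun h => by
    have h1 := pRankLE_of_injective e.toMonoidHom e.injective h (F.subgroupOf (T : Subgroup G))
      ⟨⟨fun a b => Subtype.ext (Subtype.ext (congrArg Subtype.val
        (hF.is_comm.comm ⟨a.1.1, a.2⟩ ⟨b.1.1, b.2⟩) :))⟩⟩ (fun a ha => Subtype.ext (hFp a.1 ha))
    rw [Nat.card_congr (Subgroup.subgroupOfEquivOfLe hT).toEquiv] at h1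
    exact absurd h1 (not_le.mpr hFc)
  have hR := S.isPGroup'
  have hS0 : (⊤ : Subgroup (S : Subgroup G)) ≠ ⊥ := fun h => hrS fun D _ _ => by
    have hD : Nat.card D ≤ 1 := by
      rw [← Subgroup.card_bot (G := (S : Subgroup G)), ← h]
      exact Subgroup.card_le_of_le le_top
    exact hD.trans (Nat.one_le_pow _ _ hp.out.pos)
  obtain ⟨z, -, hzo, hzc⟩ := PLocal.exists_central_prime_mem hR hS0
  set Z := Subgroup.zpowers z with hZ
  have hZc : ∀ a ∈ Z, a ∈ Subgroup.center (S : Subgroup G) := fun a ha => Subgroup.zpowers_le.mpr hzc ha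
  have hzp : z ^ p = 1 := orderOf_dvd_iff_pow_eq_one.mp hzo.dvd
  have hZp : ∀ a ∈ Z, a ^ p = 1 := by
    rintro _ ⟨j, rfl⟩
    show (z ^ j) ^ p = 1
    rw [← zpow_natCast, ← zpow_mul, mul_comm, zpow_mul, zpow_natCast, hzp, one_zpow]
  obtain ⟨x, -, hxp, hxZ, hxr⟩ := exists_omega_central_mod hp2 hR Z ⊤
    (fun g _ => Subgroup.mem_centralizer_iff.mpr fun a ha => (Subgroup.mem_center_iff.mp (hZc a ha) g).symm)
    (by
      by_contra! h
      refine hrS fun D _ hDp => ?_
      have h1 := Subgroup.card_le_of_le (fun d hd => h d (Subgroup.mem_top d) (hDp d hd) : D ≤ Z)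
      rw [hZ, Nat.card_zpowers, hzo] at h1
      exact h1.trans (Nat.le_self_pow two_ne_zero p))
  have hcomm : IsMulCommutative (Subgroup.closure ((Z : Set (S : Subgroup G)) ∪ {x})) :=
    Subgroup.isMulCommutative_closure (by
      rintro a (ha | rfl) b (hb | rfl)
      · exact Subgroup.mem_center_iff.mp (hZc b hb) a
      · exact (Subgroup.mem_center_iff.mp (hZc a ha) _).symm
      · exact Subgroup.mem_center_iff.mp (hZc b hb) _
      · rfl)
  set E := Z ⊔ Subgroup.zpowers x with hE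
  have hEeq : E = Subgroup.closure ((Z : Set (S : Subgroup G)) ∪ {x}) := by
    rw [Subgroup.closure_union, Subgroup.closure_eq, ← Subgroup.zpowers_eq_closure]
  have hEe : Cfsg.IsElementaryAbelian p E := by
    rw [hEeq]
    refine ⟨hcomm, fun b hb => ?_⟩
    induction hb using Subgroup.closure_induction with
    | mem a ha => rcases ha with ha | rfl
                  · exact hZp a ha
                  · exact hxp
    | one => exact one_pow _
    | mul a b ha hb iha ihb =>
      rw [(show Commute a b from congrArg Subtype.val (hcomm.is_comm.comm ⟨a, ha⟩ ⟨b, hb⟩)).mul_pow,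
        iha, ihb, one_mul]
    | inv a _ iha => rw [inv_pow, iha, inv_one]
  have hEn : E.Normal := ⟨fun b hb r => by
    have : E ≤ E.comap (MulAut.conj r).toMonoidHom := by
      refine sup_le (fun a ha => Subgroup.mem_sup_left ?_) (Subgroup.zpowers_le.mpr ?_)
      · show r * a * r⁻¹ ∈ Z
        rw [Subgroup.mem_center_iff.mp (hZc a ha) r, mul_inv_cancel_right]
        exact ha
      · show r * x * r⁻¹ ∈ E
        have e : r * x * r⁻¹ = ⁅r, x⁆ * x := by rw [commutatorElement_def]; group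
        rw [e]
        exact mul_mem (Subgroup.mem_sup_left (hxr r)) (Subgroup.mem_sup_right (Subgroup.mem_zpowers x))
    exact this hb⟩
  have hE2 : Nat.card E = p ^ 2 := by
    have hdisj : Z ⊓ Subgroup.zpowers x = ⊥ := by
      rw [eq_bot_iff]
      rintro a ⟨ha, hax⟩
      by_contra hne
      have ha1 : a ≠ 1 := fun e => hne (Subgroup.mem_bot.mpr e)
      have h1 : Subgroup.zpowers a = Subgroup.zpowers x := Subgroup.eq_of_le_of_card_ge
        (Subgroup.zpowers_le.mpr hax) (by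
          rw [Nat.card_zpowers, Nat.card_zpowers, orderOf_eq_prime (hZp a ha) ha1]
          exact Nat.le_of_dvd hp.out.pos (orderOf_dvd_of_pow_eq_one hxp))
      exact hxZ (Subgroup.zpowers_le.mpr ha (h1 ▸ Subgroup.mem_zpowers x))
    have hcard := Coprime.card_sup_mul_card_inf (N := Z) (H := Subgroup.zpowers x)
      (fun y _ => Subgroup.centralizer_le_normalizer _ (Subgroup.mem_centralizer_iff.mpr fun a ha =>
        (Subgroup.mem_center_iff.mp (hZc a ha) y).symm))
    rw [hdisj, Subgroup.card_bot, mul_one, hZ, Nat.card_zpowers, hzo, Nat.card_zpowers,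
      orderOf_eq_prime hxp (fun e => hxZ (e ▸ one_mem _))] at hcard
    rw [hE, hZ, hcard, pow_two]
  haveI := hEn
  obtain ⟨A, -, hAn, hAC, hA3⟩ := exists_scn_three_ge hp2 hR hrS E hEe hE2
  have hAS : (A.map (S : Subgroup G).subtype) ≤ (S : Subgroup G) := Subgroup.map_subtype_le A
  have hAc : IsMulCommutative A := Subgroup.le_centralizer_iff_isMulCommutative.mp hAC.ge
  refine ⟨A.map (S : Subgroup G).subtype, ⟨hAS, fun s hs => ?_, ?_⟩, inferInstance, fun h => hA3 ?_⟩
  · refine Subgroup.mem_normalizer_iff_map_conj_eq.mpr ?_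
    rw [Subgroup.map_map]
    calc A.map ((MulAut.conj s).toMonoidHom.comp (S : Subgroup G).subtype)
        = A.map ((S : Subgroup G).subtype.comp (MulAut.conj (⟨s, hs⟩ : (S : Subgroup G))).toMonoidHom) := rfl
      _ = A.map (S : Subgroup G).subtype := by
        rw [← Subgroup.map_map]
        exact congrArg (Subgroup.map _) (Subgroup.mem_normalizer_iff_map_conj_eq.mp
          (show (⟨s, hs⟩ : (S : Subgroup G)) ∈ Subgroup.normalizer (A : Set (S : Subgroup G)) by
            rw [Subgroup.normalizer_eq_top_iff.mpr hAn]; trivial))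
  · refine le_antisymm ?_ (le_inf hAS (Subgroup.le_centralizer_iff_isMulCommutative.mpr inferInstance))
    rintro s ⟨hs, hsc⟩
    refine ⟨⟨s, hs⟩, hAC.le (Subgroup.mem_centralizer_iff.mpr fun a ha => Subtype.ext ?_), rfl⟩
    exact Subgroup.mem_centralizer_iff.mp hsc (a : G) ⟨a, ha, rfl⟩
  · let e' := A.equivMapOfInjective (S : Subgroup G).subtype (Subgroup.subtype_injective _)
    exact pRankLE_of_injective e'.toMonoidHom e'.injective h

/-- Frattini argument for `N ⊔ W` with `N` of order prime to the order of the `p`-group `W`. -/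
theorem sup_normalizer_eq_top_of_coprime {N W : Subgroup G} [N.Normal] (hN : (Nat.card N).Coprime p)
    (hW : IsPGroup p W) (hn : (W ⊔ N).Normal) : N ⊔ Subgroup.normalizer (W : Set G) = ⊤ := by
  haveI := hn
  obtain ⟨k, hk⟩ := IsPGroup.iff_card.mp hW
  have hWN : Nat.card ↥(W ⊔ N) ∣ Nat.card W * Nat.card N := Cores.card_sup_dvd W N
  have hsub : Nat.card (W.subgroupOf (W ⊔ N)) = p ^ (Nat.card ↥(W ⊔ N)).factorization p := by
    rw [Nat.card_congr (Subgroup.subgroupOfEquivOfLe le_sup_left).toEquiv, hk]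
    congr 1
    have hne : Nat.card ↥(W ⊔ N) ≠ 0 := Nat.card_pos.ne'
    have h1 : k ≤ (Nat.card ↥(W ⊔ N)).factorization p :=
      (hp.out.pow_dvd_iff_le_factorization hne).mp (hk ▸ Subgroup.card_dvd_of_le le_sup_left)
    refine le_antisymm h1 ?_
    have h2 := (Nat.factorization_le_iff_dvd hne (mul_ne_zero Nat.card_pos.ne' Nat.card_pos.ne')).mpr hWN p
    rw [Nat.factorization_mul Nat.card_pos.ne' Nat.card_pos.ne', Finsupp.coe_add, Pi.add_apply, hk,
      hp.out.factorization_pow, Finsupp.single_eq_same,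
      Nat.factorization_eq_zero_of_not_dvd (hp.out.coprime_iff_not_dvd.mp hN.symm), add_zero] at h2
    exact h2
  have h := Sylow.normalizer_sup_eq_top (Sylow.ofCard _ hsub)
  rw [Sylow.coe_ofCard, Subgroup.map_subgroupOf_eq_of_le le_sup_left] at h
  rw [eq_top_iff, ← h]
  exact sup_le le_sup_right (sup_le (le_sup_of_le_right Subgroup.le_normalizer) le_sup_left)

/-- A subgroup over which the local Frattini factorization sends `H` into `K`. -/
theorem le_of_factor {H K W : Subgroup G} (hX : pComplOf p H ≤ K)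
    (hW : H ⊓ Subgroup.normalizer (W : Set G) ≤ K) {R : Subgroup H}
    (hfac : Cfsg.pPrimeCore p H ⊔ Subgroup.normalizer (R : Set H) = ⊤)
    (hR : R.map H.subtype = W) : H ≤ K := by
  intro x hx
  have h : (⟨x, hx⟩ : H) ∈ Cfsg.pPrimeCore p H ⊔ Subgroup.normalizer (R : Set H) := hfac ▸ Subgroup.mem_top _
  have hle : Cfsg.pPrimeCore p H ⊔ Subgroup.normalizer (R : Set H) ≤ K.subgroupOf H := by
    refine sup_le (fun y hy => hX ⟨y, hy, rfl⟩) fun y hy => hW ⟨y.2, ?_⟩
    refine Subgroup.mem_normalizer_iff_map_conj_eq.mpr ?_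
    rw [← hR, Subgroup.map_map]
    calc R.map ((MulAut.conj (y : G)).toMonoidHom.comp H.subtype)
        = R.map (H.subtype.comp (MulAut.conj y).toMonoidHom) := rfl
      _ = R.map H.subtype := by rw [← Subgroup.map_map]; exact congrArg (Subgroup.map _) (Subgroup.mem_normalizer_iff_map_conj_eq.mp hy)
  exact hle h

theorem isSylowIn_of_sylow {H : Subgroup G} (S : Sylow p G) (h : (S : Subgroup G) ≤ H) :
    IsSylowIn p (S : Subgroup G) H :=
  ⟨S.isPGroup', h, fun _ hQ _ hSQ => S.is_maximal' hQ hSQ⟩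

/-- The factorization through the centre of the Thompson subgroup. -/
theorem le_of_jZ {H K P : Subgroup G} (hs : Group.IsSolvable H) (hodd : Odd (Nat.card H))
    (hP : IsSylowIn p P H) (hX : pComplOf p H ≤ K)
    (hW : H ⊓ Subgroup.normalizer (jZ p P : Set G) ≤ K) : H ≤ K := by
  obtain ⟨S, hS⟩ := exists_sylow_of_isSylowIn hP
  have hn := Cfsg.Agent.S1458.result (G := H) hodd p S
  have hJ : jIn p (S : Subgroup H) = Cfsg.thompsonSubgroupOf p (S : Subgroup H) := by
    apply le_antisymm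
    · refine sSup_le fun A hA => ?_
      obtain ⟨X, hX, rfl⟩ := Lib.PLocal.maxIn_prime_iff.mp hA
      exact Subgroup.map_mono (le_sSup hX)
    · refine Subgroup.map_le_iff_le_comap.mpr (sSup_le fun X hX => ?_)
      exact Subgroup.map_le_iff_le_comap.mp (le_sSup (Lib.PLocal.maxIn_prime_iff.mpr ⟨X, hX, rfl⟩))
  have hZ : Cfsg.centerThompsonOf p (S : Subgroup H) = jZ p (S : Subgroup H) := by
    rw [Cfsg.centerThompsonOf, jZ, hJ]
  rw [hZ] at hn
  refine le_of_factor (R := jZ p (S : Subgroup H)) hX hW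
    (sup_normalizer_eq_top_of_coprime (Cores.pPrimeCore_coprime p H)
      (S.isPGroup'.to_le (inf_le_left.trans (jIn_le p _))) hn) ?_
  rw [map_jZ _ H.subtype_injective, hS, Subgroup.map_subgroupOf_eq_of_le hP.2.1]

omit [Finite G] in
theorem jZ_le (P : Subgroup G) : jZ p P ≤ P := inf_le_left.trans (jIn_le p _)

theorem jZ_ne_bot {P : Subgroup G} (hP : IsPGroup p P) (h : P ≠ ⊥) : jZ p P ≠ ⊥ := by
  obtain ⟨A, hA⟩ := PLocal.exists_maxIn p P
  obtain ⟨z, hz, hzo, -⟩ := PLocal.exists_central_prime_mem hP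
    (N := (⊤ : Subgroup P)) (by
      have := (Subgroup.nontrivial_iff_ne_bot P).mpr h
      exact top_ne_bot)
  have hzA : Cfsg.IsElementaryAbelian p (Subgroup.zpowers (z : G)) := by
    refine ⟨inferInstance, ?_⟩
    rintro _ ⟨j, rfl⟩
    rw [← zpow_natCast, ← zpow_mul, mul_comm, zpow_mul, zpow_natCast, ← hzo,
      ← Subgroup.orderOf_coe, pow_orderOf_eq_one, one_zpow]
  have hA1 : A ≠ ⊥ := fun hb => by
    have h1 := hA.2.2 (Subgroup.zpowers (z : G)) (Subgroup.zpowers_le.mpr z.2) hzA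
    rw [hb, Subgroup.card_bot, Nat.card_zpowers, Subgroup.orderOf_coe, hzo] at h1
    exact absurd hp.out.one_lt (not_lt.mpr h1)
  have hJ : jIn p P ≠ ⊥ := fun hb => hA1 (le_bot_iff.mp (hb ▸ le_sSup hA))
  have hJp : IsPGroup p (jIn p P) := hP.to_le (jIn_le p P)
  obtain ⟨c, -, hco, hcc⟩ := PLocal.exists_central_prime_mem hJp (N := (⊤ : Subgroup (jIn p P))) (by
    have := (Subgroup.nontrivial_iff_ne_bot _).mpr hJ
    exact top_ne_bot)
  intro hb
  have hcJ : (c : G) ∈ jZ p P := ⟨c.2, Subgroup.mem_centralizer_iff.mpr fun y hy =>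
    congrArg Subtype.val (Subgroup.mem_center_iff.mp hcc ⟨y, hy⟩)⟩
  rw [hb, Subgroup.mem_bot, ← orderOf_eq_one_iff, Subgroup.orderOf_coe, hco] at hcJ
  exact hp.out.ne_one hcJ

variable (hG : Cfsg.IsMinSimpleOddOrder G)
include hG

theorem isSolvable_of_ne_top {H : Subgroup G} (h : H ≠ ⊤) : Group.IsSolvable H := hG.2.2.2 H h

omit hp in
theorem odd_card_subgroup (H : Subgroup G) : Odd (Nat.card H) :=
  hG.1.of_dvd_nat (Subgroup.card_subgroup_dvd_card H)

omit hp in
theorem top_not_solvable : ¬ Group.IsSolvable (⊤ : Subgroup G) := by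
  intro h
  have hsimp : IsSimpleGroup G := hG.2.1
  haveI : Group.IsSolvable G := Group.isSolvable_of_surjective (f := (Subgroup.topEquiv (G := G)).toMonoidHom)
    Subgroup.topEquiv.surjective
  have hlt := Group.IsSolvable.commutator_lt_top_of_nontrivial G
  rcases hsimp.eq_bot_or_eq_top_of_normal (commutator G) inferInstance with h' | h'
  · refine hG.2.2.1 ⟨⟨fun a b => commutatorElement_eq_one_iff_mul_comm.mp ?_⟩⟩
    have := Subgroup.commutator_mem_commutator (Subgroup.mem_top a) (Subgroup.mem_top b)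
    rwa [← commutator_def, h', Subgroup.mem_bot] at this
  · exact hlt.ne h'

theorem ne_top_of_isPGroup {P : Subgroup G} (hP : IsPGroup p P) : P ≠ ⊤ := by
  intro h
  subst h
  have := hP.isNilpotent
  exact top_not_solvable hG inferInstance

omit hp in
theorem exists_coatom_ge {H : Subgroup G} (h : H ≠ ⊤) : ∃ K, IsCoatom K ∧ H ≤ K :=
  ((eq_top_or_exists_le_coatom H).resolve_left h)

theorem exists_coatom_normalizer_ge {P : Subgroup G} (hP : IsPGroup p P) (h : P ≠ ⊥) :
    ∃ K, IsCoatom K ∧ Subgroup.normalizer (P : Set G) ≤ K :=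
  exists_coatom_ge hG (normalizer_ne_top hG h (ne_top_of_isPGroup hG hP))

section

variable {M B : Subgroup G} (hM : IsCoatom M) (hBM : B ≤ M) (hB0 : B ≠ ⊥)
  (hI : ∀ Y : Subgroup G, (Nat.card Y).Coprime p → B ≤ Subgroup.normalizer (Y : Set G) → Y ≤ M)

include hM hI

theorem inv_le_of_scn (S : Sylow p G) (hSM : (S : Subgroup G) ≤ M) (hBS : B ≤ (S : Subgroup G))
    {A : Subgroup G} (hA : Cfsg.IsSCN (S : Subgroup G) A) (hAc : IsMulCommutative A)
    (hA3 : ¬ Cfsg.PRankLE p 2 A) {Y : Subgroup G} (hY : (Nat.card Y).Coprime p)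
    (hAY : A ≤ Subgroup.normalizer (Y : Set G)) : Y ≤ M := by
  have hp2 : p ≠ 2 := fun h2 => hA3 fun D hD hDp => by
    obtain ⟨k, hk⟩ := IsPGroup.iff_card.mp ((S.isPGroup'.to_le hA.1).to_subgroup D)
    rcases k with _ | k
    · rw [hk, pow_zero]; exact Nat.one_le_pow _ _ hp.out.pos
    · have h := (odd_card_subgroup hG A).of_dvd_nat
        ((dvd_pow_self p k.succ_ne_zero).trans (hk ▸ Subgroup.card_subgroup_dvd_card D))
      rw [h2] at h
      exact absurd h (by decide)
  have hAp : IsPGroup p A := S.isPGroup'.to_le hA.1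
  have hS0 : (S : Subgroup G) ≠ ⊥ := fun h => hA3 fun D _ _ => by
    have hA0 : A = ⊥ := le_bot_iff.mp (h ▸ hA.1)
    have : Nat.card D ≤ 1 := (Subgroup.card_le_card_group D).trans (by rw [hA0, Subgroup.card_bot])
    exact this.trans (Nat.one_le_pow _ _ hp.out.pos)
  set D := Cfsg.piCoreOf (Cfsg.primesNotDvd p) (Subgroup.centralizer (A : Set G)) with hD
  have hDcop : (Nat.card D).Coprime p := Nat.coprime_of_dvd fun r hr h1 h2 =>
    (mem_of_prime_dvd_card_piCoreOf hr h1).2 h2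
  have hSD : (S : Subgroup G) ≤ Subgroup.normalizer (D : Set G) := fun s hs =>
    Cores.normalizer_le_normalizer_map_subtype (Subgroup.centralizer (A : Set G)) _
      (normalizer_le_normalizer_centralizer_u _ (hA.2.1 hs))
  have hDM : D ≤ M := hI D hDcop (hBS.trans hSD)
  have hq : ∀ q : ℕ, q.Prime → q ≠ p → ∀ Q ∈ Cfsg.invSubgroups ⊤ A {q}, Q ≤ M := by
    intro q hq hqp Q hQ
    have := Fact.mk hq
    have htr := transitivity_of_constrained (p := p) (E := A)
      (fun T hT hT1 => Components.isPConstrained_of_solvable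
        (isSolvable_of_ne_top hG (normalizer_ne_top hG hT1 (ne_top_of_isPGroup hG hT))))
      (fun h => absurd h hp2) hAp hAc (fun x hx hxp => mem_of_centralizer_of_isSCN S hAc hA hx hxp) hA3 hqp
    obtain ⟨Q₁, hQ₁, -⟩ := exists_maxInv_ge' hQ
    let act : MulAction G (Subgroup G) := Coprime.conjActionSubgroup G
    have hDS : Nat.Coprime (Nat.card (S : Subgroup G)) (Nat.card D) := by
      obtain ⟨k, hk⟩ := IsPGroup.iff_card.mp S.isPGroup'
      rw [hk]; exact (hDcop.pow_right k).symm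
    have hsol : Group.IsSolvable (S : Subgroup G) := by
      have := S.isPGroup'.isNilpotent
      infer_instance
    obtain ⟨d, hd, hfix⟩ := Coprime.exists_fixed_smul hSD hDS (Or.inl hsol) Q₁ (fun s hs => by
      obtain ⟨d, hd, h⟩ := htr Q₁ hQ₁ _ (map_conj_mem_maxInv_of_normalizer (hA.2.1 hs) hQ₁)
      exact ⟨d, hd, h⟩)
    set Q₀ := Q₁.map (MulAut.conj d).toMonoidHom with hQ₀
    have hQ₀m : Q₀ ∈ Cfsg.maxInvSubgroups ⊤ A {q} :=
      map_conj_mem_maxInv hQ₁ (piCoreOf_le _ _ hd)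
    have hQ₀M : Q₀ ≤ M := by
      refine hI Q₀ ?_ fun b hb => ?_
      · exact Nat.coprime_of_dvd fun r hr h1 h2 => hqp
          ((Set.mem_singleton_iff.mp (hQ₀m.1.2.1 r hr h1)).symm.trans ((Nat.prime_dvd_prime_iff_eq hr hp.out).mp h2))
      · exact Subgroup.mem_normalizer_iff_map_conj_eq.mpr (hfix b (hBS hb))
    obtain ⟨Q', hQ', hle⟩ := exists_maxInv_ge' hQ
    obtain ⟨k, hk, rfl⟩ := htr Q₀ hQ₀m Q' hQ'
    refine hle.trans ?_
    rintro _ ⟨x, hx, rfl⟩
    exact M.mul_mem (M.mul_mem (hDM hk) (hQ₀M hx)) (M.inv_mem (hDM hk))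
  have hcop : (Nat.card A).Coprime (Nat.card Y) := by
    obtain ⟨k, hk⟩ := IsPGroup.iff_card.mp hAp
    rw [hk]; exact (hY.pow_right k).symm
  have hsol : Group.IsSolvable A := by
    have := hAp.isNilpotent
    infer_instance
  by_contra hle
  have hne : (M.subgroupOf Y).index ≠ 1 := fun h => hle (Subgroup.subgroupOf_eq_top.mp (Subgroup.index_eq_one.mp h))
  obtain ⟨q, hq', hqd⟩ := Nat.exists_prime_and_dvd hne
  have := Fact.mk hq'
  obtain ⟨T, hT⟩ := Coprime.exists_invariant_sylow hAY hcop (Or.inl hsol) q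
  have hTM : (T : Subgroup Y).map Y.subtype ≤ M := hq q hq' (fun e => hp.out.not_dvd_one
      (hY ▸ Nat.dvd_gcd (e ▸ hqd.trans (Subgroup.index_dvd_card _)) dvd_rfl)) _
    (mem_invSubgroups_singleton_of_isPGroup (T.isPGroup'.map _) hT)
  exact T.not_dvd_index (hqd.trans (Subgroup.index_dvd_of_le (Subgroup.map_le_iff_le_comap.mp hTM)))

omit hI in
/-- `M` is the normalizer of its nontrivial `p'`-core. -/
theorem normalizer_pComplOf_le (hX : pComplOf p M ≠ ⊥) :
    Subgroup.normalizer (pComplOf p M : Set G) ≤ M := by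
  have h1 : M ≤ Subgroup.normalizer (pComplOf p M : Set G) :=
    Subgroup.le_normalizer.trans (normalizer_le_normalizer_pComplOf p M)
  by_contra h
  have hne : pComplOf p M ≠ ⊤ := fun e => hM.1 (top_le_iff.mp (e ▸ pComplOf_le p M))
  exact normalizer_ne_top hG hX hne (hM.2 _ (lt_of_le_of_ne h1 fun e => h e.ge))

omit hI in
theorem normalizer_le_of_inv_le {R P : Subgroup G} (hX : pComplOf p M ≠ ⊥) (hP : IsSylowIn p P M)
    (hRP : R ≤ P) (hPR : P ≤ Subgroup.normalizer (R : Set G))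
    (hC : P ⊓ Subgroup.centralizer (R : Set G) ≤ R)
    (hinv : ∀ Y : Subgroup G, (Nat.card Y).Coprime p → R ≤ Subgroup.normalizer (Y : Set G) → Y ≤ M) :
    Subgroup.normalizer (R : Set G) ≤ M := by
  intro n hn
  refine normalizer_pComplOf_le hG hM hX ?_
  refine Subgroup.mem_normalizer_iff_map_conj_eq.mpr (Subgroup.eq_of_le_of_card_ge ?_
    (Subgroup.card_map_of_injective (MulAut.conj n).injective).ge)
  set X := (pComplOf p M).map (MulAut.conj n).toMonoidHom
  have hXc : (Nat.card X).Coprime p := by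
    rw [Subgroup.card_map_of_injective (MulAut.conj n).injective]; exact coprime_pComplOf p M
  have hRX : R ≤ Subgroup.normalizer (X : Set G) := by
    intro r hr
    have h1 : n⁻¹ * r * n ∈ Subgroup.normalizer (pComplOf p M : Set G) :=
      (Subgroup.le_normalizer.trans (normalizer_le_normalizer_pComplOf p M))
        (hP.2.1 (hRP ((Subgroup.mem_normalizer_iff''.mp hn r).mp hr)))
    refine Subgroup.mem_normalizer_iff_map_conj_eq.mpr ?_
    show ((pComplOf p M).map (MulAut.conj n).toMonoidHom).map (MulAut.conj r).toMonoidHom =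
      (pComplOf p M).map (MulAut.conj n).toMonoidHom
    conv_rhs => rw [← Subgroup.mem_normalizer_iff_map_conj_eq.mp h1]
    rw [Subgroup.map_map, Subgroup.map_map]
    congr 1
    ext x
    simp [MulAut.conj_apply, mul_assoc]
  exact le_pComplOf_of_normal_in_sylow (isSolvable_of_ne_top hG hM.1) hP hRP hPR hC (hinv X hXc hRX) hXc hRX

include hBM hB0

/-- A Sylow `p`-subgroup of `M` over `B` is Sylow in `G`. -/
theorem sylow_of_isSylowIn {P : Subgroup G} (hP : IsSylowIn p P M) (hBP : B ≤ P) :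
    ∃ S : Sylow p G, (S : Subgroup G) = P := by
  have hP0 : P ≠ ⊥ := fun h => hB0 (le_bot_iff.mp (h ▸ hBP))
  have hN : Subgroup.normalizer (P : Set G) ≤ M := by
    by_cases hX : pComplOf p M = ⊥
    · set W := jZ p P with hW
      have hW0 : W ≠ ⊥ := jZ_ne_bot hP.1 hP0
      have hMW : M ≤ Subgroup.normalizer (W : Set G) := le_of_jZ (isSolvable_of_ne_top hG hM.1)
        (odd_card_subgroup hG M) hP (hX ▸ bot_le) inf_le_right
      have hne := normalizer_ne_top hG hW0 (ne_top_of_isPGroup hG (hP.1.to_le (jZ_le P)))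
      have heq : Subgroup.normalizer (W : Set G) = M := (hM.le_iff.mp hMW).resolve_left hne
      exact (normalizer_le_normalizer_jZ p P).trans heq.le
    · exact normalizer_le_of_inv_le hG hM hX hP le_rfl Subgroup.le_normalizer inf_le_left
        (fun Y hY hRY => hI Y hY (hBP.trans hRY))
  refine ⟨⟨P, hP.1, fun {Q} hQ hPQ => ?_⟩, rfl⟩
  by_contra hne
  refine exists_mem_normalizer_not_mem (q := p) hQ (lt_of_le_of_ne hPQ (Ne.symm hne)) fun x hx => ?_
  have hle : P ≤ Subgroup.normalizer (P : Set G) ⊓ Q := le_inf Subgroup.le_normalizer hPQ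
  exact (hP.2.2 _ (hQ.to_le inf_le_right) (inf_le_left.trans hN) hle).le hx

/-- A proper subgroup containing a Sylow `p`-subgroup of `M` over `B` lies in `M`. -/
theorem le_of_sylow_le (S : Sylow p G) (hBS : B ≤ (S : Subgroup G)) (hSM : (S : Subgroup G) ≤ M)
    {H : Subgroup G} (hH : H ≠ ⊤) (hSH : (S : Subgroup G) ≤ H) : H ≤ M := by
  have hs := isSolvable_of_ne_top hG hH
  have hodd := odd_card_subgroup hG H
  have hS0 : (S : Subgroup G) ≠ ⊥ := fun h => hB0 (le_bot_iff.mp (h ▸ hBS))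
  have hXH : pComplOf p H ≤ M := hI _ (coprime_pComplOf p H)
    ((hBS.trans hSH).trans (Subgroup.le_normalizer.trans (normalizer_le_normalizer_pComplOf p H)))
  by_cases hX : pComplOf p M = ⊥
  · set W := jZ p (S : Subgroup G) with hW
    have hW0 : W ≠ ⊥ := jZ_ne_bot S.isPGroup' hS0
    have hMW : M ≤ Subgroup.normalizer (W : Set G) := le_of_jZ (isSolvable_of_ne_top hG hM.1)
      (odd_card_subgroup hG M) (isSylowIn_of_sylow S hSM) (hX ▸ bot_le) inf_le_right
    have hne := normalizer_ne_top hG hW0 (ne_top_of_isPGroup hG (S.isPGroup'.to_le (jZ_le _)))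
    have heq : Subgroup.normalizer (W : Set G) = M := (hM.le_iff.mp hMW).resolve_left hne
    exact le_of_jZ hs hodd (isSylowIn_of_sylow S hSH) hXH (inf_le_right.trans heq.le)
  · haveI := hs
    set SH := S.subtype hSH with hSHdef
    set N := Cfsg.pPrimeCore p H with hN
    set π := QuotientGroup.mk' N with hπ
    set R₀ : Subgroup H := (SH : Subgroup H) ⊓ Cfsg.pPrimePCore p H with hR₀
    have hTn : (Cfsg.pPrimePCore p H).Normal :=
      (inferInstance : (Cfsg.pCore p (H ⧸ N)).Normal).comap π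
    have hNT : N ≤ Cfsg.pPrimePCore p H := fun x hx => by
      show π x ∈ Cfsg.pCore p (H ⧸ N)
      rw [show π x = 1 from (QuotientGroup.eq_one_iff x).mpr hx]
      exact one_mem _
    have hVS : Cfsg.pCore p (H ⧸ N) ≤ (SH : Subgroup H).map π :=
      Cores.pCore_le_sylow (SH.mapSurjective (QuotientGroup.mk'_surjective N))
    have hTeq : R₀ ⊔ N = Cfsg.pPrimePCore p H := by
      refine le_antisymm (sup_le inf_le_right hNT) fun x hx => ?_
      obtain ⟨s, hs', hsx⟩ := hVS (show π x ∈ Cfsg.pCore p (H ⧸ N) from hx)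
      have hsT : s ∈ Cfsg.pPrimePCore p H := by
        show π s ∈ Cfsg.pCore p (H ⧸ N)
        rw [hsx]; exact hx
      rw [← mul_inv_cancel_left s x]
      exact mul_mem (Subgroup.mem_sup_left ⟨hs', hsT⟩) (Subgroup.mem_sup_right
        ((QuotientGroup.eq_one_iff _).mp (show π (s⁻¹ * x) = 1 by rw [map_mul, map_inv, hsx, inv_mul_cancel])))
    have hfac := sup_normalizer_eq_top_of_coprime (p := p) (N := N) (W := R₀)
      (Cores.pPrimeCore_coprime p H) (SH.isPGroup'.to_le inf_le_left) (hTeq ▸ hTn)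
    set R := R₀.map H.subtype with hR
    refine le_of_factor hXH ?_ hfac rfl
    refine inf_le_right.trans ?_
    have hRS : R ≤ (S : Subgroup G) := by
      rintro _ ⟨x, hx, rfl⟩
      exact hx.1
    have hSR : (S : Subgroup G) ≤ Subgroup.normalizer (R : Set G) := by
      intro s hs'
      refine (show (⟨s, hSH hs'⟩ : H) ∈ Subgroup.normalizer (R₀ : Set H) → s ∈ Subgroup.normalizer (R : Set G) from
        fun h => Subgroup.mem_normalizer_iff_map_conj_eq.mpr ?_) ?_
      · rw [hR, Subgroup.map_map]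
        calc R₀.map ((MulAut.conj (s : G)).toMonoidHom.comp H.subtype)
            = R₀.map (H.subtype.comp (MulAut.conj (⟨s, hSH hs'⟩ : H)).toMonoidHom) := rfl
          _ = R₀.map H.subtype := by rw [← Subgroup.map_map]; exact congrArg (Subgroup.map _) (Subgroup.mem_normalizer_iff_map_conj_eq.mp h)
      · refine Subgroup.mem_normalizer_iff.mpr fun x => ?_
        show x ∈ (SH : Subgroup H) ∧ x ∈ Cfsg.pPrimePCore p H ↔
          _ ∈ (SH : Subgroup H) ∧ _ ∈ Cfsg.pPrimePCore p H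
        rw [← Subgroup.mem_normalizer_iff.mp (Subgroup.le_normalizer (show (⟨s, hSH hs'⟩ : H) ∈ (SH : Subgroup H) from hs')) x,
          ← Subgroup.mem_normalizer_iff.mp (show (⟨s, hSH hs'⟩ : H) ∈ Subgroup.normalizer (Cfsg.pPrimePCore p H : Set H) by
            rw [Subgroup.normalizer_eq_top]; trivial) x]
    have hC : (S : Subgroup G) ⊓ Subgroup.centralizer (R : Set G) ≤ R := by
      rintro s ⟨hs', hsc⟩
      refine ⟨⟨s, hSH hs'⟩, ⟨hs', ?_⟩, rfl⟩
      haveI : Group.IsSolvable (H ⧸ N) := Group.isSolvable_of_surjective (QuotientGroup.mk'_surjective N)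
      show π ⟨s, hSH hs'⟩ ∈ Cfsg.pCore p (H ⧸ N)
      refine centralizer_pCore_le (Cores.pPrimeCore_quotient_pPrimeCore p H)
        (Subgroup.mem_centralizer_iff.mpr fun v hv => ?_)
      obtain ⟨t, ht, rfl⟩ := hVS hv
      rw [← map_mul, ← map_mul]
      exact congrArg π (Subtype.ext (Subgroup.mem_centralizer_iff.mp hsc (t : G) ⟨t, ⟨ht, hv⟩, rfl⟩))
    refine normalizer_le_of_inv_le hG hM hX (isSylowIn_of_sylow S hSM) hRS hSR hC fun Y hY hRY => ?_
    by_cases hr : Cfsg.PRankLE p 2 G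
    · -- rank two
      have hp2 : p ≠ 2 := fun h2 => by
        obtain ⟨z, hz, hzo, -⟩ := PLocal.exists_central_prime_mem S.isPGroup'
          (N := (⊤ : Subgroup (S : Subgroup G))) (by
            have := (Subgroup.nontrivial_iff_ne_bot _).mpr hS0
            exact top_ne_bot)
        have h := hG.1.of_dvd_nat (hzo ▸ (orderOf_dvd_natCard z).trans (Subgroup.card_subgroup_dvd_card _))
        rw [h2] at h
        exact absurd h (by decide)
      obtain ⟨-, hcop, -⟩ := commutator_le_pCore_of_rank_two (X := H ⧸ N) hp2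
        (hodd.of_dvd_nat (Subgroup.card_quotient_dvd_card N)) (Cores.pPrimeCore_quotient_pPrimeCore p H)
        (pRankLE_quotient N (Cores.pPrimeCore_coprime p H) (pRankLE_of_injective H.subtype H.subtype_injective hr))
      refine hI Y hY (le_trans (b := R) (fun b hb => ?_) hRY)
      refine ⟨⟨b, hSH (hBS hb)⟩, ⟨hBS hb, ?_⟩, rfl⟩
      show π _ ∈ Cfsg.pCore p (H ⧸ N)
      obtain ⟨k, hk⟩ := exists_orderOf_of_mem S.isPGroup' (hBS hb)
      rw [← QuotientGroup.eq_one_iff, ← QuotientGroup.mk'_apply, ← orderOf_eq_one_iff]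
      refine Nat.eq_one_of_dvd_coprimes (hcop.pow_right k) ?_
        ((orderOf_map_dvd _ _).trans ((orderOf_map_dvd π _).trans ?_))
      · rw [Subgroup.index_eq_card]; exact orderOf_dvd_natCard _
      · rw [← hk, ← Subgroup.orderOf_coe]
    · obtain ⟨A, hA, hAc, hA3⟩ := exists_scn_three hG S hr
      refine inv_le_of_scn hG hM hI S hSM hBS hA hAc hA3 hY (le_trans (b := R) (fun a ha => ?_) hRY)
      refine ⟨⟨a, hSH (hA.1 ha)⟩, ⟨hA.1 ha, ?_⟩, rfl⟩
      exact Cfsg.Agent.S1457.result hodd p SH (A.subgroupOf H) (fun x hx => hA.1 hx)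
        ⟨⟨fun x y => Subtype.ext (Subtype.ext (congrArg Subtype.val
          (hAc.is_comm.comm ⟨x.1.1, x.2⟩ ⟨y.1.1, y.2⟩) :))⟩⟩
        (le_normalizer_subgroupOf hA.2.1) (show (⟨a, hSH (hA.1 ha)⟩ : H) ∈ A.subgroupOf H from ha)

/-- `B` lies in no maximal subgroup other than `M`. -/
theorem inUniqueMaximal_of_inv (hBp : IsPGroup p B) : Cfsg.InUniqueMaximal B := by
  refine ⟨M, ⟨hM, hBM⟩, fun L₀ hL₀ => ?_⟩
  by_contra hne
  obtain ⟨⟨L, P⟩, ⟨hL, hLM, hPp, hBP, hPL, hPM⟩, hmax⟩ := Set.exists_max_image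
    {q : Subgroup G × Subgroup G | IsCoatom q.1 ∧ q.1 ≠ M ∧ IsPGroup p q.2 ∧ B ≤ q.2 ∧ q.2 ≤ q.1 ∧ q.2 ≤ M}
    (fun q => Nat.card q.2) (Set.toFinite _) ⟨(L₀, B), hL₀.1, hne, hBp, le_rfl, hL₀.2, hBM⟩
  have hP0 : P ≠ ⊥ := fun h => hB0 (le_bot_iff.mp (h ▸ hBP))
  have hbig : ∀ K Q : Subgroup G, IsCoatom K → IsPGroup p Q → P < Q → Q ≤ K → Q ≤ M → K = M := by
    intro K Q hK hQ hPQ hQK hQM
    by_contra hKM
    exact hPQ.ne (Subgroup.eq_of_le_of_card_ge hPQ.le
      (hmax (K, Q) ⟨hK, hKM, hQ, hBP.trans hPQ.le, hQK, hQM⟩))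
  obtain ⟨T, ⟨⟨hTp, hTM⟩, hPT⟩, hTmax⟩ : ∃ T : Subgroup G, ((IsPGroup p T ∧ T ≤ M) ∧ P ≤ T) ∧
      ∀ Q : Subgroup G, IsPGroup p Q → Q ≤ M → T ≤ Q → Q = T := by
    obtain ⟨T, hPT, hT, hTmax⟩ := Set.Finite.exists_le_maximal
      (Set.toFinite {T : Subgroup G | IsPGroup p T ∧ T ≤ M}) (show P ∈ _ from ⟨hPp, hPM⟩)
    exact ⟨T, ⟨hT, hPT⟩, fun Q hQ hQM hTQ => le_antisymm (hTmax ⟨hQ, hQM⟩ hTQ) hTQ⟩
  obtain ⟨S, hS⟩ := sylow_of_isSylowIn hG hM hBM hB0 hI ⟨hTp, hTM, hTmax⟩ (hBP.trans hPT)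
  by_cases hPT' : P = T
  · have := le_of_sylow_le hG hM hBM hB0 hI S (hS ▸ hPT' ▸ hBP) (hS ▸ hTM) hL.1 (hS ▸ hPT' ▸ hPL)
    exact hLM ((hL.le_iff.mp this).resolve_left hM.1).symm
  set Q := Subgroup.normalizer (P : Set G) ⊓ T with hQdef
  have hPQ : P < Q := lt_of_le_of_ne (le_inf Subgroup.le_normalizer hPT) fun h =>
    exists_mem_normalizer_not_mem (q := p) hTp (lt_of_le_of_ne hPT hPT') h.ge
  have hQM : Q ≤ M := inf_le_right.trans hTM
  have hQp : IsPGroup p Q := hTp.to_le inf_le_right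
  obtain ⟨K, hK, hNK⟩ := exists_coatom_normalizer_ge hG hPp hP0
  have hKM := hbig K Q hK hQp hPQ (inf_le_left.trans hNK) hQM
  have hPsyl : IsSylowIn p P L := by
    refine ⟨hPp, hPL, fun Q' hQ' hQ'L hPQ' => ?_⟩
    by_contra hne'
    have hlt : P < Q' := lt_of_le_of_ne hPQ' (Ne.symm hne')
    refine hLM (hbig L (Subgroup.normalizer (P : Set G) ⊓ Q') hL (hQ'.to_le inf_le_right) ?_
      (inf_le_right.trans hQ'L) (inf_le_left.trans (hKM ▸ hNK)))
    exact lt_of_le_of_ne (le_inf Subgroup.le_normalizer hlt.le) fun h =>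
      exists_mem_normalizer_not_mem (q := p) hQ' hlt h.ge
  have hW0 : jZ p P ≠ ⊥ := jZ_ne_bot hPp hP0
  obtain ⟨K', hK', hNK'⟩ := exists_coatom_normalizer_ge hG (hPp.to_le (jZ_le P)) hW0
  have hK'M := hbig K' Q hK' hQp hPQ (inf_le_left.trans ((normalizer_le_normalizer_jZ p P).trans hNK')) hQM
  have hle : L ≤ M := le_of_jZ (isSolvable_of_ne_top hG hL.1) (odd_card_subgroup hG L) hPsyl
    (hI _ (coprime_pComplOf p L)
      ((hBP.trans hPL).trans (Subgroup.le_normalizer.trans (normalizer_le_normalizer_pComplOf p L))))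
    (inf_le_right.trans (hK'M ▸ hNK'))
  exact hLM ((hL.le_iff.mp hle).resolve_left hM.1).symm

end

end Cfsg.Agent.Lib.OddLocal
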