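import Cfsg.Agent.Lib.OddLocal.FittingUniqueness
import Cfsg.Agent.Lib.PLocal.PGroupBasic
import Cfsg.Agent.S1398

/-! Passing uniqueness between subgroups of rank at least two. -/

set_option autoImplicit false

open scoped commutatorElement

namespace Cfsg.Agent.Lib.OddLocal

universe u

section Basic

variable {G : Type u} [Group G] [Finite G] {p : ℕ} [hp : Fact p.Prime]

omit [Finite G] hp in
theorem isPGroup_of_elementary {B : Subgroup G} (hB : Cfsg.IsElementaryAbelian p B) : IsPGroup p B :=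
  fun b => ⟨1, Subtype.ext (by rw [pow_one]; exact hB.2 b b.2)⟩

theorem not_isCyclic_of_elementary {B : Subgroup G} (hB : Cfsg.IsElementaryAbelian p B)
    (h : p < Nat.card B) : ¬ IsCyclic B := by
  intro hc
  obtain ⟨g, hg⟩ := hc.exists_generator
  have h1 : Nat.card B ∣ p := by
    rw [← orderOf_eq_card_of_forall_mem_zpowers hg, ← Subgroup.orderOf_coe]
    exact orderOf_dvd_of_pow_eq_one (hB.2 _ g.2)
  exact absurd (Nat.le_of_dvd hp.out.pos h1) (not_le.mpr h)

omit [Finite G] hp in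
theorem exists_elementary_of_not_pRankLE {k : ℕ} {X : Subgroup G} (h : ¬ Cfsg.PRankLE p k X) :
    ∃ F : Subgroup G, F ≤ X ∧ Cfsg.IsElementaryAbelian p F ∧ p ^ k < Nat.card F := by
  simp only [Cfsg.PRankLE] at h
  push Not at h
  obtain ⟨B, hBc, hBp, hcard⟩ := h
  refine ⟨B.map X.subtype, Subgroup.map_subtype_le _, ⟨inferInstance, ?_⟩, ?_⟩
  · rintro _ ⟨x, hx, rfl⟩
    rw [← map_pow, hBp x hx, map_one]
  · rwa [Nat.card_congr (B.equivMapOfInjective _ (Subgroup.subtype_injective _)).toEquiv.symm]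

omit [Finite G] hp in
theorem isElementaryAbelian_mono {B C : Subgroup G} (hB : Cfsg.IsElementaryAbelian p B) (h : C ≤ B) :
    Cfsg.IsElementaryAbelian p C :=
  ⟨⟨⟨fun a b => Subtype.ext (congrArg Subtype.val (hB.1.is_comm.comm ⟨a, h a.2⟩ ⟨b, h b.2⟩) :)⟩⟩,
    fun b hb => hB.2 b (h hb)⟩

omit [Finite G] hp in
theorem isElementaryAbelian_map {H : Type*} [Group H] {B : Subgroup G}
    (hB : Cfsg.IsElementaryAbelian p B) (f : G →* H) : Cfsg.IsElementaryAbelian p (B.map f) := by
  have := hB.1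
  refine ⟨inferInstance, ?_⟩
  rintro _ ⟨x, hx, rfl⟩
  rw [← map_pow, hB.2 x hx, map_one]

omit [Finite G] hp in
theorem le_centralizer_self {B : Subgroup G} (hB : IsMulCommutative B) :
    B ≤ Subgroup.centralizer (B : Set G) :=
  Subgroup.le_centralizer_iff_isMulCommutative.mpr hB

/-- A noncyclic `p`-group, `p` odd, has an elementary abelian subgroup of order `p ^ 2`. -/
theorem exists_elementary_sq_of_not_cyclic (hp2 : p ≠ 2) :
    ∀ B : Subgroup G, IsPGroup p B → ¬ IsCyclic B →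
      ∃ V : Subgroup G, V ≤ B ∧ Cfsg.IsElementaryAbelian p V ∧ Nat.card V = p ^ 2 := by
  intro B
  induction B using WellFoundedLT.induction with
  | ind B ih =>
  intro hB hnc
  obtain ⟨n, hn⟩ := IsPGroup.iff_card.mp hB
  rcases n with _ | n
  · exact absurd (by have := (Nat.card_eq_one_iff_unique.mp (hn.trans (pow_zero p))).1; infer_instance) hnc
    
  obtain ⟨C, hC⟩ := Sylow.exists_subgroup_card_pow_prime (G := B) p
    (show p ^ n ∣ Nat.card B from hn ▸ pow_dvd_pow p n.le_succ)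
  by_cases hCc : IsCyclic C
  · have hidx : C.index = p := by
      have h := C.card_mul_index
      rw [hC, hn, pow_succ] at h
      exact Nat.eq_of_mul_eq_mul_left (pow_pos hp.out.pos n) h
    obtain ⟨hV, hV2⟩ := Lib.PLocal.cyclic_index_prime hp2 hB hnc C hCc hidx
    exact ⟨_, Subgroup.map_subtype_le _, isElementaryAbelian_map hV B.subtype, by
      rw [← Nat.card_congr (Subgroup.equivMapOfInjective _ _ B.subtype_injective).toEquiv]; exact hV2⟩
  · have hlt : C.map B.subtype < B := by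
      refine lt_of_le_of_ne (Subgroup.map_subtype_le _) fun h => ?_
      have h1 : Nat.card B = p ^ n := by
        rw [← hC, Nat.card_congr (C.equivMapOfInjective _ B.subtype_injective).toEquiv, h]
      rw [hn, pow_succ] at h1
      exact hp.out.one_lt.ne' (Nat.eq_of_mul_eq_mul_left (pow_pos hp.out.pos n) (h1.trans (mul_one _).symm))
    obtain ⟨V, hV, hVe⟩ := ih _ hlt (hB.to_le hlt.le) fun h =>
      hCc ((C.equivMapOfInjective _ B.subtype_injective).isCyclic.mpr h)
    exact ⟨V, hV.trans hlt.le, hVe⟩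

/-- A `p`-group of rank at least two, `p` odd, has a normal elementary subgroup of order `p ^ 2`. -/
theorem exists_normal_elementary_sq {R : Type u} [Group R] [Finite R] (hp2 : p ≠ 2) (hR : IsPGroup p R)
    {V : Subgroup R} (hV : Cfsg.IsElementaryAbelian p V) (hV2 : p < Nat.card V) :
    ∃ E : Subgroup R, E.Normal ∧ Cfsg.IsElementaryAbelian p E ∧ Nat.card E = p ^ 2 := by
  have hR0 : (⊤ : Subgroup R) ≠ ⊥ := fun h => by
    have : Nat.card V ≤ 1 := by
      rw [← Subgroup.card_bot (G := R), ← h]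
      exact Subgroup.card_le_of_le le_top
    exact absurd hV2 (not_lt.mpr (this.trans hp.out.pos))
  obtain ⟨z, -, hzo, hzc⟩ := PLocal.exists_central_prime_mem hR hR0
  set Z := Subgroup.zpowers z with hZ
  have hZc : ∀ a ∈ Z, a ∈ Subgroup.center R := fun a ha => Subgroup.zpowers_le.mpr hzc ha
  have hzp : z ^ p = 1 := orderOf_dvd_iff_pow_eq_one.mp hzo.dvd
  have hZp : ∀ a ∈ Z, a ^ p = 1 := by
    rintro _ ⟨j, rfl⟩
    show (z ^ j) ^ p = 1
    rw [← zpow_natCast, ← zpow_mul, mul_comm, zpow_mul, zpow_natCast, hzp, one_zpow]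
  obtain ⟨x, -, hxp, hxZ, hxr⟩ := exists_omega_central_mod hp2 hR Z ⊤
    (fun g _ => Subgroup.mem_centralizer_iff.mpr fun a ha => (Subgroup.mem_center_iff.mp (hZc a ha) g).symm)
    (by
      by_contra! h
      have h1 := Subgroup.card_le_of_le (fun d hd => h d (Subgroup.mem_top d) (hV.2 d hd) : V ≤ Z)
      rw [hZ, Nat.card_zpowers, hzo] at h1
      exact absurd hV2 (not_lt.mpr h1))
  have hcomm : IsMulCommutative (Subgroup.closure ((Z : Set R) ∪ {x})) :=
    Subgroup.isMulCommutative_closure (by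
      rintro a (ha | rfl) b (hb | rfl)
      · exact Subgroup.mem_center_iff.mp (hZc b hb) a
      · exact (Subgroup.mem_center_iff.mp (hZc a ha) _).symm
      · exact Subgroup.mem_center_iff.mp (hZc b hb) _
      · rfl)
  set E := Z ⊔ Subgroup.zpowers x with hE
  have hEeq : E = Subgroup.closure ((Z : Set R) ∪ {x}) := by
    rw [Subgroup.closure_union, Subgroup.closure_eq, ← Subgroup.zpowers_eq_closure]
  refine ⟨E, ⟨fun b hb r => ?_⟩, ?_, ?_⟩
  · have : E ≤ E.comap (MulAut.conj r).toMonoidHom := by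
      refine sup_le (fun a ha => Subgroup.mem_sup_left ?_) (Subgroup.zpowers_le.mpr ?_)
      · show r * a * r⁻¹ ∈ Z
        rw [Subgroup.mem_center_iff.mp (hZc a ha) r, mul_inv_cancel_right]
        exact ha
      · show r * x * r⁻¹ ∈ E
        have e : r * x * r⁻¹ = ⁅r, x⁆ * x := by rw [commutatorElement_def]; group
        rw [e]
        exact mul_mem (Subgroup.mem_sup_left (hxr r)) (Subgroup.mem_sup_right (Subgroup.mem_zpowers x))
    exact this hb
  · rw [hEeq]
    refine ⟨hcomm, fun b hb => ?_⟩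
    induction hb using Subgroup.closure_induction with
    | mem a ha => rcases ha with ha | rfl
                  · exact hZp a ha
                  · exact hxp
    | one => exact one_pow _
    | mul a b ha hb iha ihb =>
      rw [(show Commute a b from congrArg Subtype.val (hcomm.is_comm.comm ⟨a, ha⟩ ⟨b, hb⟩)).mul_pow,
        iha, ihb, one_mul]
    | inv a _ iha => rw [inv_pow, iha, inv_one]
  · have hdisj : Z ⊓ Subgroup.zpowers x = ⊥ := by
      rw [eq_bot_iff]
      rintro a ⟨ha, hax⟩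
      by_contra hne
      have ha1 : a ≠ 1 := fun e => hne (Subgroup.mem_bot.mpr e)
      have h1 : Subgroup.zpowers a = Subgroup.zpowers x := Subgroup.eq_of_le_of_card_ge
        (Subgroup.zpowers_le.mpr hax) (by
          rw [Nat.card_zpowers, Nat.card_zpowers, orderOf_eq_prime (hZp a ha) ha1]
          exact Nat.le_of_dvd hp.out.pos (orderOf_dvd_of_pow_eq_one hxp))
      exact hxZ (Subgroup.zpowers_le.mpr ha (h1 ▸ Subgroup.mem_zpowers x))
    have hcard := Coprime.card_sup_mul_card_inf (N := Z) (H := Subgroup.zpowers x)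
      (fun y _ => Subgroup.centralizer_le_normalizer _ (Subgroup.mem_centralizer_iff.mpr fun a ha =>
        (Subgroup.mem_center_iff.mp (hZc a ha) y).symm))
    rw [hdisj, Subgroup.card_bot, mul_one, hZ, Nat.card_zpowers, hzo, Nat.card_zpowers,
      orderOf_eq_prime hxp (fun e => hxZ (e ▸ one_mem _))] at hcard
    rw [hE, hZ, hcard, pow_two]

end Basic

variable {G : Type u} [Group G] [Finite G] (hG : Cfsg.IsMinSimpleOddOrder G)
include hG

theorem prime_ne_two_of_dvd {p : ℕ} (h : p ∣ Nat.card G) : p ≠ 2 := by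
  rintro rfl
  exact absurd (hG.1.of_dvd_nat h) (by decide)

theorem prime_ne_two_of_elementary {p : ℕ} [hp : Fact p.Prime] {B : Subgroup G}
    (hB : Cfsg.IsElementaryAbelian p B) (h : 1 < Nat.card B) : p ≠ 2 := by
  obtain ⟨k, hk⟩ := IsPGroup.iff_card.mp (isPGroup_of_elementary hB)
  rcases k with _ | k
  · rw [hk, pow_zero] at h; exact absurd h (lt_irrefl 1)
  · exact prime_ne_two_of_dvd hG ((dvd_pow_self p k.succ_ne_zero).trans
      (hk ▸ Subgroup.card_subgroup_dvd_card B))

theorem inUniqueMaximal_of_le {A B : Subgroup G} (hA : Cfsg.InUniqueMaximal A) (hAB : A ≤ B)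
    (hB : B ≠ ⊤) : Cfsg.InUniqueMaximal B := by
  obtain ⟨M, ⟨hM, hAM⟩, huniq⟩ := hA
  obtain ⟨K, hK, hBK⟩ := exists_coatom_ge hG hB
  exact ⟨K, ⟨hK, hBK⟩, fun L hL => (huniq L ⟨hL.1, hAB.trans hL.2⟩).trans
    (huniq K ⟨hK, hAB.trans hBK⟩).symm⟩

theorem ne_bot_of_inUniqueMaximal {L : Subgroup G} (hL : Cfsg.InUniqueMaximal L) : L ≠ ⊥ := by
  rintro rfl
  obtain ⟨M, ⟨hM, -⟩, huniq⟩ := hL
  refine hM.1 (eq_top_iff.mpr fun x _ => ?_)
  have hne : Subgroup.zpowers x ≠ ⊤ := fun h => hG.2.2.1 ⟨⟨fun a b => by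
    obtain ⟨i, rfl⟩ := Subgroup.mem_zpowers_iff.mp (h.symm ▸ Subgroup.mem_top a)
    obtain ⟨j, rfl⟩ := Subgroup.mem_zpowers_iff.mp (h.symm ▸ Subgroup.mem_top b)
    exact ((Commute.refl x).zpow_zpow i j).eq⟩⟩
  obtain ⟨K, hK, hle⟩ := exists_coatom_ge hG hne
  exact huniq K ⟨hK, bot_le⟩ ▸ hle (Subgroup.mem_zpowers x)

theorem centralizer_ne_top_of_inUniqueMaximal {L : Subgroup G} (hL : Cfsg.InUniqueMaximal L) :
    Subgroup.centralizer (L : Set G) ≠ ⊤ := by
  obtain ⟨⟨l, hl⟩, hl1⟩ := Subgroup.ne_bot_iff_exists_ne_one.mp (ne_bot_of_inUniqueMaximal hG hL)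
  exact fun h => centralizer_singleton_ne_top hG (b := l) (fun e => hl1 (Subtype.ext e))
    (top_le_iff.mp (h ▸ Subgroup.centralizer_le (Set.singleton_subset_iff.mpr hl)))

theorem inUniqueMaximal_map_conj {A : Subgroup G} (hA : Cfsg.InUniqueMaximal A) (g : G) :
    Cfsg.InUniqueMaximal (A.map (MulAut.conj g).toMonoidHom) := by
  obtain ⟨M, ⟨hM, hAM⟩, huniq⟩ := hA
  let e := (MulAut.conj g).mapSubgroup
  refine ⟨e M, ⟨e.isCoatom_iff M |>.mpr hM, Subgroup.map_mono hAM⟩, fun L hL => ?_⟩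
  have h1 := huniq (e.symm L) ⟨e.symm.isCoatom_iff L |>.mpr hL.1,
    (e.symm_apply_apply A).ge.trans (e.symm.monotone (show e A ≤ L from hL.2))⟩
  rw [← h1, e.apply_symm_apply]

section

variable {p : ℕ} [hp : Fact p.Prime]

theorem inUniqueMaximal_of_centralizing {L B : Subgroup G} (hL : Cfsg.InUniqueMaximal L)
    (hB : Cfsg.IsElementaryAbelian p B) (hBc : p < Nat.card B)
    (hBL : B ≤ Subgroup.centralizer (L : Set G)) : Cfsg.InUniqueMaximal B := by
  obtain ⟨M, ⟨hM, hLM⟩, huniq⟩ := hL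
  have hCb : ∀ b ∈ B, b ≠ 1 → Subgroup.centralizer ({b} : Set G) ≤ M := by
    intro b hb hb1
    obtain ⟨K, hK, hle⟩ := exists_coatom_ge hG (centralizer_singleton_ne_top hG hb1)
    have hLK : L ≤ K := le_trans (fun l hl => Subgroup.mem_centralizer_singleton_iff.mpr
      (Subgroup.mem_centralizer_iff.mp (hBL hb) l hl)) hle
    exact huniq K ⟨hK, hLK⟩ ▸ hle
  have hBM : B ≤ M := fun b hb => by
    by_cases hb1 : b = 1
    · exact hb1 ▸ one_mem M
    · exact hCb b hb hb1 (Subgroup.mem_centralizer_singleton_iff.mpr rfl)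
  exact Cfsg.Agent.S1398.result hG M hM p B hBM hB (not_isCyclic_of_elementary hB hBc) (Or.inl hCb)

/-- All elementary abelian subgroups of rank at least three are unique if one of them is. -/
theorem inUniqueMaximal_elementary_transfer {F₁ F₂ : Subgroup G}
    (h₁ : Cfsg.IsElementaryAbelian p F₁) (hc₁ : p ^ 2 < Nat.card F₁) (hU : Cfsg.InUniqueMaximal F₁)
    (h₂ : Cfsg.IsElementaryAbelian p F₂) (hc₂ : p ^ 2 < Nat.card F₂) : Cfsg.InUniqueMaximal F₂ := by
  have hone : 1 < p ^ 2 := Nat.one_lt_pow two_ne_zero hp.out.one_lt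
  have hp2 := prime_ne_two_of_elementary hG h₁ (hone.trans hc₁)
  obtain ⟨S, hS⟩ := (isPGroup_of_elementary h₂).exists_le_sylow
  obtain ⟨T, hT⟩ := (isPGroup_of_elementary h₁).exists_le_sylow
  obtain ⟨g, hg⟩ := MulAction.exists_smul_eq G T S
  set F := F₁.map (MulAut.conj g).toMonoidHom with hF
  have hFe : Cfsg.IsElementaryAbelian p F := isElementaryAbelian_map h₁ _
  have hFU : Cfsg.InUniqueMaximal F := inUniqueMaximal_map_conj hG hU g
  have hFc : p ^ 2 < Nat.card F := by
    rwa [Subgroup.card_map_of_injective (MulAut.conj g).injective]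
  have hFS : F ≤ (S : Subgroup G) := by
    rw [← hg]
    rintro _ ⟨x, hx, rfl⟩
    exact Subgroup.mem_map_of_mem _ (hT hx)
  have hsub : ∀ {X : Subgroup G}, X ≤ (S : Subgroup G) →
      Nat.card (X.subgroupOf (S : Subgroup G)) = Nat.card X := fun hX =>
    Nat.card_congr (Subgroup.subgroupOfEquivOfLe hX).toEquiv
  have hVe : Cfsg.IsElementaryAbelian p (F₂.subgroupOf (S : Subgroup G)) :=
    ⟨⟨⟨fun a b => Subtype.ext (Subtype.ext (congrArg Subtype.val
      (h₂.1.is_comm.comm ⟨a.1.1, a.2⟩ ⟨b.1.1, b.2⟩) :))⟩⟩, fun b hb => Subtype.ext (h₂.2 _ hb)⟩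
  obtain ⟨E, hEn, hEe, hE2⟩ := exists_normal_elementary_sq hp2 S.isPGroup' hVe (by
    rw [hsub hS]; exact lt_of_le_of_lt (Nat.le_self_pow two_ne_zero p) hc₂)
  have hidx := index_centralizer_le S.isPGroup' E hE2
  set E' := E.map (S : Subgroup G).subtype with hE'
  have hD : ∀ {X : Subgroup G}, X ≤ (S : Subgroup G) → p ^ 2 < Nat.card X →
      p < Nat.card ↥(X ⊓ Subgroup.centralizer (E' : Set G)) := by
    intro X hX hXc
    set X' := X.subgroupOf (S : Subgroup G) with hX'
    set C := Subgroup.centralizer (E : Set (S : Subgroup G)) with hC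
    have h1 : C.relIndex X' ≤ p :=
      (Nat.le_of_dvd (Nat.pos_of_ne_zero Subgroup.index_ne_zero_of_finite)
        (Subgroup.relIndex_dvd_index_of_normal C X')).trans hidx
    have h2 : Nat.card ↥(C ⊓ X') * C.relIndex X' = Nat.card X' := by
      rw [← Subgroup.inf_relIndex_right, Subgroup.relIndex,
        ← Nat.card_congr (Subgroup.subgroupOfEquivOfLe (inf_le_right : C ⊓ X' ≤ X')).toEquiv,
        Subgroup.card_mul_index]
    have h3 : p < Nat.card ↥(C ⊓ X') := by
      by_contra hle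
      rw [not_lt] at hle
      have := Nat.mul_le_mul hle h1
      rw [h2, hsub hX, ← pow_two] at this
      exact absurd hXc (not_lt.mpr this)
    refine h3.trans_le ?_
    rw [← Subgroup.card_map_of_injective (K := C ⊓ X') (S : Subgroup G).subtype_injective]
    refine Subgroup.card_le_of_le ?_
    rintro _ ⟨x, ⟨hxC, hxX⟩, rfl⟩
    refine ⟨hxX, Subgroup.mem_centralizer_iff.mpr ?_⟩
    rintro _ ⟨e, he, rfl⟩
    exact congrArg Subtype.val (Subgroup.mem_centralizer_iff.mp hxC e he)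
  set D := F ⊓ Subgroup.centralizer (E' : Set G) with hDdef
  have hDU : Cfsg.InUniqueMaximal D := inUniqueMaximal_of_centralizing hG hFU
    (isElementaryAbelian_mono hFe inf_le_left) (hD hFS hFc) (inf_le_left.trans (le_centralizer_self hFe.1))
  have hE'e : Cfsg.IsElementaryAbelian p E' := isElementaryAbelian_map hEe _
  have hE'U : Cfsg.InUniqueMaximal E' := inUniqueMaximal_of_centralizing hG hDU hE'e (by
    rw [Subgroup.card_map_of_injective (S : Subgroup G).subtype_injective, hE2]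
    exact lt_self_pow₀ hp.out.one_lt (by norm_num)) (Subgroup.le_centralizer_iff.mp inf_le_right)
  exact inUniqueMaximal_of_centralizing hG
    (inUniqueMaximal_of_centralizing hG hE'U (isElementaryAbelian_mono h₂ inf_le_left) (hD hS hc₂)
      inf_le_right)
    h₂ (lt_of_le_of_lt (Nat.le_self_pow two_ne_zero p) hc₂)
    ((le_centralizer_self h₂.1).trans (Subgroup.centralizer_le inf_le_left))

/-- An abelian subgroup of rank three is unique as soon as one elementary one is. -/
theorem inUniqueMaximal_abelian_of_elementary {F₁ A : Subgroup G}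
    (h₁ : Cfsg.IsElementaryAbelian p F₁) (hc₁ : p ^ 2 < Nat.card F₁) (hU : Cfsg.InUniqueMaximal F₁)
    (hAp : IsPGroup p A) (hA3 : ¬ Cfsg.PRankLE p 2 A) : Cfsg.InUniqueMaximal A := by
  obtain ⟨F, hFA, hFe, hFc⟩ := exists_elementary_of_not_pRankLE hA3
  exact inUniqueMaximal_of_le hG (inUniqueMaximal_elementary_transfer hG h₁ hc₁ hU hFe hFc) hFA
    (ne_top_of_isPGroup hG hAp)

/-- An elementary subgroup of rank three in a unique abelian subgroup is unique. -/
theorem inUniqueMaximal_elementary_of_abelian {F A : Subgroup G} (hA : Cfsg.InUniqueMaximal A)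
    (hAc : IsMulCommutative A) (hF : Cfsg.IsElementaryAbelian p F) (hFc : p ^ 2 < Nat.card F)
    (hFA : F ≤ A) : Cfsg.InUniqueMaximal F :=
  inUniqueMaximal_of_centralizing hG hA hF (lt_of_le_of_lt (Nat.le_self_pow two_ne_zero p) hFc)
    (hFA.trans (le_centralizer_self hAc))

/-- A maximal subgroup with a Fitting subgroup of rank three makes a unique elementary subgroup. -/
theorem exists_unique_elementary_of_fitting {M : Subgroup G} (hM : IsCoatom M)
    (hF : ¬ Cfsg.PRankLE p 2 (Cfsg.fittingOf M)) :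
    ∃ F₁ : Subgroup G, Cfsg.IsElementaryAbelian p F₁ ∧ p ^ 2 < Nat.card F₁ ∧ Cfsg.InUniqueMaximal F₁ := by
  obtain ⟨A₀, hA₀, hA₀e, hA₀c⟩ := exists_elementary_of_not_pRankLE hF
  obtain ⟨k, hk⟩ := IsPGroup.iff_card.mp (isPGroup_of_elementary hA₀e)
  have hk3 : p ^ 3 ≤ Nat.card A₀ :=
    hk ▸ Nat.pow_le_pow_right hp.out.pos ((Nat.pow_lt_pow_iff_right hp.out.one_lt).mp (hk ▸ hA₀c))
  by_cases hFp : IsPGroup p (Cfsg.fittingOf M)
  · have hA₀1 : A₀ ≠ ⊥ := fun h => by
      rw [h, Subgroup.card_bot] at hA₀c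
      exact absurd hA₀c (not_lt.mpr (Nat.one_le_pow _ _ hp.out.pos))
    obtain ⟨P⟩ : Nonempty (Sylow p M) := inferInstance
    obtain ⟨hidx, hall⟩ := sylow_and_scn_of_fitting_pGroup hG hM hA₀ hA₀1 hFp P
    set S : Sylow p G := (P.isPGroup'.map M.subtype).toSylow hidx with hS
    obtain ⟨A, hA, hAc, hA3⟩ := exists_scn_three hG S fun h => hF
      (pRankLE_of_injective (Cfsg.fittingOf M).subtype (Subgroup.subtype_injective _) h)
    obtain ⟨-, hAU⟩ := hall A hA hA3
    obtain ⟨F₁, hF₁A, hF₁e, hF₁c⟩ := exists_elementary_of_not_pRankLE hA3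
    exact ⟨F₁, hF₁e, hF₁c, inUniqueMaximal_elementary_of_abelian hG hAU hAc hF₁e hF₁c hF₁A⟩
  · exact ⟨A₀, hA₀e, hA₀c, inUniqueMaximal_of_centralizing hG
      (inUniqueMaximal_fitting_centralizer hG hM hA₀ hA₀e hk3 hFp) hA₀e
      (lt_of_le_of_lt (Nat.le_self_pow two_ne_zero p) hA₀c)
      (Subgroup.le_centralizer_iff.mp inf_le_right)⟩

/-- A noncyclic `p`-subgroup centralizing a unique subgroup of rank three is unique. -/
theorem inUniqueMaximal_noncyclic_of_centralizing {F B : Subgroup G} (hF : Cfsg.InUniqueMaximal F)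
    (hB : IsPGroup p B) (hBnc : ¬ IsCyclic B) (hBF : B ≤ Subgroup.centralizer (F : Set G)) :
    Cfsg.InUniqueMaximal B := by
  have hp2 : p ≠ 2 := by
    obtain ⟨k, hk⟩ := IsPGroup.iff_card.mp hB
    rcases k with _ | k
    · exact absurd (by have := (Nat.card_eq_one_iff_unique.mp (hk.trans (pow_zero p))).1; infer_instance) hBnc
    · exact prime_ne_two_of_dvd hG ((dvd_pow_self p k.succ_ne_zero).trans
        (hk ▸ Subgroup.card_subgroup_dvd_card B))
  obtain ⟨V, hVB, hVe, hV2⟩ := exists_elementary_sq_of_not_cyclic hp2 B hB hBnc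
  exact inUniqueMaximal_of_le hG (inUniqueMaximal_of_centralizing hG hF hVe
    (hV2 ▸ lt_self_pow₀ hp.out.one_lt (by norm_num)) (hVB.trans hBF)) hVB (ne_top_of_isPGroup hG hB)

end

end Cfsg.Agent.Lib.OddLocal
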