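import Cfsg.Agent.Lib.OddLocal.AlphaCore
import Cfsg.Agent.Lib.OddLocal.Omega

/-! Centralizers with fixed points of rank two in `M_α`. -/

set_option autoImplicit false

open scoped commutatorElement

namespace Cfsg.Agent.Lib.OddLocal

universe u

variable {G : Type u} [Group G] [Finite G] (hG : Cfsg.IsMinSimpleOddOrder G)
  {M : Subgroup G} (hM : IsCoatom M)

theorem exists_elementary_map {p k : ℕ} {H : Subgroup G} {L : Subgroup H}
    (h : ∃ F : Subgroup H, F ≤ L ∧ Cfsg.IsElementaryAbelian p F ∧ p ^ k < Nat.card F) :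
    ∃ F : Subgroup G, F ≤ L.map H.subtype ∧ Cfsg.IsElementaryAbelian p F ∧ p ^ k < Nat.card F := by
  obtain ⟨F, hFL, hFe, hFc⟩ := h
  exact ⟨F.map H.subtype, Subgroup.map_mono hFL, isElementaryAbelian_map hFe _, by
    rwa [Subgroup.card_map_of_injective H.subtype_injective]⟩

include hG hM

theorem mem_alpha_of_dvd_alphaCore {p : ℕ} (hp : p.Prime) (h : p ∣ Nat.card (Cfsg.alphaCore M)) :
    p ∈ Cfsg.alpha M := by
  rw [Cfsg.alphaCore, Subgroup.card_map_of_injective M.subtype_injective] at h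
  exact Cores.mem_of_prime_dvd_card_piCore hp h

theorem elementary_le_alphaCore {p : ℕ} [hp : Fact p.Prime] (hpα : p ∈ Cfsg.alpha M) {F : Subgroup G}
    (hFM : F ≤ M) (hF : IsPGroup p F) : F ≤ Cfsg.alphaCore M := by
  obtain ⟨T, hT⟩ := (hF.of_equiv (Subgroup.subgroupOfEquivOfLe hFM).symm).exists_le_sylow
  exact fun x hx => ⟨⟨x, hFM hx⟩, (alphaCore_data hG hM).1 p hp.out hpα T (hT hx), rfl⟩

/-- A rank two group of fixed points in `M_α` makes the centralizer unique. -/
theorem inUniqueMaximal_centralizer {X : Subgroup G} (hXM : X ≤ M)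
    (hXα : ∀ q : ℕ, q.Prime → q ∣ Nat.card X → q ∉ Cfsg.alpha M)
    {p : ℕ} [hp : Fact p.Prime] {B : Subgroup G}
    (hBle : B ≤ Cfsg.alphaCore M ⊓ Subgroup.centralizer (X : Set G))
    (hB : Cfsg.IsElementaryAbelian p B) (hBc : p < Nat.card B) :
    Cfsg.InUniqueMaximal (M ⊓ Subgroup.centralizer (X : Set G)) := by
  set Mα := Cfsg.alphaCore M with hMα
  have hMαM : Mα ≤ M := Subgroup.map_subtype_le _
  have hBp : IsPGroup p B := isPGroup_of_elementary hB
  have hpα : p ∈ Cfsg.alpha M := by
    refine mem_alpha_of_dvd_alphaCore hG hM hp.out ?_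
    obtain ⟨k, hk⟩ := IsPGroup.iff_card.mp hBp
    rcases k with _ | k
    · rw [hk, pow_zero] at hBc; exact absurd hBc (not_lt.mpr hp.out.pos)
    · exact (dvd_pow_self p k.succ_ne_zero).trans (hk ▸ Subgroup.card_dvd_of_le (hBle.trans inf_le_left))
  have hne : M ⊓ Subgroup.centralizer (X : Set G) ≠ ⊤ := fun h => hM.1 (top_le_iff.mp (h ▸ inf_le_left))
  have hBC : B ≤ M ⊓ Subgroup.centralizer (X : Set G) :=
    le_inf ((hBle.trans inf_le_left).trans hMαM) (hBle.trans inf_le_right)
  have hMαs : Group.IsSolvable Mα := Coprime.isSolvable_of_injective (f := Subgroup.inclusion hMαM)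
    (Subgroup.inclusion_injective _) (isSolvable_of_ne_top hG hM.1)
  have hcop : (Nat.card X).Coprime (Nat.card Mα) := Nat.coprime_of_dvd fun q hq h1 h2 =>
    hXα q hq h1 (mem_alpha_of_dvd_alphaCore hG hM hq h2)
  have hXMα : X ≤ Subgroup.normalizer (Mα : Set G) :=
    hXM.trans (Subgroup.le_normalizer.trans (Cores.normalizer_le_normalizer_map_subtype M _))
  obtain ⟨T, hBT, hXT⟩ := Coprime.exists_invariant_sylow_ge hXMα hcop (Or.inr hMαs) p B
    (hBle.trans inf_le_left) hBp ((Subgroup.le_centralizer_iff.mp (hBle.trans inf_le_right)).trans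
      (Subgroup.centralizer_le_normalizer _))
  set P := (T : Subgroup Mα).map Mα.subtype with hP
  have hPp : IsPGroup p P := T.isPGroup'.map _
  by_cases hext : ∃ x ∈ P ⊓ Subgroup.centralizer (B : Set G), x ^ p = 1 ∧ x ∉ B
  · obtain ⟨x, hx, hxp, hxB⟩ := hext
    have hFe : Cfsg.IsElementaryAbelian p (B ⊔ Subgroup.zpowers x) := isElementary_sup_zpowers hB hx.2 hxp
    have hlt : B < B ⊔ Subgroup.zpowers x := lt_of_le_of_ne le_sup_left fun h =>
      hxB (h.symm ▸ Subgroup.mem_sup_right (Subgroup.mem_zpowers x))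
    have hc : p ^ 2 < Nat.card ↥(B ⊔ Subgroup.zpowers x) := by
      obtain ⟨i, hi⟩ := IsPGroup.iff_card.mp hBp
      obtain ⟨j, hj⟩ := IsPGroup.iff_card.mp (isPGroup_of_elementary hFe)
      have h1 : Nat.card B < Nat.card ↥(B ⊔ Subgroup.zpowers x) :=
        lt_of_le_of_ne (Subgroup.card_le_of_le hlt.le) fun h =>
          hlt.ne (Subgroup.eq_of_le_of_card_ge hlt.le h.ge)
      rw [hi] at h1 hBc
      rw [hj] at h1 ⊢
      have h2 := (Nat.pow_lt_pow_iff_right hp.out.one_lt).mp h1
      have h3 : 1 < i := (Nat.pow_lt_pow_iff_right hp.out.one_lt).mp (by rwa [pow_one])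
      exact Nat.pow_lt_pow_right hp.out.one_lt (by omega)
    exact inUniqueMaximal_of_le hG (inUniqueMaximal_of_centralizing hG
      (inUniqueMaximal_elementary hG hFe hc) hB hBc
      ((le_centralizer_self hFe.1).trans' le_sup_left)) hBC hne
  · push Not at hext
    have hp2 : p ≠ 2 := prime_ne_two_of_elementary hG hB (lt_trans hp.out.one_lt hBc)
    have hcopX : (Nat.card X).Coprime p :=
      Nat.Coprime.symm (hp.out.coprime_iff_not_dvd.mpr fun h => hXα p hp.out h hpα)
    have hcopP : (Nat.card X).Coprime (Nat.card P) := by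
      obtain ⟨k, hk⟩ := IsPGroup.iff_card.mp hPp
      rw [hk]; exact hcopX.pow_right k
    have hXB : X ≤ Subgroup.centralizer (B : Set G) := Subgroup.le_centralizer_iff.mp (hBle.trans inf_le_right)
    have hfix : X ≤ Subgroup.centralizer ((P ⊓ Subgroup.centralizer (B : Set G) : Subgroup G) : Set G) := by
      refine le_centralizer_of_fixes_pow_eq_one hp2 hcopX _ (hPp.to_le inf_le_left)
        (le_trans (le_inf hXT (hXB.trans (Subgroup.centralizer_le_normalizer _) |>.trans
          fun g hg => normalizer_le_normalizer_centralizer_u B hg)) Subgroup.inf_normalizer_le_normalizer_inf)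
        fun x hx hxp => ?_
      exact hXB.trans (Subgroup.centralizer_le (Set.singleton_subset_iff.mpr (hext x hx hxp)))
    have hXP : X ≤ Subgroup.centralizer (P : Set G) := by
      refine le_centralizer_of_centralizer_fixed_le hPp.isNilpotent hXT hcopP ?_
      refine le_trans (inf_le_inf_left _ (Subgroup.centralizer_le (show (B : Set G) ⊆ _ from
        fun b hb => ⟨hBT hb, (hBle hb).2⟩))) (le_inf inf_le_left (Subgroup.le_centralizer_iff.mp hfix))
    have hr : ¬ Cfsg.PRankLE p 2 P := by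
      intro h
      have hα := hpα.2
      obtain ⟨F, hFM, hFe, hFc⟩ := exists_elementary_of_not_pRankLE hα
      have hFα := elementary_le_alphaCore hG hM hpα hFM (isPGroup_of_elementary hFe)
      obtain ⟨T', hT'⟩ :=
        ((isPGroup_of_elementary hFe).of_equiv (Subgroup.subgroupOfEquivOfLe hFα).symm).exists_le_sylow
      obtain ⟨a, ha⟩ := MulAction.exists_smul_eq Mα T' T
      have hle : F.map (MulAut.conj (a : G)).toMonoidHom ≤ P := by
        rintro _ ⟨x, hx, rfl⟩
        refine ⟨a * ⟨x, hFα hx⟩ * a⁻¹, ?_, rfl⟩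
        rw [← ha]
        exact Subgroup.mem_map_of_mem _ (hT' hx)
      have h1 := h ((F.map (MulAut.conj (a : G)).toMonoidHom).subgroupOf P)
        ⟨⟨fun u v => Subtype.ext (Subtype.ext (congrArg Subtype.val
          ((isElementaryAbelian_map hFe (MulAut.conj (a : G)).toMonoidHom).1.is_comm.comm
            ⟨u.1.1, u.2⟩ ⟨v.1.1, v.2⟩) :))⟩⟩
        (fun u hu => Subtype.ext ((isElementaryAbelian_map hFe (MulAut.conj (a : G)).toMonoidHom).2 _ hu))
      rw [Nat.card_congr (Subgroup.subgroupOfEquivOfLe hle).toEquiv,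
        Subgroup.card_map_of_injective (MulAut.conj (a : G)).injective] at h1
      exact absurd hFc (not_lt.mpr h1)
    exact inUniqueMaximal_of_le hG (inUniqueMaximal_pGroup hG hPp hr)
      (le_inf ((Subgroup.map_subtype_le _).trans hMαM) (Subgroup.le_centralizer_iff.mp hXP)) hne

end Cfsg.Agent.Lib.OddLocal
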