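import Cfsg.Agent.Lib.OddLocal.SigmaFusion
import Cfsg.Agent.Lib.Cores.PiCore
import Mathlib.GroupTheory.Focal

/-! The subgroups `M_α` of a maximal subgroup. -/

set_option autoImplicit false

open scoped commutatorElement

namespace Cfsg.Agent.Lib.OddLocal

universe u

variable {G : Type u} [Group G] [Finite G] (hG : Cfsg.IsMinSimpleOddOrder G)
include hG

theorem commutator_eq_top_of_minSimple : commutator G = ⊤ := by
  have hsimp : IsSimpleGroup G := hG.2.1
  rcases hsimp.eq_bot_or_eq_top_of_normal (commutator G) inferInstance with h | h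
  · refine absurd ⟨⟨fun a b => commutatorElement_eq_one_iff_mul_comm.mp ?_⟩⟩ hG.2.2.1
    have := Subgroup.commutator_mem_commutator (Subgroup.mem_top a) (Subgroup.mem_top b)
    rwa [← commutator_def, h, Subgroup.mem_bot] at this
  · exact h

variable {M : Subgroup G} (hM : IsCoatom M)
include hM

/-- For `p` in `σ(M)` the Sylow `p`-subgroups of `M` lie in `M'`. -/
theorem sylow_le_commutator_of_sigma {p : ℕ} [hp : Fact p.Prime] (hp' : p ∈ Cfsg.sigma M)
    (P : Sylow p M) : (P : Subgroup M) ≤ commutator M := by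
  obtain ⟨-, -, P₀, hPN⟩ := id hp'
  suffices h : (P₀ : Subgroup M) ≤ commutator M by
    obtain ⟨a, ha⟩ := MulAction.exists_smul_eq M P₀ P
    rw [← ha]
    rintro _ ⟨x, hx, rfl⟩
    exact (inferInstance : (commutator M).Normal).conj_mem x (h hx) a
  obtain ⟨S, hS⟩ := exists_sylow_of_normalizer_le hG P₀ hPN
  have hSM : (S : Subgroup G) ≤ M := hS ▸ Subgroup.map_subtype_le _
  have hfoc : (S : Subgroup G) ≤ ⁅M, M⁆ := by
    refine (le_inf le_top le_rfl).trans ?_
    rw [← commutator_eq_top_of_minSimple hG, Subgroup.commutator_inf_eq_focalSubgroup, Subgroup.focalSubgroup_def,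
      Subgroup.closure_le]
    rintro g ⟨hg, x, hx, u, rfl⟩
    by_cases hx1 : x = 1
    · subst hx1
      simp
    have hconj : u * x⁻¹ * u⁻¹ ∈ M := by
      have h1 : x⁻¹ * ⁅x, u⁆ ∈ (S : Subgroup G) := mul_mem (inv_mem hx) hg
      rw [show x⁻¹ * ⁅x, u⁆ = u * x⁻¹ * u⁻¹ by rw [commutatorElement_def]; group] at h1
      exact hSM h1
    have hle : (Subgroup.zpowers x⁻¹).map (MulAut.conj u).toMonoidHom ≤ M := by
      rw [MonoidHom.map_zpowers, Subgroup.zpowers_le]
      exact hconj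
    obtain ⟨m, hm, c, hc, rfl⟩ := exists_mul_centralizer_of_conj_le hG hM hp' _
      (S.isPGroup'.to_le (Subgroup.zpowers_le.mpr (inv_mem hx)))
      (by rwa [Ne, Subgroup.zpowers_eq_bot, inv_eq_one])
      (Subgroup.zpowers_le.mpr (hSM (inv_mem hx))) u hle
    have hcx : c * x⁻¹ * c⁻¹ = x⁻¹ := by
      rw [← Subgroup.mem_centralizer_iff.mp hc x⁻¹ (Subgroup.mem_zpowers _), mul_inv_cancel_right]
    have he : ⁅x, m * c⁆ = ⁅x, m⁆ := by
      rw [commutatorElement_def, commutatorElement_def]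
      calc x * (m * c) * x⁻¹ * (m * c)⁻¹ = x * m * (c * x⁻¹ * c⁻¹) * m⁻¹ := by group
        _ = _ := by rw [hcx]
    show ⁅x, m * c⁆ ∈ ⁅M, M⁆
    rw [he]
    exact Subgroup.commutator_mem_commutator (hSM hx) hm
  have h1 : (commutator M).map M.subtype = ⁅M, M⁆ := by
    rw [commutator_def, Subgroup.map_commutator, ← MonoidHom.range_eq_map, Subgroup.range_subtype]
  intro x hx
  have h2 : (x : G) ∈ (commutator M).map M.subtype := h1 ▸ hfoc (hS ▸ Subgroup.mem_map_of_mem _ hx)
  obtain ⟨y, hy, hyx⟩ := h2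
  rwa [← M.subtype_injective hyx]

theorem normalizer_sylow_le_of_alpha {p : ℕ} [hp : Fact p.Prime] (hp' : ¬ Cfsg.PRankLE p 2 M)
    (P : Sylow p M) :
    Subgroup.normalizer (((P : Subgroup M).map M.subtype : Subgroup G) : Set G) ≤ M := by
  set P₀ := (P : Subgroup M).map M.subtype with hP₀
  have hPp : IsPGroup p P₀ := P.isPGroup'.map _
  have hr : ¬ Cfsg.PRankLE p 2 P₀ := by
    intro h
    refine hp' fun D hD hDp => ?_
    have hDP : IsPGroup p D := fun b => ⟨1, Subtype.ext (by rw [pow_one]; exact hDp b b.2)⟩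
    obtain ⟨T, hT⟩ := hDP.exists_le_sylow
    obtain ⟨a, ha⟩ := MulAction.exists_smul_eq M T P
    have hle : (D.map (MulAut.conj a).toMonoidHom).map M.subtype ≤ P₀ := by
      rw [hP₀, ← ha]
      exact Subgroup.map_mono (Subgroup.map_mono hT)
    have h1 := h (((D.map (MulAut.conj a).toMonoidHom).map M.subtype).subgroupOf P₀) inferInstance (by
      intro z hz
      obtain ⟨_, ⟨y, hy, rfl⟩, hzy⟩ := Subgroup.mem_subgroupOf.mp hz
      refine Subtype.ext ?_
      show (z : G) ^ p = 1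
      rw [← hzy, ← map_pow, ← map_pow, hDp y hy, map_one, map_one])
    rwa [Nat.card_congr (Subgroup.subgroupOfEquivOfLe hle).toEquiv,
      Subgroup.card_map_of_injective M.subtype_injective,
      Subgroup.card_map_of_injective (MulAut.conj a).injective] at h1
  have hne : P₀ ≠ ⊥ := fun h => hr fun D _ _ => by
    have : Nat.card D ≤ 1 := (Subgroup.card_le_card_group D).trans (by rw [h, Subgroup.card_bot])
    exact this.trans (Nat.one_le_pow _ _ hp.out.pos)
  obtain ⟨K, hK, hNK⟩ := exists_coatom_normalizer_ge hG hPp hne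
  exact ExistsUnique.unique (inUniqueMaximal_pGroup hG hPp hr) ⟨hK, Subgroup.le_normalizer.trans hNK⟩
    ⟨hM, Subgroup.map_subtype_le _⟩ ▸ hNK

theorem alpha_subset_sigma : Cfsg.alpha M ⊆ Cfsg.sigma M := by
  rintro p ⟨hp, hp'⟩
  have := Fact.mk hp
  obtain ⟨P⟩ : Nonempty (Sylow p M) := inferInstance
  refine ⟨hp, ?_, P, normalizer_sylow_le_of_alpha hG hM hp' P⟩
  simp only [Cfsg.PRankLE] at hp'
  push Not at hp'
  obtain ⟨D, -, hDp, hD⟩ := hp'
  obtain ⟨k, hk⟩ := IsPGroup.iff_card.mp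
    (show IsPGroup p D from fun b => ⟨1, Subtype.ext (by rw [pow_one]; exact hDp b b.2)⟩)
  rcases k with _ | k
  · rw [hk, pow_zero] at hD
    exact absurd hD (not_lt.mpr (Nat.one_le_pow _ _ hp.pos))
  · exact (dvd_pow_self p k.succ_ne_zero).trans (hk ▸ D.card_subgroup_dvd_card)

/-- The structure of `M / M_α`. -/
theorem alphaCore_data :
    (∀ p : ℕ, p.Prime → p ∈ Cfsg.alpha M → ∀ P : Sylow p M, (P : Subgroup M) ≤ Cfsg.piCore (Cfsg.alpha M) M) ∧
      commutator (M ⧸ Cfsg.piCore (Cfsg.alpha M) M) ≤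
        Cfsg.fittingSubgroup (M ⧸ Cfsg.piCore (Cfsg.alpha M) M) ∧
      Cfsg.RankLE 2 (M ⧸ Cfsg.piCore (Cfsg.alpha M) M) := by
  haveI : Group.IsSolvable M := isSolvable_of_ne_top hG hM.1
  set N := Cfsg.piCore (Cfsg.alpha M) M with hN
  set f := QuotientGroup.mk' N with hf
  have hcop : ∀ t : ℕ, t.Prime → t ∉ Cfsg.alpha M → (Nat.card N).Coprime t := fun t ht htα =>
    Nat.Coprime.symm (ht.coprime_iff_not_dvd.mpr fun hd => htα (Cores.mem_of_prime_dvd_card_piCore ht hd))
  have hbot : ∀ t : ℕ, t ∈ Cfsg.alpha M → Cfsg.pCore t (M ⧸ N) = ⊥ := by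
    intro t ht
    have := Fact.mk ht.1
    set T := (Cfsg.pCore t (M ⧸ N)).comap f with hT
    have hTn : T.Normal := (inferInstance : (Cfsg.pCore t (M ⧸ N)).Normal).comap f
    have hTle : T ≤ N := by
      refine Cores.le_piCore hTn fun r hr hd => ?_
      rw [hT, hf, Coprime.card_comap_mk'] at hd
      rcases hr.dvd_mul.mp hd with h | h
      · exact Cores.mem_of_prime_dvd_card_piCore hr h
      · obtain ⟨k, hk⟩ := IsPGroup.iff_card.mp (Cores.pCore_isPGroup t (M ⧸ N))
        rw [(Nat.prime_dvd_prime_iff_eq hr ht.1).mp (hr.dvd_of_dvd_pow (hk ▸ h))]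
        exact ht
    refine eq_bot_iff.mpr fun x hx => ?_
    obtain ⟨y, rfl⟩ := QuotientGroup.mk'_surjective N x
    exact Subgroup.mem_bot.mpr ((QuotientGroup.eq_one_iff y).mpr (hTle hx))
  have hcomm : commutator (M ⧸ N) ≤ Cfsg.fittingSubgroup (M ⧸ N) := by
    refine commutator_le_fitting_of_rank_two
      ((odd_card_subgroup hG M).of_dvd_nat (Subgroup.card_quotient_dvd_card N)) fun t ht => ?_
    have := Fact.mk ht
    by_cases htα : t ∈ Cfsg.alpha M
    · intro D _ _
      have : Nat.card D ≤ 1 := (Subgroup.card_le_card_group D).trans (by rw [hbot t htα, Subgroup.card_bot])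
      exact this.trans (Nat.one_le_pow _ _ ht.pos)
    · exact pRankLE_of_injective (Cfsg.pCore t (M ⧸ N)).subtype (Subgroup.subtype_injective _)
        (pRankLE_quotient N (hcop t ht htα) (not_not.mp fun h => htα ⟨ht, h⟩))
  have hsyl : ∀ p : ℕ, p.Prime → p ∈ Cfsg.alpha M → ∀ P : Sylow p M, (P : Subgroup M) ≤ N := by
    intro p hp hpα P x hx
    have := Fact.mk hp
    have h1 : f x ∈ Cfsg.fittingSubgroup (M ⧸ N) := by
      refine hcomm ?_
      have h : (commutator M).map f ≤ commutator (M ⧸ N) := by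
        rw [commutator_def, commutator_def, Subgroup.map_commutator]
        exact Subgroup.commutator_mono le_top le_top
      exact h (Subgroup.mem_map_of_mem f
        (sylow_le_commutator_of_sigma hG hM (alpha_subset_sigma hG hM hpα) P hx))
    obtain ⟨k, hk⟩ := IsPGroup.iff_orderOf.mp P.isPGroup' ⟨x, hx⟩
    rw [← Subgroup.orderOf_coe] at hk
    obtain ⟨j, -, hj⟩ := (Nat.dvd_prime_pow hp).mp ((orderOf_map_dvd f x).trans hk.dvd)
    have h2 := mem_pCore_of_isNilpotent (G := Cfsg.fittingSubgroup (M ⧸ N))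
      (Cores.fittingSubgroup_isNilpotent _) p (x := ⟨f x, h1⟩) ⟨j, by rw [← Subgroup.orderOf_coe]; exact hj⟩
    have h3 : f x ∈ Cfsg.pCore p (M ⧸ N) := Cores.map_subtype_pCore_le _ ⟨_, h2, rfl⟩
    rw [hbot p hpα, Subgroup.mem_bot] at h3
    exact (QuotientGroup.eq_one_iff x).mp h3
  refine ⟨hsyl, hcomm, fun t ht => ?_⟩
  have := Fact.mk ht
  by_cases htα : t ∈ Cfsg.alpha M
  · intro D hD hDp
    obtain ⟨k, hk⟩ := IsPGroup.iff_card.mp
      (show IsPGroup t D from fun b => ⟨1, Subtype.ext (by rw [pow_one]; exact hDp b b.2)⟩)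
    obtain ⟨P⟩ : Nonempty (Sylow t M) := inferInstance
    have hnd : ¬ t ∣ N.index := fun h =>
      P.not_dvd_index (h.trans (Subgroup.index_dvd_of_le (hsyl t ht htα P)))
    rcases k with _ | k
    · rw [hk, pow_zero]; exact Nat.one_le_pow _ _ ht.pos
    · exact absurd (((dvd_pow_self t k.succ_ne_zero).trans hk.symm.dvd).trans D.card_subgroup_dvd_card)
        (by rwa [← Subgroup.index_eq_card])
  · exact pRankLE_quotient N (hcop t ht htα) (not_not.mp fun h => htα ⟨ht, h⟩)

theorem sylow_le_alphaCore {p : ℕ} (hp : p.Prime) (hpα : p ∈ Cfsg.alpha M) :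
    ∃ S : Sylow p G, (S : Subgroup G) ≤ Cfsg.alphaCore M := by
  have := Fact.mk hp
  obtain ⟨P⟩ : Nonempty (Sylow p M) := inferInstance
  obtain ⟨S, hS⟩ := exists_sylow_of_normalizer_le hG P (normalizer_sylow_le_of_alpha hG hM hpα.2 P)
  exact ⟨S, hS.le.trans (Subgroup.map_mono ((alphaCore_data hG hM).1 p hp hpα P))⟩

end Cfsg.Agent.Lib.OddLocal
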