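import Cfsg.Agent.Lib.OddLocal.NilpotentParts
import Cfsg.Agent.Lib.Coprime.PxQ
import Cfsg.Agent.Lib.OddLocal.TransitivityExt

/-! Bender's uniqueness arguments around the Fitting subgroup of a maximal local subgroup. -/

set_option autoImplicit false

open scoped commutatorElement

namespace Cfsg.Agent.Lib.OddLocal

universe u

variable {G : Type u} [Group G] [Finite G]

/-- `M'` centralizes a `p`-subgroup `U` when the fixed points of `M_p` on `U` meet `[·, M']` in the
centralizer of `M'`. -/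
theorem le_centralizer_of_fixed_commutator {p : ℕ} [Fact p.Prime] {P Q U : Subgroup G}
    (hP : IsPGroup p P) (hQ : (Nat.card Q).Coprime p) (hU : IsPGroup p U)
    (hPQ : P ≤ Subgroup.centralizer (Q : Set G)) (hPU : P ≤ Subgroup.normalizer (U : Set G))
    (hQU : Q ≤ Subgroup.normalizer (U : Set G))
    (h : ∀ z ∈ ⁅U ⊓ Subgroup.centralizer (P : Set G), Q⁆, z ∈ Subgroup.centralizer (Q : Set G)) :
    Q ≤ Subgroup.centralizer (U : Set G) := by
  have hQP : Q ≤ Subgroup.centralizer (P : Set G) := Subgroup.le_centralizer_iff.mp hPQ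
  set Y := U ⊓ Subgroup.centralizer (P : Set G) with hY
  have hQY : Q ≤ Subgroup.normalizer (Y : Set G) :=
    le_trans (le_inf hQU (hQP.trans Subgroup.le_normalizer)) Subgroup.inf_normalizer_le_normalizer_inf
  obtain ⟨n, hn⟩ := IsPGroup.iff_card.mp (hU.to_le (inf_le_left : Y ≤ U))
  have h1 := Coprime.le_centralizer_of_commutator_commutator_eq_bot hQY (hn ▸ hQ.pow_right n)
    (Subgroup.commutator_eq_bot_iff_le_centralizer.mpr h)
  exact Coprime.le_centralizer_of_PxQ hP hQ hU hPQ hPU hQU (Subgroup.le_centralizer_iff.mp h1)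

/-- Mutually embedded Fitting subgroups: `O_p(L) ≤ O_p(F(H))`. -/
theorem pPartOf_fitting_le {H L : Subgroup G}
    (hCF : H ⊓ Subgroup.centralizer (Cfsg.fittingOf H : Set G) ≤ Cfsg.fittingOf H)
    (hFL : Cfsg.fittingOf H ≤ L) {p s : ℕ} [Fact p.Prime] [Fact s.Prime] (hps : p ≠ s)
    (hUH : pPartOf p (Cfsg.fittingOf L) ≤ H) (hSH : pPartOf s (Cfsg.fittingOf L) ≤ H)
    (hN : Subgroup.normalizer (pPartOf s (Cfsg.fittingOf L) : Set G) ≤ L) :
    pPartOf p (Cfsg.fittingOf L) ≤ pPartOf p (Cfsg.fittingOf H) := by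
  set F := Cfsg.fittingOf H with hF
  have hFn : Group.IsNilpotent F := isNilpotent_fittingOf H
  have hFH : F ≤ H := fittingOf_le H
  have hprime : ∀ r : ℕ, [Fact r.Prime] → pPartOf r (Cfsg.fittingOf L) ≤ H →
      pPartOf r (Cfsg.fittingOf L) ≤ Subgroup.centralizer (pComplOf r F : Set G) := by
    intro r _ hle u hu
    rw [Subgroup.mem_centralizer_iff]
    intro f hf
    have hfL : f ∈ L := hFL (pComplOf_le r F hf)
    obtain ⟨n, hn⟩ := IsPGroup.iff_card.mp (isPGroup_pPartOf r (Cfsg.fittingOf L))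
    have h1 : ⁅f, u⁆ ∈ pPartOf r (Cfsg.fittingOf L) ⊓ pComplOf r F := by
      refine ⟨Subgroup.mul_mem _ ((Subgroup.mem_normalizer_iff.mp (le_normalizer_fitting_pPart r L hfL) u).mp hu)
        (Subgroup.inv_mem _ hu), ?_⟩
      have h2 := mul_mem hf ((Subgroup.mem_normalizer_iff.mp
        (le_normalizer_fitting_pCompl r H (hle hu)) _).mp (inv_mem hf))
      simpa [commutatorElement_def, mul_assoc] using h2
    rw [Coprime.inf_eq_bot_of_coprime_card (hn ▸ ((coprime_pComplOf r F).pow_right n).symm),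
      Subgroup.mem_bot, commutatorElement_eq_one_iff_mul_comm] at h1
    exact h1
  set U := pPartOf p (Cfsg.fittingOf L) with hU
  set S := pPartOf s (Cfsg.fittingOf L) with hS
  set E := H ⊓ Subgroup.centralizer (pComplOf p F : Set G) with hE
  have hHE : H ≤ Subgroup.normalizer (E : Set G) := by
    refine le_normalizer_of_conj_mem' fun d hd x hx => ⟨H.mul_mem (H.mul_mem hd hx.1) (H.inv_mem hd), ?_⟩
    show d * x * d⁻¹ ∈ Subgroup.centralizer (pComplOf p F : Set G)
    rw [Subgroup.mem_centralizer_iff]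
    intro b hb
    have h2 := Subgroup.mem_centralizer_iff.mp hx.2 (d⁻¹ * b * d)
      ((Subgroup.mem_normalizer_iff''.mp (le_normalizer_fitting_pCompl p H hd) b).mp hb)
    calc b * (d * x * d⁻¹) = d * ((d⁻¹ * b * d) * x) * d⁻¹ := by group
      _ = d * (x * (d⁻¹ * b * d)) * d⁻¹ := by rw [h2]
      _ = _ := by group
  set D := Subgroup.closure {e : G | e ∈ E ∧ (orderOf e).Coprime s} with hD
  have hDE : D ≤ E := (Subgroup.closure_le E).mpr fun e he => he.1
  have hkey : ∀ e ∈ E, (orderOf e).Coprime s → e ∈ L := by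
    intro e he hes
    refine hN (Subgroup.centralizer_le_normalizer _ (Subgroup.mem_centralizer_iff.mpr fun x hx => ?_))
    have hxH : x ∈ H := hSH hx
    set z := ⁅e, x⁆ with hz
    have hxC : x ∈ Subgroup.centralizer (pComplOf s F : Set G) := hprime s hSH hx
    have hzE : z ∈ E := by
      have h2 := mul_mem he ((Subgroup.mem_normalizer_iff.mp (hHE hxH) _).mp (inv_mem he))
      simpa [hz, commutatorElement_def, mul_assoc] using h2
    have hzC : z ∈ Subgroup.centralizer (pComplOf s F : Set G) := by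
      have h2 : e * x * e⁻¹ ∈ Subgroup.centralizer (pComplOf s F : Set G) := by
        rw [Subgroup.mem_centralizer_iff]
        intro b hb
        have h3 := Subgroup.mem_centralizer_iff.mp hxC (e⁻¹ * b * e)
          ((Subgroup.mem_normalizer_iff''.mp (le_normalizer_fitting_pCompl s H he.1) b).mp hb)
        calc b * (e * x * e⁻¹) = e * ((e⁻¹ * b * e) * x) * e⁻¹ := by group
          _ = e * (x * (e⁻¹ * b * e)) * e⁻¹ := by rw [h3]
          _ = _ := by group
      exact mul_mem h2 (inv_mem hxC)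
    have hzF : z ∈ F := by
      refine hCF ⟨hzE.1, ?_⟩
      refine (le_centralizer_of_parts hFn (Y := Subgroup.zpowers z) fun r hr _ => ?_)
        (Subgroup.mem_zpowers z)
      have := Fact.mk hr
      rw [Subgroup.zpowers_le]
      by_cases hrp : r = p
      · subst hrp
        exact Subgroup.centralizer_le (pPartOf_le_pComplOf hps hFn) hzC
      · exact Subgroup.centralizer_le (pPartOf_le_pComplOf hrp hFn) hzE.2
    have hzc : ∀ f ∈ F, f * z = z * f := by
      intro f hf
      have h2 : z ∈ Subgroup.centralizer (F : Set G) := by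
        refine (le_centralizer_of_parts hFn (Y := Subgroup.zpowers z) fun r hr _ => ?_)
          (Subgroup.mem_zpowers z)
        have := Fact.mk hr
        rw [Subgroup.zpowers_le]
        by_cases hrp : r = p
        · subst hrp
          exact Subgroup.centralizer_le (pPartOf_le_pComplOf hps hFn) hzC
        · exact Subgroup.centralizer_le (pPartOf_le_pComplOf hrp hFn) hzE.2
      exact Subgroup.mem_centralizer_iff.mp h2 f hf
    set T := pPartOf s F with hT
    set z₁ := z ^ (orderOf z / s ^ (orderOf z).factorization s) with hz₁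
    set z₂ := z ^ s ^ (orderOf z).factorization s with hz₂
    have hz₁T : z₁ ∈ T := mem_pPartOf hFn (pow_mem hzF _) ⟨_, orderOf_pPart s z⟩
    have hz₂F : z₂ ∈ pComplOf s F := mem_pComplOf hFn (pow_mem hzF _) (orderOf_pCompl s z)
    have hzT : z ∈ T := by
      obtain ⟨a, b, hab⟩ : IsCoprime ((s ^ (orderOf z).factorization s : ℕ) : ℤ)
          ((orderOf z / s ^ (orderOf z).factorization s : ℕ) : ℤ) :=
        Nat.isCoprime_iff_coprime.mpr
          ((Nat.coprime_ordCompl Fact.out (orderOf_pos z).ne').pow_left _)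
      have hsplit : z = z₂ ^ a * z₁ ^ b := by
        rw [hz₁, hz₂, ← zpow_natCast, ← zpow_natCast z, ← zpow_mul, ← zpow_mul, ← zpow_add,
          mul_comm _ a, mul_comm _ b, hab, zpow_one]
      have hC : z₂ ^ a ∈ pComplOf s F := zpow_mem hz₂F a
      have hB : z₁ ^ b ∈ T := zpow_mem hz₁T b
      set c := z₂ ^ a with hc
      set d := z₁ ^ b * x with hd
      have hcd : Commute c d := Commute.mul_right (((Commute.refl z).pow_pow _ _).zpow_zpow a b)
        (Subgroup.mem_centralizer_iff.mp hxC c hC)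
      have hexe : e * x * e⁻¹ = c * d := by
        rw [hd, ← mul_assoc, ← hsplit, hz, commutatorElement_def]; group
      have hTS : IsPGroup s ↥(T ⊔ S) := (isPGroup_pPartOf s F).to_sup_of_normal_left'
        (isPGroup_pPartOf s _) (hSH.trans (le_normalizer_fitting_pPart s H))
      obtain ⟨i, hi⟩ := exists_orderOf_of_mem hTS
        (mul_mem (Subgroup.mem_sup_left hB) (Subgroup.mem_sup_right hx) : d ∈ T ⊔ S)
      obtain ⟨j, hj⟩ := exists_orderOf_of_mem (isPGroup_pPartOf s (Cfsg.fittingOf L)) hx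
      have hc1 : c = 1 := by
        have hcop : (orderOf c).Coprime (s ^ (i + j)) :=
          (((coprime_pComplOf s F).coprime_dvd_left
            (Subgroup.orderOf_dvd_natCard _ hC)).pow_right (i + j))
        have h4 : c ^ s ^ (i + j) = 1 := by
          have h5 : (c * d) ^ s ^ (i + j) = 1 := by
            rw [← hexe]
            apply orderOf_dvd_iff_pow_eq_one.mp
            rw [← MulAut.conj_apply, MulEquiv.orderOf_eq, hj]
            exact pow_dvd_pow s (Nat.le_add_left j i)
          rw [hcd.mul_pow, orderOf_dvd_iff_pow_eq_one.mp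
            (show orderOf d ∣ s ^ (i + j) by rw [hi]; exact pow_dvd_pow s (Nat.le_add_right i j)),
            mul_one] at h5
          exact h5
        exact orderOf_eq_one_iff.mp (Nat.eq_one_of_dvd_coprimes hcop dvd_rfl
          (orderOf_dvd_of_pow_eq_one h4))
      rw [hsplit, hc1, one_mul]
      exact hB
    have hez : e * z * e⁻¹ = z := by
      rw [← Subgroup.mem_centralizer_iff.mp he.2 z (pPartOf_le_pComplOf (Ne.symm hps) hFn hzT),
        mul_inv_cancel_right]
    have hconj : e * x * e⁻¹ = z * x := by rw [hz, commutatorElement_def]; group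
    have h6 := conj_pow_eq hconj hez (orderOf e)
    rw [pow_orderOf_eq_one, one_mul, inv_one, mul_one] at h6
    have h7 : z ^ orderOf e = 1 := mul_eq_right.mp h6.symm
    obtain ⟨k, hk⟩ := exists_orderOf_of_mem (isPGroup_pPartOf s F) hzT
    have hz1 : z = 1 := orderOf_eq_one_iff.mp (Nat.eq_one_of_dvd_coprimes
      (hk ▸ hes.symm.pow_left k : (orderOf z).Coprime (orderOf e)) dvd_rfl
      (orderOf_dvd_of_pow_eq_one h7))
    rw [hz1, one_mul] at hconj
    exact (mul_inv_eq_iff_eq_mul.mp hconj).symm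
  have hDL : D ≤ L := (Subgroup.closure_le L).mpr fun e he => hkey e he.1 he.2
  have hUD : U ≤ D := fun u hu => Subgroup.subset_closure ⟨⟨hUH hu, hprime p hUH hu⟩, by
    obtain ⟨k, hk⟩ := exists_orderOf_of_mem (isPGroup_pPartOf p (Cfsg.fittingOf L)) hu
    exact hk ▸ ((Nat.coprime_primes Fact.out Fact.out).mpr hps).pow_left k⟩
  have hHD : H ≤ Subgroup.normalizer (D : Set G) := by
    intro d hd
    have hgen : ∀ d ∈ H, D.map (MulAut.conj d).toMonoidHom ≤ D := by
      intro d hd
      rw [hD, MonoidHom.map_closure, Subgroup.closure_le]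
      rintro _ ⟨e, he, rfl⟩
      refine Subgroup.subset_closure ⟨(Subgroup.mem_normalizer_iff.mp (hHE hd) e).mp he.1, ?_⟩
      show (orderOf (MulAut.conj d e)).Coprime s
      rw [MulEquiv.orderOf_eq]
      exact he.2
    exact le_normalizer_of_conj_mem' (fun a ha n hn => hgen a ha ⟨n, hn, rfl⟩) hd
  refine le_pPartOf_fitting_of_isSubnormal hUH (isPGroup_pPartOf p _) ?_
  have hDH : D ≤ H := hDE.trans inf_le_left
  refine Subgroup.IsSubnormal.step (U.subgroupOf H) (D.subgroupOf H) (fun x hx => hUD hx)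
    (Subgroup.normal_subgroupOf_of_le_normalizer hHD).isSubnormal ?_
  exact Subgroup.normal_subgroupOf_of_le_normalizer fun x hx =>
    Subgroup.mem_normalizer_iff.mpr fun y =>
      Subgroup.mem_normalizer_iff.mp (le_normalizer_fitting_pPart p L (hDL hx)) y

variable (hG : Cfsg.IsMinSimpleOddOrder G)

include hG

omit hG in
theorem primesNotDvd_of_prime {r : ℕ} [Fact r.Prime] {Y : Subgroup G} (hY : IsPGroup r Y) {n : ℕ}
    (hr : ¬ r ∣ n) : ∀ t : ℕ, t.Prime → t ∣ Nat.card Y → t ∈ Cfsg.primesNotDvd n := fun t ht hd => by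
  obtain ⟨k, hk⟩ := IsPGroup.iff_card.mp hY
  rw [(Nat.prime_dvd_prime_iff_eq ht Fact.out).mp (ht.dvd_of_dvd_pow (hk ▸ hd))]
  exact ⟨Fact.out, hr⟩

theorem normalizer_eq_of_coatom {H T : Subgroup G} (hH : IsCoatom H) {p : ℕ} [Fact p.Prime]
    (hT : IsPGroup p T) (hT1 : T ≠ ⊥) (hHT : H ≤ Subgroup.normalizer (T : Set G)) :
    Subgroup.normalizer (T : Set G) = H := by
  by_contra hne
  exact normalizer_ne_top hG hT1 (eq_top_of_isPGroup_absurd hG hT)
    (hH.2 _ (lt_of_le_of_ne hHT (Ne.symm hne)))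

theorem centralizer_fittingCenterPart_le {H : Subgroup G} (hH : IsCoatom H) {p : ℕ} [Fact p.Prime]
    (hp : p ∣ Nat.card (Cfsg.fittingOf H)) :
    Subgroup.centralizer (fittingCenterPart p H : Set G) ≤ H :=
  (Subgroup.centralizer_le_normalizer _).trans (le_of_eq (normalizer_eq_of_coatom hG hH
    ((isPGroup_pPartOf p _).to_le inf_le_left) (fittingCenterPart_ne_bot hp)
    (le_normalizer_fittingCenterPart p H)))

/-- The uniqueness theorem. -/
theorem eq_of_inv_trivial {H M L : Subgroup G} (hH : IsCoatom H)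
    (hF2 : 2 ≤ (Nat.card (Cfsg.fittingOf H)).primeFactors.card) (hM : M ≤ Cfsg.fittingOf H)
    (hZM : Cfsg.fittingOf H ⊓ Subgroup.centralizer (Cfsg.fittingOf H : Set G) ≤ M)
    (hinv : ∀ Y ∈ Cfsg.invSubgroups ⊤ M (Cfsg.primesNotDvd (Nat.card (Cfsg.fittingOf H))), Y = ⊥)
    (hL : IsCoatom L) (hML : M ≤ L) : L = H := by
  set F := Cfsg.fittingOf H with hF
  have hFn : Group.IsNilpotent F := isNilpotent_fittingOf H
  have hMn : Group.IsNilpotent M := isNilpotent_of_le hM hFn
  have hLn : Group.IsNilpotent (Cfsg.fittingOf L) := isNilpotent_fittingOf L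
  have hother : ∀ p : ℕ, p.Prime → p ∣ Nat.card F → ∃ t : ℕ, t.Prime ∧ t ∣ Nat.card F ∧ t ≠ p := by
    intro p _ _
    obtain ⟨a, ha, b, hb, hab⟩ := Finset.one_lt_card.mp hF2
    rw [Nat.mem_primeFactors] at ha hb
    by_cases h : a = p
    · exact ⟨b, hb.1, hb.2.1, fun e => hab (h.trans e.symm)⟩
    · exact ⟨a, ha.1, ha.2.1, h⟩
  have hTM : ∀ r : ℕ, fittingCenterPart r H ≤ M := fun r => (fittingCenterPart_le r H).trans hZM
  have hTP : ∀ r : ℕ, [Fact r.Prime] → fittingCenterPart r H ≤ pPartOf r M := fun r _ x hx =>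
    mem_pPartOf hMn (hTM r hx) (exists_orderOf_of_mem (isPGroup_pPartOf r F) hx.1)
  have hout : ∀ r : ℕ, [Fact r.Prime] → ¬ r ∣ Nat.card F → pPartOf r (Cfsg.fittingOf L) = ⊥ :=
    fun r _ hr => hinv _ ⟨le_top, primesNotDvd_of_prime (isPGroup_pPartOf r _) hr,
      hML.trans (le_normalizer_fitting_pPart r L)⟩
  have hcent : ∀ p : ℕ, [Fact p.Prime] → p ∣ Nat.card F →
      pComplOf p M ≤ Subgroup.centralizer (pPartOf p (Cfsg.fittingOf L) : Set G) := by
    intro p _ hp
    refine le_centralizer_of_fixed_commutator (isPGroup_pPartOf p M) (coprime_pComplOf p M)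
      (isPGroup_pPartOf p _) (pPartOf_le_centralizer_pComplOf p M)
      ((pPartOf_le p M).trans (hML.trans (le_normalizer_fitting_pPart p L)))
      ((pComplOf_le p M).trans (hML.trans (le_normalizer_fitting_pPart p L))) fun z hz => ?_
    set Y := pPartOf p (Cfsg.fittingOf L) ⊓ Subgroup.centralizer (pPartOf p M : Set G) with hY
    have hYH : Y ≤ H := inf_le_right.trans ((Subgroup.centralizer_le (hTP p)).trans
      (centralizer_fittingCenterPart_le hG hH hp))
    have hQY : pComplOf p M ≤ Subgroup.normalizer (Y : Set G) :=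
      le_trans (le_inf ((pComplOf_le p M).trans (hML.trans (le_normalizer_fitting_pPart p L)))
        ((Subgroup.le_centralizer_iff.mp (pPartOf_le_centralizer_pComplOf p M)).trans
          Subgroup.le_normalizer)) Subgroup.inf_normalizer_le_normalizer_inf
    have hzY : z ∈ Y := Coprime.commutator_le_of_le_normalizer hQY hz
    have hzF : z ∈ F := by
      refine Subgroup.commutator_le.mpr (fun a ha b hb => ?_) hz
      exact F.mul_mem ((Subgroup.mem_normalizer_iff.mp (le_normalizer_fittingOf H (hYH ha)) b).mp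
        (hM (pComplOf_le p M hb))) (F.inv_mem (hM (pComplOf_le p M hb)))
    rw [Subgroup.mem_centralizer_iff]
    intro b hb
    obtain ⟨k, hk⟩ := exists_orderOf_of_mem (isPGroup_pPartOf p (Cfsg.fittingOf L)) hzY.1
    exact commute_of_mem_nilpotent hFn (hM (pComplOf_le p M hb)) hzF
      (hk ▸ ((coprime_pComplOf p M).coprime_dvd_left (Subgroup.orderOf_dvd_natCard _ hb)).pow_right k)
  have hUH : ∀ p : ℕ, [Fact p.Prime] → pPartOf p (Cfsg.fittingOf L) ≤ H := by
    intro p _
    by_cases hp : p ∣ Nat.card F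
    · obtain ⟨t, ht, htF, htp⟩ := hother p Fact.out hp
      have := Fact.mk ht
      refine (Subgroup.le_centralizer_iff.mp ((((hTP t).trans (pPartOf_le_pComplOf htp hMn))).trans
        (hcent p hp))).trans (centralizer_fittingCenterPart_le hG hH htF)
    · rw [hout p hp]; exact bot_le
  have hLs : Group.IsSolvable L := hG.2.2.2 L hL.1
  have hne : ∀ s : ℕ, [Fact s.Prime] → s ∣ Nat.card F → pPartOf s (Cfsg.fittingOf L) ≠ ⊥ := by
    intro s _ hs he
    have h1 : fittingCenterPart s H ≤ Cfsg.fittingOf L := by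
      refine le_trans (le_inf ((hTM s).trans hML) ?_) (inf_centralizer_fittingOf_le hLs)
      refine le_centralizer_of_parts hLn fun r hr hrL => ?_
      have := Fact.mk hr
      by_cases hrs : r = s
      · subst hrs
        exact absurd he (pPartOf_ne_bot hLn hrL)
      · by_cases hrF : r ∣ Nat.card F
        · exact ((hTP s).trans (pPartOf_le_pComplOf (Ne.symm hrs) hMn)).trans (hcent r hrF)
        · exact absurd (hout r hrF) (pPartOf_ne_bot hLn hrL)
    refine fittingCenterPart_ne_bot hs (eq_bot_iff.mpr fun x hx => he ▸ ?_)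
    exact mem_pPartOf hLn (h1 hx) (exists_orderOf_of_mem (isPGroup_pPartOf s F) hx.1)
  have hNL : ∀ p : ℕ, [Fact p.Prime] → p ∣ Nat.card F →
      Subgroup.normalizer (pPartOf p (Cfsg.fittingOf L) : Set G) = L := fun p _ hp =>
    normalizer_eq_of_coatom hG hL (isPGroup_pPartOf p _) (hne p hp) (le_normalizer_fitting_pPart p L)
  have hFs : ∀ s : ℕ, [Fact s.Prime] → s ∣ Nat.card F → pPartOf s F ≤ L := by
    intro s _ hs
    obtain ⟨p, hp, hpF, hps⟩ := hother s Fact.out hs
    have := Fact.mk hp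
    set U := pPartOf p (Cfsg.fittingOf L) with hU
    set S := pPartOf s (Cfsg.fittingOf L) with hS
    have hUs : (Nat.card U).Coprime s := by
      obtain ⟨k, hk⟩ := IsPGroup.iff_card.mp (isPGroup_pPartOf p (Cfsg.fittingOf L))
      exact hk ▸ ((Nat.coprime_primes hp Fact.out).mpr hps).pow_left k
    have hSU : S ≤ Subgroup.centralizer (U : Set G) :=
      (pPartOf_le_centralizer_pComplOf s (Cfsg.fittingOf L)).trans
        (Subgroup.centralizer_le (pPartOf_le_pComplOf hps hLn))
    have hfix : pPartOf s F ⊓ Subgroup.centralizer (S : Set G) ≤ Subgroup.centralizer (U : Set G) := by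
      rintro k ⟨hk, hkS⟩
      have hkL : k ∈ L := (hNL s hs).le (Subgroup.centralizer_le_normalizer _ hkS)
      rw [Subgroup.mem_centralizer_iff]
      intro u hu
      have h1 : ⁅u, k⁆ ∈ pPartOf s F ⊓ U := by
        refine ⟨Subgroup.mul_mem _ ((Subgroup.mem_normalizer_iff.mp
          (le_normalizer_fitting_pPart s H (hUH p hu)) k).mp hk) (Subgroup.inv_mem _ hk), ?_⟩
        have h2 := U.mul_mem hu ((Subgroup.mem_normalizer_iff.mp
          (le_normalizer_fitting_pPart p L hkL) _).mp (U.inv_mem hu))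
        simpa [commutatorElement_def, mul_assoc] using h2
      obtain ⟨n, hn⟩ := IsPGroup.iff_card.mp (isPGroup_pPartOf s F)
      rw [Coprime.inf_eq_bot_of_coprime_card (hn ▸ (hUs.pow_right n).symm), Subgroup.mem_bot,
        commutatorElement_eq_one_iff_mul_comm] at h1
      exact h1
    have h2 : U ≤ Subgroup.centralizer (pPartOf s F : Set G) :=
      Coprime.le_centralizer_of_PxQ (isPGroup_pPartOf s (Cfsg.fittingOf L)) hUs (isPGroup_pPartOf s F)
        hSU ((hUH s).trans (le_normalizer_fitting_pPart s H))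
        ((hUH p).trans (le_normalizer_fitting_pPart s H)) hfix
    exact ((Subgroup.le_centralizer_iff.mp h2).trans (Subgroup.centralizer_le_normalizer _)).trans
      (hNL p hpF).le
  have hFL : F ≤ L := by
    intro x hx
    have h1 : (⟨x, hx⟩ : F) ∈ L.subgroupOf F := by
      refine isThreeStep_of_no_normal_sylow.mem_of_primeParts fun q hq hqz => ?_
      have := Fact.mk hq
      exact hFs q (hqz.trans (orderOf_dvd_natCard _))
        ⟨_, mem_pCore_of_isNilpotent hFn q ⟨_, orderOf_pPart q (⟨x, hx⟩ : F)⟩, rfl⟩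
    exact h1
  obtain ⟨a, ha, b, hb, hab⟩ := Finset.one_lt_card.mp hF2
  rw [Nat.mem_primeFactors] at ha hb
  have := Fact.mk ha.1
  have := Fact.mk hb.1
  have hHs : Group.IsSolvable H := hG.2.2.2 H hH.1
  have hHN : ∀ p : ℕ, [Fact p.Prime] → p ∣ Nat.card F →
      Subgroup.normalizer (pPartOf p F : Set G) = H := fun p _ hp =>
    normalizer_eq_of_coatom hG hH (isPGroup_pPartOf p _) (pPartOf_ne_bot hFn hp)
      (le_normalizer_fitting_pPart p H)
  have h1 : pPartOf a (Cfsg.fittingOf L) ≤ pPartOf a F :=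
    pPartOf_fitting_le (inf_centralizer_fittingOf_le hHs) hFL hab (hUH a) (hUH b) (hNL b hb.2.1).le
  have hLH : Cfsg.fittingOf L ≤ H := by
    intro x hx
    have h1 : (⟨x, hx⟩ : Cfsg.fittingOf L) ∈ H.subgroupOf (Cfsg.fittingOf L) := by
      refine isThreeStep_of_no_normal_sylow.mem_of_primeParts fun q hq hqz => ?_
      have := Fact.mk hq
      exact hUH q ⟨_, mem_pCore_of_isNilpotent hLn q
        ⟨_, orderOf_pPart q (⟨x, hx⟩ : Cfsg.fittingOf L)⟩, rfl⟩
    exact h1
  have h2 : pPartOf a F ≤ pPartOf a (Cfsg.fittingOf L) :=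
    pPartOf_fitting_le (inf_centralizer_fittingOf_le hLs) hLH hab (hFs a ha.2.1) (hFs b hb.2.1)
      (hHN b hb.2.1).le
  rw [← hNL a ha.2.1, le_antisymm h1 h2, hHN a ha.2.1]

end Cfsg.Agent.Lib.OddLocal
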