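import Cfsg.Agent.Lib.OddLocal.Bender

/-! The invariant Sylow subgroup at a maximal local subgroup (Bender). -/

set_option autoImplicit false

open scoped commutatorElement

namespace Cfsg.Agent.Lib.OddLocal

universe u

variable {G : Type u} [Group G] [Finite G] {H M R : Subgroup G}
  (hH : Cfsg.IsLocalSubgroup H) (hHmax : ∀ L : Subgroup G, Cfsg.IsLocalSubgroup L → H ≤ L → L = H)
  (hM : M ≤ Cfsg.fittingOf H)
  (hCM : Cfsg.fittingOf H ⊓ Subgroup.centralizer (M : Set G) ≤ M)

include hHmax

theorem centralizer_fittingCenterPart_le_local {p : ℕ} [Fact p.Prime]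
    (hp : p ∣ Nat.card (Cfsg.fittingOf H)) :
    Subgroup.centralizer (fittingCenterPart p H : Set G) ≤ H :=
  (Subgroup.centralizer_le_normalizer _).trans (le_of_eq (hHmax _
    ⟨p, _, Fact.out, (isPGroup_pPartOf p _).to_le inf_le_left, fittingCenterPart_ne_bot hp, rfl⟩
    (le_normalizer_fittingCenterPart p H)))

omit hHmax in
theorem coprime_card_fitting {Y : Subgroup G}
    (hY : ∀ t : ℕ, t.Prime → t ∣ Nat.card Y →
      t ∈ Cfsg.primesNotDvd (Nat.card (Cfsg.fittingOf H))) :
    (Nat.card Y).Coprime (Nat.card (Cfsg.fittingOf H)) :=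
  Nat.coprime_of_dvd fun t ht h1 h2 => (hY t ht h1).2 h2

include hM hCM

omit hHmax in
theorem fittingCenterPart_le_of_selfCentralizing (r : ℕ) : fittingCenterPart r H ≤ M :=
  ((fittingCenterPart_le r H).trans (inf_le_inf_left _ (Subgroup.centralizer_le hM))).trans hCM

omit hHmax in
/-- Coprime subgroups of `H` centralizing `M` centralize `F(H)`. -/
theorem le_centralizer_fitting {Y : Subgroup G} (hYH : Y ≤ H)
    (hYM : Y ≤ Subgroup.centralizer (M : Set G))
    (hY : (Nat.card Y).Coprime (Nat.card (Cfsg.fittingOf H))) :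
    Y ≤ Subgroup.centralizer (Cfsg.fittingOf H : Set G) := by
  have hFn : Group.IsNilpotent (Cfsg.fittingOf H) := isNilpotent_fittingOf H
  have hMn : Group.IsNilpotent M := isNilpotent_of_le hM hFn
  refine le_centralizer_of_parts hFn fun p hp hpF => ?_
  have := Fact.mk hp
  refine Coprime.le_centralizer_of_PxQ (P := pPartOf p M) (isPGroup_pPartOf p M)
    (hY.coprime_dvd_right hpF) (isPGroup_pPartOf p _)
    ((pPartOf_le p M).trans (Subgroup.le_centralizer_iff.mp hYM))
    (((pPartOf_le p M).trans (hM.trans (fittingOf_le H))).trans (le_normalizer_fitting_pPart p H))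
    (hYH.trans (le_normalizer_fitting_pPart p H)) ?_
  rintro u ⟨hu, huP⟩
  have huM : u ∈ M := by
    refine hCM ⟨pPartOf_le p _ hu, Subgroup.mem_centralizer_iff.mpr fun m hm => ?_⟩
    refine Subgroup.mem_centralizer_singleton_iff.mp
      (mem_of_parts (H := Subgroup.centralizer ({u} : Set G)) p ?_ ?_)
    · obtain ⟨k, hk⟩ := exists_orderOf_of_mem (isPGroup_pPartOf p (Cfsg.fittingOf H)) hu
      exact Subgroup.mem_centralizer_singleton_iff.mpr (commute_of_mem_nilpotent hFn
        (pow_mem (hM hm) _) (pPartOf_le p _ hu) (hk ▸ (orderOf_pCompl p m).pow_right k))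
    · exact Subgroup.mem_centralizer_singleton_iff.mpr (Subgroup.mem_centralizer_iff.mp huP _
        (mem_pPartOf hMn (pow_mem hm _) ⟨_, orderOf_pPart p m⟩))
  rw [Subgroup.mem_centralizer_iff]
  intro y hy
  exact (Subgroup.mem_centralizer_iff.mp (hYM hy) u huM).symm

variable (hF2 : 2 ≤ (Nat.card (Cfsg.fittingOf H)).primeFactors.card)
  (hR : Group.IsSolvable R) (hMR : M ≤ Subgroup.normalizer (R : Set G))
  (hXR : H ⊓ Subgroup.centralizer (Cfsg.fittingOf H : Set G) ≤ Subgroup.normalizer (R : Set G))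

omit hM hCM hHmax in
include hR hXR in
/-- The solvable part of `C_H(F(H))` inside `R` lies in `F(H)`. -/
theorem inf_le_fitting :
    H ⊓ Subgroup.centralizer (Cfsg.fittingOf H : Set G) ⊓ R ≤ Cfsg.fittingOf H := by
  set X := H ⊓ Subgroup.centralizer (Cfsg.fittingOf H : Set G) with hX
  have hHX : H ≤ Subgroup.normalizer (X : Set G) := by
    refine le_normalizer_of_conj_mem' fun d hd x hx => ⟨H.mul_mem (H.mul_mem hd hx.1) (H.inv_mem hd), ?_⟩
    show d * x * d⁻¹ ∈ Subgroup.centralizer (Cfsg.fittingOf H : Set G)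
    rw [Subgroup.mem_centralizer_iff]
    intro b hb
    have h2 := Subgroup.mem_centralizer_iff.mp hx.2 (d⁻¹ * b * d)
      ((Subgroup.mem_normalizer_iff''.mp (le_normalizer_fittingOf H hd) b).mp hb)
    calc b * (d * x * d⁻¹) = d * ((d⁻¹ * b * d) * x) * d⁻¹ := by group
      _ = d * (x * (d⁻¹ * b * d)) * d⁻¹ := by rw [h2]
      _ = _ := by group
  set A := (X ⊓ R).subgroupOf H with hA
  have hsub : A.IsSubnormal := by
    refine Subgroup.IsSubnormal.step A (X.subgroupOf H) (fun x hx => hx.1)
      (Subgroup.normal_subgroupOf_of_le_normalizer hHX).isSubnormal ?_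
    refine Subgroup.normal_subgroupOf_of_le_normalizer fun x hx => ?_
    have h1 : (x : G) ∈ Subgroup.normalizer ((X ⊓ R : Subgroup G) : Set G) :=
      Subgroup.inf_normalizer_le_normalizer_inf ⟨Subgroup.le_normalizer hx, hXR hx⟩
    exact Subgroup.mem_normalizer_iff.mpr fun y => Subgroup.mem_normalizer_iff.mp h1 y
  have hAle : A.map H.subtype ≤ R := by
    rintro _ ⟨y, hy, rfl⟩
    exact hy.2
  have hAs : Group.IsSolvable A :=
    Coprime.isSolvable_of_injective (f := (H.subtype.comp A.subtype).codRestrict R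
      fun y => hAle ⟨y, y.2, rfl⟩) (fun a b hab => Subtype.ext (Subtype.ext
        (congrArg (fun z : R => (z : G)) hab :))) hR
  intro x hx
  have hxA : (⟨x, hx.1.1⟩ : H) ∈ A := hx
  refine ⟨⟨x, hx.1.1⟩, ?_, rfl⟩
  refine Cores.map_subtype_fittingSubgroup_le_of_isSubnormal hsub ⟨⟨_, hxA⟩, ?_, rfl⟩
  refine Cores.centralizer_fittingSubgroup_le hAs (Subgroup.mem_centralizer_iff.mpr fun w hw => ?_)
  refine Subtype.ext (Subtype.ext ?_)
  exact Subgroup.mem_centralizer_iff.mp hx.1.2 _
    ⟨_, Cores.map_subtype_fittingSubgroup_le_of_isSubnormal hsub ⟨w, hw, rfl⟩, rfl⟩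

include hF2 hR hXR

theorem eq_bot_of_centralizing {Y : Subgroup G} (hYR : Y ≤ R)
    (hYM : Y ≤ Subgroup.centralizer (M : Set G))
    (hY : (Nat.card Y).Coprime (Nat.card (Cfsg.fittingOf H))) : Y = ⊥ := by
  obtain ⟨p, hp⟩ := Finset.card_pos.mp (by omega :
    0 < (Nat.card (Cfsg.fittingOf H)).primeFactors.card)
  rw [Nat.mem_primeFactors] at hp
  have := Fact.mk hp.1
  have hYH : Y ≤ H := hYM.trans ((Subgroup.centralizer_le
    (fittingCenterPart_le_of_selfCentralizing hM hCM p)).trans
      (centralizer_fittingCenterPart_le_local hHmax hp.2.1))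
  have h1 : Y ≤ Cfsg.fittingOf H :=
    (le_inf (le_inf hYH (le_centralizer_fitting hM hCM hYH hYM hY)) hYR).trans (inf_le_fitting hR hXR)
  rw [← Coprime.inf_eq_bot_of_coprime_card hY, inf_eq_left.mpr h1]

theorem eq_bot_of_inv_le {Y : Subgroup G} (hYR : Y ≤ R) (hYH : Y ≤ H)
    (hMY : M ≤ Subgroup.normalizer (Y : Set G))
    (hY : (Nat.card Y).Coprime (Nat.card (Cfsg.fittingOf H))) : Y = ⊥ := by
  refine eq_bot_of_centralizing hHmax hM hCM hF2 hR hXR hYR ?_ hY
  refine Subgroup.commutator_eq_bot_iff_le_centralizer.mp (eq_bot_iff.mpr ?_)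
  rw [← Coprime.inf_eq_bot_of_coprime_card hY]
  refine le_inf (Coprime.commutator_le_of_le_normalizer hMY) (Subgroup.commutator_le.mpr fun a ha b hb => ?_)
  exact Subgroup.mul_mem _ ((Subgroup.mem_normalizer_iff.mp (le_normalizer_fittingOf H (hYH ha)) b).mp
    (hM hb)) (Subgroup.inv_mem _ (hM hb))

include hMR

/-- Invariant `q`-subgroups of `R` lie in its `π(F)'`-core. -/
theorem le_piCoreOf_bender {q : ℕ} [Fact q.Prime] (hq : ¬ q ∣ Nat.card (Cfsg.fittingOf H))
    {V : Subgroup G} (hVR : V ≤ R) (hV : IsPGroup q V)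
    (hMV : M ≤ Subgroup.normalizer (V : Set G)) :
    V ≤ Cfsg.piCoreOf (Cfsg.primesNotDvd (Nat.card (Cfsg.fittingOf H))) R := by
  classical
  set F := Cfsg.fittingOf H with hF
  set π := Cfsg.primesNotDvd (Nat.card F) with hπ
  set O := Cfsg.piCoreOf π R with hO
  have hFn : Group.IsNilpotent F := isNilpotent_fittingOf H
  have hMn : Group.IsNilpotent M := isNilpotent_of_le hM hFn
  have hOF : (Nat.card O).Coprime (Nat.card F) :=
    coprime_card_fitting fun t ht h => mem_of_prime_dvd_card_piCoreOf ht h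
  have hVF : (Nat.card V).Coprime (Nat.card F) :=
    coprime_card_fitting (primesNotDvd_of_prime hV hq)
  set L := Subgroup.normalizer (R : Set G) with hL
  have hRL : R ≤ L := Subgroup.le_normalizer
  have hOR : O ≤ R := piCoreOf_le _ _
  set N := O.subgroupOf L with hN
  have hNn : N.Normal := Subgroup.normal_subgroupOf_of_le_normalizer
    (Cores.normalizer_le_normalizer_map_subtype R _)
  set f := QuotientGroup.mk' N with hf
  set R' := R.subgroupOf L with hR'
  have hR'n : R'.Normal := Subgroup.normal_subgroupOf_of_le_normalizer le_rfl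
  have hRbn : (R'.map f).Normal := hR'n.map f (QuotientGroup.mk'_surjective N)
  have hnorm : ∀ r : ℕ, (pPartOf r (R'.map f)).Normal := fun r =>
    Subgroup.normalizer_eq_top_iff.mp (top_le_iff.mp (by
      rw [← Subgroup.normalizer_eq_top (R'.map f)]
      exact normalizer_le_normalizer_pPartOf r _))
  have hout : ∀ r : ℕ, [Fact r.Prime] → ¬ r ∣ Nat.card F → pPartOf r (R'.map f) = ⊥ := by
    intro r _ hr
    have := hnorm r
    set P := pPartOf r (R'.map f) with hP
    set W := P.comap f ⊓ R' with hW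
    have hWn : W.Normal := inferInstance
    have hWO : W.map L.subtype ≤ O := by
      refine le_piCoreOf (by rintro _ ⟨y, hy, rfl⟩; exact hy.2) ?_ fun t ht hd => ?_
      · refine le_normalizer_of_conj_mem' ?_
        rintro d hd _ ⟨y, hy, rfl⟩
        exact ⟨⟨d, hRL hd⟩ * y * ⟨d, hRL hd⟩⁻¹, hWn.conj_mem y hy _, rfl⟩
      · rw [Nat.card_congr (W.equivMapOfInjective _ L.subtype_injective).toEquiv.symm,
          ← Cores.card_map_mul_card_inf_ker f W] at hd
        rcases ht.dvd_mul.mp hd with h | h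
        · exact primesNotDvd_of_prime ((isPGroup_pPartOf r (R'.map f)).to_le
            ((Subgroup.map_mono inf_le_left).trans (Subgroup.map_comap_le f P))) hr t ht h
        · refine mem_of_prime_dvd_card_piCoreOf (π := π) (X := R) ht (h.trans ?_)
          refine (Subgroup.card_dvd_of_le (K := N) (inf_le_right.trans ?_)).trans ?_
          · rw [hf, QuotientGroup.ker_mk']
          · rw [hN, Nat.card_congr (Subgroup.subgroupOfEquivOfLe (hOR.trans hRL)).toEquiv]
    refine (Subgroup.eq_bot_iff_forall _).mpr fun w hw => ?_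
    obtain ⟨x, hx, rfl⟩ := pPartOf_le r _ hw
    exact (QuotientGroup.eq_one_iff x).mpr
      (Subgroup.mem_subgroupOf.mpr (hWO ⟨x, ⟨hw, hx⟩, rfl⟩))
  have hML : M ≤ L := hMR
  set V' := V.subgroupOf L with hV'
  have hVL : V ≤ L := hVR.trans hRL
  have hkey : ∀ r : ℕ, [Fact r.Prime] → r ∣ Nat.card F →
      V'.map f ≤ Subgroup.centralizer (pPartOf r (R'.map f) : Set (L ⧸ N)) := by
    intro r _ hr
    have := hnorm r
    obtain ⟨t, ht, htF, htr⟩ : ∃ t : ℕ, t.Prime ∧ t ∣ Nat.card F ∧ t ≠ r := by
      obtain ⟨a, ha, b, hb, hab⟩ := Finset.one_lt_card.mp hF2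
      rw [Nat.mem_primeFactors] at ha hb
      by_cases h : a = r
      · exact ⟨b, hb.1, hb.2.1, fun e => hab (h.trans e.symm)⟩
      · exact ⟨a, ha.1, ha.2.1, h⟩
    have := Fact.mk ht
    set P := pPartOf r (R'.map f) with hP
    set Mp := pPartOf r M with hMp
    set Mq := pComplOf r M with hMq
    have hMpM : Mp ≤ M := pPartOf_le r M
    have hMqM : Mq ≤ M := pComplOf_le r M
    have hTr : fittingCenterPart r H ≤ Mp := fun x hx => mem_pPartOf hMn
      (fittingCenterPart_le_of_selfCentralizing hM hCM r hx)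
      (exists_orderOf_of_mem (isPGroup_pPartOf r F) hx.1)
    have hTt : fittingCenterPart t H ≤ Mq := fun x hx => pPartOf_le_pComplOf htr hMn
      (mem_pPartOf hMn (fittingCenterPart_le_of_selfCentralizing hM hCM t hx)
        (exists_orderOf_of_mem (isPGroup_pPartOf t F) hx.1))
    -- `V = [V, M_{r'}]`
    have hW : V ⊓ Subgroup.centralizer (fittingCenterPart t H : Set G) = ⊥ := by
      refine eq_bot_of_inv_le hHmax hM hCM hF2 hR hXR (inf_le_left.trans hVR)
        (inf_le_right.trans (centralizer_fittingCenterPart_le_local hHmax htF)) ?_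
        (hVF.coprime_dvd_left (Subgroup.card_dvd_of_le inf_le_left))
      refine le_trans (le_inf hMV (le_trans ?_ Subgroup.le_normalizer))
        Subgroup.inf_normalizer_le_normalizer_inf
      exact hM.trans (Subgroup.le_centralizer_iff.mp inf_le_right)
    have hMqcop : (Nat.card Mq).Coprime (Nat.card V) :=
      (hVF.coprime_dvd_right (Subgroup.card_dvd_of_le (hMqM.trans hM))).symm
    have hVMq : ⁅V, Mq⁆ = V := by
      have h1 := Coprime.commutator_sup_centralizer_eq (hMqM.trans hMV) hMqcop
        (Or.inr (have := hV.isNilpotent; inferInstance))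
      have h2 : V ⊓ Subgroup.centralizer (Mq : Set G) = ⊥ := eq_bot_iff.mpr
        ((inf_le_inf_left _ (Subgroup.centralizer_le hTt)).trans hW.le)
      rwa [h2, sup_bot_eq] at h1
    set Mp' := Mp.subgroupOf L with hMp'
    set Mq' := Mq.subgroupOf L with hMq'
    have hMpMq : Mp' ≤ Subgroup.centralizer (Mq' : Set L) := fun x hx =>
      Subgroup.mem_centralizer_iff.mpr fun y hy => Subtype.ext
        (Subgroup.mem_centralizer_iff.mp (pPartOf_le_centralizer_pComplOf r M hx) (y : G) hy)
    have hnP : ∀ K : Subgroup (L ⧸ N), K ≤ Subgroup.normalizer (P : Set (L ⧸ N)) := fun K =>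
      Subgroup.le_normalizer_of_normal
    have hMqC : Mq'.map f ≤ Subgroup.centralizer (P : Set (L ⧸ N)) := by
      refine le_centralizer_of_fixed_commutator
        (((isPGroup_pPartOf r M).of_equiv
          (Subgroup.subgroupOfEquivOfLe (hMpM.trans hML)).symm).map f)
        ?_ (isPGroup_pPartOf r _) ?_ (hnP _) (hnP _) fun z hz => ?_
      · refine (Nat.Coprime.coprime_dvd_left (Subgroup.card_map_dvd _ _) ?_)
        rw [Nat.card_congr (Subgroup.subgroupOfEquivOfLe (hMqM.trans hML)).toEquiv]
        exact coprime_pComplOf r M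
      · rintro _ ⟨x, hx, rfl⟩
        rw [Subgroup.mem_centralizer_iff]
        rintro _ ⟨y, hy, rfl⟩
        rw [← map_mul, ← map_mul, Subgroup.mem_centralizer_iff.mp (hMpMq hx) y hy]
      · set Y := P.comap f ⊓ R' ⊓ Subgroup.centralizer (Mp' : Set L) with hY
        have hle : P ⊓ Subgroup.centralizer ((Mp'.map f : Subgroup (L ⧸ N)) : Set (L ⧸ N)) ≤ Y.map f := by
          rintro w ⟨hwP, hwC⟩
          obtain ⟨x, hxR, rfl⟩ := pPartOf_le r _ hwP
          have hcop : (Nat.card Mp').Coprime (Nat.card N) := by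
            rw [hMp', hN, Nat.card_congr (Subgroup.subgroupOfEquivOfLe (hMpM.trans hML)).toEquiv,
              Nat.card_congr (Subgroup.subgroupOfEquivOfLe (hOR.trans hRL)).toEquiv]
            exact (hOF.coprime_dvd_right (Subgroup.card_dvd_of_le (hMpM.trans hM))).symm
          have hsolv : Group.IsSolvable Mp' := by
            have := ((isPGroup_pPartOf r M).of_equiv
              (Subgroup.subgroupOfEquivOfLe (hMpM.trans hML)).symm).isNilpotent
            infer_instance
          obtain ⟨n, hn, hnC⟩ := Coprime.exists_mem_centralizer_of_fixed_coset (A := Mp') (N := N)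
            Subgroup.le_normalizer_of_normal hcop (Or.inl hsolv)
            (Subgroup.le_normalizer_of_normal (H := N) (K := ⊤) trivial)
            (fun e he => (QuotientGroup.eq_one_iff _).mp (by
              show f (e * x * e⁻¹ * x⁻¹) = 1
              rw [map_mul, map_mul, map_mul, map_inv, map_inv,
                Subgroup.mem_centralizer_iff.mp hwC _ (Subgroup.mem_map_of_mem f he),
                mul_inv_cancel_right]
              exact mul_inv_cancel _))
          have hfn : f (x * n) = f x := by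
            rw [map_mul, show f n = 1 from (QuotientGroup.eq_one_iff n).mpr hn, mul_one]
          refine ⟨x * n, ⟨⟨?_, R'.mul_mem hxR (hOR (Subgroup.mem_subgroupOf.mp hn))⟩, hnC⟩, hfn⟩
          show f (x * n) ∈ P
          rw [hfn]
          exact hwP
        have hz2 := Subgroup.commutator_mono hle le_rfl hz
        rw [← Subgroup.map_commutator] at hz2
        obtain ⟨z₀, hz₀, rfl⟩ := hz2
        have hMqY : Mq' ≤ Subgroup.normalizer (Y : Set L) := by
          refine le_trans (le_inf ?_ ?_) Subgroup.inf_normalizer_le_normalizer_inf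
          · refine le_trans (le_inf ?_ Subgroup.le_normalizer_of_normal)
              Subgroup.inf_normalizer_le_normalizer_inf
            exact Subgroup.le_normalizer_of_normal
          · exact (Subgroup.le_centralizer_iff.mp hMpMq).trans Subgroup.le_normalizer
        have hz₀Y : z₀ ∈ Y := Coprime.commutator_le_of_le_normalizer hMqY hz₀
        have hYH : ∀ y ∈ Y, (y : G) ∈ H := by
          intro y hy
          refine centralizer_fittingCenterPart_le_local hHmax hr (Subgroup.mem_centralizer_iff.mpr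
            fun a ha => ?_)
          exact congrArg Subtype.val (Subgroup.mem_centralizer_iff.mp hy.2
            ⟨a, hML (hMpM (hTr ha))⟩ (hTr ha))
        have hzF : (z₀ : G) ∈ F := by
          have h1 : ⁅Y, Mq'⁆ ≤ F.subgroupOf L := Subgroup.commutator_le.mpr fun a ha b hb =>
            F.mul_mem ((Subgroup.mem_normalizer_iff.mp (le_normalizer_fittingOf H (hYH a ha)) (b : G)).mp
              (hM (hMqM hb))) (F.inv_mem (hM (hMqM hb)))
          exact h1 hz₀
        obtain ⟨j, hj⟩ := exists_orderOf_of_mem (isPGroup_pPartOf r (R'.map f)) hz₀Y.1.1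
        have hpow : (z₀ : G) ^ r ^ j = 1 := by
          have h1 : z₀ ^ r ^ j ∈ N := (QuotientGroup.eq_one_iff _).mp
            (show f (z₀ ^ r ^ j) = 1 by rw [map_pow, ← hj, pow_orderOf_eq_one])
          have h2 : (z₀ : G) ^ r ^ j ∈ O ⊓ F := ⟨by simpa using Subgroup.mem_subgroupOf.mp h1,
            pow_mem hzF _⟩
          rwa [Coprime.inf_eq_bot_of_coprime_card hOF, Subgroup.mem_bot] at h2
        rw [Subgroup.mem_centralizer_iff]
        rintro _ ⟨b, hb, rfl⟩
        rw [← map_mul, ← map_mul]
        congr 1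
        refine Subtype.ext (commute_of_mem_nilpotent hFn (hM (hMqM hb)) hzF ?_)
        exact (((coprime_pComplOf r M).coprime_dvd_left
          (Subgroup.orderOf_dvd_natCard Mq (show (b : G) ∈ Mq from hb))).pow_right j).coprime_dvd_right
            (orderOf_dvd_of_pow_eq_one hpow)
    have hVle : V' ≤ ⁅V', Mq'⁆ := by
      intro x hx
      have h1 : (x : G) ∈ (⁅V', Mq'⁆).map L.subtype := by
        rw [Subgroup.map_commutator, Subgroup.map_subgroupOf_eq_of_le hVL,
          Subgroup.map_subgroupOf_eq_of_le (hMqM.trans hML), hVMq]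
        exact hx
      obtain ⟨y, hy, hyx⟩ := h1
      exact (Subtype.ext hyx : y = x) ▸ hy
    refine (Subgroup.map_mono hVle).trans ?_
    rw [Subgroup.map_commutator]
    exact (Subgroup.commutator_mono le_rfl hMqC).trans (Subgroup.commutator_le_right _ _)
  intro v hv
  set w := f ⟨v, hVL hv⟩ with hw
  have hwR : w ∈ R'.map f := Subgroup.mem_map_of_mem f (hVR hv)
  have hwV : w ∈ V'.map f := Subgroup.mem_map_of_mem f hv
  have hRs : Group.IsSolvable (R'.map f) := by
    have : Group.IsSolvable R' := Coprime.isSolvable_subgroupOf hR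
    exact Coprime.isSolvable_map f this
  have h1 : Cfsg.fittingSubgroup (R'.map f) ≤ Subgroup.centralizer ({⟨w, hwR⟩} : Set (R'.map f)) := by
    refine Cores.fittingSubgroup_le_of_pCore_le fun r hr y hy => ?_
    have := Fact.mk hr
    by_cases hrF : r ∣ Nat.card F
    · exact Subgroup.mem_centralizer_singleton_iff.mpr (Subtype.ext
        (Subgroup.mem_centralizer_iff.mp (hkey r hrF hwV) _ ⟨y, hy, rfl⟩))
    · have h2 : (y : L ⧸ N) ∈ pPartOf r (R'.map f) := ⟨y, hy, rfl⟩
      rw [hout r hrF, Subgroup.mem_bot] at h2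
      rw [Subtype.ext (show ((y : R'.map f) : L ⧸ N) = ((1 : R'.map f) : L ⧸ N) from h2)]
      exact one_mem _
  have h2 : (⟨w, hwR⟩ : R'.map f) ∈ Cfsg.fittingSubgroup (R'.map f) :=
    Cores.centralizer_fittingSubgroup_le hRs (Subgroup.mem_centralizer_iff.mpr fun y hy =>
      Subgroup.mem_centralizer_singleton_iff.mp (h1 hy))
  have h3 : (⟨w, hwR⟩ : R'.map f) ∈ Cfsg.pCore q (R'.map f) := by
    have hn := Cores.fittingSubgroup_isNilpotent (R'.map f)
    obtain ⟨k, hk⟩ := exists_orderOf_of_mem
      ((hV.of_equiv (Subgroup.subgroupOfEquivOfLe hVL).symm).map f) hwV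
    rw [← Cores.pCore_fittingSubgroup q]
    refine ⟨⟨_, h2⟩, mem_pCore_of_isNilpotent hn q ⟨k, ?_⟩, rfl⟩
    rw [← Subgroup.orderOf_coe, ← Subgroup.orderOf_coe]
    exact hk
  have h4 : w ∈ pPartOf q (R'.map f) := ⟨_, h3, rfl⟩
  rw [hout q hq, Subgroup.mem_bot] at h4
  exact Subgroup.mem_subgroupOf.mp ((QuotientGroup.eq_one_iff _).mp h4)

end Cfsg.Agent.Lib.OddLocal
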