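import Cfsg.Agent.Lib.OddLocal.Omega
import Cfsg.Agent.Lib.Frobenius.UniqueSubgroup

/-! A criterion for narrowness. -/

set_option autoImplicit false

open scoped commutatorElement

namespace Cfsg.Agent.Lib.OddLocal

universe u

variable {p : ℕ} [hp : Fact p.Prime] {R : Type u} [Group R] [Finite R]

/-- A `p`-group with an elementary abelian subgroup whose centralizer has rank at most two is narrow. -/
theorem isNarrow_of_centralizer_rank_two (hp2 : p ≠ 2) (hR : IsPGroup p R) (E : Subgroup R)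
    (hE : Cfsg.IsElementaryAbelian p E)
    (hC : Cfsg.PRankLE p 2 (Subgroup.centralizer (E : Set R))) : Cfsg.IsNarrow p R := by
  by_cases hr : Cfsg.PRankLE p 2 R
  · exact Or.inl hr
  obtain ⟨B, hEB, hBe, hmax⟩ := Set.Finite.exists_le_maximal
    (Set.toFinite {B : Subgroup R | Cfsg.IsElementaryAbelian p B}) (show E ∈ _ from hE)
  have hBmax : ∀ D : Subgroup R, Cfsg.IsElementaryAbelian p D → B ≤ D → D = B :=
    fun D hD hBD => le_antisymm (hmax hD hBD) hBD
  have hBC : B ≤ Subgroup.centralizer (E : Set R) := fun b hb => Subgroup.mem_centralizer_iff.mpr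
    fun e he => congrArg Subtype.val (hBe.1.is_comm.comm ⟨e, hEB he⟩ ⟨b, hb⟩)
  have hB2 : Nat.card B = p ^ 2 := by
    have hle : Nat.card B ≤ p ^ 2 := by
      have h := hC (B.subgroupOf _) ⟨⟨fun a b => Subtype.ext (Subtype.ext
        (congrArg Subtype.val (hBe.1.is_comm.comm ⟨a.1.1, a.2⟩ ⟨b.1.1, b.2⟩) :))⟩⟩
        fun a ha => Subtype.ext (hBe.2 a.1 ha)
      rwa [Nat.card_congr (Subgroup.subgroupOfEquivOfLe hBC).toEquiv] at h
    refine le_antisymm hle ?_
    obtain ⟨k, hk⟩ := IsPGroup.iff_card.mp (hR.to_subgroup B)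
    rw [hk]
    refine Nat.pow_le_pow_right hp.out.pos ?_
    by_contra h
    have hBp : Nat.card B ≤ p := by
      rw [hk]; exact (Nat.pow_le_pow_right hp.out.pos (show k ≤ 1 by omega)).trans (by rw [pow_one])
    unfold Cfsg.PRankLE at hr
    push_neg at hr
    obtain ⟨F, hF, hFp, hFc⟩ := hr
    have hnt : (⊤ : Subgroup R) ≠ ⊥ := fun h0 => by
      have h1 : Nat.card F ≤ Nat.card (⊥ : Subgroup R) := Subgroup.card_le_of_le (h0 ▸ le_top)
      rw [Subgroup.card_bot] at h1
      exact absurd (hFc.trans_le h1) (not_lt.mpr (Nat.one_le_pow _ _ hp.out.pos))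
    obtain ⟨z, -, hzo, hzc⟩ := PLocal.exists_central_prime_mem hR hnt
    have hzB : z ∈ B := mem_of_maximal_elementary hBe hBmax
      (Subgroup.mem_centralizer_iff.mpr fun a _ => Subgroup.mem_center_iff.mp hzc a)
      (by rw [← hzo, pow_orderOf_eq_one])
    have hzeq : Subgroup.zpowers z = B := Subgroup.eq_of_le_of_card_ge (Subgroup.zpowers_le.mpr hzB)
      (by rw [Nat.card_zpowers, hzo]; exact hBp)
    have hFB : F ≤ B := fun f hf => mem_of_maximal_elementary hBe hBmax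
      (hzeq ▸ Subgroup.mem_centralizer_iff.mpr (by
        rintro _ ⟨j, rfl⟩
        exact (Subgroup.mem_center_iff.mp (zpow_mem hzc j) f).symm)) (hFp f hf)
    exact absurd (hFc.trans_le ((Subgroup.card_le_of_le hFB).trans hBp))
      (not_lt.mpr (Nat.le_self_pow two_ne_zero p))
  obtain ⟨hBT, hZp, -, hTc, hTi⟩ := maximal_elementary_sq hp2 hR hr B hBe hB2 hBmax _ _ rfl rfl
  set Z := Subgroup.closure {x : R | x ∈ Subgroup.center R ∧ x ^ p = 1}
  set T := Subgroup.centralizer ((Subgroup.closure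
    {x : R | x ∈ Subgroup.upperCentralSeries R 2 ∧ x ^ p = 1} : Subgroup R) : Set R)
  obtain ⟨x, hxB, hxT⟩ := SetLike.not_le_iff_exists.mp hBT
  have hZB : Z ≤ B := fun z hz => mem_of_maximal_elementary hBe hBmax
    (Subgroup.mem_centralizer_iff.mpr fun a _ => Subgroup.mem_center_iff.mp (mem_omega_center hz).1 a)
    (mem_omega_center hz).2
  have hxp : x ^ p = 1 := hBe.2 x hxB
  have hx1 : x ≠ 1 := fun h => hxT (h ▸ one_mem _)
  set R₀ := Subgroup.zpowers x with hR₀
  have hR₀c : Nat.card R₀ = p := by rw [hR₀, Nat.card_zpowers, orderOf_eq_prime hxp hx1]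
  set R₁ := Subgroup.centralizer (R₀ : Set R) ⊓ T with hR₁
  have hcomm : ∀ a ∈ R₀, ∀ b ∈ R₁, a * b = b * a := fun a ha b hb =>
    Subgroup.mem_centralizer_iff.mp hb.1 a ha
  have hdisj : R₀ ⊓ R₁ = ⊥ := by
    rw [eq_bot_iff]
    rintro a ⟨ha, ha'⟩
    by_contra h
    have ha1 : a ≠ 1 := fun e => h (Subgroup.mem_bot.mpr e)
    obtain ⟨j, rfl⟩ := Subgroup.mem_zpowers_iff.mp ha
    have heq : Subgroup.zpowers (x ^ j) = R₀ := Subgroup.eq_of_le_of_card_ge
      (Subgroup.zpowers_le.mpr ha) (by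
        rw [hR₀c, Nat.card_zpowers, orderOf_eq_prime (by
          rw [← zpow_natCast, ← zpow_mul, mul_comm, zpow_mul, zpow_natCast, hxp, one_zpow]) ha1])
    exact hxT (Subgroup.zpowers_le.mpr ha'.2 (heq ▸ Subgroup.mem_zpowers x))
  have hZle : Z ≤ B ⊓ T := le_inf hZB fun a ha => Subgroup.mem_centralizer_iff.mpr fun b _ =>
    Subgroup.mem_center_iff.mp (mem_omega_center ha).1 b
  have hBTZ : B ⊓ T = Z := by
    have hlt : B ⊓ T < B := lt_of_le_of_ne inf_le_left fun h => hBT (inf_eq_left.mp h)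
    obtain ⟨k, hk, hkc⟩ := (Nat.dvd_prime_pow hp.out).mp (hB2 ▸ Subgroup.card_dvd_of_le hlt.le)
    refine (Subgroup.eq_of_le_of_card_ge hZle ?_).symm
    rw [hkc, hZp]
    refine (Nat.pow_le_pow_right hp.out.pos (show k ≤ 1 from ?_)).trans (by rw [pow_one])
    by_contra h
    exact hlt.ne (Subgroup.eq_of_le_of_card_ge hlt.le (by rw [hB2, hkc, show k = 2 by omega]))
  obtain ⟨z₀, hz₀⟩ : ∃ z ∈ Z, z ≠ 1 := by
    by_contra! h
    have h1 : Z = ⊥ := (Subgroup.eq_bot_iff_forall _).mpr h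
    rw [h1, Subgroup.card_bot] at hZp
    exact hp.out.ne_one hZp.symm
  have hBgen : B ≤ R₀ ⊔ Z := by
    have hle : R₀ ⊔ Z ≤ B := sup_le (Subgroup.zpowers_le.mpr hxB) hZB
    refine (Subgroup.eq_of_le_of_card_ge hle ?_).ge
    obtain ⟨k, hk, hkc⟩ := (Nat.dvd_prime_pow hp.out).mp (hB2 ▸ Subgroup.card_dvd_of_le hle)
    rw [hB2, hkc]
    refine Nat.pow_le_pow_right hp.out.pos ?_
    by_contra h
    refine hxT (?_ : x ∈ T)
    have : x ∈ Z := by
      rw [Subgroup.eq_of_le_of_card_ge (le_sup_right : Z ≤ R₀ ⊔ Z) (by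
        rw [hkc, hZp]; exact (Nat.pow_le_pow_right hp.out.pos (show k ≤ 1 by omega)).trans (by rw [pow_one]))]
      exact Subgroup.mem_sup_left (Subgroup.mem_zpowers x)
    exact (hZle this).2
  have hroot : ∀ a ∈ R₁, a ^ p = 1 → a ∈ Z := by
    intro a ha hap
    rw [← hBTZ]
    refine ⟨mem_of_maximal_elementary hBe hBmax ?_ hap, ha.2⟩
    refine Subgroup.centralizer_le hBgen ?_
    have : R₀ ⊔ Z ≤ Subgroup.centralizer ({a} : Set R) := sup_le
      (fun b hb => Subgroup.mem_centralizer_singleton_iff.mpr (hcomm b hb a ha))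
      (fun b hb => Subgroup.mem_centralizer_singleton_iff.mpr
        (Subgroup.mem_center_iff.mp (mem_omega_center hb).1 a).symm)
    exact Subgroup.mem_centralizer_iff.mpr fun b hb => Subgroup.mem_centralizer_singleton_iff.mp (this hb)
  have hR₁c : IsCyclic R₁ := by
    refine Frobenius.isCyclic_of_unique_odd hp2 (hR.to_subgroup R₁) fun a b ha hb => ?_
    have haZ := hroot a a.2 (by rw [← ha, ← Subgroup.orderOf_coe a]; exact pow_orderOf_eq_one _)
    have hbZ := hroot b b.2 (by rw [← hb, ← Subgroup.orderOf_coe b]; exact pow_orderOf_eq_one _)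
    have hz : Subgroup.zpowers (b : R) = Z := Subgroup.eq_of_le_of_card_ge (Subgroup.zpowers_le.mpr hbZ)
      (by rw [Nat.card_zpowers, Subgroup.orderOf_coe, hb, hZp])
    obtain ⟨j, hj⟩ := Subgroup.mem_zpowers_iff.mp (hz.ge haZ)
    exact Subgroup.mem_zpowers_iff.mpr ⟨j, Subtype.ext (by simpa using hj)⟩
  refine Or.inr ⟨R₀, R₁, hR₀c, hR₁c, hdisj, hcomm, le_antisymm (sup_le ?_ inf_le_left) ?_⟩
  · exact Subgroup.le_centralizer_iff_isMulCommutative.mpr inferInstance
  · intro g hg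
    haveI : T.Normal := inferInstance
    haveI : Fact p.Prime := hp
    let q : R →* R ⧸ T := QuotientGroup.mk' T
    have hQ : Nat.card (R ⧸ T) = p := by rw [← Subgroup.index_eq_card, hTi]
    have hqx : q x ≠ 1 := fun h => hxT ((QuotientGroup.eq_one_iff x).mp h)
    obtain ⟨j, hj⟩ := Subgroup.mem_zpowers_iff.mp (mem_zpowers_of_prime_card hQ (g' := q g) hqx)
    have hmem : (x ^ j)⁻¹ * g ∈ T := by
      rw [← QuotientGroup.eq_one_iff, ← QuotientGroup.mk'_apply]
      show q _ = 1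
      rw [map_mul, map_inv, map_zpow, hj, inv_mul_cancel]
    have hxj : x ^ j ∈ R₀ := zpow_mem (Subgroup.mem_zpowers x) j
    have hcen : (x ^ j)⁻¹ * g ∈ Subgroup.centralizer (R₀ : Set R) := mul_mem
      (inv_mem (Subgroup.le_centralizer_iff_isMulCommutative.mpr inferInstance hxj)) hg
    rw [← mul_inv_cancel_left (x ^ j) g]
    exact mul_mem (Subgroup.mem_sup_left hxj) (Subgroup.mem_sup_right ⟨hcen, hmem⟩)

end Cfsg.Agent.Lib.OddLocal
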