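import Cfsg.Agent.Lib.OddLocal.Coprime
import Mathlib.GroupTheory.SpecificGroups.Cyclic
import Mathlib.FieldTheory.Finite.Basic
import Mathlib.GroupTheory.Commutator.Basic

/-! Operators on a factor of order at most `p`. -/

set_option autoImplicit false

open scoped commutatorElement

namespace Cfsg.Agent.Lib.OddLocal

universe u

variable {G : Type u} [Group G] [Finite G] {p : ℕ} [hp : Fact p.Prime]

/-- Derived operators and `(p - 1)`-th powers centralize a factor of order at most `p`. -/
theorem stabilizes_factor {A K L : Subgroup G} (hK : IsPGroup p K) (hL : L ≤ K)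
    (hKL : K ≤ Subgroup.normalizer (L : Set G)) (hAK : A ≤ Subgroup.normalizer (K : Set G))
    (hAL : A ≤ Subgroup.normalizer (L : Set G)) (hidx : Nat.card K ≤ p * Nat.card L) :
    (∀ a ∈ ⁅A, A⁆, ∀ x ∈ K, ⁅a, x⁆ ∈ L) ∧ ∀ a ∈ A, ∀ x ∈ K, ⁅a ^ (p - 1), x⁆ ∈ L := by
  haveI : (L.subgroupOf K).Normal := Subgroup.normal_subgroupOf_of_le_normalizer hKL
  have hQle : Nat.card (K ⧸ L.subgroupOf K) ≤ p := by
    have h := Subgroup.card_eq_card_quotient_mul_card_subgroup (L.subgroupOf K)
    rw [Nat.card_congr (Subgroup.subgroupOfEquivOfLe hL).toEquiv] at h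
    rw [h] at hidx
    exact Nat.le_of_mul_le_mul_right hidx Nat.card_pos
  have hQp : IsPGroup p (K ⧸ L.subgroupOf K) := hK.to_quotient _
  have hQc : IsCyclic (K ⧸ L.subgroupOf K) := by
    obtain ⟨k, hk⟩ := IsPGroup.iff_card.mp hQp
    rcases k with _ | k
    · have : Subsingleton (K ⧸ L.subgroupOf K) :=
        (Nat.card_eq_one_iff_unique.mp (by rw [hk, pow_zero])).1
      infer_instance
    · refine isCyclic_of_prime_card (p := p) (le_antisymm hQle ?_)
      rw [hk]
      exact Nat.le_self_pow k.succ_ne_zero p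
  let ψ : ∀ a ∈ A, (K ⧸ L.subgroupOf K) →* (K ⧸ L.subgroupOf K) := fun a ha =>
    QuotientGroup.map _ _
      { toFun := fun x => (⟨a * x * a⁻¹, conj_mem_of_le_normalizer hAK ha x.2⟩ : K)
        map_one' := Subtype.ext (by simp)
        map_mul' := fun x y => Subtype.ext (by simp [mul_assoc]) }
      (fun x hx => Subgroup.mem_subgroupOf.mpr (conj_mem_of_le_normalizer hAL ha hx))
  have hψmul : ∀ (a : G) (ha : a ∈ A) (b : G) (hb : b ∈ A) (q : K ⧸ L.subgroupOf K),
      ψ (a * b) (A.mul_mem ha hb) q = ψ a ha (ψ b hb q) := by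
    intro a ha b hb q
    induction q using QuotientGroup.induction_on with
    | _ x => exact congrArg (QuotientGroup.mk) (Subtype.ext (by simp [mul_assoc]))
  have hcomm : ∀ (a : G) (ha : a ∈ A) (b : G) (hb : b ∈ A) (q : K ⧸ L.subgroupOf K),
      ψ a ha (ψ b hb q) = ψ b hb (ψ a ha q) := by
    intro a ha b hb q
    obtain ⟨m, hm⟩ := MonoidHom.map_cyclic (ψ a ha)
    obtain ⟨n, hn⟩ := MonoidHom.map_cyclic (ψ b hb)
    rw [hm, hn, hn, hm, ← zpow_mul, ← zpow_mul, mul_comm]
  have hmem : ∀ (a : G) (ha : a ∈ A), (∀ q, ψ a ha q = q) → ∀ x ∈ K, ⁅a, x⁆ ∈ L := by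
    intro a ha h x hx
    have h1 := h (QuotientGroup.mk ⟨x, hx⟩)
    rw [eq_comm] at h1
    have h1' := QuotientGroup.eq.mp h1
    rw [Subgroup.mem_subgroupOf] at h1'
    have h2 : x⁻¹ * (a * x * a⁻¹) ∈ L := h1'
    have h3 := conj_mem_of_le_normalizer hKL hx h2
    have e : ⁅a, x⁆ = x * (x⁻¹ * (a * x * a⁻¹)) * x⁻¹ := by rw [commutatorElement_def]; group
    rw [e]
    exact h3
  refine ⟨fun c hc => ?_, fun a ha => hmem _ (pow_mem ha _) fun q => ?_⟩
  · have hcA : c ∈ A := Subgroup.commutator_le_self A hc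
    refine hmem c hcA ?_
    let S : Subgroup G :=
      { carrier := {c | ∃ h : c ∈ A, ∀ q, ψ c h q = q}
        one_mem' := ⟨A.one_mem, fun q => by
          induction q using QuotientGroup.induction_on with
          | _ x => exact congrArg (QuotientGroup.mk) (Subtype.ext (by simp))⟩
        mul_mem' := fun {a b} ha hb => ⟨A.mul_mem ha.1 hb.1, fun q => by
          rw [hψmul a ha.1 b hb.1, hb.2, ha.2]⟩
        inv_mem' := fun {a} ha => ⟨A.inv_mem ha.1, fun q => by
          conv_lhs => rw [← ha.2 q]
          rw [← hψmul a⁻¹ (A.inv_mem ha.1) a ha.1]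
          induction q using QuotientGroup.induction_on with
          | _ x => exact congrArg (QuotientGroup.mk) (Subtype.ext (by simp))⟩ }
    have hle : ⁅A, A⁆ ≤ S := Subgroup.commutator_le.mpr fun a ha b hb =>
      ⟨Subgroup.commutator_le_self A (Subgroup.commutator_mem_commutator ha hb), fun q => by
        induction q using QuotientGroup.induction_on with
        | _ x =>
          have h := hcomm a ha b hb (ψ a⁻¹ (A.inv_mem ha) (ψ b⁻¹ (A.inv_mem hb) (QuotientGroup.mk x)))
          refine ((?_ : _ = _).trans h).trans ?_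
          · exact congrArg (QuotientGroup.mk) (Subtype.ext (by simp [commutatorElement_def, mul_assoc]))
          · exact congrArg (QuotientGroup.mk) (Subtype.ext (by simp [mul_assoc]))⟩
    obtain ⟨_, h⟩ := hle hc
    exact h
  · obtain ⟨m, hm⟩ := MonoidHom.map_cyclic (ψ a ha)
    have hiter : ∀ j : ℕ, ∀ q, ψ (a ^ j) (pow_mem ha j) q = q ^ (m ^ j) := by
      intro j
      induction j with
      | zero =>
        intro q
        induction q using QuotientGroup.induction_on with
        | _ x => simp only [pow_zero, zpow_one]; exact congrArg (QuotientGroup.mk) (Subtype.ext (by simp))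
      | succ j ih =>
        intro q
        have := hψmul (a ^ j) (pow_mem ha j) a ha q
        simp only [← pow_succ] at this
        rw [this, hm, ih, ← zpow_mul, pow_succ']
    rw [hiter]
    by_cases hq : q = 1
    · rw [hq, one_zpow]
    have hord : orderOf q = p := by
      obtain ⟨k, hk⟩ := IsPGroup.iff_orderOf.mp hQp q
      rcases k with _ | k
      · exact absurd (orderOf_eq_one_iff.mp (by rw [hk, pow_zero])) hq
      · refine le_antisymm ((Nat.le_of_dvd Nat.card_pos (orderOf_dvd_natCard q)).trans hQle) ?_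
        rw [hk]
        exact Nat.le_self_pow k.succ_ne_zero p
    have hcop : IsCoprime m (p : ℤ) := by
      rw [isCoprime_comm, (Nat.prime_iff_prime_int.mp hp.out).coprime_iff_not_dvd]
      rintro ⟨r, hr⟩
      refine hq ?_
      have h1 : ψ a ha q = 1 := by
        rw [hm, hr, zpow_mul, zpow_natCast, ← hord, pow_orderOf_eq_one, one_zpow]
      have h2 := hψmul a⁻¹ (A.inv_mem ha) a ha q
      rw [h1, map_one] at h2
      rw [← h2]
      induction q using QuotientGroup.induction_on with
      | _ x => exact congrArg (QuotientGroup.mk) (Subtype.ext (by simp))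
    have h := Int.ModEq.pow_card_sub_one_eq_one hp.out hcop
    rw [← hord] at h
    have := zpow_eq_zpow_iff_modEq.mpr h
    rw [zpow_one] at this
    rw [← hord]
    exact this

end Cfsg.Agent.Lib.OddLocal
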