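import Cfsg.Agent.Lib.OddLocal.GLTwo
import Cfsg.Agent.Lib.OddLocal.Coprime
import Cfsg.Agent.Lib.OddLocal.FixedPoints
import Cfsg.Agent.Lib.Coprime.PxQ
import Cfsg.Agent.Lib.Cores.Basic
import Mathlib.GroupTheory.Abelianization.Finite
import Mathlib.Algebra.Module.ZMod
import Mathlib.LinearAlgebra.Matrix.ToLin
import Mathlib.LinearAlgebra.Prod
import Mathlib.LinearAlgebra.FiniteDimensional.Basic
import Mathlib.LinearAlgebra.Dimension.Free
import Mathlib.Algebra.Field.ZMod

/-! Operator groups on `p`-groups of rank at most two. -/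

set_option autoImplicit false

open scoped commutatorElement

namespace Cfsg.Agent.Lib.OddLocal

universe u

/-- A characteristic subgroup of class at most two containing its centralizer. -/
theorem exists_characteristic_classTwo_centralizer_le (R : Type u) [Group R] [Finite R]
    [Group.IsNilpotent R] :
    ∃ C : Subgroup R, C.Characteristic ∧ (∀ x ∈ C, ∀ y ∈ C, ∀ z ∈ C, Commute ⁅x, y⁆ z) ∧
      Subgroup.centralizer (C : Set R) ≤ C := by
  obtain ⟨K, ⟨hKch, hKc⟩, hmax⟩ := Set.Finite.exists_maximal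
    (Set.toFinite {K : Subgroup R | K.Characteristic ∧ IsMulCommutative K})
    ⟨⊥, inferInstance, inferInstance⟩
  haveI := hKch
  have hKn : K.Normal := inferInstance
  set W := (Subgroup.center (R ⧸ K)).comap (QuotientGroup.mk' K) with hW
  set C := Subgroup.centralizer (K : Set R) ⊓ W with hC
  have hWmem : ∀ x, x ∈ W ↔ ∀ g : R, ⁅x, g⁆ ∈ K := by
    intro x
    rw [hW, Subgroup.mem_comap, Subgroup.mem_center_iff]
    constructor
    · intro h g
      rw [← QuotientGroup.eq_one_iff, ← QuotientGroup.mk'_apply, map_commutatorElement,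
        commutatorElement_eq_one_iff_mul_comm]
      exact (h _).symm
    · intro h q
      obtain ⟨g, rfl⟩ := QuotientGroup.mk'_surjective K q
      rw [eq_comm, ← commutatorElement_eq_one_iff_mul_comm, ← map_commutatorElement,
        QuotientGroup.mk'_apply, QuotientGroup.eq_one_iff]
      exact h g
  have hchar : ∀ (φ : R ≃* R) (x : R), x ∈ C → φ x ∈ C := by
    intro φ x hx
    have hK : ∀ k, k ∈ K → φ k ∈ K := fun k hk => by
      have h := Subgroup.characteristic_iff_map_le.mp hKch φ
      exact h ⟨k, hk, rfl⟩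
    have hK' : ∀ k, k ∈ K → φ.symm k ∈ K := fun k hk => by
      have h := Subgroup.characteristic_iff_map_le.mp hKch φ.symm
      exact h ⟨k, hk, rfl⟩
    refine ⟨Subgroup.mem_centralizer_iff.mpr fun k hk => ?_, (hWmem _).mpr fun g => ?_⟩
    · have h := congrArg φ (Subgroup.mem_centralizer_iff.mp hx.1 _ (hK' k hk))
      simpa using h
    · have h := hK _ ((hWmem x).mp hx.2 (φ.symm g))
      rw [map_commutatorElement, MulEquiv.apply_symm_apply] at h
      exact h
  have hCch : C.Characteristic := Subgroup.characteristic_iff_map_le.mpr fun φ => by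
    rintro _ ⟨x, hx, rfl⟩
    exact hchar φ x hx
  refine ⟨C, hCch, fun x hx y _ z hz => ?_, ?_⟩
  · exact Subgroup.mem_centralizer_iff.mp hz.1 _ ((hWmem x).mp hx.2 y)
  · have hKC : K ≤ C := le_inf (Subgroup.le_centralizer_iff_isMulCommutative.mpr hKc)
      fun k hk => (hWmem k).mpr fun g => by
        rw [commutatorElement_def, mul_assoc k, mul_assoc k]
        exact K.mul_mem hk (hKn.conj_mem _ (K.inv_mem hk) g)
    haveI := hCch
    set D := Subgroup.centralizer (C : Set R) with hD
    haveI hDn : D.Normal := inferInstance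
    have hDC : D ⊓ C ≤ K := by
      have h1 : (D ⊓ C).Characteristic := Subgroup.characteristic_iff_map_le.mpr fun φ => by
        rintro _ ⟨x, hx, rfl⟩
        refine ⟨Subgroup.mem_centralizer_iff.mpr fun c hc => ?_, hchar φ x hx.2⟩
        have h := congrArg φ (Subgroup.mem_centralizer_iff.mp hx.1 _ (hchar φ.symm c hc))
        simpa using h
      have h2 : IsMulCommutative (D ⊓ C : Subgroup R) := ⟨⟨fun a b => Subtype.ext
        (Subgroup.mem_centralizer_iff.mp b.2.1 a a.2.2)⟩⟩
      have h3 : K ≤ D ⊓ C := le_inf (fun k hk => Subgroup.mem_centralizer_iff.mpr fun c hc =>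
        (Subgroup.mem_centralizer_iff.mp hc.1 k hk).symm) hKC
      exact hmax ⟨h1, h2⟩ h3
    have key : ∀ n, ∀ y ∈ D, y ∈ Subgroup.upperCentralSeries R n → y ∈ K := by
      intro n
      induction n with
      | zero =>
        intro y _ hy
        rw [Subgroup.upperCentralSeries_zero, Subgroup.mem_bot] at hy
        rw [hy]; exact one_mem _
      | succ n ih =>
        intro y hy hyn
        refine hDC ⟨hy, Subgroup.centralizer_le hKC hy, (hWmem y).mpr fun g => ?_⟩
        refine ih _ ?_ (Subgroup.mem_upperCentralSeries_succ_iff.mp hyn g)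
        rw [commutatorElement_def, mul_assoc y, mul_assoc y]
        exact D.mul_mem hy (hDn.conj_mem _ (D.inv_mem hy) g)
    obtain ⟨n, hn⟩ := Group.IsNilpotent.nilpotent R
    exact fun x hx => hKC (key n x hx (hn ▸ Subgroup.mem_top x))

variable {G : Type u} [Group G] [Finite G] {p : ℕ} [hp : Fact p.Prime]

/-- A characteristic subgroup of exponent `p` and class two on which `p'`-operators act faithfully. -/
theorem exists_exponent_faithful (hp2 : p ≠ 2) {R : Subgroup G} (hR : IsPGroup p R) :
    ∃ U : Subgroup G, U ≤ R ∧ Subgroup.normalizer (R : Set G) ≤ Subgroup.normalizer (U : Set G) ∧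
      (∀ x ∈ U, ∀ y ∈ U, ∀ z ∈ U, Commute ⁅x, y⁆ z) ∧ (∀ x ∈ U, x ^ p = 1) ∧
      ∀ Q : Subgroup G, Q ≤ Subgroup.normalizer (R : Set G) → (Nat.card Q).Coprime p →
        Q ≤ Subgroup.centralizer (U : Set G) → Q ≤ Subgroup.centralizer (R : Set G) := by
  have := hR.isNilpotent
  obtain ⟨C, hCch, hC2, hCC⟩ := exists_characteristic_classTwo_centralizer_le R
  haveI := hCch
  set C₀ := C.map R.subtype with hC₀
  have hC₀2 : ∀ x ∈ C₀, ∀ y ∈ C₀, ∀ z ∈ C₀, Commute ⁅x, y⁆ z := by
    rintro _ ⟨x, hx, rfl⟩ _ ⟨y, hy, rfl⟩ _ ⟨z, hz, rfl⟩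
    have h := (hC2 x hx y hy z hz).map R.subtype
    rwa [map_commutatorElement] at h
  have hn : Subgroup.normalizer (R : Set G) ≤ Subgroup.normalizer (C₀ : Set G) :=
    Cores.normalizer_le_normalizer_map_subtype R C
  let U : Subgroup G :=
    { carrier := {x | x ∈ C₀ ∧ x ^ p = 1}
      one_mem' := ⟨one_mem _, one_pow _⟩
      mul_mem' := fun {a b} ha hb => by
        refine ⟨C₀.mul_mem ha.1 hb.1, ?_⟩
        set c := ⁅b, a⁆ with hc
        have h1 : b * a = c * a * b := by rw [hc, commutatorElement_def]; group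
        have hca : Commute a c := (hC₀2 b hb.1 a ha.1 a ha.1).symm
        have hcb : Commute b c := (hC₀2 b hb.1 a ha.1 b hb.1).symm
        have hcp : c ^ p = 1 := by
          have h2 : b * a * b⁻¹ = c * a := by rw [hc, commutatorElement_def]; group
          have h3 : b * c * b⁻¹ = c := by rw [hcb.eq, mul_inv_cancel_right]
          have h4 := conj_pow_eq h2 h3 p
          rw [hb.2, one_mul, inv_one, mul_one] at h4
          exact mul_eq_right.mp h4.symm
        have hdvd : p ∣ p.choose 2 := hp.out.dvd_choose_self two_ne_zero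
          (lt_of_le_of_ne hp.out.two_le (Ne.symm hp2))
        obtain ⟨k, hk⟩ := hdvd
        rw [mul_pow_of_central_commutator hca hcb h1, ha.2, hb.2, hk, pow_mul, hcp, one_pow, one_mul,
          one_mul]
      inv_mem' := fun {a} ha => ⟨C₀.inv_mem ha.1, by rw [inv_pow, ha.2, inv_one]⟩ }
  refine ⟨U, fun x hx => Subgroup.map_subtype_le C hx.1, fun g hg => ?_,
    fun x hx y hy z hz => hC₀2 x hx.1 y hy.1 z hz.1, fun x hx => hx.2, fun Q hQR hQ hQU => ?_⟩
  · refine Subgroup.mem_normalizer_iff.mpr fun x => ?_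
    show x ∈ C₀ ∧ x ^ p = 1 ↔ g * x * g⁻¹ ∈ C₀ ∧ (g * x * g⁻¹) ^ p = 1
    rw [← Subgroup.mem_normalizer_iff.mp (hn hg) x, conj_pow]
    simp
  · have h1 : Q ≤ Subgroup.centralizer (C₀ : Set G) := by
      refine le_centralizer_of_fixes_pow_eq_one hp2 hQ C₀ (hR.to_le (Subgroup.map_subtype_le C))
        (hQR.trans hn) fun x hx hxp q hq => Subgroup.mem_centralizer_singleton_iff.mpr ?_
      exact (Subgroup.mem_centralizer_iff.mp (hQU hq) x ⟨hx, hxp⟩).symm
    refine Coprime.le_centralizer_of_PxQ (hR.to_le (Subgroup.map_subtype_le C)) hQ hR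
      (Subgroup.le_centralizer_iff.mp h1) ((Subgroup.map_subtype_le C).trans Subgroup.le_normalizer)
      hQR ?_
    rintro x ⟨hxR, hxC⟩
    refine Subgroup.le_centralizer_iff.mp h1 ⟨⟨x, hxR⟩, hCC (Subgroup.mem_centralizer_iff.mpr
      fun c hc => Subtype.ext ?_), rfl⟩
    exact Subgroup.mem_centralizer_iff.mp hxC (c : G) ⟨c, hc, rfl⟩

/-- A group of exponent `p`, class at most two and rank at most two. -/
theorem card_abelianization_le {U : Type u} [Group U] [Finite U]
    (h2 : ∀ x y z : U, Commute ⁅x, y⁆ z) (hexp : ∀ x : U, x ^ p = 1) (hr : Cfsg.PRankLE p 2 U) :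
    Nat.card (Abelianization U) ≤ p ^ 2 := by
  have hpe : IsPGroup p U := fun x => ⟨1, by rw [pow_one]; exact hexp x⟩
  have hidx : Nat.card (Abelianization U) * Nat.card (commutator U) = Nat.card U :=
    (Subgroup.card_eq_card_quotient_mul_card_subgroup _).symm
  by_cases hc : commutator U = ⊥
  · rw [hc, Subgroup.card_bot, mul_one] at hidx
    rw [hidx, ← Subgroup.card_top]
    refine hr ⊤ ⟨⟨fun a b => Subtype.ext (commutatorElement_eq_one_iff_mul_comm.mp ?_)⟩⟩
      fun a _ => hexp a
    have h : ⁅(a : U), (b : U)⁆ ∈ commutator U :=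
      Subgroup.commutator_mem_commutator (Subgroup.mem_top _) (Subgroup.mem_top _)
    rwa [hc, Subgroup.mem_bot] at h
  set Z := Subgroup.center U with hZ
  obtain ⟨x, hx⟩ : ∃ x : U, x ∉ Z := by
    by_contra! h
    refine hc (eq_bot_iff.mpr ?_)
    rw [commutator_def]
    exact Subgroup.commutator_le.mpr fun a _ b _ => Subgroup.mem_bot.mpr
      (commutatorElement_eq_one_iff_mul_comm.mpr (Subgroup.mem_center_iff.mp (h b) a))
  set E := Z ⊔ Subgroup.zpowers x with hE
  have hab : ∀ y : U, Commute y x → ∀ a ∈ E ⊔ Subgroup.zpowers y, ∀ b ∈ E ⊔ Subgroup.zpowers y,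
      a * b = b * a := by
    intro y hy a ha b hb
    have hgen : ∀ z ∈ E ⊔ Subgroup.zpowers y, Commute z x ∧ Commute z y := by
      intro z hz
      have : E ⊔ Subgroup.zpowers y ≤
          Subgroup.centralizer ({x} : Set U) ⊓ Subgroup.centralizer ({y} : Set U) := by
        refine sup_le (sup_le (le_inf ?_ ?_) (Subgroup.zpowers_le.mpr ⟨?_, ?_⟩))
          (Subgroup.zpowers_le.mpr ⟨?_, ?_⟩)
        · exact fun z hz => Subgroup.mem_centralizer_singleton_iff.mpr
            (Subgroup.mem_center_iff.mp hz x).symm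
        · exact fun z hz => Subgroup.mem_centralizer_singleton_iff.mpr
            (Subgroup.mem_center_iff.mp hz y).symm
        · exact Subgroup.mem_centralizer_singleton_iff.mpr rfl
        · exact Subgroup.mem_centralizer_singleton_iff.mpr hy.symm.eq
        · exact Subgroup.mem_centralizer_singleton_iff.mpr hy.eq
        · exact Subgroup.mem_centralizer_singleton_iff.mpr rfl
      exact ⟨Subgroup.mem_centralizer_singleton_iff.mp (this hz).1,
        Subgroup.mem_centralizer_singleton_iff.mp (this hz).2⟩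
    have hle : E ⊔ Subgroup.zpowers y ≤ Subgroup.centralizer ({a} : Set U) := by
      refine sup_le (sup_le (fun z hz => Subgroup.mem_centralizer_singleton_iff.mpr
        (Subgroup.mem_center_iff.mp hz a).symm) (Subgroup.zpowers_le.mpr ?_))
        (Subgroup.zpowers_le.mpr ?_)
      · exact Subgroup.mem_centralizer_singleton_iff.mpr (hgen a ha).1.eq.symm
      · exact Subgroup.mem_centralizer_singleton_iff.mpr (hgen a ha).2.eq.symm
    exact (Subgroup.mem_centralizer_singleton_iff.mp (hle hb)).symm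
  have hE2 : ∀ y : U, Commute y x → Nat.card (E ⊔ Subgroup.zpowers y : Subgroup U) ≤ p ^ 2 := fun y hy =>
    hr _ ⟨⟨fun a b => Subtype.ext (hab y hy a a.2 b b.2)⟩⟩ fun a _ => hexp a
  have hZE : Z < E := lt_of_le_of_ne le_sup_left fun h =>
    hx (h ▸ Subgroup.mem_sup_right (Subgroup.mem_zpowers x))
  obtain ⟨a, ha⟩ := IsPGroup.iff_card.mp (hpe.to_subgroup Z)
  obtain ⟨e, he⟩ := IsPGroup.iff_card.mp (hpe.to_subgroup E)
  have hEle : Nat.card E ≤ p ^ 2 := (Subgroup.card_le_of_le le_sup_left).trans (hE2 x (Commute.refl x))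
  have hZlt : Nat.card Z < Nat.card E := lt_of_le_of_ne (Subgroup.card_le_of_le hZE.le)
    fun h => hZE.ne (Subgroup.eq_of_le_of_card_ge hZE.le h.ge)
  have hae : a < e := by
    rw [ha, he] at hZlt
    exact (Nat.pow_lt_pow_iff_right hp.out.one_lt).mp hZlt
  have he2 : e ≤ 2 := by
    rw [he] at hEle
    exact (Nat.pow_le_pow_iff_right hp.out.one_lt).mp hEle
  have hUZ : commutator U ≤ Z := by
    rw [commutator_def]
    exact Subgroup.commutator_le.mpr fun u _ v _ => Subgroup.mem_center_iff.mpr fun w => (h2 u v w).eq.symm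
  obtain ⟨c, hc'⟩ := IsPGroup.iff_card.mp (hpe.to_subgroup (commutator U))
  have hc0 : c ≠ 0 := fun h => hc (Subgroup.card_eq_one.mp (by rw [hc', h, pow_zero]))
  have hca : c ≤ a := (Nat.pow_le_pow_iff_right hp.out.one_lt).mp
    (ha ▸ hc' ▸ Subgroup.card_le_of_le hUZ)
  have he' : e = 2 := by omega
  have hcen : Subgroup.centralizer ({x} : Set U) ≤ E := by
    intro y hy
    have h1 : E = E ⊔ Subgroup.zpowers y := Subgroup.eq_of_le_of_card_ge le_sup_left
      (by rw [he, he']; exact hE2 y (Subgroup.mem_centralizer_singleton_iff.mp hy))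
    exact h1.ge (Subgroup.mem_sup_right (Subgroup.mem_zpowers y))
  let φ : U →* Z :=
    { toFun := fun y => ⟨⁅x, y⁆, hUZ (Subgroup.commutator_mem_commutator (Subgroup.mem_top _)
        (Subgroup.mem_top _))⟩
      map_one' := Subtype.ext (by simp)
      map_mul' := fun u v => Subtype.ext (commutatorElement_mul_right' h2 u v x) }
  have hker : φ.ker ≤ E := fun y hy => hcen (Subgroup.mem_centralizer_singleton_iff.mpr
    (commutatorElement_eq_one_iff_mul_comm.mp (congrArg Subtype.val hy)).symm)
  have hU : Nat.card U ≤ p ^ 3 := by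
    rw [← φ.ker.card_mul_index]
    have h1 : φ.ker.index ≤ p ^ a := by
      rw [Subgroup.index_ker, ← ha]
      exact Nat.card_le_card_of_injective _ Subtype.val_injective
    calc Nat.card φ.ker * φ.ker.index ≤ p ^ 2 * p ^ a :=
          Nat.mul_le_mul ((Subgroup.card_le_of_le hker).trans hEle) h1
      _ = p ^ (2 + a) := (pow_add _ _ _).symm
      _ ≤ p ^ 3 := Nat.pow_le_pow_right hp.out.pos (by omega)
  by_contra hlt
  rw [not_le] at hlt
  have h3 : p ^ 2 * p < Nat.card U := by
    rw [← hidx]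
    calc p ^ 2 * p < Nat.card (Abelianization U) * p := Nat.mul_lt_mul_of_pos_right hlt hp.out.pos
      _ ≤ _ := Nat.mul_le_mul_left _ (by rw [hc']; exact Nat.le_self_pow hc0 p)
  exact absurd hU (not_le.mpr (pow_succ p 2 ▸ h3))

/-- A basis of an enlargement of a module of order at most `p ^ 2`. -/
theorem exists_basis_prod (M : Type u) [AddCommGroup M] [Module (ZMod p) M] [Finite M]
    (hcard : Nat.card M ≤ p ^ 2) :
    ∃ d : ℕ, Nonempty (Module.Basis (Fin 2) (ZMod p) (M × (Fin d → ZMod p))) := by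
  have : Module.Finite (ZMod p) M := Module.Finite.of_finite
  set d := Module.finrank (ZMod p) M with hd
  have hd2 : d ≤ 2 := by
    have h := Module.natCard_eq_pow_finrank (K := ZMod p) (V := M)
    rw [Nat.card_zmod, ← hd] at h
    exact (Nat.pow_le_pow_iff_right hp.out.one_lt).mp (h ▸ hcard)
  exact ⟨2 - d, ⟨Module.finBasisOfFinrankEq (ZMod p) _
    (by rw [Module.finrank_prod, Module.finrank_fin_fun, ← hd]; omega)⟩⟩

/-- Endomorphisms of a group of exponent `p` and order at most `p ^ 2` as matrices. -/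
theorem exists_matrix_hom {V : Type u} [CommGroup V] [Finite V] (hexp : ∀ v : V, v ^ p = 1)
    (hcard : Nat.card V ≤ p ^ 2) {X : Type u} [Group X] (ρ : X →* MulAut V) :
    ∃ ψ : X →* Matrix (Fin 2) (Fin 2) (ZMod p), ∀ x, ψ x = 1 → ρ x = 1 := by
  let _ : Module (ZMod p) (Additive V) := AddCommGroup.zmodModule fun v : Additive V => hexp v.toMul
  obtain ⟨d, ⟨b⟩⟩ := exists_basis_prod (p := p) (Additive V) hcard
  let W := Additive V × (Fin d → ZMod p)
  let L : X → Module.End (ZMod p) W := fun x =>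
    LinearMap.prodMap ((MonoidHom.toAdditive (ρ x).toMonoidHom).toZModLinearMap p) LinearMap.id
  let Φ : X →* Module.End (ZMod p) W :=
    { toFun := L
      map_one' := by
        refine LinearMap.ext fun w => Prod.ext ?_ rfl
        show Additive.ofMul ((ρ 1) w.1.toMul) = w.1
        rw [map_one]; rfl
      map_mul' := fun x y => by
        refine LinearMap.ext fun w => Prod.ext ?_ rfl
        show Additive.ofMul ((ρ (x * y)) w.1.toMul) = Additive.ofMul (ρ x (ρ y w.1.toMul))
        rw [map_mul]; rfl }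
  refine ⟨(LinearMap.toMatrixAlgEquiv b).toMulEquiv.toMonoidHom.comp Φ, fun x hx => ?_⟩
  have h1 : Φ x = 1 := (LinearMap.toMatrixAlgEquiv b).injective (by rw [map_one]; exact hx)
  refine MulEquiv.ext fun v => ?_
  exact congrArg (fun z : W => Additive.toMul z.1) (LinearMap.congr_fun h1 (Additive.ofMul v, 0))

/-- The 2-dimensional representation of operators on a `p`-group of rank at most two. -/
theorem exists_twoDim (hp2 : p ≠ 2) {R : Subgroup G} (hR : IsPGroup p R) (hr : Cfsg.PRankLE p 2 R)
    {A : Subgroup G} (hA : A ≤ Subgroup.normalizer (R : Set G)) :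
    ∃ ψ : A →* Matrix (Fin 2) (Fin 2) (ZMod p), ∀ a : A, ψ a = 1 → (orderOf (a : G)).Coprime p →
      (a : G) ∈ Subgroup.centralizer (R : Set G) := by
  obtain ⟨U, hUR, hN, h2, hexp, hfaith⟩ := exists_exponent_faithful hp2 hR
  have hrU : Cfsg.PRankLE p 2 U := by
    intro B hB hBp
    have h := hr (B.map (Subgroup.inclusion hUR)) inferInstance (by
      rintro _ ⟨x, hx, rfl⟩
      rw [← map_pow, hBp x hx, map_one])
    rwa [Subgroup.card_map_of_injective (Subgroup.inclusion_injective hUR)] at h
  have hAU : A ≤ Subgroup.normalizer (U : Set G) := hA.trans hN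
  let α : A →* MulAut U :=
    { toFun := fun a =>
        { toFun := fun x => ⟨(a : G) * x * (a : G)⁻¹, conj_mem_of_le_normalizer hAU a.2 x.2⟩
          invFun := fun x => ⟨(a : G)⁻¹ * x * a, by
            simpa using conj_mem_of_le_normalizer hAU (A.inv_mem a.2) x.2⟩
          left_inv := fun x => Subtype.ext (by simp [mul_assoc])
          right_inv := fun x => Subtype.ext (by simp [mul_assoc])
          map_mul' := fun x y => Subtype.ext (by simp [mul_assoc]) }
      map_one' := MulEquiv.ext fun x => Subtype.ext (by simp)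
      map_mul' := fun a b => MulEquiv.ext fun x => Subtype.ext (by simp [mul_assoc]) }
  have h2U : ∀ x y z : U, Commute ⁅x, y⁆ z := fun x y z => Subtype.ext (h2 x x.2 y y.2 z z.2)
  have hexpU : ∀ x : U, x ^ p = 1 := fun x => Subtype.ext (hexp x x.2)
  let β : MulAut U →* MulAut (Abelianization U) :=
    { toFun := fun e => e.abelianizationCongr
      map_one' := by
        refine MulEquiv.ext fun x => ?_
        induction x using QuotientGroup.induction_on with
        | _ x => rfl
      map_mul' := fun e f => by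
        refine MulEquiv.ext fun x => ?_
        induction x using QuotientGroup.induction_on with
        | _ x => rfl }
  obtain ⟨ψ, hψ⟩ := exists_matrix_hom (V := Abelianization U) (fun v => by
      obtain ⟨y, rfl⟩ : ∃ y, Abelianization.of y = v := QuotientGroup.mk'_surjective _ v
      rw [← map_pow, hexpU y, map_one])
    (card_abelianization_le h2U hexpU hrU) (β.comp α)
  refine ⟨ψ, fun a ha hcop => ?_⟩
  have hcopA : (Nat.card (Subgroup.zpowers (a : G))).Coprime p := by rwa [Nat.card_zpowers]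
  have haZ : Subgroup.zpowers (a : G) ≤ A := Subgroup.zpowers_le.mpr a.2
  set N := (⁅U, U⁆ : Subgroup G) with hNdef
  have hNU : N ≤ U := Subgroup.commutator_le_self U
  have hdiff : ∀ x ∈ U, ⁅(a : G), x⁆ ∈ N := by
    intro x hx
    have h1 : Abelianization.of ((α a) ⟨x, hx⟩) = Abelianization.of (⟨x, hx⟩ : U) :=
      congrArg (fun e : MulAut (Abelianization U) => e (Abelianization.of (⟨x, hx⟩ : U))) (hψ a ha)
    have h3 : (α a) ⟨x, hx⟩ / (⟨x, hx⟩ : U) ∈ commutator U := by
      rw [← Abelianization.ker_of]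
      exact (MonoidHom.eq_iff _).mp h1 |> fun h => by
        rw [MonoidHom.mem_ker, map_div, div_eq_one]; exact h1
    have h4 : ((α a) ⟨x, hx⟩ / (⟨x, hx⟩ : U) : U).1 ∈ (commutator U).map U.subtype := ⟨_, h3, rfl⟩
    rw [commutator_def, Subgroup.map_commutator, ← MonoidHom.range_eq_map, Subgroup.range_subtype] at h4
    simpa [α, div_eq_mul_inv, commutatorElement_def] using h4
  have hNc : ∀ n ∈ N, ∀ z ∈ U, Commute n z := fun n hn z hz => by
    have : N ≤ Subgroup.centralizer ({z} : Set G) := Subgroup.commutator_le.mpr fun u hu v hv =>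
      Subgroup.mem_centralizer_singleton_iff.mpr (h2 u hu v hv z hz).eq
    exact Subgroup.mem_centralizer_singleton_iff.mp (this hn)
  have hfixN : (a : G) ∈ Subgroup.centralizer (N : Set G) := by
    have : N ≤ Subgroup.centralizer ({(a : G)} : Set G) := by
      refine Subgroup.commutator_le.mpr fun u hu v hv => Subgroup.mem_centralizer_singleton_iff.mpr ?_
      have hu' := hdiff u hu
      have hv' := hdiff v hv
      have e1 : ∀ c ∈ N, ∀ w ∈ U, ∀ t ∈ U, ⁅c * w, t⁆ = ⁅w, t⁆ := fun c hc w hw t ht => by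
        have hw' : Commute c (w * t * w⁻¹) := hNc c hc _ (U.mul_mem (U.mul_mem hw ht) (U.inv_mem hw))
        calc ⁅c * w, t⁆ = c * (w * t * w⁻¹) * c⁻¹ * t⁻¹ := by rw [commutatorElement_def]; group
          _ = ⁅w, t⁆ := by rw [hw'.eq, mul_inv_cancel_right, commutatorElement_def]
      have e2 : ∀ c ∈ N, ∀ w ∈ U, ∀ t ∈ U, ⁅t, c * w⁆ = ⁅t, w⁆ := fun c hc w hw t ht => by
        rw [← commutatorElement_inv, e1 c hc w hw t ht, commutatorElement_inv]
      have hau : ∀ w : G, (a : G) * w * (a : G)⁻¹ = ⁅(a : G), w⁆ * w := fun w => by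
        rw [commutatorElement_def]; group
      have h5 : (a : G) * ⁅u, v⁆ * (a : G)⁻¹ = ⁅u, v⁆ := by
        calc (a : G) * ⁅u, v⁆ * (a : G)⁻¹ = ⁅(a : G) * u * (a : G)⁻¹, (a : G) * v * (a : G)⁻¹⁆ :=
              map_commutatorElement (MulAut.conj (a : G)).toMonoidHom u v
          _ = ⁅u, v⁆ := by
              rw [hau, hau, e1 _ hu' u hu _ (U.mul_mem (hNU hv') hv), e2 _ hv' v hv u hu]
      exact (mul_inv_eq_iff_eq_mul.mp h5).symm
    rw [Subgroup.mem_centralizer_iff]
    exact fun n hn => Subgroup.mem_centralizer_singleton_iff.mp (this hn)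
  obtain ⟨n, hn⟩ := IsPGroup.iff_card.mp ((hR.to_le hUR).to_le hNU)
  have hU0 : Subgroup.zpowers (a : G) ≤ Subgroup.centralizer (U : Set G) := by
    refine Coprime.le_centralizer_of_stabilizes (N := N) ?_
      (fun x hx => Subgroup.normalizer_commutator_ge_left U U hx) (hn ▸ hcopA.pow_right n) ?_
      (Subgroup.zpowers_le.mpr hfixN)
    · rw [Subgroup.zpowers_le]
      exact Subgroup.centralizer_le_normalizer _ hfixN
    · intro b hb x hx
      have hsub : Subgroup.zpowers (a : G) ≤ Subgroup.normalizer (U : Set G) := haZ.trans hAU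
      obtain ⟨k, rfl⟩ := Submonoid.mem_powers_iff .. |>.mp (mem_powers_iff_mem_zpowers.mpr hb)
      have hstep : (a : G) * x * (a : G)⁻¹ = ⁅(a : G), x⁆ * x := by
        rw [commutatorElement_def]; group
      have hfix' : (a : G) * ⁅(a : G), x⁆ * (a : G)⁻¹ = ⁅(a : G), x⁆ := by
        rw [← Subgroup.mem_centralizer_iff.mp hfixN _ (hdiff x hx), mul_inv_cancel_right]
      rw [conj_pow_eq hstep hfix' k, mul_inv_cancel_right]
      exact pow_mem (hdiff x hx) k
  exact hfaith _ (haZ.trans hA) hcopA hU0 (Subgroup.mem_zpowers _)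

end Cfsg.Agent.Lib.OddLocal
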