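import Cfsg.Agent.Lib.OddLocal.Omega
import Cfsg.Agent.Lib.OddLocal.FactorAction
import Cfsg.Agent.Lib.OddLocal.RankTwo

/-! Operators on narrow `p`-groups of rank at least three. -/

set_option autoImplicit false

open scoped commutatorElement

namespace Cfsg.Agent.Lib.OddLocal

universe u

variable {p : ℕ} [hp : Fact p.Prime]

/-- The data of a narrow `p`-group of rank at least three. -/
theorem narrow_data {R : Type u} [Group R] [Finite R] (hp2 : p ≠ 2) (hR : IsPGroup p R)
    (hn : Cfsg.IsNarrow p R) (hr : ¬ Cfsg.PRankLE p 2 R) :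
    ∃ (E T : Subgroup R) (x : R) (Z : Subgroup R), Cfsg.IsElementaryAbelian p E ∧ Nat.card E = p ^ 2 ∧
      (∀ B : Subgroup R, Cfsg.IsElementaryAbelian p B → E ≤ B → B = E) ∧
      T.Characteristic ∧ T.index = p ∧ Nat.card Z = p ∧
      ∀ t ∈ T, t ^ p = 1 → t * x = x * t → t ∈ Z := by
  obtain ⟨R₀, R₁, hR₀, hR₁, hdisj, hcomm, hsup⟩ := hn.resolve_left hr
  have hC : IsMulCommutative (Subgroup.closure ((R₀ : Set R) ∪ R₁)) := by
    haveI : IsCyclic R₀ := isCyclic_of_prime_card hR₀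
    refine Subgroup.isMulCommutative_closure ?_
    rintro a (ha | ha) b (hb | hb)
    · exact congrArg Subtype.val (IsCyclic.isMulCommutative.is_comm.comm (⟨a, ha⟩ : R₀) ⟨b, hb⟩)
    · exact hcomm a ha b hb
    · exact (hcomm b hb a ha).symm
    · exact congrArg Subtype.val (IsCyclic.isMulCommutative.is_comm.comm (⟨a, ha⟩ : R₁) ⟨b, hb⟩)
  rw [Subgroup.closure_union, Subgroup.closure_eq, Subgroup.closure_eq, hsup] at hC
  have hR₀p : ∀ a ∈ R₀, a ^ p = 1 := fun a ha => by
    have h := pow_card_eq_one' (x := (⟨a, ha⟩ : R₀))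
    rw [hR₀] at h
    exact congrArg Subtype.val h
  let E : Subgroup R :=
    { carrier := {a | a ∈ Subgroup.centralizer (R₀ : Set R) ∧ a ^ p = 1}
      one_mem' := ⟨one_mem _, one_pow _⟩
      mul_mem' := fun {a b} ha hb => ⟨mul_mem ha.1 hb.1, by
        rw [(show Commute a b from congrArg Subtype.val (hC.is_comm.comm ⟨a, ha.1⟩ ⟨b, hb.1⟩)).mul_pow,
          ha.2, hb.2, one_mul]⟩
      inv_mem' := fun {a} ha => ⟨inv_mem ha.1, by rw [inv_pow, ha.2, inv_one]⟩ }
  have hEe : Cfsg.IsElementaryAbelian p E :=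
    ⟨⟨⟨fun a b => Subtype.ext
      (congrArg Subtype.val (hC.is_comm.comm ⟨a.1, a.2.1⟩ ⟨b.1, b.2.1⟩) :)⟩⟩, fun a ha => ha.2⟩
  have hR₀E : R₀ ≤ E := fun a ha =>
    ⟨hsup ▸ Subgroup.mem_sup_left ha, hR₀p a ha⟩
  have hprod : ∀ e ∈ Subgroup.centralizer (R₀ : Set R), ∃ a ∈ R₀, ∃ b ∈ R₁, a * b = e := by
    intro e he
    rw [← hsup, ← SetLike.mem_coe, Subgroup.coe_mul_of_left_le_normalizer_right R₀ R₁ (fun a ha =>
      Subgroup.centralizer_le_normalizer _ (Subgroup.mem_centralizer_iff.mpr fun b hb => (hcomm a ha b hb).symm))] at he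
    exact Set.mem_mul.mp he
  have hEle : Nat.card E ≤ p ^ 2 := by
    classical
    haveI := Fintype.ofFinite R₁
    let f : R₀ × {b : R₁ // b ^ p = 1} → R := fun q => (q.1 : R) * ((q.2.1 : R₁) : R)
    have hsub : ∀ e ∈ E, ∃ q, f q = e := by
      intro e he
      obtain ⟨a, ha, b, hb, rfl⟩ := hprod e he.1
      refine ⟨(⟨a, ha⟩, ⟨⟨b, hb⟩, Subtype.ext ?_⟩), rfl⟩
      have h := he.2
      rw [(show Commute a b from hcomm a ha b hb).mul_pow, hR₀p a ha, one_mul] at h
      exact h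
    have h1 : Nat.card E ≤ Nat.card (R₀ × {b : R₁ // b ^ p = 1}) := by
      choose g hg using hsub
      refine Nat.card_le_card_of_injective (fun e : E => g e e.2) fun e e' h => Subtype.ext ?_
      rw [← hg e e.2, ← hg e' e'.2]
      exact congrArg f h
    rw [Nat.card_prod, hR₀] at h1
    refine h1.trans ?_
    rw [pow_two]
    refine Nat.mul_le_mul_left p ?_
    rw [Nat.card_eq_fintype_card, Fintype.card_subtype]
    exact IsCyclic.card_pow_eq_one_le hp.out.pos
  have hR1 : (⊤ : Subgroup R) ≠ ⊥ := fun h => by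
    have h1 : Nat.card R₀ ≤ Nat.card (⊥ : Subgroup R) := Subgroup.card_le_of_le (h ▸ le_top)
    rw [hR₀, Subgroup.card_bot] at h1
    exact absurd hp.out.one_lt (not_lt.mpr h1)
  obtain ⟨z, -, hzo, hzc⟩ := PLocal.exists_central_prime_mem hR hR1
  have hzE : z ∈ E := ⟨Subgroup.mem_centralizer_iff.mpr fun a _ => Subgroup.mem_center_iff.mp hzc a,
    by rw [← hzo, pow_orderOf_eq_one]⟩
  have hR₀c : ∀ a ∈ R₀, a ∈ Subgroup.center R → a = 1 := by
    intro a ha hac
    by_contra h1
    unfold Cfsg.PRankLE at hr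
    push_neg at hr
    obtain ⟨F, hF, hFp, hFc⟩ := hr
    refine not_le.mpr hFc ((Subgroup.card_le_of_le (fun y hy => (?_ : y ∈ E))).trans hEle)
    refine ⟨?_, hFp y hy⟩
    have hz : Subgroup.zpowers a = R₀ := Subgroup.eq_of_le_of_card_ge (Subgroup.zpowers_le.mpr ha)
      (by rw [hR₀, Nat.card_zpowers, orderOf_eq_prime (hR₀p a ha) h1])
    rw [← hz, Subgroup.mem_centralizer_iff]
    rintro _ ⟨k, rfl⟩
    exact (Subgroup.mem_center_iff.mp (zpow_mem hac k) y).symm
  have hE2 : Nat.card E = p ^ 2 := by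
    refine le_antisymm hEle ?_
    obtain ⟨k, hk⟩ := IsPGroup.iff_card.mp (hR.to_subgroup E)
    rw [hk]
    refine Nat.pow_le_pow_right hp.out.pos ?_
    by_contra h
    have hle : Nat.card E ≤ Nat.card R₀ := by
      rw [hk, hR₀]
      exact (Nat.pow_le_pow_right hp.out.pos (show k ≤ 1 by omega)).trans (by rw [pow_one])
    have h2 : z ∈ R₀ := Subgroup.eq_of_le_of_card_ge hR₀E hle ▸ hzE
    rw [hR₀c z h2 hzc, orderOf_one] at hzo
    exact hp.out.ne_one hzo.symm
  have hEmax : ∀ B : Subgroup R, Cfsg.IsElementaryAbelian p B → E ≤ B → B = E := fun B hB hEB =>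
    le_antisymm (fun b hb => ⟨Subgroup.mem_centralizer_iff.mpr fun a ha =>
      congrArg Subtype.val (hB.1.is_comm.comm ⟨a, hEB (hR₀E ha)⟩ ⟨b, hb⟩), hB.2 b hb⟩) hEB
  obtain ⟨hET, hZc, -, hTch, hTi⟩ := maximal_elementary_sq hp2 hR hr E hEe hE2 hEmax _ _ rfl rfl
  set Z := Subgroup.closure {x : R | x ∈ Subgroup.center R ∧ x ^ p = 1} with hZdef
  set T := Subgroup.centralizer ((Subgroup.closure
    {x : R | x ∈ Subgroup.upperCentralSeries R 2 ∧ x ^ p = 1} : Subgroup R) : Set R) with hTdef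
  obtain ⟨x, hx⟩ : ∃ x : R, Subgroup.zpowers x = R₀ := by
    haveI : IsCyclic R₀ := isCyclic_of_prime_card hR₀
    obtain ⟨g, hg⟩ := isCyclic_iff_exists_zpowers_eq_top.mp (inferInstance : IsCyclic R₀)
    exact ⟨g, by
      have := congrArg (Subgroup.map R₀.subtype) hg
      rwa [MonoidHom.map_zpowers, ← MonoidHom.range_eq_map, Subgroup.range_subtype] at this⟩
  have hzT : z ∈ T := Subgroup.mem_centralizer_iff.mpr fun a _ => Subgroup.mem_center_iff.mp hzc a
  refine ⟨E, T, x, Z, hEe, hE2, hEmax, hTch, hTi, hZc, fun t ht htp htx => ?_⟩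
  have htE : t ∈ E := ⟨by
    rw [← hx, Subgroup.mem_centralizer_iff]
    rintro _ ⟨k, rfl⟩
    exact ((show Commute t x from htx).zpow_right k).eq.symm, htp⟩
  have hlt : E ⊓ T < E := lt_of_le_of_ne inf_le_left fun h => hET (h ▸ inf_le_right)
  have hle : Z ≤ E ⊓ T := le_inf (fun a ha => by
      obtain ⟨h1, h2⟩ := mem_omega_center ha
      exact ⟨Subgroup.mem_centralizer_iff.mpr fun b _ => Subgroup.mem_center_iff.mp h1 b, h2⟩)
    (fun a ha => Subgroup.mem_centralizer_iff.mpr fun b _ =>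
      Subgroup.mem_center_iff.mp (mem_omega_center ha).1 b)
  obtain ⟨k, hk, hkc⟩ := (Nat.dvd_prime_pow hp.out).mp (hE2 ▸ Subgroup.card_dvd_of_le hlt.le)
  rw [Subgroup.eq_of_le_of_card_ge hle (by
    rw [hkc, hZc]
    refine (Nat.pow_le_pow_right hp.out.pos (show k ≤ 1 from ?_)).trans (by rw [pow_one])
    by_contra h
    exact hlt.ne (Subgroup.eq_of_le_of_card_ge hlt.le (by rw [hE2, hkc, show k = 2 by omega])))]
  exact ⟨htE, ht⟩

variable {G : Type u} [Group G] [Finite G]

/-- Operators stabilizing all factors of order at most `p` centralize a narrow `p`-group. -/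
theorem mem_centralizer_of_narrow (hp2 : p ≠ 2) {R A : Subgroup G} (hR : IsPGroup p R)
    (hn : Cfsg.IsNarrow p R) (hr : ¬ Cfsg.PRankLE p 2 R) (hA : A ≤ Subgroup.normalizer (R : Set G))
    {g : G} (hgA : g ∈ A) (hg : (orderOf g).Coprime p)
    (hgood : ∀ K L : Subgroup G, IsPGroup p K → L ≤ K → K ≤ Subgroup.normalizer (L : Set G) →
      A ≤ Subgroup.normalizer (K : Set G) → A ≤ Subgroup.normalizer (L : Set G) →
      Nat.card K ≤ p * Nat.card L → ∀ x ∈ K, ⁅g, x⁆ ∈ L) :
    g ∈ Subgroup.centralizer (R : Set G) := by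
  obtain ⟨-, T, x₀, Z, -, -, -, hTch, hTi, hZ, hTZ⟩ := narrow_data hp2 hR hn hr
  obtain ⟨U, hUR, hNU, -, hexp, hfaith⟩ := exists_exponent_faithful hp2 hR
  haveI := hTch
  set T₀ := T.map R.subtype with hT₀
  have hNT : Subgroup.normalizer (R : Set G) ≤ Subgroup.normalizer (T₀ : Set G) :=
    Cores.normalizer_le_normalizer_map_subtype R T
  set Q := Subgroup.zpowers g with hQ
  have hQA : Q ≤ A := Subgroup.zpowers_le.mpr hgA
  have hQc : ∀ k, (Nat.card Q).Coprime (p ^ k) := fun k => by rw [Nat.card_zpowers]; exact hg.pow_right k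
  have step : ∀ K L : Subgroup G, IsPGroup p K → L ≤ K → K ≤ Subgroup.normalizer (L : Set G) →
      A ≤ Subgroup.normalizer (K : Set G) → A ≤ Subgroup.normalizer (L : Set G) →
      Nat.card K ≤ p * Nat.card L → Q ≤ Subgroup.centralizer (L : Set G) →
      Q ≤ Subgroup.centralizer (K : Set G) := by
    intro K L hK hLK hKL hAK hAL hidx hQL
    obtain ⟨k, hk⟩ := IsPGroup.iff_card.mp (hK.to_le hLK)
    refine Coprime.le_centralizer_of_stabilizes (hQA.trans hAL) hKL (hk ▸ hQc k) ?_ hQL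
    intro a ha y hy
    obtain ⟨j, rfl⟩ := Submonoid.mem_powers_iff .. |>.mp (mem_powers_iff_mem_zpowers.mpr ha)
    clear ha
    induction j generalizing y with
    | zero => simp
    | succ j ih =>
      have h1 : g ^ j * (g * y * g⁻¹) * (g ^ j)⁻¹ * (g * y * g⁻¹)⁻¹ ∈ L :=
        ih _ (conj_mem_of_le_normalizer hAK hgA hy)
      have h2 : ⁅g, y⁆ ∈ L := hgood K L hK hLK hKL hAK hAL hidx y hy
      have e : g ^ (j + 1) * y * (g ^ (j + 1))⁻¹ * y⁻¹ =
          g ^ j * (g * y * g⁻¹) * (g ^ j)⁻¹ * (g * y * g⁻¹)⁻¹ * ⁅g, y⁆ := by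
        rw [pow_succ, commutatorElement_def]; group
      rw [e]
      exact L.mul_mem h1 h2
  have key : ∀ n : ℕ, ∀ K : Subgroup G, Nat.card K ≤ n → K ≤ U → K ≤ T₀ →
      R ≤ Subgroup.normalizer (K : Set G) → A ≤ Subgroup.normalizer (K : Set G) →
      Q ≤ Subgroup.centralizer (K : Set G) := by
    intro n
    induction n with
    | zero => intro K h; exact absurd h (not_le.mpr Nat.card_pos)
    | succ n ih =>
      intro K hn' hKU hKT hRK hAK
      have hKR : K ≤ R := hKU.trans hUR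
      have hKp : IsPGroup p K := hR.to_le hKR
      by_cases hK0 : K = ⊥
      · subst hK0
        intro q _
        exact Subgroup.mem_centralizer_iff.mpr fun y hy => by
          rw [Subgroup.mem_bot.mp hy, one_mul, mul_one]
      set L := ⁅K, R⁆ with hL
      have hlt : L < K := Coprime.commutator_lt_of_isPGroup hKp hR hRK hK0
      have hLn : Nat.card L < Nat.card K := lt_of_le_of_ne (Subgroup.card_le_of_le hlt.le)
        fun h => hlt.ne (Subgroup.eq_of_le_of_card_ge hlt.le h.ge)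
      have hAL : A ≤ Subgroup.normalizer (L : Set G) := by
        intro a ha
        refine Subgroup.mem_normalizer_iff_map_conj_eq.mpr ?_
        rw [Subgroup.map_commutator, Subgroup.mem_normalizer_iff_map_conj_eq.mp (hAK ha),
          Subgroup.mem_normalizer_iff_map_conj_eq.mp (hA ha)]
      have hRL : R ≤ Subgroup.normalizer (L : Set G) := Subgroup.normalizer_commutator_ge_right K R
      have hidx : Nat.card K ≤ p * Nat.card L := by
        let f : K → L := fun v => ⟨⁅(v : G), (x₀ : G)⁆, Subgroup.commutator_mem_commutator v.2 x₀.2⟩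
        choose r hr' using fun l : Set.range f => l.2
        rw [← hZ, mul_comm, ← Nat.card_prod]
        have hmem : ∀ v : K, ∃ z ∈ Z, (z : G) = ((r ⟨f v, v, rfl⟩ : K) : G)⁻¹ * v := by
          intro v
          set w := r ⟨f v, v, rfl⟩ with hw
          have hwv : f w = f v := hr' ⟨f v, v, rfl⟩
          have hmemU : (w : G)⁻¹ * v ∈ U := U.mul_mem (U.inv_mem (hKU w.2)) (hKU v.2)
          refine ⟨⟨_, hUR hmemU⟩, hTZ _ ?_ (Subtype.ext (hexp _ hmemU)) (Subtype.ext ?_), rfl⟩
          · obtain ⟨t, ht, hte⟩ := T₀.mul_mem (T₀.inv_mem (hKT w.2)) (hKT v.2)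
            rwa [show (⟨_, hUR hmemU⟩ : R) = t from Subtype.ext hte.symm]
          · have h : ⁅(w : G), (x₀ : G)⁆ = ⁅(v : G), (x₀ : G)⁆ := congrArg Subtype.val hwv
            show (w : G)⁻¹ * v * x₀ = x₀ * ((w : G)⁻¹ * v)
            have h' : (w : G) * x₀ * (w : G)⁻¹ = v * x₀ * (v : G)⁻¹ := by
              simpa [commutatorElement_def] using h
            calc (w : G)⁻¹ * v * x₀ = (w : G)⁻¹ * (v * x₀ * (v : G)⁻¹) * v := by group
              _ = _ := by rw [← h']; group
        choose z hz hzeq using hmem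
        refine Nat.card_le_card_of_injective (fun v : K => ((f v, ⟨z v, hz v⟩) : L × Z)) fun v v' h => ?_
        obtain ⟨h1, h2⟩ := Prod.ext_iff.mp h
        have h1' : (⟨f v, v, rfl⟩ : Set.range f) = ⟨f v', v', rfl⟩ := Subtype.ext h1
        have h3 := congrArg (fun q : Z => ((q : R) : G)) h2
        simp only at h3
        rw [hzeq, hzeq, h1'] at h3
        exact Subtype.ext (mul_left_cancel h3)
      exact step K L hKp hlt.le (hKR.trans hRL) hAK hAL hidx
        (ih L (by omega) (hlt.le.trans hKU) (hlt.le.trans hKT) hRL hAL)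
  set V := U ⊓ T₀ with hV
  have hinf : ∀ {X : Subgroup G}, X ≤ Subgroup.normalizer (R : Set G) →
      X ≤ Subgroup.normalizer (V : Set G) := by
    intro X hX a ha
    refine Subgroup.mem_normalizer_iff.mpr fun y => ?_
    show y ∈ U ∧ y ∈ T₀ ↔ a * y * a⁻¹ ∈ U ∧ a * y * a⁻¹ ∈ T₀
    rw [← Subgroup.mem_normalizer_iff.mp (hNU (hX ha)) y, ← Subgroup.mem_normalizer_iff.mp (hNT (hX ha)) y]
  have hRV : R ≤ Subgroup.normalizer (V : Set G) := hinf Subgroup.le_normalizer
  have hidx : Nat.card U ≤ p * Nat.card V := by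
    have h1 : T₀.relIndex U ≤ p := by
      have h2 : T₀.relIndex R = p := by
        rw [hT₀, Subgroup.relIndex, ← hTi]
        congr 1
        exact Subgroup.comap_map_eq_self_of_injective R.subtype_injective T
      rw [← h2]
      exact Subgroup.relIndex_le_of_le_right hUR (by rw [h2]; exact hp.out.ne_zero)
    have h3 : Nat.card V * T₀.relIndex U = Nat.card U := by
      rw [hV, ← Subgroup.inf_relIndex_left, ← Subgroup.relIndex_bot_left, ← Subgroup.relIndex_bot_left]
      exact Subgroup.relIndex_mul_relIndex _ _ _ bot_le inf_le_left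
    rw [← h3, mul_comm p]
    exact Nat.mul_le_mul_left _ h1
  have hQU : Q ≤ Subgroup.centralizer (U : Set G) :=
    step U V (hR.to_le hUR) inf_le_left (hUR.trans hRV) (hA.trans hNU) (hinf hA) hidx
      (key _ V le_rfl inf_le_left inf_le_right hRV (hinf hA))
  exact hfaith Q (hQA.trans hA) (by rw [Nat.card_zpowers]; exact hg) hQU (Subgroup.mem_zpowers g)

/-- Derived operators, and `(p - 1)`-th powers, of order prime to `p` centralize a narrow `p`-group. -/
theorem narrow_operators (hp2 : p ≠ 2) {R A : Subgroup G} (hR : IsPGroup p R)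
    (hn : Cfsg.IsNarrow p R) (hr : ¬ Cfsg.PRankLE p 2 R) (hA : A ≤ Subgroup.normalizer (R : Set G)) :
    (∀ g ∈ ⁅A, A⁆, (orderOf g).Coprime p → g ∈ Subgroup.centralizer (R : Set G)) ∧
      ∀ a ∈ A, (orderOf a).Coprime p → a ^ (p - 1) ∈ Subgroup.centralizer (R : Set G) :=
  ⟨fun g hg hc => mem_centralizer_of_narrow hp2 hR hn hr hA (Subgroup.commutator_le_self A hg) hc
      fun _ _ hK hL h1 h2 h3 h4 => (stabilizes_factor hK hL h1 h2 h3 h4).1 g hg,
    fun a ha hc => mem_centralizer_of_narrow hp2 hR hn hr hA (pow_mem ha _)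
      (hc.coprime_dvd_left (orderOf_pow_dvd _))
      fun _ _ hK hL h1 h2 h3 h4 => (stabilizes_factor hK hL h1 h2 h3 h4).2 a ha⟩

end Cfsg.Agent.Lib.OddLocal
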