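import Cfsg.Agent.Lib.OddLocal.RankTwoStructure
import Cfsg.Agent.Lib.OddLocal.Narrow
import Cfsg.Agent.Lib.OddLocal.PCore

/-! The `p`-structure of solvable groups of odd order with a narrow Sylow `p`-subgroup. -/

set_option autoImplicit false

open scoped commutatorElement

namespace Cfsg.Agent.Lib.OddLocal

universe u

variable {p : ℕ} [hp : Fact p.Prime]

/-- Consequences of the structure of the quotient by the `p'`-core. -/
theorem p_structure_of_quotient {G : Type u} [Group G] [Finite G] (hodd : Odd (Nat.card G))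
    (hc : commutator (G ⧸ Cfsg.pPrimeCore p G) ≤ Cfsg.pCore p (G ⧸ Cfsg.pPrimeCore p G))
    (hcop : (Cfsg.pCore p (G ⧸ Cfsg.pPrimeCore p G)).index.Coprime p)
    (hle : ∀ q : ℕ, q.Prime → q ∣ Nat.card (G ⧸ Cfsg.pPrimeCore p G) →
      q ≤ p ∧ (q = p ∨ q ∣ p - 1 ∨ q ∣ p + 1)) :
    (∀ q : ℕ, q.Prime → q ∣ (Cfsg.pPrimeCore p G).index → q ≤ p) ∧
      ((p = 3 ∨ ∀ q : ℕ, q.Prime → q ∣ Nat.card G → p ≤ q) → Cfsg.HasNormalPComplement p G) ∧
      Cfsg.HasNormalPComplement p ↥(commutator G) ∧
      (∀ L : Subgroup ↥(commutator G), (Nat.card L).Coprime p → L ≤ Cfsg.pPrimeCore p ↥(commutator G)) ∧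
      commutator G ≤ Cfsg.pPrimePCore p G ∧ ((Cfsg.pPrimePCore p G).index).Coprime p := by
  set N := Cfsg.pPrimeCore p G with hNdef
  have hN : (Nat.card N).Coprime p := Cores.pPrimeCore_coprime p G
  have hmap : ∀ g ∈ commutator G, QuotientGroup.mk' N g ∈ Cfsg.pCore p (G ⧸ N) := by
    intro g hg
    refine hc ?_
    have h : (commutator G).map (QuotientGroup.mk' N) ≤ commutator (G ⧸ N) := by
      rw [commutator_def, commutator_def, Subgroup.map_commutator]
      exact Subgroup.commutator_mono le_top le_top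
    exact h ⟨g, hg, rfl⟩
  set M := commutator G with hM
  set f := (QuotientGroup.mk' N).comp M.subtype with hf
  have hK : (Nat.card f.ker).Coprime p := by
    refine hN.coprime_dvd_left ?_
    rw [← Subgroup.card_map_of_injective (f := M.subtype) M.subtype_injective]
    refine Subgroup.card_dvd_of_le ?_
    rintro _ ⟨x, hx, rfl⟩
    exact (QuotientGroup.eq_one_iff _).mp (MonoidHom.mem_ker.mp hx)
  refine ⟨fun q hq hd => (hle q hq (by rwa [← Subgroup.index_eq_card])).1, fun h => ?_, ?_, ?_, hmap, ?_⟩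
  · have hX : IsPGroup p (G ⧸ N) := by
      have hq : ∀ q : ℕ, q.Prime → q ∣ Nat.card (G ⧸ N) → q = p := by
        intro q hq hd
        obtain ⟨h1, h2⟩ := hle q hq hd
        rcases h with h | h
        · subst h
          rcases h2 with rfl | h2 | h2
          · rfl
          · have h3 := Nat.le_of_dvd (by norm_num) h2
            have h4 : q = 2 := le_antisymm h3 hq.two_le
            subst h4
            exact absurd (hodd.of_dvd_nat (hd.trans (Subgroup.card_quotient_dvd_card N))) (by decide)
          · have h3 := Nat.le_of_dvd (by norm_num) h2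
            interval_cases q
            all_goals first
              | rfl
              | exact absurd hq (by decide)
              | exact absurd (hodd.of_dvd_nat (hd.trans (Subgroup.card_quotient_dvd_card N))) (by decide)
        · exact le_antisymm h1 (h q hq (hd.trans (Subgroup.card_quotient_dvd_card N)))
      exact IsPGroup.of_card (Nat.eq_prime_pow_of_unique_prime_dvd Nat.card_pos.ne' fun {q} hd' hd => hq q hd' hd)
    obtain ⟨k, hk⟩ := IsPGroup.iff_card.mp hX
    exact Transfer.hasNormalPComplement_of_coprime_of_index N hN (k := k) (by rw [Subgroup.index_eq_card, hk])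
  · have hr : IsPGroup p f.range := (Cores.pCore_isPGroup p (G ⧸ N)).to_le
      (by rintro _ ⟨x, rfl⟩; exact hmap x x.2)
    obtain ⟨k, hk⟩ := IsPGroup.iff_card.mp hr
    exact Transfer.hasNormalPComplement_of_coprime_of_index f.ker hK (k := k) (by rw [Subgroup.index_ker, hk])
  · intro L hL x hx
    refine Cores.le_pPrimeCore inferInstance hK (MonoidHom.mem_ker.mpr ?_)
    refine Transfer.eq_one_of_isPGroup_of_coprime (Cores.pCore_isPGroup p (G ⧸ N)) (hmap x x.2) ?_
    exact Nat.Coprime.coprime_dvd_left (orderOf_map_dvd f x) (Transfer.coprime_orderOf_of_mem hL hx)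
  · show ((Cfsg.pCore p (G ⧸ N)).comap (QuotientGroup.mk' N)).index.Coprime p
    rwa [Subgroup.index_comap_of_surjective _ (QuotientGroup.mk'_surjective N)]

/-- Narrowness is invariant under isomorphism. -/
theorem isNarrow_congr {R S : Type u} [Group R] [Group S] (e : R ≃* S) (h : Cfsg.IsNarrow p R) :
    Cfsg.IsNarrow p S := by
  rcases h with h | ⟨R₀, R₁, h0, h1, hd, hc, hsup⟩
  · left
    intro B hB hBp
    have h' := h (B.map e.symm.toMonoidHom) inferInstance (by
      rintro _ ⟨x, hx, rfl⟩
      rw [← map_pow, hBp x hx, map_one])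
    rwa [Subgroup.card_map_of_injective e.symm.injective] at h'
  · right
    refine ⟨R₀.map e.toMonoidHom, R₁.map e.toMonoidHom,
      by rw [Subgroup.card_map_of_injective e.injective, h0],
      isCyclic_of_surjective (R₁.equivMapOfInjective e.toMonoidHom e.injective).toMonoidHom
        (MulEquiv.surjective _), ?_, ?_, ?_⟩
    · rw [← Subgroup.map_inf _ _ _ e.injective, hd, Subgroup.map_bot]
    · rintro _ ⟨a, ha, rfl⟩ _ ⟨b, hb, rfl⟩
      rw [← map_mul, ← map_mul, hc a ha b hb]
    · rw [← Subgroup.map_sup, hsup]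
      ext x
      rw [Subgroup.mem_map_equiv, Subgroup.mem_centralizer_iff, Subgroup.mem_centralizer_iff]
      constructor
      · intro hx y hy
        obtain ⟨a, ha, rfl⟩ := hy
        have := congrArg e (hx a ha)
        simpa using this
      · intro hx a ha
        have := congrArg e.symm (hx (e a) ⟨a, ha, rfl⟩)
        simpa using this

/-- The quotient by the `p'`-core when a Sylow subgroup is narrow of rank at least three. -/
theorem commutator_le_pCore_of_narrow {X : Type u} [Group X] [Finite X] [Group.IsSolvable X]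
    (hp2 : p ≠ 2) (hX : Cfsg.pPrimeCore p X = ⊥) (S : Sylow p X) (hSn : (S : Subgroup X).Normal)
    (hn : Cfsg.IsNarrow p (S : Subgroup X)) (hr : ¬ Cfsg.PRankLE p 2 (S : Subgroup X)) :
    commutator X ≤ Cfsg.pCore p X ∧ (Cfsg.pCore p X).index.Coprime p ∧
      ∀ q : ℕ, q.Prime → q ∣ Nat.card X → q ≤ p ∧ (q = p ∨ q ∣ p - 1 ∨ q ∣ p + 1) := by
  have hPS : Cfsg.pCore p X = S :=
    le_antisymm (Cores.pCore_le_sylow S) (Cores.le_pCore hSn S.isPGroup')
  have hC : ∀ x : X, x ∈ Subgroup.centralizer ((S : Subgroup X) : Set X) → (orderOf x).Coprime p → x = 1 := by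
    intro x hx hc
    rw [← hPS] at hx
    exact Transfer.eq_one_of_isPGroup_of_coprime (Cores.pCore_isPGroup p X) (centralizer_pCore_le hX hx) hc
  obtain ⟨h1, h2⟩ := narrow_operators hp2 S.isPGroup' hn hr (A := ⊤)
    (fun g _ => by rw [Subgroup.normalizer_eq_top]; trivial)
  have hd : IsPGroup p (commutator X) := by
    intro c
    refine ⟨(orderOf (c : X)).factorization p, Subtype.ext ?_⟩
    have hcop : (orderOf ((c : X) ^ p ^ (orderOf (c : X)).factorization p)).Coprime p := by
      rw [orderOf_pow_of_dvd (pow_ne_zero _ hp.out.ne_zero) (Nat.ordProj_dvd _ _)]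
      exact (Nat.coprime_ordCompl hp.out (orderOf_pos _).ne').symm
    refine hC _ (h1 _ ?_ hcop) hcop
    rw [← commutator_def]
    exact pow_mem c.2 _
  refine ⟨Cores.le_pCore inferInstance hd, ?_, fun q hq hqd => ?_⟩
  · rw [hPS]
    exact (hp.out.coprime_iff_not_dvd.mpr S.not_dvd_index).symm
  · by_cases hqp : q = p
    · exact ⟨hqp.le, Or.inl hqp⟩
    haveI := Fact.mk hq
    obtain ⟨x, hx⟩ := exists_prime_orderOf_dvd_card' q hqd
    have hcop : (orderOf x).Coprime p := by rw [hx]; exact (Nat.coprime_primes hq hp.out).mpr hqp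
    have h3 := hC _ (h2 x (Subgroup.mem_top x) hcop) (hcop.coprime_dvd_left (orderOf_pow_dvd _))
    have h4 : q ∣ p - 1 := hx ▸ orderOf_dvd_of_pow_eq_one h3
    exact ⟨(Nat.le_of_dvd (by have := hp.out.two_le; omega) h4).trans (Nat.sub_le _ _), Or.inr (Or.inl h4)⟩

end Cfsg.Agent.Lib.OddLocal
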