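import Cfsg.Agent.Lib.OddLocal.PLengthOne
import Cfsg.Agent.Lib.OddLocal.AlphaCore
import Cfsg.Agent.Lib.OddLocal.RankTwoStructure
import Cfsg.Agent.S1407

/-!
Every proper subgroup of a minimal simple group of odd order has `p`-length at most one.
-/

set_option autoImplicit false

universe u

namespace Cfsg.Agent.Lib.OddLocal

open Cfsg.Agent.Lib

theorem pLengthLE_one_of_rank_two {X : Type u} [Group X] [Finite X] [Group.IsSolvable X]
    (hodd : Odd (Nat.card X)) {p : ℕ} [Fact p.Prime] (hp2 : p ≠ 2) (hr : Cfsg.PRankLE p 2 X) :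
    Cfsg.PLengthLE p 1 X := by
  set N := Cfsg.pPrimeCore p X with hNdef
  have hN : (Nat.card N).Coprime p := Cores.pPrimeCore_coprime p X
  refine PLength.of_quotient_coprime N hN ?_
  haveI : Group.IsSolvable (X ⧸ N) := Group.isSolvable_of_surjective (QuotientGroup.mk'_surjective N)
  obtain ⟨-, hcop, -⟩ := commutator_le_pCore_of_rank_two (X := X ⧸ N) hp2
    (hodd.of_dvd_nat (Subgroup.card_quotient_dvd_card N)) (Cores.pPrimeCore_quotient_pPrimeCore p X)
    (pRankLE_quotient N hN hr)
  exact PLength.of_quotient_isPGroup (k := 0) _ (Cores.pCore_isPGroup p (X ⧸ N))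
    (PLength.of_coprime hcop 0)

/-- `p`-length one passes up through a normal subgroup of index prime to `p`. -/
theorem pLengthLE_one_extend {M : Type u} [Group M] [Finite M] {p : ℕ} [Fact p.Prime] (N : Subgroup M)
    [N.Normal] (hidx : N.index.Coprime p) (h : Cfsg.PLengthLE p 1 N) : Cfsg.PLengthLE p 1 M := by
  set N₀ := (Cfsg.pPrimeCore p N).map N.subtype with hN₀
  haveI : N₀.Normal := Cores.normal_map_subtype_of_char N _
  have hN₀p : (Nat.card N₀).Coprime p :=
    (Cores.pPrimeCore_coprime p N).coprime_dvd_left (Subgroup.card_map_dvd _ _)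
  refine PLength.of_quotient_coprime N₀ hN₀p ?_
  set f := QuotientGroup.mk' N₀ with hf
  have hfs : Function.Surjective f := QuotientGroup.mk'_surjective N₀
  set Nb := N.map f with hNb
  haveI : Nb.Normal := (inferInstance : N.Normal).map f hfs
  have hlen : Cfsg.PLengthLE p 1 Nb :=
    PLength.of_surjective (f.subgroupMap N) (MonoidHom.subgroupMap_surjective f N) h
  have hO : Cfsg.pPrimeCore p Nb = ⊥ := by
    set T := (Cfsg.pPrimeCore p Nb).map Nb.subtype with hT
    haveI : T.Normal := Cores.normal_map_subtype_of_char Nb _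
    set U := T.comap f with hU
    have hUN : U ≤ N := by
      refine (Subgroup.comap_mono (Subgroup.map_subtype_le _)).trans ?_
      rw [hNb, Subgroup.comap_map_eq, hf, QuotientGroup.ker_mk']
      exact sup_le le_rfl (Subgroup.map_subtype_le _)
    have hUc : (Nat.card U).Coprime p := by
      rw [hU, hf, Cores.card_comap_mk']
      exact hN₀p.mul_left ((Cores.pPrimeCore_coprime p Nb).coprime_dvd_left (Subgroup.card_map_dvd _ _))
    haveI : U.Normal := Subgroup.Normal.comap inferInstance f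
    have hle : U ≤ N₀ := by
      have h1 : U.subgroupOf N ≤ Cfsg.pPrimeCore p N := Cores.le_pPrimeCore inferInstance (by
        rwa [Nat.card_congr (Subgroup.subgroupOfEquivOfLe hUN).toEquiv])
      intro u hu
      exact ⟨⟨u, hUN hu⟩, h1 (show (⟨u, hUN hu⟩ : N) ∈ U.subgroupOf N from hu), rfl⟩
    refine Subgroup.map_injective Nb.subtype_injective ?_
    rw [Subgroup.map_bot, eq_bot_iff]
    intro t ht
    obtain ⟨u, rfl⟩ := hfs t
    exact Subgroup.mem_bot.mpr ((QuotientGroup.eq_one_iff u).mpr (hle ht))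
  set P₁ := (Cfsg.pCore p Nb).map Nb.subtype with hP₁
  haveI : P₁.Normal := Cores.normal_map_subtype_of_char Nb _
  refine PLength.of_quotient_isPGroup (k := 0) P₁ ((Cores.pCore_isPGroup p Nb).map _) (PLength.of_coprime ?_ 0)
  rw [← Subgroup.index, hP₁, Subgroup.index_map_subtype]
  refine Nat.Coprime.mul_left (PLength.coprime_of_pLengthLE_zero (PLength.quotient_pCore hO (k := 0) hlen)) ?_
  exact hidx.coprime_dvd_left (Subgroup.index_map_dvd N hfs)

variable {G : Type u} [Group G] [Finite G] (hG : Cfsg.IsMinSimpleOddOrder G)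
include hG

theorem exists_prime_not_mem_sigma {M : Subgroup G} (hM : IsCoatom M) (hM1 : M ≠ ⊥) :
    ∃ r, r.Prime ∧ r ∣ Nat.card M ∧ r ∉ Cfsg.sigma M := by
  by_contra h
  push Not at h
  haveI : Group.IsSolvable M := isSolvable_of_ne_top hG hM.1
  haveI : Nontrivial M := (Subgroup.nontrivial_iff_ne_bot M).mpr hM1
  refine (Group.IsSolvable.commutator_lt_top_of_nontrivial (G := M)).ne (eq_top_iff.mpr fun x _ => ?_)
  refine isThreeStep_of_no_normal_sylow.mem_of_primeParts fun q hq hqx => ?_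
  haveI := Fact.mk hq
  have hp : IsPGroup q (Subgroup.zpowers (x ^ (orderOf x / q ^ (orderOf x).factorization q))) :=
    IsPGroup.of_card (n := _) (by rw [Nat.card_zpowers, orderOf_pPart q x])
  obtain ⟨P, hP⟩ := hp.exists_le_sylow
  exact sylow_le_commutator_of_sigma hG hM (h q hq (hqx.trans (orderOf_dvd_natCard x))) P
    (hP (Subgroup.mem_zpowers _))

theorem piCore_alpha_le_commutator {M : Subgroup G} (hM : IsCoatom M) :
    Cfsg.piCore (Cfsg.alpha M) M ≤ commutator M := by
  intro x hx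
  refine isThreeStep_of_no_normal_sylow.mem_of_primeParts fun q hq hqx => ?_
  haveI := Fact.mk hq
  have hqα : q ∈ Cfsg.alpha M := Cores.mem_of_prime_dvd_card_piCore hq
    (hqx.trans (Subgroup.orderOf_dvd_natCard _ hx))
  have hp : IsPGroup q (Subgroup.zpowers (x ^ (orderOf x / q ^ (orderOf x).factorization q))) :=
    IsPGroup.of_card (n := _) (by rw [Nat.card_zpowers, orderOf_pPart q x])
  obtain ⟨P, hP⟩ := hp.exists_le_sylow
  exact sylow_le_commutator_of_sigma hG hM (alpha_subset_sigma hG hM hqα) P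
    (hP (Subgroup.mem_zpowers _))

theorem pLengthLE_one_of_minSimple {p : ℕ} [Fact p.Prime] {H : Subgroup G} (hH : H ≠ ⊤) :
    Cfsg.PLengthLE p 1 H := by
  have hp : p.Prime := Fact.out
  obtain ⟨M, hM, hHM⟩ := (eq_top_or_exists_le_coatom H).resolve_left hH
  suffices h : Cfsg.PLengthLE p 1 M from
    PLength.of_surjective (Subgroup.subgroupOfEquivOfLe hHM).toMonoidHom (MulEquiv.surjective _)
      (pLengthLE_of_subgroup h (H.subgroupOf M))
  haveI : Group.IsSolvable M := isSolvable_of_ne_top hG hM.1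
  have hoddM : Odd (Nat.card M) := odd_card_subgroup hG M
  by_cases hpM : p ∣ Nat.card M
  swap
  · exact PLength.of_coprime ((hp.coprime_iff_not_dvd.mpr hpM).symm) 1
  have hp2 : p ≠ 2 := fun e => by
    have := hoddM.of_dvd_nat hpM
    rw [e] at this
    exact absurd this (by decide)
  by_cases hr : Cfsg.PRankLE p 2 M
  · exact pLengthLE_one_of_rank_two hoddM hp2 hr
  have hpα : p ∈ Cfsg.alpha M := ⟨hp, hr⟩
  set N := Cfsg.piCore (Cfsg.alpha M) M with hN
  obtain ⟨Q⟩ : Nonempty (Sylow p M) := inferInstance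
  have hQN : (Q : Subgroup M) ≤ N := (alphaCore_data hG hM).1 p hp hpα Q
  have hN1 : N ≠ ⊥ := fun h => Q.ne_bot_of_dvd_card hpM (eq_bot_iff.mpr (h ▸ hQN))
  have hMα : Cfsg.alphaCore M ≠ ⊥ := fun h => hN1 (by
    rw [Cfsg.alphaCore, Subgroup.map_eq_bot_iff_of_injective _ M.subtype_injective] at h
    exact h)
  obtain ⟨r, hr', hrM, hrσ⟩ := exists_prime_not_mem_sigma hG hM (fun h => by
    rw [h, Subgroup.card_bot] at hpM
    exact hp.not_dvd_one hpM)
  haveI := Fact.mk hr'
  obtain ⟨R⟩ : Nonempty (Sylow r M) := inferInstance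
  obtain ⟨x, hx, hxo, hxZ, -⟩ := S1407.result hG M hM hMα r hrM hrσ R
  have hxM : x ∈ M := Subgroup.map_subtype_le _ hx
  set C := N ⊓ Subgroup.centralizer ({(⟨x, hxM⟩ : M)} : Set M) with hC
  have hmem : ∀ c ∈ C, (c : G) ∈ Cfsg.alphaCore M ⊓ Subgroup.centralizer ({x} : Set G) := fun c hc =>
    ⟨Subgroup.mem_map_of_mem M.subtype hc.1, Subgroup.mem_centralizer_singleton_iff.mpr
      (congrArg Subtype.val (Subgroup.mem_centralizer_singleton_iff.mp hc.2))⟩
  haveI := hxZ
  let g : C →* ↥(Cfsg.alphaCore M ⊓ Subgroup.centralizer ({x} : Set G)) :=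
    (M.subtype.comp C.subtype).codRestrict _ fun c => hmem c c.2
  haveI hCZ : IsZGroup C := IsZGroup.of_injective (f := g) fun a b hab => by
    have h := congrArg (fun t : ↥(Cfsg.alphaCore M ⊓ Subgroup.centralizer ({x} : Set G)) => (t : G)) hab
    exact Subtype.ext (Subtype.ext h)
  have hrN : ¬ r ∣ Nat.card N := fun h =>
    hrσ (alpha_subset_sigma hG hM (Cores.mem_of_prime_dvd_card_piCore hr' h))
  have hlen := pLengthLE_one_of_fixed_zgroup hoddM (p := p) N (piCore_alpha_le_commutator hG hM) hr'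
    (⟨x, hxM⟩ : M) (by rw [← hxo, ← Subgroup.orderOf_coe]) hrN hCZ
  -- `M / N` has order prime to `p`
  have hidx : N.index.Coprime p := ((hp.coprime_iff_not_dvd.mpr fun h =>
    Q.not_dvd_index (h.trans (Subgroup.index_dvd_of_le hQN))).symm)
  exact pLengthLE_one_extend N hidx hlen

end Cfsg.Agent.Lib.OddLocal
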