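import Cfsg.Agent.Lib.OddLocal.AlphaCore
import Cfsg.Agent.Lib.OddLocal.NarrowStructure
import Cfsg.Agent.Lib.OddLocal.NarrowCriterion
import Cfsg.Agent.Lib.OddLocal.PLengthMinSimple

/-!
The `β`-core of a maximal subgroup and the `p`-complements outside `β`.
-/

set_option autoImplicit false

open scoped commutatorElement

namespace Cfsg.Agent.Lib.OddLocal

open Cfsg.Agent.Lib

universe u

variable {G : Type u} [Group G] [Finite G] (hG : Cfsg.IsMinSimpleOddOrder G)
include hG

/-- A non-ideal prime with rank at least three has narrow Sylow subgroups. -/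
theorem isNarrow_of_not_ideal {p : ℕ} [hp : Fact p.Prime] (hp2 : p ≠ 2) (hr : ¬ Cfsg.PRankLE p 2 G)
    (hni : ¬ Cfsg.IsIdealPrime p G) (S : Sylow p G) : Cfsg.IsNarrow p (S : Subgroup G) := by
  simp only [Cfsg.IsIdealPrime, not_and] at hni
  have h := hni hp.out hr
  push Not at h
  obtain ⟨P, A, hAP, hAe, hA2, hmax⟩ := h
  refine isNarrow_congr (Sylow.equiv P S) ?_
  set E := A.subgroupOf (P : Subgroup G) with hE
  have hEe : Cfsg.IsElementaryAbelian p E :=
    ⟨⟨⟨fun a b => Subtype.ext (Subtype.ext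
      (congrArg Subtype.val (hAe.1.is_comm.comm ⟨a.1.1, a.2⟩ ⟨b.1.1, b.2⟩) :))⟩⟩,
      fun a ha => Subtype.ext (hAe.2 a.1 ha)⟩
  refine isNarrow_of_centralizer_rank_two hp2 P.isPGroup' E hEe fun B hBc hBp => ?_
  set B' := B.map (Subgroup.centralizer (E : Set (P : Subgroup G))).subtype with hB'
  have hcE : Nat.card E = p ^ 2 := by
    rw [hE, Nat.card_congr (Subgroup.subgroupOfEquivOfLe hAP).toEquiv, hA2]
  rw [← Subgroup.card_map_of_injective (Subgroup.subtype_injective _), ← hB', ← hcE]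
  refine Subgroup.card_le_of_le fun x hx => ?_
  obtain ⟨y, hy, rfl⟩ := hx
  have hyp : ((y : (P : Subgroup G)) : (P : Subgroup G)) ^ p = 1 := by
    exact congrArg Subtype.val (hBp y hy)
  have hel := isElementary_sup_zpowers hEe y.2 hyp
  by_contra hyE
  set D := (E ⊔ Subgroup.zpowers (y : (P : Subgroup G))).map (P : Subgroup G).subtype with hD
  have hAD : A ≤ D := fun a ha => ⟨⟨a, hAP ha⟩, Subgroup.mem_sup_left ha, rfl⟩
  have hDe : Cfsg.IsElementaryAbelian p D := by
    refine ⟨?_, ?_⟩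
    · haveI := hel.1
      exact Subgroup.map_isMulCommutative _ _
    · rintro _ ⟨a, ha, rfl⟩
      rw [← map_pow, hel.2 a ha, map_one]
  refine hmax D (Subgroup.map_subtype_le _) hDe (lt_of_le_of_ne hAD fun heq => hyE ?_)
  have : ((y : (P : Subgroup G)) : G) ∈ A :=
    heq.ge ⟨(y : (P : Subgroup G)), Subgroup.mem_sup_right (Subgroup.mem_zpowers _), rfl⟩
  exact this

variable {M : Subgroup G} (hM : IsCoatom M)
include hM

theorem ne_two_of_dvd {p : ℕ} (hd : p ∣ Nat.card M) : p ≠ 2 := fun h => by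
  have := hG.1.of_dvd_nat (hd.trans (Subgroup.card_subgroup_dvd_card M))
  rw [h] at this
  exact absurd this (by decide)

/-- The `p`-structure outside `β(M)`. -/
theorem p_structure_not_beta {p : ℕ} [hp : Fact p.Prime] (hd : p ∣ Nat.card M) (hpβ : p ∉ Cfsg.beta M) :
    (∀ q : ℕ, q.Prime → q ∣ (Cfsg.pPrimeCore p M).index → q ≤ p) ∧
      Cfsg.HasNormalPComplement p ↥(commutator M) ∧
      (∀ L : Subgroup ↥(commutator M), (Nat.card L).Coprime p → L ≤ Cfsg.pPrimeCore p ↥(commutator M)) ∧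
      commutator M ≤ Cfsg.pPrimePCore p M := by
  haveI : Group.IsSolvable M := isSolvable_of_ne_top hG hM.1
  have hp2 := ne_two_of_dvd hG hM hd
  have hodd : Odd (Nat.card M) := hG.1.of_dvd_nat (Subgroup.card_subgroup_dvd_card M)
  set N := Cfsg.pPrimeCore p M with hN
  have hNc : (Nat.card N).Coprime p := Cores.pPrimeCore_coprime p M
  haveI : Group.IsSolvable (M ⧸ N) := Group.isSolvable_of_surjective (QuotientGroup.mk'_surjective N)
  have hX := Cores.pPrimeCore_quotient_pPrimeCore p M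
  have hdata : commutator (M ⧸ N) ≤ Cfsg.pCore p (M ⧸ N) ∧ (Cfsg.pCore p (M ⧸ N)).index.Coprime p ∧
      ∀ q : ℕ, q.Prime → q ∣ Nat.card (M ⧸ N) → q ≤ p ∧ (q = p ∨ q ∣ p - 1 ∨ q ∣ p + 1) := by
    by_cases hr : Cfsg.PRankLE p 2 M
    · exact commutator_le_pCore_of_rank_two hp2 (hodd.of_dvd_nat (Subgroup.card_quotient_dvd_card N)) hX
        (pRankLE_quotient N hNc hr)
    have hα : p ∈ Cfsg.alpha M := ⟨hp.out, hr⟩
    obtain ⟨P⟩ : Nonempty (Sylow p M) := inferInstance
    obtain ⟨S, hS⟩ := exists_sylow_of_normalizer_le hG P (normalizer_sylow_le_of_alpha hG hM hr P)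
    have hrG : ¬ Cfsg.PRankLE p 2 G := fun h => hr (pRankLE_of_injective M.subtype M.subtype_injective h)
    have hPn : Cfsg.IsNarrow p (P : Subgroup M) := by
      refine isNarrow_congr ?_ (isNarrow_of_not_ideal hG hp2 hrG (fun hid => hpβ ⟨hα, hid⟩) S)
      exact (MulEquiv.subgroupCongr hS).trans
        ((P : Subgroup M).equivMapOfInjective M.subtype M.subtype_injective).symm
    have hrP : ¬ Cfsg.PRankLE p 2 (P : Subgroup M) := by
      intro h
      refine hr fun D hD hDp => ?_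
      have hDP : IsPGroup p D := fun b => ⟨1, Subtype.ext (by rw [pow_one]; exact hDp b b.2)⟩
      obtain ⟨T, hT⟩ := hDP.exists_le_sylow
      have h' := pRankLE_of_injective (Sylow.equiv T P).toMonoidHom (MulEquiv.injective _) h
      have := h' (D.subgroupOf (T : Subgroup M))
        ⟨⟨fun a b => Subtype.ext (Subtype.ext
          (congrArg Subtype.val (hD.is_comm.comm ⟨a.1.1, a.2⟩ ⟨b.1.1, b.2⟩) :))⟩⟩
        fun a ha => Subtype.ext (hDp a.1 ha)
      rwa [Nat.card_congr (Subgroup.subgroupOfEquivOfLe hT).toEquiv] at this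
    set X := P.mapSurjective (QuotientGroup.mk'_surjective N) with hXdef
    have hXcoe : (X : Subgroup (M ⧸ N)) = (P : Subgroup M).map (QuotientGroup.mk' N) := rfl
    have hinj : Function.Injective ((QuotientGroup.mk' N).subgroupMap (P : Subgroup M)) := by
      rw [injective_iff_map_eq_one]
      intro a ha
      refine Subtype.ext ?_
      have h1 : (a : M) ∈ N := (QuotientGroup.eq_one_iff _).mp (congrArg Subtype.val ha)
      exact Transfer.eq_one_of_isPGroup_of_coprime P.isPGroup' a.2 (Transfer.coprime_orderOf_of_mem hNc h1)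
    let e : (P : Subgroup M) ≃* (X : Subgroup (M ⧸ N)) :=
      MulEquiv.ofBijective ((QuotientGroup.mk' N).subgroupMap (P : Subgroup M))
        ⟨hinj, MonoidHom.subgroupMap_surjective _ _⟩
    have hXn : (X : Subgroup (M ⧸ N)).Normal := by
      obtain ⟨K, -, -, hKS, -, hKN⟩ := exists_of_pLengthLE_one
        (pLengthLE_one_of_minSimple hG (H := M) hM.1 : Cfsg.PLengthLE p 1 M) P
      have heq : (K ⊔ (P : Subgroup M)).map (QuotientGroup.mk' N) = (X : Subgroup (M ⧸ N)) := by
        rw [Subgroup.map_sup, hXcoe, sup_eq_right]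
        rintro _ ⟨k, hk, rfl⟩
        rw [show QuotientGroup.mk' N k = 1 from (QuotientGroup.eq_one_iff k).mpr (hKN hk)]
        exact one_mem _
      exact heq ▸ hKS.map _ (QuotientGroup.mk'_surjective N)
    exact commutator_le_pCore_of_narrow hp2 hX X hXn (isNarrow_congr e hPn)
      fun h => hrP (pRankLE_of_injective e.toMonoidHom e.injective h)
  obtain ⟨h1, -, h3, h4, h5, -⟩ := p_structure_of_quotient hodd hdata.1 hdata.2.1 hdata.2.2
  exact ⟨h1, h3, h4, h5⟩

theorem mem_commutator_of_sigma_number {x : M}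
    (hx : ∀ q : ℕ, q.Prime → q ∣ orderOf x → q ∈ Cfsg.sigma M) : x ∈ commutator M := by
  refine isThreeStep_of_no_normal_sylow.mem_of_primeParts fun q hq hqx => ?_
  haveI := Fact.mk hq
  have hp : IsPGroup q (Subgroup.zpowers (x ^ (orderOf x / q ^ (orderOf x).factorization q))) :=
    IsPGroup.of_card (n := _) (by rw [Nat.card_zpowers, orderOf_pPart q x])
  obtain ⟨P, hP⟩ := hp.exists_le_sylow
  exact sylow_le_commutator_of_sigma hG hM (hx q hq hqx) P (hP (Subgroup.mem_zpowers _))

/-- The kernel of `M' → ∏ M' / O_{q'}(M')` over `q` outside `β(M)`. -/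
theorem beta_kernel :
    (∀ p : ℕ, p ∈ Cfsg.beta M → ∀ P : Sylow p M, (P : Subgroup M) ≤ Cfsg.piCore (Cfsg.beta M) M) ∧
      ∀ H : Subgroup M, H ≤ commutator M → (∀ q : ℕ, q.Prime → q ∣ Nat.card H → q ∉ Cfsg.beta M) →
        Group.IsNilpotent H := by
  classical
  set M' := commutator M with hM'
  let ι := {q : ℕ // q ∈ (Nat.card M).primeFactors ∧ q ∉ Cfsg.beta M}
  haveI : Finite ι := Finite.of_injective
    (fun q : ι => (⟨q.1, q.2.1⟩ : (Nat.card M).primeFactors)) fun a b h =>
      Subtype.ext (congrArg Subtype.val h :)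
  have hprime : ∀ q : ι, q.1.Prime := fun q => Nat.prime_of_mem_primeFactors q.2.1
  have hfacts : ∀ q : ι, (∀ L : Subgroup M', (Nat.card L).Coprime q.1 → L ≤ Cfsg.pPrimeCore q.1 M') ∧
      IsPGroup q.1 (M' ⧸ Cfsg.pPrimeCore q.1 M') := by
    intro q
    have := Fact.mk (hprime q)
    obtain ⟨-, -, h3, -⟩ := p_structure_not_beta hG hM (Nat.dvd_of_mem_primeFactors q.2.1) q.2.2
    refine ⟨h3, fun g => ?_⟩
    obtain ⟨x, rfl⟩ := QuotientGroup.mk'_surjective _ g
    refine ⟨(orderOf x).factorization q.1, ?_⟩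
    rw [← map_pow, QuotientGroup.mk'_apply, QuotientGroup.eq_one_iff]
    refine h3 (Subgroup.zpowers _) ?_ (Subgroup.mem_zpowers _)
    rw [Nat.card_zpowers, orderOf_pow_of_dvd (pow_ne_zero _ (hprime q).ne_zero) (Nat.ordProj_dvd _ _)]
    exact (Nat.coprime_ordCompl (hprime q) (orderOf_pos x).ne').symm
  set N := ⨅ q : ι, Cfsg.pPrimeCore q.1 M' with hN
  have hNβ : ∀ r : ℕ, r.Prime → r ∣ Nat.card N → r ∈ Cfsg.beta M := by
    intro r hr hd
    by_contra hrβ
    have := Fact.mk hr
    have hrM : r ∈ (Nat.card M).primeFactors :=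
      Nat.mem_primeFactors.mpr ⟨hr, hd.trans ((Subgroup.card_subgroup_dvd_card N).trans
        (Subgroup.card_subgroup_dvd_card M')), Nat.card_pos.ne'⟩
    have hle : N ≤ Cfsg.pPrimeCore r M' := iInf_le (fun q : ι => Cfsg.pPrimeCore q.1 M') ⟨r, hrM, hrβ⟩
    exact hr.not_dvd_one ((Cores.pPrimeCore_coprime r M') ▸
      Nat.dvd_gcd (hd.trans (Subgroup.card_dvd_of_le hle)) dvd_rfl)
  refine ⟨fun p hpβ P => ?_, fun H hHM' hH => ?_⟩
  · have hpp : p.Prime := hpβ.1.1
    have := Fact.mk hpp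
    have hpσ : p ∈ Cfsg.sigma M := alpha_subset_sigma hG hM hpβ.1
    haveI hn : (N.map M'.subtype).Normal := by
      have heq : N.map M'.subtype = ⨅ q : ι, M' ⊓ (Cfsg.pPrimeCore q.1 M').map M'.subtype := by
        ext x
        simp only [Subgroup.mem_map, hN, Subgroup.mem_iInf, Subgroup.mem_inf]
        constructor
        · rintro ⟨y, hy, rfl⟩ q
          exact ⟨y.2, y, hy q, rfl⟩
        · intro hx
          by_cases he : Nonempty ι
          · obtain ⟨q0⟩ := he
            refine ⟨⟨x, (hx q0).1⟩, fun q => ?_, rfl⟩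
            obtain ⟨y, hy, hyx⟩ := (hx q).2
            rwa [show (⟨x, (hx q0).1⟩ : M') = y from Subtype.ext hyx.symm]
          · have hxM' : x ∈ M' := mem_commutator_of_sigma_number hG hM fun r hr hrx => by
              refine alpha_subset_sigma hG hM (by_contra fun hrα => he ⟨⟨r, Nat.mem_primeFactors.mpr
                ⟨hr, hrx.trans (orderOf_dvd_natCard x), Nat.card_pos.ne'⟩, fun hb => hrα hb.1⟩⟩)
            exact ⟨⟨x, hxM'⟩, fun q => absurd ⟨q⟩ he, rfl⟩
      rw [heq]
      exact Subgroup.normal_iInf_normal fun q =>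
        @Subgroup.normal_inf_normal _ _ _ _ inferInstance (Cores.normal_map_subtype_of_char M' _)
    intro x hx
    have hxM' : x ∈ M' := sylow_le_commutator_of_sigma hG hM hpσ P hx
    refine Cores.le_piCore hn (fun r hr hd => hNβ r hr ?_) ⟨⟨x, hxM'⟩, ?_, rfl⟩
    · rwa [Subgroup.card_map_of_injective M'.subtype_injective] at hd
    · refine Subgroup.mem_iInf.mpr fun q => (hfacts q).1 (Subgroup.zpowers _) ?_ (Subgroup.mem_zpowers _)
      rw [Nat.card_zpowers, ← Subgroup.orderOf_coe]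
      obtain ⟨k, hk⟩ := exists_orderOf_of_mem P.isPGroup' hx
      rw [hk]
      exact ((Nat.coprime_primes hpp (hprime q)).mpr fun e => q.2.2 (e ▸ hpβ)).pow_left k
  · haveI : ∀ q : ι, Group.IsNilpotent (M' ⧸ Cfsg.pPrimeCore q.1 M') := fun q =>
      have := Fact.mk (hprime q)
      (hfacts q).2.isNilpotent
    set f : H →* ∀ q : ι, M' ⧸ Cfsg.pPrimeCore q.1 M' :=
      MonoidHom.pi fun q => (QuotientGroup.mk' _).comp (Subgroup.inclusion hHM') with hf
    refine Subgroup.isNilpotent_of_ker_le_center f fun h hh => ?_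
    have hmem : Subgroup.inclusion hHM' h ∈ N := Subgroup.mem_iInf.mpr fun q =>
      (QuotientGroup.eq_one_iff _).mp (congrFun (MonoidHom.mem_ker.mp hh) q)
    have h1 : h = 1 := by
      rw [← orderOf_eq_one_iff]
      by_contra hne
      obtain ⟨r, hr, hrd⟩ := Nat.exists_prime_and_dvd hne
      refine hH r hr (hrd.trans (orderOf_dvd_natCard h)) (hNβ r hr ?_)
      rw [← orderOf_injective (Subgroup.inclusion hHM') (Subgroup.inclusion_injective hHM') h] at hrd
      exact hrd.trans (Subgroup.orderOf_dvd_natCard N hmem)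
    rw [h1]
    exact one_mem _

end Cfsg.Agent.Lib.OddLocal
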