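import Mathlib
import Cfsg.Agent.Lib.Involutions.Basic
import Cfsg.Agent.Lib.OddLocal.ZassenhausDerive

/-!
# Simple groups with abelian centralisers and even order act as Zassenhaus groups

All elementary: each coset of `M = N_G(A)`, `A` the centraliser of an involution, other than `M`
contains exactly `[M : A]` involutions, so the two-point stabilisers are abelian complements of `A`
inverted by a swapping involution, and nothing but the identity fixes three points.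
-/

set_option autoImplicit false
set_option linter.unusedSectionVars false

namespace Cfsg.Agent.Lib.CASimple

open Cfsg.Agent.Lib.Involutions

universe u

variable {G : Type u} [Group G] [Finite G]

/-- Commutation is transitive on non-identity elements. -/
def CT (G : Type u) [Group G] : Prop :=
  ∀ a b c : G, a ≠ 1 → b ≠ 1 → c ≠ 1 → Commute a b → Commute b c → Commute a c

theorem CT.comm_cent (h : CT G) {a : G} (ha : a ≠ 1) {x y : G}
    (hx : x ∈ Subgroup.centralizer ({a} : Set G)) (hy : y ∈ Subgroup.centralizer ({a} : Set G)) :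
    x * y = y * x := by
  rcases eq_or_ne x 1 with rfl | hx1
  · simp
  rcases eq_or_ne y 1 with rfl | hy1
  · simp
  exact h x a y hx1 ha hy1 (Subgroup.mem_centralizer_singleton_iff.1 hx)
    (Subgroup.mem_centralizer_singleton_iff.1 hy).symm

theorem CT.cent_eq (h : CT G) {a t : G} (ha : a ≠ 1) (ht : t ≠ 1) (hat : Commute a t) :
    Subgroup.centralizer ({a} : Set G) = Subgroup.centralizer ({t} : Set G) := by
  ext x
  rw [Subgroup.mem_centralizer_singleton_iff, Subgroup.mem_centralizer_singleton_iff]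
  rcases eq_or_ne x 1 with rfl | hx1
  · simp
  exact ⟨fun hx => h x a t hx1 ha ht hx hat, fun hx => h x t a hx1 ht ha hx hat.symm⟩

/-- The hypotheses, with a distinguished involution. -/
structure CAData (G : Type u) [Group G] where
  /-- the involution -/
  t : G
  ht : orderOf t = 2
  ct : CT G
  simple : IsSimpleGroup G
  nc : ¬ IsMulCommutative G
  hS : ∃ S : Sylow 2 G, (S : Subgroup G) ≤ Subgroup.centralizer ({t} : Set G)

theorem exists_data (hct : CT G) (hs : IsSimpleGroup G) (hnc : ¬ IsMulCommutative G)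
    (heven : Even (Nat.card G)) : Nonempty (CAData G) := by
  have : Fact (Nat.Prime 2) := ⟨Nat.prime_two⟩
  obtain ⟨S⟩ : Nonempty (Sylow 2 G) := inferInstance
  have hne : (S : Subgroup G) ≠ ⊥ := S.ne_bot_of_dvd_card (even_iff_two_dvd.1 heven)
  have : Nontrivial (S : Subgroup G) := Subgroup.nontrivial_iff_ne_bot _ |>.2 hne
  have hc : Nontrivial (Subgroup.center (S : Subgroup G)) := S.2.center_nontrivial
  have h2 : 2 ∣ Nat.card (Subgroup.center (S : Subgroup G)) := by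
    obtain ⟨n, hn⟩ := IsPGroup.iff_card.1 (S.2.to_subgroup (Subgroup.center (S : Subgroup G)))
    have := Finite.one_lt_card_iff_nontrivial.2 hc
    rw [hn] at this ⊢
    exact dvd_pow_self _ (by rintro rfl; simp at this)
  obtain ⟨z, hz⟩ := exists_prime_orderOf_dvd_card' 2 h2
  refine ⟨⟨((z : (S : Subgroup G)) : G), by rw [Subgroup.orderOf_coe, Subgroup.orderOf_coe, hz],
    hct, hs, hnc, S, fun x hx => ?_⟩⟩
  exact Subgroup.mem_centralizer_singleton_iff.2
    (congrArg Subtype.val (Subgroup.mem_center_iff.1 z.2 ⟨x, hx⟩))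

namespace CAData

variable (d : CAData G)

/-- The centraliser of the involution. -/
def A : Subgroup G := Subgroup.centralizer ({d.t} : Set G)

/-- Its normaliser. -/
def M : Subgroup G := Subgroup.normalizer (d.A : Set G)

theorem t_ne : d.t ≠ 1 := invol_ne_one d.ht

theorem t_mem : d.t ∈ d.A := Subgroup.mem_centralizer_singleton_iff.2 rfl

theorem comm_A {x y : G} (hx : x ∈ d.A) (hy : y ∈ d.A) : x * y = y * x :=
  d.ct.comm_cent d.t_ne hx hy

theorem A_comm : IsMulCommutative d.A :=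
  ⟨⟨fun a b => Subtype.ext (d.comm_A a.2 b.2)⟩⟩

theorem cent_mem {a x : G} (ha : a ∈ d.A) (ha1 : a ≠ 1) (hx : x * a = a * x) : x ∈ d.A := by
  have h := d.ct.cent_eq ha1 d.t_ne (Subgroup.mem_centralizer_singleton_iff.1 ha)
  rw [A, ← h]
  exact Subgroup.mem_centralizer_singleton_iff.2 hx

theorem A_le_M : d.A ≤ d.M := Subgroup.le_normalizer

theorem conj_mem {g : G} (hg : g ∈ d.M) {a : G} (ha : a ∈ d.A) : g * a * g⁻¹ ∈ d.A :=
  (Subgroup.mem_normalizer_iff.1 hg a).1 ha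

/-- An element conjugating one non-identity element of `A` into `A` normalises `A`. -/
theorem mem_M {g a : G} (ha : a ∈ d.A) (ha1 : a ≠ 1) (h : g * a * g⁻¹ ∈ d.A) : g ∈ d.M := by
  refine Subgroup.mem_normalizer_iff.2 fun x => ⟨fun hx => ?_, fun hx => ?_⟩
  · refine d.cent_mem h (by simpa using ha1) ?_
    calc g * x * g⁻¹ * (g * a * g⁻¹) = g * (x * a) * g⁻¹ := by group
      _ = g * (a * x) * g⁻¹ := by rw [d.comm_A hx ha]
      _ = g * a * g⁻¹ * (g * x * g⁻¹) := by group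
  · refine d.cent_mem ha ha1 ?_
    have h1 := d.comm_A hx h
    calc x * a = g⁻¹ * (g * x * g⁻¹ * (g * a * g⁻¹)) * g := by group
      _ = g⁻¹ * (g * a * g⁻¹ * (g * x * g⁻¹)) * g := by rw [h1]
      _ = a * x := by group

theorem M_ne_top : d.M ≠ ⊤ := by
  intro h
  haveI := d.simple
  have hn : d.A.Normal := Subgroup.normalizer_eq_top_iff.1 h
  rcases hn.eq_bot_or_eq_top with h1 | h1
  · have := d.t_mem
    rw [h1, Subgroup.mem_bot] at this
    exact d.t_ne this
  · exact d.nc ⟨⟨fun x y => d.comm_A (h1 ▸ Subgroup.mem_top x) (h1 ▸ Subgroup.mem_top y)⟩⟩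

theorem exists_conj_mem {u : G} (hu : orderOf u = 2) : ∃ g : G, g * u * g⁻¹ ∈ d.A := by
  obtain ⟨S, hS⟩ := d.hS
  have : Fact (Nat.Prime 2) := ⟨Nat.prime_two⟩
  obtain ⟨R, hR⟩ := (IsPGroup.of_card (n := 1) (G := Subgroup.zpowers u)
    (by rw [Nat.card_zpowers, hu, pow_one])).exists_le_sylow
  obtain ⟨g, hg⟩ := MulAction.exists_smul_eq G R S
  refine ⟨g, hS ?_⟩
  rw [← hg, Sylow.coe_subgroup_smul]
  exact ⟨u, hR (Subgroup.mem_zpowers u), rfl⟩

theorem exists_outside : ∃ u : G, orderOf u = 2 ∧ u ∉ d.A := by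
  obtain ⟨g, hg⟩ : ∃ g, g ∉ d.M := by
    by_contra h
    exact d.M_ne_top (Subgroup.eq_top_iff' _ |>.2 (by simpa using h))
  exact ⟨g * d.t * g⁻¹, by rw [orderOf_conj_eq, d.ht], fun h => hg (d.mem_M d.t_mem d.t_ne h)⟩

theorem conj_inside_outside {s u : G} (hs : orderOf s = 2) (hsA : s ∈ d.A) (hu : orderOf u = 2)
    (huA : u ∉ d.A) : IsConj s u := by
  by_contra h
  obtain ⟨w, hw, hws, hwu⟩ := exists_invol_commute hs hu h
  have hwA : w ∈ d.A := d.cent_mem hsA (invol_ne_one hs) hws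
  exact huA (d.cent_mem hwA (invol_ne_one hw) hwu.symm)

theorem isConj_t {u : G} (hu : orderOf u = 2) : IsConj d.t u := by
  by_cases huA : u ∈ d.A
  · obtain ⟨w, hw, hwA⟩ := d.exists_outside
    exact (d.conj_inside_outside d.ht d.t_mem hw hwA).trans
      (d.conj_inside_outside hu huA hw hwA).symm
  · exact d.conj_inside_outside d.ht d.t_mem hu huA

/-- The number `[M : A]`. -/
noncomputable def q : ℕ := d.A.relIndex d.M

theorem q_pos : 0 < d.q :=
  Nat.pos_of_ne_zero (by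
    rw [q]
    exact Subgroup.index_ne_zero_of_finite)

theorem card_M : Nat.card d.M = Nat.card d.A * d.q := by
  rw [q, Subgroup.relIndex, ← Nat.card_congr (Subgroup.subgroupOfEquivOfLe d.A_le_M).toEquiv]
  exact (Subgroup.card_mul_index _).symm

theorem index_A : d.A.index = d.q * d.M.index := (Subgroup.relIndex_mul_index d.A_le_M).symm

theorem card_invol : Nat.card {u : G // orderOf u = 2} = d.A.index := by
  refine (Nat.card_congr (Equiv.ofBijective
    (Quotient.lift (fun g : G => (⟨g * d.t * g⁻¹, by rw [orderOf_conj_eq, d.ht]⟩ :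
      {u : G // orderOf u = 2})) ?_) ⟨?_, ?_⟩)).symm
  · intro a b hab
    have h : a⁻¹ * b ∈ d.A := QuotientGroup.leftRel_apply.1 hab
    have h1 := Subgroup.mem_centralizer_singleton_iff.1 h
    refine Subtype.ext ?_
    show a * d.t * a⁻¹ = b * d.t * b⁻¹
    calc a * d.t * a⁻¹ = a * (a⁻¹ * b * d.t * (a⁻¹ * b)⁻¹) * a⁻¹ := by rw [h1]; group
      _ = b * d.t * b⁻¹ := by group
  · intro x y
    induction x using Quotient.inductionOn with
    | _ a =>
    induction y using Quotient.inductionOn with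
    | _ b =>
    intro h
    have h1 : a * d.t * a⁻¹ = b * d.t * b⁻¹ := congrArg Subtype.val h
    refine Quotient.sound (QuotientGroup.leftRel_apply.2
      (Subgroup.mem_centralizer_singleton_iff.2 ?_))
    calc a⁻¹ * b * d.t = a⁻¹ * (b * d.t * b⁻¹) * b := by group
      _ = a⁻¹ * (a * d.t * a⁻¹) * b := by rw [h1]
      _ = d.t * (a⁻¹ * b) := by group
  · rintro ⟨u, hu⟩
    obtain ⟨g, hg⟩ := isConj_iff.1 (d.isConj_t hu)
    exact ⟨Quotient.mk _ g, Subtype.ext hg⟩

theorem invol_mem_A_iff {u : G} (hu : orderOf u = 2) (g : G) :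
    (g * d.t * g⁻¹ = u ∧ g ∈ d.M) → u ∈ d.A := fun h => h.1 ▸ d.conj_mem h.2 d.t_mem

theorem card_invol_A : Nat.card {u : G // orderOf u = 2 ∧ u ∈ d.A} = d.q := by
  rw [q, Subgroup.relIndex]
  refine (Nat.card_congr (Equiv.ofBijective
    (Quotient.lift (fun g : d.M => (⟨(g : G) * d.t * (g : G)⁻¹,
      by rw [orderOf_conj_eq, d.ht], d.conj_mem g.2 d.t_mem⟩ :
      {u : G // orderOf u = 2 ∧ u ∈ d.A})) ?_) ⟨?_, ?_⟩)).symm
  · intro a b hab
    have h : (a : G)⁻¹ * b ∈ d.A := Subgroup.mem_subgroupOf.1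
      (QuotientGroup.leftRel_apply.1 (show (QuotientGroup.leftRel (d.A.subgroupOf d.M)) a b from hab))
    have h1 := Subgroup.mem_centralizer_singleton_iff.1 h
    refine Subtype.ext ?_
    show (a : G) * d.t * (a : G)⁻¹ = b * d.t * (b : G)⁻¹
    calc (a : G) * d.t * (a : G)⁻¹
        = a * ((a : G)⁻¹ * b * d.t * ((a : G)⁻¹ * b)⁻¹) * (a : G)⁻¹ := by rw [h1]; group
      _ = b * d.t * (b : G)⁻¹ := by group
  · intro x y
    induction x using Quotient.inductionOn with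
    | _ a =>
    induction y using Quotient.inductionOn with
    | _ b =>
    intro h
    have h1 : (a : G) * d.t * (a : G)⁻¹ = b * d.t * (b : G)⁻¹ := congrArg Subtype.val h
    refine Quotient.sound (QuotientGroup.leftRel_apply.2 ?_)
    refine Subgroup.mem_subgroupOf.2 (Subgroup.mem_centralizer_singleton_iff.2 ?_)
    push_cast
    calc (a : G)⁻¹ * b * d.t = (a : G)⁻¹ * ((b : G) * d.t * (b : G)⁻¹) * b := by group
      _ = (a : G)⁻¹ * ((a : G) * d.t * (a : G)⁻¹) * b := by rw [h1]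
      _ = d.t * ((a : G)⁻¹ * b) := by group
  · rintro ⟨u, hu, huA⟩
    obtain ⟨g, hg⟩ := isConj_iff.1 (d.isConj_t hu)
    exact ⟨Quotient.mk _ ⟨g, d.mem_M d.t_mem d.t_ne (hg.symm ▸ huA)⟩, Subtype.ext hg⟩

/-- The conjugation action of `M` has stabiliser `A` at each non-identity element of `A`. -/
theorem q_dvd : d.q ∣ Nat.card d.A - 1 := by
  classical
  let X := {a : d.A // a ≠ 1}
  letI : MulAction d.M X :=
    { smul := fun g a => ⟨⟨(g : G) * (a.1 : G) * (g : G)⁻¹, d.conj_mem g.2 a.1.2⟩, by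
        intro h
        have h1 : (g : G) * (a.1 : G) * (g : G)⁻¹ = 1 := congrArg Subtype.val h
        exact a.2 (Subtype.ext (conj_eq_one_iff.1 h1))⟩
      one_smul := fun a => by
        apply Subtype.ext; apply Subtype.ext
        show ((1 : d.M) : G) * (a.1 : G) * ((1 : d.M) : G)⁻¹ = _
        simp
      mul_smul := fun g h a => by
        apply Subtype.ext; apply Subtype.ext
        show ((g * h : d.M) : G) * (a.1 : G) * ((g * h : d.M) : G)⁻¹ =
          (g : G) * ((h : G) * (a.1 : G) * (h : G)⁻¹) * (g : G)⁻¹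
        push_cast; group }
  have hst : ∀ a : X, MulAction.stabilizer d.M a = d.A.subgroupOf d.M := by
    intro a
    ext g
    rw [MulAction.mem_stabilizer_iff, Subgroup.mem_subgroupOf]
    constructor
    · intro h
      have h1 : (g : G) * (a.1 : G) * (g : G)⁻¹ = a.1 :=
        congrArg (fun z : X => (z.1 : G)) h
      refine d.cent_mem a.1.2 (fun e => a.2 (Subtype.ext e)) ?_
      calc (g : G) * (a.1 : G) = (g : G) * (a.1 : G) * (g : G)⁻¹ * g := by group
        _ = (a.1 : G) * g := by rw [h1]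
    · intro h
      apply Subtype.ext; apply Subtype.ext
      show (g : G) * (a.1 : G) * (g : G)⁻¹ = a.1
      rw [d.comm_A h a.1.2]; group
  have hcard : Nat.card X = Nat.card d.A - 1 := by
    have := Fintype.ofFinite d.A
    rw [Nat.card_eq_fintype_card, Nat.card_eq_fintype_card, Fintype.card_subtype_compl,
      Fintype.card_subtype_eq]
  rw [← hcard]
  have e := MulAction.selfEquivSigmaOrbitsQuotientStabilizer d.M X
  haveI := Fintype.ofFinite (Quotient (MulAction.orbitRel d.M X))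
  rw [Nat.card_congr e, Nat.card_sigma]
  refine Finset.dvd_sum fun o _ => ?_
  rw [hst, q, Subgroup.relIndex]
  exact dvd_refl _

theorem coprime_q : Nat.Coprime (Nat.card d.A) d.q := by
  refine Nat.Coprime.coprime_dvd_right d.q_dvd ?_
  have h : 0 < Nat.card d.A := Nat.card_pos
  exact (Nat.coprime_self_sub_right h).2 (Nat.coprime_one_right _)

/-- An element of `M` of order dividing `|A|` lies in `A`. -/
theorem mem_A_of_dvd {x : G} (hx : x ∈ d.M) (h : orderOf x ∣ Nat.card d.A) : x ∈ d.A := by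
  have hn : (d.A.subgroupOf d.M).Normal := Subgroup.normal_subgroupOf_iff_le_normalizer d.A_le_M
    |>.2 le_rfl
  have h1 : orderOf ((⟨x, hx⟩ : d.M) : d.M ⧸ d.A.subgroupOf d.M) ∣ Nat.card d.A := by
    refine dvd_trans (orderOf_map_dvd (QuotientGroup.mk' (d.A.subgroupOf d.M)) ⟨x, hx⟩) ?_
    rwa [← Subgroup.orderOf_coe]
  have h2 : orderOf ((⟨x, hx⟩ : d.M) : d.M ⧸ d.A.subgroupOf d.M) ∣ d.q := orderOf_dvd_natCard _
  have h3 := Nat.eq_one_of_dvd_coprimes d.coprime_q h1 h2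
  exact Subgroup.mem_subgroupOf.1 ((QuotientGroup.eq_one_iff _).1 (orderOf_eq_one_iff.1 h3))

theorem A_inf_conj {g a : G} (hg : g ∉ d.M) (ha : a ∈ d.A) (ha' : g * a * g⁻¹ ∈ d.A) : a = 1 := by
  by_contra h
  exact hg (d.mem_M ha h ha')

/-- The involutions in a coset. -/
abbrev Fib (z : G ⧸ d.M) : Type u := {u : G // orderOf u = 2 ∧ ((u : G) : G ⧸ d.M) = z}

theorem fib_prod {z : G ⧸ d.M} (u v : d.Fib z) : (u.1 : G) * v.1 ∈ d.M := by
  have h := QuotientGroup.eq.1 (u.2.2.trans v.2.2.symm)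
  rwa [invol_inv u.2.1] at h

theorem invol_not_mem {z : G ⧸ d.M} (hz : z ≠ ((1 : G) : G ⧸ d.M)) (u : d.Fib z) : (u.1 : G) ∉ d.M :=
  fun h => hz (u.2.2.symm.trans (QuotientGroup.eq.2 (by simpa using d.M.inv_mem h)))

theorem fib_le {z : G ⧸ d.M} (hz : z ≠ ((1 : G) : G ⧸ d.M)) : Nat.card (d.Fib z) ≤ d.q := by
  rcases isEmpty_or_nonempty (d.Fib z) with he | ⟨⟨u⟩⟩
  · simp
  refine Nat.card_le_card_of_injective
    (fun v : d.Fib z => ((⟨u.1 * v.1, d.fib_prod u v⟩ : d.M) : d.M ⧸ d.A.subgroupOf d.M)) ?_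
  intro v v' h
  have h1 : ((u.1 : G) * v.1)⁻¹ * (u.1 * v'.1) ∈ d.A := by
    simpa using Subgroup.mem_subgroupOf.1 (QuotientGroup.eq.1 h)
  have h2 : ((u.1 : G) * v.1)⁻¹ * (u.1 * v'.1) = v.1 * v'.1 := by
    rw [mul_inv_rev, invol_inv v.2.1]; group
  rw [h2] at h1
  -- `v v'` and its conjugate by `u` lie in `A`
  have h3 : (u.1 : G) * (v.1 * v'.1) * (u.1 : G)⁻¹ ∈ d.A := by
    have h4 := d.conj_mem (d.fib_prod u v) h1
    have h5 : (u.1 : G) * v.1 * (v.1 * v'.1) * ((u.1 : G) * v.1)⁻¹ =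
        ((u.1 : G) * (v.1 * v'.1) * (u.1 : G)⁻¹)⁻¹ := by
      simp only [mul_inv_rev, inv_inv, invol_inv v.2.1, invol_inv v'.2.1, invol_inv u.2.1]
      simp only [← mul_assoc]
      rw [mul_assoc (u.1 : G) v.1 v.1, invol_mul_self v.2.1, mul_one]
    rw [h5] at h4
    simpa using d.A.inv_mem h4
  have := d.A_inf_conj (d.invol_not_mem hz u) h1 h3
  refine Subtype.ext ?_
  calc (v.1 : G) = v.1 * (v.1 * v'.1) := by rw [this, mul_one]
    _ = v'.1 := by rw [← mul_assoc, invol_mul_self v.2.1, one_mul]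

theorem fib_one : Nat.card (d.Fib ((1 : G) : G ⧸ d.M)) = d.q := by
  rw [← d.card_invol_A]
  refine Nat.card_congr (Equiv.subtypeEquivRight fun u => and_congr_right fun hu => ?_)
  rw [QuotientGroup.eq, mul_one, Subgroup.inv_mem_iff]
  refine ⟨fun h => d.mem_A_of_dvd h ?_, fun h => d.A_le_M h⟩
  rw [hu, ← d.ht]
  exact Subgroup.orderOf_dvd_natCard _ d.t_mem

/-- Every coset other than `M` contains exactly `q` involutions. -/
theorem fib_eq {z : G ⧸ d.M} (hz : z ≠ ((1 : G) : G ⧸ d.M)) : Nat.card (d.Fib z) = d.q := by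
  classical
  have := Fintype.ofFinite (G ⧸ d.M)
  have hsum : ∑ y : G ⧸ d.M, Nat.card (d.Fib y) = ∑ _y : G ⧸ d.M, d.q := by
    have h1 : ∑ y : G ⧸ d.M, Nat.card (d.Fib y) = Nat.card {u : G // orderOf u = 2} := by
      rw [← Nat.card_sigma]
      exact Nat.card_congr
        { toFun := fun p => ⟨p.2.1, p.2.2.1⟩
          invFun := fun u => ⟨((u.1 : G) : G ⧸ d.M), u.1, u.2, rfl⟩
          left_inv := fun ⟨y, u, hu, hy⟩ => by subst hy; rfl
          right_inv := fun u => rfl }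
    rw [h1, d.card_invol, d.index_A, Finset.sum_const, Finset.card_univ, smul_eq_mul, mul_comm,
      Subgroup.index, Nat.card_eq_fintype_card]
  refine le_antisymm (d.fib_le hz) ?_
  by_contra h
  refine (Finset.sum_lt_sum (fun y _ => ?_) ⟨z, Finset.mem_univ _, Nat.lt_of_not_le h⟩).ne hsum
  rcases eq_or_ne y ((1 : G) : G ⧸ d.M) with rfl | hy
  · exact d.fib_one.le
  · exact d.fib_le hy

/-- The points. -/
abbrev Ω := G ⧸ d.M

/-- The base point. -/
def pt : d.Ω := ((1 : G) : G ⧸ d.M)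

theorem smul_pt (g : G) : g • d.pt = ((g : G) : G ⧸ d.M) := by
  simp [pt, MulAction.Quotient.smul_coe]

theorem smul_pt_iff {g : G} : g • d.pt = d.pt ↔ g ∈ d.M := by
  rw [smul_pt, pt, QuotientGroup.eq, mul_one, Subgroup.inv_mem_iff]

theorem exists_ne_pt : ∃ y : d.Ω, y ≠ d.pt := by
  obtain ⟨g, hg⟩ : ∃ g, g ∉ d.M := by
    by_contra h
    exact d.M_ne_top (Subgroup.eq_top_iff' _ |>.2 (by simpa using h))
  exact ⟨g • d.pt, fun h => hg (d.smul_pt_iff.1 h)⟩

theorem exists_pre (y : d.Ω) : ∃ g : G, g • d.pt = y := by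
  induction y using QuotientGroup.induction_on with
  | _ g => exact ⟨g, d.smul_pt g⟩

/-- The stabiliser of the base point and `y`. -/
def two (y : d.Ω) : Subgroup G := d.M ⊓ MulAction.stabilizer G y

theorem two_inf_A {y : d.Ω} (hy : y ≠ d.pt) {a : G} (ha : a ∈ d.A) (hay : a • y = y) : a = 1 := by
  obtain ⟨g, rfl⟩ := d.exists_pre y
  have hgM : g⁻¹ ∉ d.M := fun h => hy (d.smul_pt_iff.2 (by simpa using d.M.inv_mem h))
  have h1 : g⁻¹ * a * g ∈ d.M := by
    refine d.smul_pt_iff.1 ?_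
    rw [mul_smul, mul_smul, hay, inv_smul_smul]
  refine d.A_inf_conj hgM ha ?_
  rw [inv_inv]
  refine d.mem_A_of_dvd h1 ?_
  have h2 : orderOf (g⁻¹ * a * g) = orderOf a := by
    simpa using orderOf_conj_eq g⁻¹ a
  rw [h2]
  exact Subgroup.orderOf_dvd_natCard _ ha

theorem two_injective {y : d.Ω} (hy : y ≠ d.pt) : Function.Injective
    (fun x : d.two y => ((⟨(x : G), x.2.1⟩ : d.M) : d.M ⧸ d.A.subgroupOf d.M)) := by
  intro x x' h
  have h1 : (x : G)⁻¹ * x' ∈ d.A := by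
    simpa using Subgroup.mem_subgroupOf.1 (QuotientGroup.eq.1 h)
  have h2 := d.two_inf_A hy h1 ((d.two y).mul_mem ((d.two y).inv_mem x.2) x'.2).2
  exact Subtype.ext (inv_mul_eq_one.1 h2)

theorem exists_swap {y : d.Ω} (hy : y ≠ d.pt) :
    ∃ u : G, orderOf u = 2 ∧ u • d.pt = y ∧ u • y = d.pt := by
  have h : 0 < Nat.card (d.Fib y) := by rw [d.fib_eq hy]; exact d.q_pos
  obtain ⟨⟨u, hu, huy⟩⟩ := (Nat.card_pos_iff.1 h).1
  have h1 : u • d.pt = y := (d.smul_pt u).trans huy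
  exact ⟨u, hu, h1, by rw [← h1, ← mul_smul, invol_mul_self hu, one_smul]⟩

theorem card_two {y : d.Ω} (hy : y ≠ d.pt) : Nat.card (d.two y) = d.q ∧
    ∀ u : G, orderOf u = 2 → u • d.pt = y → ∀ x ∈ d.two y, u * x * u⁻¹ = x⁻¹ := by
  have hmem : ∀ u : d.Fib y, ∀ v : d.Fib y, (u.1 : G) * v.1 ∈ d.two y := by
    intro u v
    refine ⟨d.fib_prod u v, ?_⟩
    have hu : (u.1 : G) • d.pt = y := (d.smul_pt _).trans u.2.2
    have hv : (v.1 : G) • d.pt = y := (d.smul_pt _).trans v.2.2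
    show ((u.1 : G) * v.1) • y = y
    calc ((u.1 : G) * v.1) • y = (u.1 : G) • ((v.1 : G) • ((v.1 : G) • d.pt)) := by
          rw [mul_smul, hv]
      _ = (u.1 : G) • d.pt := by rw [← mul_smul (v.1 : G) v.1, invol_mul_self v.2.1, one_smul]
      _ = y := hu
  obtain ⟨u₀, hu₀, hu₀y, -⟩ := d.exists_swap hy
  have hle : Nat.card (d.two y) ≤ d.q := Nat.card_le_card_of_injective _ (d.two_injective hy)
  have hbij : ∀ u : d.Fib y, Function.Bijective
      (fun v : d.Fib y => (⟨(u.1 : G) * v.1, hmem u v⟩ : d.two y)) := by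
    intro u
    have hinj : Function.Injective
        (fun v : d.Fib y => (⟨(u.1 : G) * v.1, hmem u v⟩ : d.two y)) := fun v v' h =>
      Subtype.ext (mul_left_cancel (congrArg Subtype.val h))
    refine (Nat.bijective_iff_injective_and_card _).2 ⟨hinj, le_antisymm ?_ ?_⟩
    · exact Nat.card_le_card_of_injective _ hinj
    · rw [d.fib_eq hy]; exact hle
  refine ⟨?_, fun u hu huy x hx => ?_⟩
  · rw [← Nat.card_congr (Equiv.ofBijective _ (hbij ⟨u₀, hu₀, (d.smul_pt _).symm.trans hu₀y⟩)),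
      d.fib_eq hy]
  · obtain ⟨v, hv⟩ := (hbij ⟨u, hu, (d.smul_pt _).symm.trans huy⟩).2 ⟨x, hx⟩
    have hv' : u * v.1 = x := congrArg Subtype.val hv
    rw [← hv', mul_inv_rev, invol_inv hu, invol_inv v.2.1, ← mul_assoc, invol_mul_self hu, one_mul]

theorem inverts {α β : d.Ω} (hαβ : α ≠ β) {x : G} (hxα : x • α = α) (hxβ : x • β = β) :
    ∃ u : G, u • α = β ∧ u • β = α ∧ u * x * u⁻¹ = x⁻¹ := by
  obtain ⟨g, rfl⟩ := d.exists_pre α
  set y := g⁻¹ • β with hy
  have hyne : y ≠ d.pt := fun h => hαβ (by rw [← h, hy, smul_inv_smul])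
  obtain ⟨u, hu, hu1, hu2⟩ := d.exists_swap hyne
  have hx' : g⁻¹ * x * g ∈ d.two y := by
    refine ⟨d.smul_pt_iff.1 ?_, ?_⟩
    · rw [mul_smul, mul_smul, hxα, inv_smul_smul]
    · show (g⁻¹ * x * g) • y = y
      rw [hy, mul_smul, mul_smul, smul_inv_smul, hxβ]
  have h := (d.card_two hyne).2 u hu hu1 _ hx'
  refine ⟨g * u * g⁻¹, ?_, ?_, ?_⟩
  · rw [mul_smul, mul_smul, inv_smul_smul, hu1, hy, smul_inv_smul]
  · rw [mul_smul, mul_smul, ← hy, hu2]
  · calc g * u * g⁻¹ * x * (g * u * g⁻¹)⁻¹ = g * (u * (g⁻¹ * x * g) * u⁻¹) * g⁻¹ := by group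
      _ = g * (g⁻¹ * x * g)⁻¹ * g⁻¹ := by rw [h]
      _ = x⁻¹ := by group

/-- The two-point stabiliser is abelian of odd order. -/
theorem two_sq {y : d.Ω} (hy : y ≠ d.pt) {x : G} (hx : x ∈ d.two y) (h2 : x * x = 1) : x = 1 := by
  by_contra h
  refine h (d.two_inf_A hy (d.mem_A_of_dvd hx.1 ?_) hx.2)
  rw [orderOf_eq_two_of_mul_self h2 h, ← d.ht]
  exact Subgroup.orderOf_dvd_natCard _ d.t_mem

theorem not_inverted {y : d.Ω} (hy : y ≠ d.pt) {x m : G} (hx : x ∈ d.two y) (hm : m ∈ d.M)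
    (h : m * x * m⁻¹ = x⁻¹) : x = 1 := by
  -- write `m` as an element of the stabiliser times an element of `A`
  have hb : Function.Bijective
      (fun x : d.two y => ((⟨(x : G), x.2.1⟩ : d.M) : d.M ⧸ d.A.subgroupOf d.M)) :=
    (Nat.bijective_iff_injective_and_card _).2 ⟨d.two_injective hy, (d.card_two hy).1⟩
  obtain ⟨e, he⟩ := hb.2 ((⟨m, hm⟩ : d.M) : d.M ⧸ d.A.subgroupOf d.M)
  have ha : (e : G)⁻¹ * m ∈ d.A := by simpa using Subgroup.mem_subgroupOf.1 (QuotientGroup.eq.1 he)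
  obtain ⟨u, hu, hu1, -⟩ := d.exists_swap hy
  have hcomm : (e : G) * x = x * e := by
    have h1 := (d.card_two hy).2 u hu hu1 _ e.2
    have h2 := (d.card_two hy).2 u hu hu1 _ hx
    have h3 := (d.card_two hy).2 u hu hu1 _ ((d.two y).mul_mem e.2 hx)
    have h4 : u * ((e : G) * x) * u⁻¹ = (u * (e : G) * u⁻¹) * (u * x * u⁻¹) := by group
    rw [h1, h2, h3, ← mul_inv_rev, inv_inj] at h4
    exact h4
  set a := (e : G)⁻¹ * m with hadef
  have h1 : a * x * a⁻¹ = x⁻¹ := by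
    have : a * x * a⁻¹ = (e : G)⁻¹ * (m * x * m⁻¹) * e := by rw [hadef]; group
    rw [this, h, mul_assoc, show x⁻¹ * (e : G) = e * x⁻¹ from (Commute.inv_left hcomm.symm).eq]
    group
  -- hence `x * x` lies in `A`
  have h2 : a⁻¹ * (x * a * x⁻¹) ∈ d.A := d.A.mul_mem (d.A.inv_mem ha) (d.conj_mem hx.1 ha)
  have h3 : (a⁻¹ * (x * a * x⁻¹))⁻¹ = x * a⁻¹ * x⁻¹ * a := by group
  have h4 : x * a⁻¹ * x⁻¹ * a = x * x := by
    have h5 : a⁻¹ * x⁻¹ * a = x := by
      calc a⁻¹ * x⁻¹ * a = a⁻¹ * (a * x * a⁻¹) * a := by rw [h1]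
        _ = x := by group
    calc x * a⁻¹ * x⁻¹ * a = x * (a⁻¹ * x⁻¹ * a) := by group
      _ = x * x := by rw [h5]
  have h6 : x * x ∈ d.A := by rw [← h4, ← h3]; exact d.A.inv_mem h2
  exact d.two_sq hy hx (d.two_inf_A hy h6 ((d.two y).mul_mem hx hx).2)

/-- Only the identity fixes three points. -/
theorem three {x : G} {α β γ : d.Ω} (hab : α ≠ β) (hbc : β ≠ γ) (hac : α ≠ γ) (ha : x • α = α)
    (hb : x • β = β) (hc : x • γ = γ) : x = 1 := by
  obtain ⟨u₁, h11, h12, h13⟩ := d.inverts hab ha hb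
  obtain ⟨u₂, h21, h22, h23⟩ := d.inverts hbc hb hc
  obtain ⟨u₃, h31, h32, h33⟩ := d.inverts hac ha hc
  obtain ⟨g, rfl⟩ := d.exists_pre α
  set y := g⁻¹ • β with hy
  have hyne : y ≠ d.pt := fun h => hab (by rw [← h, hy, smul_inv_smul])
  have hx' : g⁻¹ * x * g ∈ d.two y := by
    refine ⟨d.smul_pt_iff.1 ?_, ?_⟩
    · rw [mul_smul, mul_smul, ha, inv_smul_smul]
    · show (g⁻¹ * x * g) • y = y
      rw [hy, mul_smul, mul_smul, smul_inv_smul, hb]
  set w := u₃ * (u₂ * u₁) with hw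
  have hwα : w • g • d.pt = g • d.pt := by rw [hw, mul_smul, mul_smul, h11, h21, h32]
  have hwx : w * x * w⁻¹ = x⁻¹ := by
    have e1 : u₂ * x⁻¹ * u₂⁻¹ = x := by
      calc u₂ * x⁻¹ * u₂⁻¹ = (u₂ * x * u₂⁻¹)⁻¹ := by group
        _ = x := by rw [h23, inv_inv]
    calc w * x * w⁻¹ = u₃ * (u₂ * (u₁ * x * u₁⁻¹) * u₂⁻¹) * u₃⁻¹ := by rw [hw]; group
      _ = u₃ * x * u₃⁻¹ := by rw [h13, e1]
      _ = x⁻¹ := h33
  have hm : g⁻¹ * w * g ∈ d.M := by
    refine d.smul_pt_iff.1 ?_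
    rw [mul_smul, mul_smul, hwα, inv_smul_smul]
  have := d.not_inverted hyne hx' hm (by
    calc g⁻¹ * w * g * (g⁻¹ * x * g) * (g⁻¹ * w * g)⁻¹ = g⁻¹ * (w * x * w⁻¹) * g := by group
      _ = (g⁻¹ * x * g)⁻¹ := by rw [hwx]; group)
  calc x = g * (g⁻¹ * x * g) * g⁻¹ := by group
    _ = 1 := by rw [this]; group

theorem one_lt_q : 1 < d.q := by
  by_contra hq
  have hq1 : d.q = 1 := le_antisymm (Nat.le_of_not_lt hq) d.q_pos
  have hMA : d.M ≤ d.A := Subgroup.relIndex_eq_one.1 hq1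
  obtain ⟨S, hS⟩ := d.hS
  have : Fact (Nat.Prime 2) := ⟨Nat.prime_two⟩
  have hN : Subgroup.normalizer ((S : Subgroup G) : Set G) ≤
      Subgroup.centralizer ((S : Subgroup G) : Set G) := by
    intro g hg
    obtain ⟨k, hk⟩ := IsPGroup.iff_card.1 S.2
    have h2 : 2 ∣ Nat.card G := d.ht ▸ orderOf_dvd_natCard d.t
    have hne : (S : Subgroup G) ≠ ⊥ := S.ne_bot_of_dvd_card h2
    obtain ⟨⟨s, hs⟩, hs1'⟩ := Subgroup.ne_bot_iff_exists_ne_one.1 hne
    have hs1 : s ≠ 1 := fun e => hs1' (Subtype.ext e)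
    have hgA : g ∈ d.A := hMA (d.mem_M (hS hs) hs1 (hS ((Subgroup.mem_normalizer_iff.1 hg s).1 hs)))
    exact Subgroup.mem_centralizer_iff.2 fun x hx => d.comm_A (hS hx) hgA
  haveI := d.simple
  rcases (MonoidHom.normal_ker (MonoidHom.transferSylow S hN)).eq_bot_or_eq_top with h | h
  · have hc := (MonoidHom.ker_transferSylow_isComplement' S hN).card_mul
    rw [h, Subgroup.card_bot, one_mul] at hc
    have : (S : Subgroup G) = ⊤ := Subgroup.eq_top_of_card_eq _ hc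
    exact d.nc ⟨⟨fun x y => d.comm_A (hS (this ▸ Subgroup.mem_top x))
      (hS (this ▸ Subgroup.mem_top y))⟩⟩
  · have hd := MonoidHom.not_dvd_card_ker_transferSylow S hN
    rw [h, Subgroup.card_top] at hd
    exact hd (d.ht ▸ orderOf_dvd_natCard d.t)

theorem A_semireg {y : d.Ω} (hy : y ≠ d.pt) : Function.Injective (fun a : d.A => (a : G) • y) := by
  intro a b h
  have h1 : ((b : G)⁻¹ * a) • y = y := by
    rw [mul_smul]
    exact inv_smul_eq_iff.2 h
  exact Subtype.ext (inv_mul_eq_one.1 (d.two_inf_A hy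
    (d.A.mul_mem (d.A.inv_mem b.2) a.2) h1)).symm

theorem A_trans {y z : d.Ω} (hy : y ≠ d.pt) (hz : z ≠ d.pt) : ∃ a ∈ d.A, a • y = z := by
  classical
  -- a prime order element of the stabiliser of `y` fixes a point in each `A`-orbit
  obtain ⟨l, hl, hldvd⟩ := Nat.exists_prime_and_dvd (show d.q ≠ 1 from (d.one_lt_q).ne')
  have : Fact l.Prime := ⟨hl⟩
  obtain ⟨x, hx⟩ := exists_prime_orderOf_dvd_card' l
    (show l ∣ Nat.card (d.two y) by rw [(d.card_two hy).1]; exact hldvd)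
  have hxne : (x : G) ≠ 1 := by
    intro h
    rw [← Subgroup.orderOf_coe, h, orderOf_one] at hx
    exact hl.one_lt.ne hx
  -- the set `O` of translates of `z` under `M`
  let O : Set d.Ω := {p | ∃ m ∈ d.M, m • z = p}
  have hOA : ∀ p ∈ O, ∃ a ∈ d.A, a • z = p := by
    rintro p ⟨m, hm, rfl⟩
    have hb : Function.Bijective
        (fun x : d.two z => ((⟨(x : G), x.2.1⟩ : d.M) : d.M ⧸ d.A.subgroupOf d.M)) :=
      (Nat.bijective_iff_injective_and_card _).2 ⟨d.two_injective hz, (d.card_two hz).1⟩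
    obtain ⟨e, he⟩ := hb.2 ((⟨m, hm⟩ : d.M) : d.M ⧸ d.A.subgroupOf d.M)
    have ha : (e : G)⁻¹ * m ∈ d.A := by
      simpa using Subgroup.mem_subgroupOf.1 (QuotientGroup.eq.1 he)
    refine ⟨(e : G) * ((e : G)⁻¹ * m) * (e : G)⁻¹, d.conj_mem e.2.1 ha, ?_⟩
    have hez : (e : G)⁻¹ • z = z := inv_smul_eq_iff.2 (e.2.2 : (e : G) • z = z).symm
    rw [mul_smul, hez]
    congr 1
    group
  have hOcard : Nat.card O = Nat.card d.A := by
    refine (Nat.card_congr (Equiv.ofBijective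
      (fun a : d.A => (⟨(a : G) • z, a, d.A_le_M a.2, rfl⟩ : O)) ⟨?_, ?_⟩)).symm
    · exact fun a b h => d.A_semireg hz (congrArg Subtype.val h)
    · rintro ⟨p, hp⟩
      obtain ⟨a, ha, hap⟩ := hOA p hp
      exact ⟨⟨a, ha⟩, Subtype.ext hap⟩
  letI : MulAction (Subgroup.zpowers (x : G)) O :=
    { smul := fun g p => ⟨(g : G) • p.1, by
        obtain ⟨m, hm, hmp⟩ := p.2
        exact ⟨(g : G) * m, d.M.mul_mem ((Subgroup.zpowers_le.2 x.2.1) g.2) hm,
          by rw [mul_smul, hmp]⟩⟩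
      one_smul := fun p => Subtype.ext (one_smul G p.1)
      mul_smul := fun g h p => Subtype.ext (mul_smul (g : G) (h : G) p.1) }
  have hp : IsPGroup l (Subgroup.zpowers (x : G)) :=
    IsPGroup.of_card (n := 1) (by rw [Nat.card_zpowers, Subgroup.orderOf_coe, hx, pow_one])
  have hnd : ¬ l ∣ Nat.card O := by
    rw [hOcard]
    exact fun h => hl.one_lt.ne' (Nat.eq_one_of_dvd_coprimes d.coprime_q h hldvd)
  obtain ⟨⟨p, hpO⟩, hpf⟩ := hp.nonempty_fixed_point_of_prime_not_dvd_card O hnd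
  have hxp : (x : G) • p = p :=
    congrArg Subtype.val (hpf ⟨(x : G), Subgroup.mem_zpowers _⟩)
  obtain ⟨a, ha, hap⟩ := hOA p hpO
  have hppt : p ≠ d.pt := by
    intro h
    apply hz
    rw [h] at hap
    calc z = a⁻¹ • d.pt := eq_inv_smul_iff.2 hap
      _ = d.pt := d.smul_pt_iff.2 (d.M.inv_mem (d.A_le_M ha))
  have hpy : p = y := by
    by_contra h
    exact hxne (d.three (Ne.symm hy) (Ne.symm h) (Ne.symm hppt) (d.smul_pt_iff.2 x.2.1) x.2.2 hxp)
  exact ⟨a⁻¹, d.A.inv_mem ha, by rw [← hpy, ← hap, inv_smul_smul]⟩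

theorem stab_pt : MulAction.stabilizer G d.pt = d.M := by
  ext g
  exact d.smul_pt_iff

theorem isZassenhaus : Cfsg.IsZassenhausGroup G d.Ω := by
  have hfaith : FaithfulSMul G d.Ω := by
    refine ⟨fun {g h} hgh => ?_⟩
    haveI := d.simple
    have hk : g⁻¹ * h ∈ (MulAction.toPermHom G d.Ω).ker := by
      refine MonoidHom.mem_ker.2 (Equiv.ext fun p => ?_)
      show (g⁻¹ * h) • p = p
      rw [mul_smul, ← hgh, inv_smul_smul]
    rcases (MonoidHom.normal_ker (MulAction.toPermHom G d.Ω)).eq_bot_or_eq_top with e | e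
    · rw [e, Subgroup.mem_bot] at hk
      exact inv_mul_eq_one.1 hk
    · obtain ⟨y, hy⟩ := d.exists_ne_pt
      obtain ⟨w, rfl⟩ := d.exists_pre y
      have h1 : MulAction.toPermHom G d.Ω w = 1 :=
        MonoidHom.mem_ker.1 (e ▸ Subgroup.mem_top w)
      exact absurd (Equiv.ext_iff.1 h1 d.pt) hy
  refine ⟨hfaith, ?_, fun g a b c h1 h2 h3 ha hb hc => d.three h1 h2 h3 ha hb hc, ?_, ?_⟩
  · refine MulAction.is_two_pretransitive_iff.2 fun {a b c e} hab hce => ?_
    obtain ⟨g, rfl⟩ := d.exists_pre a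
    obtain ⟨k, rfl⟩ := d.exists_pre c
    have h1 : g⁻¹ • b ≠ d.pt := fun h => hab (by rw [← h, smul_inv_smul])
    have h2 : k⁻¹ • e ≠ d.pt := fun h => hce (by rw [← h, smul_inv_smul])
    obtain ⟨m, hm, hmy⟩ := d.A_trans h1 h2
    refine ⟨k * m * g⁻¹, ?_, ?_⟩
    · rw [mul_smul, mul_smul, inv_smul_smul, d.smul_pt_iff.2 (d.A_le_M hm)]
    · rw [mul_smul, mul_smul, hmy, smul_inv_smul]
  · obtain ⟨y, hy⟩ := d.exists_ne_pt
    have h : 1 < Nat.card (d.two y) := by rw [(d.card_two hy).1]; exact d.one_lt_q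
    haveI := Finite.one_lt_card_iff_nontrivial.1 h
    obtain ⟨x, hx⟩ := exists_ne (1 : d.two y)
    exact ⟨x, fun e => hx (Subtype.ext e), d.pt, y, Ne.symm hy, d.smul_pt_iff.2 x.2.1, x.2.2⟩
  · intro N hN hNt
    haveI := d.simple
    refine ⟨d.pt, fun h => ?_⟩
    rcases hN.eq_bot_or_eq_top with e | e
    · obtain ⟨y, hy⟩ := d.exists_ne_pt
      obtain ⟨⟨n, hn⟩, hny⟩ := hNt.exists_smul_eq d.pt y
      rw [e, Subgroup.mem_bot] at hn
      subst hn
      exact hy (hny.symm.trans (one_smul G d.pt))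
    · have h1 : (⟨d.t, e ▸ Subgroup.mem_top _⟩ : N) ∈ MulAction.stabilizer N d.pt := by
        rw [MulAction.mem_stabilizer_iff]
        show d.t • d.pt = d.pt
        exact d.smul_pt_iff.2 (d.A_le_M d.t_mem)
      have h2 : (⟨d.t, e ▸ Subgroup.mem_top _⟩ : N) ∈ (⊥ : Subgroup N) := h ▸ h1
      rw [Subgroup.mem_bot] at h2
      exact d.t_ne (congrArg Subtype.val h2)

/-- `A` has one more element than involutions, so has exponent two. -/
theorem sq_A {a : G} (ha : a ∈ d.A) : a * a = 1 := by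
  classical
  obtain ⟨y, hy⟩ := d.exists_ne_pt
  haveI := Fintype.ofFinite d.Ω
  have hreg : ∀ p z : d.Ω, p ≠ d.pt → z ≠ d.pt → ∃! u : d.A, (u : G) • p = z := by
    intro p z hp hz
    obtain ⟨u, hu, hup⟩ := d.A_trans hp hz
    exact ⟨⟨u, hu⟩, hup, fun v hv => d.A_semireg hp (hv.trans hup.symm)⟩
  have K := Cfsg.Agent.Lib.OddLocal.ZassPSL.ker_of_reg d.isZassenhaus (Ne.symm hy)
    (le_of_le_of_eq d.A_le_M d.stab_pt.symm) hreg
  have he : Nat.card ↥(MulAction.stabilizer G d.pt ⊓ MulAction.stabilizer G y : Subgroup G) = d.q := by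
    rw [d.stab_pt]
    exact (d.card_two hy).1
  have hh : Fintype.card d.Ω - 1 = Nat.card d.A := K.hHcard.symm
  rw [he, hh] at K
  have hle := Cfsg.Agent.Lib.OddLocal.ZassPSL.le_two_mul K d.A_comm
  obtain ⟨⟨k, hk⟩, hlo⟩ := Cfsg.Agent.Lib.OddLocal.ZassPSL.card_dvd K.toZData
  have h2 : 2 ∣ Nat.card d.A := d.ht ▸ Subgroup.orderOf_dvd_natCard _ d.t_mem
  have hq : Nat.card d.A - 1 = d.q := by
    rcases k with _ | _ | _ | k
    · simp at hk; omega
    · simpa using hk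
    · omega
    · have : d.q * 3 ≤ d.q * (k + 1 + 1 + 1) := Nat.mul_le_mul_left _ (by omega)
      have := d.q_pos
      omega
  -- the involutions of `A` exhaust `A \ {1}`
  by_contra h
  have ha1 : a ≠ 1 := fun e => h (by rw [e, one_mul])
  let f : {u : G // orderOf u = 2 ∧ u ∈ d.A} → {b : d.A // b ≠ 1} := fun u =>
    ⟨⟨u.1, u.2.2⟩, fun e => invol_ne_one u.2.1 (congrArg Subtype.val e)⟩
  have hf : Function.Injective f := fun u v e =>
    Subtype.ext (congrArg (fun b : {b : d.A // b ≠ 1} => (b.1 : G)) e)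
  have hcard : Nat.card {b : d.A // b ≠ 1} = Nat.card d.A - 1 := by
    have := Fintype.ofFinite d.A
    rw [Nat.card_eq_fintype_card, Nat.card_eq_fintype_card, Fintype.card_subtype_compl,
      Fintype.card_subtype_eq]
  have hb := (Nat.bijective_iff_injective_and_card f).2 ⟨hf, by rw [d.card_invol_A, hcard, hq]⟩
  obtain ⟨⟨u, hu, huA⟩, he'⟩ := hb.2 ⟨⟨a, ha⟩, fun e => ha1 (congrArg Subtype.val e)⟩
  have hua : u = a := congrArg (fun b : {b : d.A // b ≠ 1} => (b.1 : G)) he'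
  rw [hua] at hu
  exact h (invol_mul_self hu)

theorem cent_elementary (d : CAData G) {u : G} (hu : orderOf u = 2) :
    IsMulCommutative (Subgroup.centralizer ({u} : Set G)) ∧
      ∀ c ∈ Subgroup.centralizer ({u} : Set G), c ^ 2 = 1 := by
  refine ⟨⟨⟨fun x y => Subtype.ext (d.ct.comm_cent (invol_ne_one hu) x.2 y.2)⟩⟩, fun c hc => ?_⟩
  obtain ⟨g, hg⟩ := d.exists_conj_mem hu
  have h1 : g * c * g⁻¹ ∈ d.A := by
    refine d.cent_mem hg (by simpa using invol_ne_one hu) ?_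
    have h2 := Subgroup.mem_centralizer_singleton_iff.1 hc
    calc g * c * g⁻¹ * (g * u * g⁻¹) = g * (c * u) * g⁻¹ := by group
      _ = g * u * g⁻¹ * (g * c * g⁻¹) := by rw [h2]; group
  have h3 := d.sq_A h1
  have h4 : g * (c * c) * g⁻¹ = 1 := by rw [← h3]; group
  rw [sq]
  exact conj_eq_one_iff.1 h4

end CAData

end Cfsg.Agent.Lib.CASimple
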