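import Mathlib
import Cfsg.Agent.Lib.Involutions.Basic
import Cfsg.Agent.Lib.OddLocal.ZassenhausDerive

/-!
# Abelian involution centralisers meeting their conjugates trivially

If `A = C(t)` is abelian, contains a Sylow 2-subgroup and more than one involution, and meets its
conjugates by elements outside `M = N(A)` trivially, then the action on the cosets of `M` is a
Zassenhaus action and `A` has exponent two.
-/

set_option autoImplicit false
set_option linter.unusedSectionVars false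

namespace Cfsg.Agent.Lib.CATI

open Cfsg.Agent.Lib.Involutions

universe u

variable {G : Type u} [Group G] [Finite G]

/-- The hypotheses, with a distinguished involution. -/
structure TIData (G : Type u) [Group G] where
  /-- the involution -/
  t : G
  ht : orderOf t = 2
  hab : ∀ u : G, orderOf u = 2 → ∀ x ∈ Subgroup.centralizer ({u} : Set G),
    ∀ y ∈ Subgroup.centralizer ({u} : Set G), x * y = y * x
  hS : ∃ S : Sylow 2 G, (S : Subgroup G) ≤ Subgroup.centralizer ({t} : Set G)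
  top : Subgroup.normalizer (Subgroup.centralizer ({t} : Set G) : Set G) ≠ ⊤
  pair : ∃ s : G, orderOf s = 2 ∧ s ≠ t ∧ s ∈ Subgroup.centralizer ({t} : Set G)
  ti : ∀ g : G, g ∉ Subgroup.normalizer (Subgroup.centralizer ({t} : Set G) : Set G) →
    ∀ a ∈ Subgroup.centralizer ({t} : Set G), g * a * g⁻¹ ∈ Subgroup.centralizer ({t} : Set G) → a = 1

theorem exists_sq_pow {p : G} (hp : Odd (orderOf p)) : ∃ k : ℕ, (p * p) ^ k = p := by
  obtain ⟨m, hm⟩ := hp
  refine ⟨m + 1, ?_⟩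
  rw [← pow_two, ← pow_mul, show 2 * (m + 1) = orderOf p + 1 by omega, pow_add, pow_orderOf_eq_one,
    one_mul, pow_one]

namespace TIData

variable (d : TIData G)

/-- The centraliser of the involution. -/
def A : Subgroup G := Subgroup.centralizer ({d.t} : Set G)

/-- Its normaliser. -/
def M : Subgroup G := Subgroup.normalizer (d.A : Set G)

theorem t_ne : d.t ≠ 1 := invol_ne_one d.ht

theorem t_mem : d.t ∈ d.A := Subgroup.mem_centralizer_singleton_iff.2 rfl

theorem comm_A {x y : G} (hx : x ∈ d.A) (hy : y ∈ d.A) : x * y = y * x :=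
  d.hab d.t d.ht x hx y hy

theorem A_comm : IsMulCommutative d.A :=
  ⟨⟨fun a b => Subtype.ext (d.comm_A a.2 b.2)⟩⟩

theorem cent_mem {a x : G} (ha : a ∈ d.A) (ha1 : orderOf a = 2) (hx : x * a = a * x) : x ∈ d.A :=
  Subgroup.mem_centralizer_singleton_iff.2 (d.hab a ha1 x (Subgroup.mem_centralizer_singleton_iff.2 hx)
    d.t (Subgroup.mem_centralizer_singleton_iff.2 (Subgroup.mem_centralizer_singleton_iff.1 ha).symm))

theorem A_le_M : d.A ≤ d.M := Subgroup.le_normalizer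

theorem conj_mem {g : G} (hg : g ∈ d.M) {a : G} (ha : a ∈ d.A) : g * a * g⁻¹ ∈ d.A :=
  (Subgroup.mem_normalizer_iff.1 hg a).1 ha

theorem A_inf_conj {g a : G} (hg : g ∉ d.M) (ha : a ∈ d.A) (ha' : g * a * g⁻¹ ∈ d.A) : a = 1 :=
  d.ti g hg a ha ha'

/-- An element conjugating one non-identity element of `A` into `A` normalises `A`. -/
theorem mem_M {g a : G} (ha : a ∈ d.A) (ha1 : a ≠ 1) (h : g * a * g⁻¹ ∈ d.A) : g ∈ d.M := by
  by_contra hg
  exact ha1 (d.A_inf_conj hg ha h)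

theorem M_ne_top : d.M ≠ ⊤ := d.top

theorem exists_conj_mem {u : G} (hu : orderOf u = 2) : ∃ g : G, g * u * g⁻¹ ∈ d.A := by
  obtain ⟨S, hS⟩ := d.hS
  have : Fact (Nat.Prime 2) := ⟨Nat.prime_two⟩
  obtain ⟨R, hR⟩ := (IsPGroup.of_card (n := 1) (G := Subgroup.zpowers u)
    (by rw [Nat.card_zpowers, hu, pow_one])).exists_le_sylow
  obtain ⟨g, hg⟩ := MulAction.exists_smul_eq G R S
  refine ⟨g, hS ?_⟩
  rw [← hg, Sylow.coe_subgroup_smul]
  exact ⟨u, hR (Subgroup.mem_zpowers u), rfl⟩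

theorem exists_outside : ∃ u : G, orderOf u = 2 ∧ u ∉ d.A := by
  obtain ⟨g, hg⟩ : ∃ g, g ∉ d.M := by
    by_contra h
    exact d.M_ne_top (Subgroup.eq_top_iff' _ |>.2 (by simpa using h))
  exact ⟨g * d.t * g⁻¹, by rw [orderOf_conj_eq, d.ht], fun h => hg (d.mem_M d.t_mem d.t_ne h)⟩

theorem conj_inside_outside {s u : G} (hs : orderOf s = 2) (hsA : s ∈ d.A) (hu : orderOf u = 2)
    (huA : u ∉ d.A) : IsConj s u := by
  by_contra h
  obtain ⟨w, hw, hws, hwu⟩ := exists_invol_commute hs hu h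
  have hwA : w ∈ d.A := d.cent_mem hsA hs hws
  exact huA (d.cent_mem hwA hw hwu.symm)

theorem isConj_t {u : G} (hu : orderOf u = 2) : IsConj d.t u := by
  by_cases huA : u ∈ d.A
  · obtain ⟨w, hw, hwA⟩ := d.exists_outside
    exact (d.conj_inside_outside d.ht d.t_mem hw hwA).trans
      (d.conj_inside_outside hu huA hw hwA).symm
  · exact d.conj_inside_outside d.ht d.t_mem hu huA

/-- The number `[M : A]`. -/
noncomputable def q : ℕ := d.A.relIndex d.M

theorem q_pos : 0 < d.q :=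
  Nat.pos_of_ne_zero (by
    rw [q]
    exact Subgroup.index_ne_zero_of_finite)

theorem card_M : Nat.card d.M = Nat.card d.A * d.q := by
  rw [q, Subgroup.relIndex, ← Nat.card_congr (Subgroup.subgroupOfEquivOfLe d.A_le_M).toEquiv]
  exact (Subgroup.card_mul_index _).symm

theorem index_A : d.A.index = d.q * d.M.index := (Subgroup.relIndex_mul_index d.A_le_M).symm

theorem card_invol : Nat.card {u : G // orderOf u = 2} = d.A.index := by
  refine (Nat.card_congr (Equiv.ofBijective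
    (Quotient.lift (fun g : G => (⟨g * d.t * g⁻¹, by rw [orderOf_conj_eq, d.ht]⟩ :
      {u : G // orderOf u = 2})) ?_) ⟨?_, ?_⟩)).symm
  · intro a b hab
    have h : a⁻¹ * b ∈ d.A := QuotientGroup.leftRel_apply.1 hab
    have h1 := Subgroup.mem_centralizer_singleton_iff.1 h
    refine Subtype.ext ?_
    show a * d.t * a⁻¹ = b * d.t * b⁻¹
    calc a * d.t * a⁻¹ = a * (a⁻¹ * b * d.t * (a⁻¹ * b)⁻¹) * a⁻¹ := by rw [h1]; group
      _ = b * d.t * b⁻¹ := by group
  · intro x y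
    induction x using Quotient.inductionOn with
    | _ a =>
    induction y using Quotient.inductionOn with
    | _ b =>
    intro h
    have h1 : a * d.t * a⁻¹ = b * d.t * b⁻¹ := congrArg Subtype.val h
    refine Quotient.sound (QuotientGroup.leftRel_apply.2
      (Subgroup.mem_centralizer_singleton_iff.2 ?_))
    calc a⁻¹ * b * d.t = a⁻¹ * (b * d.t * b⁻¹) * b := by group
      _ = a⁻¹ * (a * d.t * a⁻¹) * b := by rw [h1]
      _ = d.t * (a⁻¹ * b) := by group
  · rintro ⟨u, hu⟩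
    obtain ⟨g, hg⟩ := isConj_iff.1 (d.isConj_t hu)
    exact ⟨Quotient.mk _ g, Subtype.ext hg⟩

theorem invol_mem_A_iff {u : G} (hu : orderOf u = 2) (g : G) :
    (g * d.t * g⁻¹ = u ∧ g ∈ d.M) → u ∈ d.A := fun h => h.1 ▸ d.conj_mem h.2 d.t_mem

theorem card_invol_A : Nat.card {u : G // orderOf u = 2 ∧ u ∈ d.A} = d.q := by
  rw [q, Subgroup.relIndex]
  refine (Nat.card_congr (Equiv.ofBijective
    (Quotient.lift (fun g : d.M => (⟨(g : G) * d.t * (g : G)⁻¹,
      by rw [orderOf_conj_eq, d.ht], d.conj_mem g.2 d.t_mem⟩ :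
      {u : G // orderOf u = 2 ∧ u ∈ d.A})) ?_) ⟨?_, ?_⟩)).symm
  · intro a b hab
    have h : (a : G)⁻¹ * b ∈ d.A := Subgroup.mem_subgroupOf.1
      (QuotientGroup.leftRel_apply.1 (show (QuotientGroup.leftRel (d.A.subgroupOf d.M)) a b from hab))
    have h1 := Subgroup.mem_centralizer_singleton_iff.1 h
    refine Subtype.ext ?_
    show (a : G) * d.t * (a : G)⁻¹ = b * d.t * (b : G)⁻¹
    calc (a : G) * d.t * (a : G)⁻¹
        = a * ((a : G)⁻¹ * b * d.t * ((a : G)⁻¹ * b)⁻¹) * (a : G)⁻¹ := by rw [h1]; group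
      _ = b * d.t * (b : G)⁻¹ := by group
  · intro x y
    induction x using Quotient.inductionOn with
    | _ a =>
    induction y using Quotient.inductionOn with
    | _ b =>
    intro h
    have h1 : (a : G) * d.t * (a : G)⁻¹ = b * d.t * (b : G)⁻¹ := congrArg Subtype.val h
    refine Quotient.sound (QuotientGroup.leftRel_apply.2 ?_)
    refine Subgroup.mem_subgroupOf.2 (Subgroup.mem_centralizer_singleton_iff.2 ?_)
    push_cast
    calc (a : G)⁻¹ * b * d.t = (a : G)⁻¹ * ((b : G) * d.t * (b : G)⁻¹) * b := by group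
      _ = (a : G)⁻¹ * ((a : G) * d.t * (a : G)⁻¹) * b := by rw [h1]
      _ = d.t * ((a : G)⁻¹ * b) := by group
  · rintro ⟨u, hu, huA⟩
    obtain ⟨g, hg⟩ := isConj_iff.1 (d.isConj_t hu)
    exact ⟨Quotient.mk _ ⟨g, d.mem_M d.t_mem d.t_ne (hg.symm ▸ huA)⟩, Subtype.ext hg⟩

theorem one_lt_q : 1 < d.q := by
  obtain ⟨s, hs, hst, hsA⟩ := d.pair
  rw [← d.card_invol_A, Finite.one_lt_card_iff_nontrivial]
  exact ⟨⟨s, hs, hsA⟩, ⟨d.t, d.ht, d.t_mem⟩, fun e => hst (congrArg Subtype.val e)⟩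

theorem odd_q : Odd d.q := by
  classical
  let E : Subgroup G :=
    { carrier := {x | x ∈ d.A ∧ x * x = 1}
      one_mem' := ⟨d.A.one_mem, one_mul 1⟩
      mul_mem' := fun {x y} hx hy => ⟨d.A.mul_mem hx.1 hy.1, by
        calc x * y * (x * y) = x * (y * x) * y := by group
          _ = x * (x * y) * y := by rw [d.comm_A hy.1 hx.1]
          _ = (x * x) * (y * y) := by group
          _ = 1 := by rw [hx.2, hy.2, one_mul]⟩
      inv_mem' := fun {x} hx => ⟨d.A.inv_mem hx.1, by rw [← mul_inv_rev, hx.2, inv_one]⟩ }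
  have hcard : Nat.card E = d.q + 1 := by
    have := Fintype.ofFinite E
    rw [← d.card_invol_A]
    have e : {u : G // orderOf u = 2 ∧ u ∈ d.A} ≃ {x : E // x ≠ 1} :=
      { toFun := fun u => ⟨⟨u.1, u.2.2, invol_mul_self u.2.1⟩,
          fun h => invol_ne_one u.2.1 (congrArg Subtype.val h)⟩
        invFun := fun x => ⟨x.1.1, orderOf_eq_two_of_mul_self x.1.2.2
          (fun h => x.2 (Subtype.ext h)), x.1.2.1⟩
        left_inv := fun u => rfl
        right_inv := fun x => rfl }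
    rw [Nat.card_congr e, Nat.card_eq_fintype_card, Nat.card_eq_fintype_card,
      Fintype.card_subtype_compl, Fintype.card_subtype_eq]
    have : 0 < Fintype.card E := Fintype.card_pos
    omega
  have h2 : 2 ∣ Nat.card E := by
    have h : d.t ∈ E := ⟨d.t_mem, invol_mul_self d.ht⟩
    exact d.ht ▸ Subgroup.orderOf_dvd_natCard _ h
  rw [hcard] at h2
  rw [Nat.odd_iff]
  omega

/-- An involution of `M` lies in `A`. -/
theorem mem_A_of_two {x : G} (hx : x ∈ d.M) (h : x * x = 1) : x ∈ d.A := by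
  have hn : (d.A.subgroupOf d.M).Normal := Subgroup.normal_subgroupOf_iff_le_normalizer d.A_le_M
    |>.2 le_rfl
  set m : d.M ⧸ d.A.subgroupOf d.M := ((⟨x, hx⟩ : d.M) : d.M ⧸ d.A.subgroupOf d.M) with hm
  have h1 : orderOf m ∣ 2 := by
    refine orderOf_dvd_of_pow_eq_one ?_
    rw [hm, ← QuotientGroup.mk_pow, QuotientGroup.eq_one_iff, Subgroup.mem_subgroupOf]
    push_cast
    rw [sq, h]
    exact d.A.one_mem
  have h2 : orderOf m ∣ d.q := orderOf_dvd_natCard _
  have h3 := Nat.eq_one_of_dvd_coprimes d.odd_q.coprime_two_left h1 h2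
  exact Subgroup.mem_subgroupOf.1 ((QuotientGroup.eq_one_iff _).1 (orderOf_eq_one_iff.1 h3))

/-- The involutions in a coset. -/
abbrev Fib (z : G ⧸ d.M) : Type u := {u : G // orderOf u = 2 ∧ ((u : G) : G ⧸ d.M) = z}

theorem fib_prod {z : G ⧸ d.M} (u v : d.Fib z) : (u.1 : G) * v.1 ∈ d.M := by
  have h := QuotientGroup.eq.1 (u.2.2.trans v.2.2.symm)
  rwa [invol_inv u.2.1] at h

theorem invol_not_mem {z : G ⧸ d.M} (hz : z ≠ ((1 : G) : G ⧸ d.M)) (u : d.Fib z) : (u.1 : G) ∉ d.M :=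
  fun h => hz (u.2.2.symm.trans (QuotientGroup.eq.2 (by simpa using d.M.inv_mem h)))

theorem fib_injective {z : G ⧸ d.M} (hz : z ≠ ((1 : G) : G ⧸ d.M)) (u : d.Fib z) :
    Function.Injective (fun v : d.Fib z =>
      ((⟨u.1 * v.1, d.fib_prod u v⟩ : d.M) : d.M ⧸ d.A.subgroupOf d.M)) := by
  intro v v' h
  have h1 : ((u.1 : G) * v.1)⁻¹ * (u.1 * v'.1) ∈ d.A := by
    simpa using Subgroup.mem_subgroupOf.1 (QuotientGroup.eq.1 h)
  have h2 : ((u.1 : G) * v.1)⁻¹ * (u.1 * v'.1) = v.1 * v'.1 := by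
    rw [mul_inv_rev, invol_inv v.2.1]; group
  rw [h2] at h1
  -- `v v'` and its conjugate by `u` lie in `A`
  have h3 : (u.1 : G) * (v.1 * v'.1) * (u.1 : G)⁻¹ ∈ d.A := by
    have h4 := d.conj_mem (d.fib_prod u v) h1
    have h5 : (u.1 : G) * v.1 * (v.1 * v'.1) * ((u.1 : G) * v.1)⁻¹ =
        ((u.1 : G) * (v.1 * v'.1) * (u.1 : G)⁻¹)⁻¹ := by
      simp only [mul_inv_rev, inv_inv, invol_inv v.2.1, invol_inv v'.2.1, invol_inv u.2.1]
      simp only [← mul_assoc]
      rw [mul_assoc (u.1 : G) v.1 v.1, invol_mul_self v.2.1, mul_one]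
    rw [h5] at h4
    simpa using d.A.inv_mem h4
  have := d.A_inf_conj (d.invol_not_mem hz u) h1 h3
  refine Subtype.ext ?_
  calc (v.1 : G) = v.1 * (v.1 * v'.1) := by rw [this, mul_one]
    _ = v'.1 := by rw [← mul_assoc, invol_mul_self v.2.1, one_mul]

theorem fib_le {z : G ⧸ d.M} (hz : z ≠ ((1 : G) : G ⧸ d.M)) : Nat.card (d.Fib z) ≤ d.q := by
  rcases isEmpty_or_nonempty (d.Fib z) with he | ⟨⟨u⟩⟩
  · simp
  exact Nat.card_le_card_of_injective _ (d.fib_injective hz u)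

theorem fib_one : Nat.card (d.Fib ((1 : G) : G ⧸ d.M)) = d.q := by
  rw [← d.card_invol_A]
  refine Nat.card_congr (Equiv.subtypeEquivRight fun u => and_congr_right fun hu => ?_)
  rw [QuotientGroup.eq, mul_one, Subgroup.inv_mem_iff]
  exact ⟨fun h => d.mem_A_of_two h (invol_mul_self hu), fun h => d.A_le_M h⟩

/-- Every coset other than `M` contains exactly `q` involutions. -/
theorem fib_eq {z : G ⧸ d.M} (hz : z ≠ ((1 : G) : G ⧸ d.M)) : Nat.card (d.Fib z) = d.q := by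
  classical
  have := Fintype.ofFinite (G ⧸ d.M)
  have hsum : ∑ y : G ⧸ d.M, Nat.card (d.Fib y) = ∑ _y : G ⧸ d.M, d.q := by
    have h1 : ∑ y : G ⧸ d.M, Nat.card (d.Fib y) = Nat.card {u : G // orderOf u = 2} := by
      rw [← Nat.card_sigma]
      exact Nat.card_congr
        { toFun := fun p => ⟨p.2.1, p.2.2.1⟩
          invFun := fun u => ⟨((u.1 : G) : G ⧸ d.M), u.1, u.2, rfl⟩
          left_inv := fun ⟨y, u, hu, hy⟩ => by subst hy; rfl
          right_inv := fun u => rfl }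
    rw [h1, d.card_invol, d.index_A, Finset.sum_const, Finset.card_univ, smul_eq_mul, mul_comm,
      Subgroup.index, Nat.card_eq_fintype_card]
  refine le_antisymm (d.fib_le hz) ?_
  by_contra h
  refine (Finset.sum_lt_sum (fun y _ => ?_) ⟨z, Finset.mem_univ _, Nat.lt_of_not_le h⟩).ne hsum
  rcases eq_or_ne y ((1 : G) : G ⧸ d.M) with rfl | hy
  · exact d.fib_one.le
  · exact d.fib_le hy

/-- The points. -/
abbrev Ω := G ⧸ d.M

/-- The base point. -/
def pt : d.Ω := ((1 : G) : G ⧸ d.M)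

theorem smul_pt (g : G) : g • d.pt = ((g : G) : G ⧸ d.M) := by
  simp [pt, MulAction.Quotient.smul_coe]

theorem smul_pt_iff {g : G} : g • d.pt = d.pt ↔ g ∈ d.M := by
  rw [smul_pt, pt, QuotientGroup.eq, mul_one, Subgroup.inv_mem_iff]

theorem exists_ne_pt : ∃ y : d.Ω, y ≠ d.pt := by
  obtain ⟨g, hg⟩ : ∃ g, g ∉ d.M := by
    by_contra h
    exact d.M_ne_top (Subgroup.eq_top_iff' _ |>.2 (by simpa using h))
  exact ⟨g • d.pt, fun h => hg (d.smul_pt_iff.1 h)⟩

theorem exists_pre (y : d.Ω) : ∃ g : G, g • d.pt = y := by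
  induction y using QuotientGroup.induction_on with
  | _ g => exact ⟨g, d.smul_pt g⟩

/-- The stabiliser of the base point and `y`. -/
def two (y : d.Ω) : Subgroup G := d.M ⊓ MulAction.stabilizer G y

theorem two_no_invol {y : d.Ω} (hy : y ≠ d.pt) {i : G} (hi : i ∈ d.two y) (h : i * i = 1) :
    i = 1 := by
  obtain ⟨g, rfl⟩ := d.exists_pre y
  have hgM : g⁻¹ ∉ d.M := fun h => hy (d.smul_pt_iff.2 (by simpa using d.M.inv_mem h))
  have h1 : g⁻¹ * i * g ∈ d.M := by
    refine d.smul_pt_iff.1 ?_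
    rw [mul_smul, mul_smul]
    have h3 : i • g • d.pt = g • d.pt := hi.2
    rw [h3, inv_smul_smul]
  refine d.A_inf_conj hgM (d.mem_A_of_two hi.1 h) ?_
  rw [inv_inv]
  refine d.mem_A_of_two h1 ?_
  calc g⁻¹ * i * g * (g⁻¹ * i * g) = g⁻¹ * (i * i) * g := by group
    _ = 1 := by rw [h]; group

theorem two_odd {y : d.Ω} (hy : y ≠ d.pt) {p : G} (hp : p ∈ d.two y) : Odd (orderOf p) := by
  by_contra h
  obtain ⟨m, hm⟩ := Nat.not_odd_iff_even.1 h
  have h1 : p ^ m * p ^ m = 1 := by rw [← pow_add, ← hm, pow_orderOf_eq_one]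
  have h2 := Nat.le_of_dvd ?_ (orderOf_dvd_of_pow_eq_one (d.two_no_invol hy ((d.two y).pow_mem hp m) h1))
  all_goals
    have := orderOf_pos p
    omega

theorem cent_le_M {e x : G} (he : e ∈ d.A) (he1 : e ≠ 1) (h : x * e = e * x) : x ∈ d.M := by
  refine d.mem_M he he1 ?_
  rwa [h, mul_inv_cancel_right]

/-- Modulo `A`, every element of `M` is a product of two involutions of the coset `z`. -/
theorem decompose {z : d.Ω} (hz : z ≠ d.pt) {s : G} (hs : orderOf s = 2) (hsz : s • d.pt = z)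
    {f : G} (hf : f ∈ d.M) :
    ∃ p ∈ d.two z, s * p * s⁻¹ = p⁻¹ ∧ p⁻¹ * f ∈ d.A := by
  let S0 : d.Fib z := ⟨s, hs, (d.smul_pt s).symm.trans hsz⟩
  have hinj : Function.Injective (fun v : d.Fib z =>
      ((⟨S0.1 * v.1, d.fib_prod S0 v⟩ : d.M) : d.M ⧸ d.A.subgroupOf d.M)) :=
    d.fib_injective hz S0
  have hb := (Nat.bijective_iff_injective_and_card _).2 ⟨hinj, d.fib_eq hz⟩
  obtain ⟨v, hv⟩ := hb.2 ((⟨f, hf⟩ : d.M) : d.M ⧸ d.A.subgroupOf d.M)
  refine ⟨s * v.1, ⟨d.fib_prod S0 v, ?_⟩, ?_, ?_⟩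
  · have hvz : (v.1 : G) • d.pt = z := (d.smul_pt _).trans v.2.2
    show (s * v.1) • z = z
    calc (s * v.1) • z = s • ((v.1 : G) • ((v.1 : G) • d.pt)) := by rw [mul_smul, hvz]
      _ = s • d.pt := by rw [← mul_smul (v.1 : G) v.1, invol_mul_self v.2.1, one_smul]
      _ = z := hsz
  · rw [mul_inv_rev, invol_inv hs, invol_inv v.2.1, ← mul_assoc, invol_mul_self hs, one_mul]
  · simpa using Subgroup.mem_subgroupOf.1 (QuotientGroup.eq.1 hv)

/-- No non-identity element of `A` fixes a second point. -/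
theorem two_inf_A {y : d.Ω} (hy : y ≠ d.pt) {e : G} (he : e ∈ d.A) (hey : e • y = y) : e = 1 := by
  obtain ⟨g, hg⟩ := d.exists_pre y
  have hpos : 0 < Nat.card (d.Fib y) := by rw [d.fib_eq hy]; exact d.q_pos
  obtain ⟨⟨u, hu, huy⟩⟩ := (Nat.card_pos_iff.1 hpos).1
  have huy1 : u • d.pt = y := (d.smul_pt u).trans huy
  have huu : u * u = 1 := invol_mul_self hu
  have hui : u⁻¹ = u := invol_inv hu
  have huM : u ∉ d.M := fun h => hy (huy1.symm.trans (d.smul_pt_iff.2 h))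
  have hty : u • y = d.pt := by rw [← huy1, ← mul_smul, huu, one_smul]
  -- `f` fixes the base point and commutes with `s`
  set s := u * d.t * u with hs0
  set f := u * e * u with hf0
  have hsu : u * d.t * u⁻¹ = s := by rw [hui]
  have hs : orderOf s = 2 := by rw [← hsu, orderOf_conj_eq, d.ht]
  have hsM : s ∉ d.M := fun h => huM (d.mem_M d.t_mem d.t_ne (by
    rw [hsu]; exact d.mem_A_of_two h (invol_mul_self hs)))
  have hfM : f ∈ d.M := by
    refine d.smul_pt_iff.1 ?_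
    rw [hf0, mul_smul, mul_smul, huy1, hey, hty]
  have hfs : s * f * s⁻¹ = f := by
    rw [← hsu]
    calc u * d.t * u⁻¹ * f * (u * d.t * u⁻¹)⁻¹
        = u * (d.t * (u⁻¹ * f * u) * d.t⁻¹) * u⁻¹ := by group
      _ = u * (d.t * e * d.t⁻¹) * u⁻¹ := by
        rw [show u⁻¹ * f * u = e by rw [hf0, hui]; simp only [← mul_assoc, huu, one_mul];
                                      rw [mul_assoc, huu, mul_one]]
      _ = f := by rw [d.comm_A d.t_mem he, mul_inv_cancel_right, hui]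
  set z := s • d.pt with hz0
  have hz : z ≠ d.pt := fun h => hsM (d.smul_pt_iff.1 h)
  obtain ⟨p, hp, hsp, he0⟩ := d.decompose hz hs rfl hfM
  set e0 := p⁻¹ * f with he0def
  have hfz : f • z = z := by
    have h1 : f * s = s * f := by
      calc f * s = s * f * s⁻¹ * s := by rw [hfs]
        _ = s * f := by group
    rw [hz0, ← mul_smul, h1, mul_smul, d.smul_pt_iff.2 hfM]
  have he0z : e0 ∈ d.two z := (d.two z).mul_mem ((d.two z).inv_mem hp) ⟨hfM, hfz⟩
  have hsz : s • z = d.pt := by rw [hz0, ← mul_smul, invol_mul_self hs, one_smul]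
  have hswap : ∀ x ∈ d.two z, s * x * s⁻¹ ∈ d.two z := by
    intro x hx
    refine ⟨d.smul_pt_iff.1 ?_, ?_⟩
    · rw [invol_inv hs, mul_smul, mul_smul, ← hz0]
      have h3 : x • z = z := hx.2
      rw [h3, hsz]
    · show (s * x * s⁻¹) • z = z
      rw [invol_inv hs, mul_smul, mul_smul, hsz, d.smul_pt_iff.2 hx.1]
  set e1 := s * e0 * s⁻¹ with he1def
  have he1 : e1 ∈ d.two z := hswap _ he0z
  -- `e0` and its conjugate by `s` commute
  have hcomm : e0 * e1 = e1 * e0 := by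
    have hc : e0 * e1 * e0⁻¹ * e1⁻¹ ∈ d.A := by
      rw [show e0 * e1 * e0⁻¹ * e1⁻¹ = e0 * (e1 * e0⁻¹ * e1⁻¹) by group]
      exact d.A.mul_mem he0 (d.conj_mem he1.1 (d.A.inv_mem he0))
    have hw : s * e0 * s⁻¹ ∈ d.M := he1.1
    have hw2 : s⁻¹ * e0 * s ∈ d.M := by
      have := (hswap _ he0z).1
      rwa [invol_inv hs] at this ⊢
    have hc' : s⁻¹ * (e0 * e1 * e0⁻¹ * e1⁻¹) * s ∈ d.A := by
      rw [show s⁻¹ * (e0 * e1 * e0⁻¹ * e1⁻¹) * s =
        ((s⁻¹ * e0 * s) * e0 * (s⁻¹ * e0 * s)⁻¹) * e0⁻¹ by rw [he1def]; group]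
      exact d.A.mul_mem (d.conj_mem hw2 he0) (d.A.inv_mem he0)
    have := d.A_inf_conj (g := s⁻¹) (fun h => hsM (by simpa using d.M.inv_mem h)) hc
      (by simpa using hc')
    calc e0 * e1 = e0 * e1 * e0⁻¹ * e1⁻¹ * (e1 * e0) := by group
      _ = e1 * e0 := by rw [this, one_mul]
  have hf1 : f = p⁻¹ * e1 := by
    calc f = s * (p * e0) * s⁻¹ := by
          rw [show p * e0 = f by rw [he0def]; group, hfs]
      _ = s * p * s⁻¹ * e1 := by rw [he1def]; group
      _ = p⁻¹ * e1 := by rw [hsp]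
  have hpp : p * p = e1 * e0⁻¹ := by
    have h1 : e1 = p * (p * e0) := by
      rw [show p * e0 = f by rw [he0def]; group, hf1]; group
    calc p * p = p * (p * e0) * e0⁻¹ := by group
      _ = e1 * e0⁻¹ := by rw [← h1]
  have hpe : Commute p e0 := by
    obtain ⟨k, hk⟩ := exists_sq_pow (d.two_odd hz hp)
    have h2 : Commute (p * p) e0 := by
      rw [hpp]
      exact (Commute.mul_left hcomm.symm ((Commute.refl e0).inv_left))
    rw [← hk]
    exact h2.pow_left k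
  have hfe : e0 * f = f * e0 := by
    rw [show f = p * e0 by rw [he0def]; group]
    exact (hpe.symm.mul_right (Commute.refl e0)).eq
  by_cases he1' : e = 1
  · exact he1'
  -- so `e0` also fixes `y`
  set g0 := u * e0 * u with hg0
  have hg0M : g0 ∈ d.M := by
    refine d.cent_le_M he he1' ?_
    calc u * e0 * u * e = u * e0 * (u * e * u) * u := by
          simp only [mul_assoc, huu, mul_one]
      _ = u * (f * e0) * u := by rw [mul_assoc u e0, ← hf0, hfe]
      _ = e * (u * e0 * u) := by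
          rw [hf0]
          simp only [← mul_assoc, huu, one_mul]
  -- the square of `g0` is in `A`
  have hsq : g0 * g0 ∈ d.A := by
    have h1 : f * f = e1 * e0 := by
      calc f * f = p * e0 * (p * e0) := by rw [show p * e0 = f by rw [he0def]; group]
        _ = p * (e0 * p) * e0 := by group
        _ = p * p * e0 * e0 := by rw [← hpe.eq]; group
        _ = e1 * e0 := by rw [hpp]; group
    have h2 : e * e = d.t * g0 * d.t⁻¹ * g0 := by
      have h3 : e * e = u * (f * f) * u := by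
        rw [hf0]; simp only [← mul_assoc, huu, one_mul]
        simp only [mul_assoc, huu, mul_one]
      rw [h3, h1, he1def, hg0, hs0]
      simp only [mul_inv_rev, hui, invol_inv d.ht, ← mul_assoc, huu, one_mul]
    have h4 : g0⁻¹ * (d.t * g0 * d.t⁻¹) ∈ d.A := by
      rw [show g0⁻¹ * (d.t * g0 * d.t⁻¹) = g0⁻¹ * d.t * g0⁻¹⁻¹ * d.t⁻¹ by group]
      exact d.A.mul_mem (d.conj_mem (d.M.inv_mem hg0M) d.t_mem) (d.A.inv_mem d.t_mem)
    have h5 : g0 * (g0⁻¹ * (d.t * g0 * d.t⁻¹))⁻¹ * g0⁻¹ * (e * e) = g0 * g0 := by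
      rw [h2]; group
    rw [← h5]
    exact d.A.mul_mem (d.conj_mem hg0M (d.A.inv_mem h4)) (d.A.mul_mem he he)
  have hg0A : g0 ∈ d.A := by
    have hord : orderOf g0 = orderOf e0 := by
      rw [show g0 = u * e0 * u⁻¹ by rw [hui], orderOf_conj_eq]
    obtain ⟨k, hk⟩ := exists_sq_pow (p := g0) (hord ▸ d.two_odd hz he0z)
    rw [← hk]
    exact d.A.pow_mem hsq k
  have he01 : e0 = 1 := d.A_inf_conj huM he0 (by rwa [hui])
  have hfp : f = p := by
    calc f = p * (p⁻¹ * f) := by group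
      _ = p := by rw [← he0def, he01, mul_one]
  have hff : p = p⁻¹ := by
    rw [← hsp, ← hfp, hfs]
  have hp1 : p = 1 := d.two_no_invol hz hp (mul_eq_one_iff_eq_inv.2 hff)
  calc e = u * f * u := by
        rw [hf0]; simp only [← mul_assoc, huu, one_mul]; rw [mul_assoc, huu, mul_one]
    _ = 1 := by rw [hfp, hp1, mul_one, huu]

theorem two_injective {y : d.Ω} (hy : y ≠ d.pt) : Function.Injective
    (fun x : d.two y => ((⟨(x : G), x.2.1⟩ : d.M) : d.M ⧸ d.A.subgroupOf d.M)) := by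
  intro x x' h
  have h1 : (x : G)⁻¹ * x' ∈ d.A := by
    simpa using Subgroup.mem_subgroupOf.1 (QuotientGroup.eq.1 h)
  have h2 := d.two_inf_A hy h1 ((d.two y).mul_mem ((d.two y).inv_mem x.2) x'.2).2
  exact Subtype.ext (inv_mul_eq_one.1 h2)

theorem exists_swap {y : d.Ω} (hy : y ≠ d.pt) :
    ∃ u : G, orderOf u = 2 ∧ u • d.pt = y ∧ u • y = d.pt := by
  have h : 0 < Nat.card (d.Fib y) := by rw [d.fib_eq hy]; exact d.q_pos
  obtain ⟨⟨u, hu, huy⟩⟩ := (Nat.card_pos_iff.1 h).1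
  have h1 : u • d.pt = y := (d.smul_pt u).trans huy
  exact ⟨u, hu, h1, by rw [← h1, ← mul_smul, invol_mul_self hu, one_smul]⟩

theorem card_two {y : d.Ω} (hy : y ≠ d.pt) : Nat.card (d.two y) = d.q ∧
    ∀ u : G, orderOf u = 2 → u • d.pt = y → ∀ x ∈ d.two y, u * x * u⁻¹ = x⁻¹ := by
  have hmem : ∀ u : d.Fib y, ∀ v : d.Fib y, (u.1 : G) * v.1 ∈ d.two y := by
    intro u v
    refine ⟨d.fib_prod u v, ?_⟩
    have hu : (u.1 : G) • d.pt = y := (d.smul_pt _).trans u.2.2
    have hv : (v.1 : G) • d.pt = y := (d.smul_pt _).trans v.2.2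
    show ((u.1 : G) * v.1) • y = y
    calc ((u.1 : G) * v.1) • y = (u.1 : G) • ((v.1 : G) • ((v.1 : G) • d.pt)) := by
          rw [mul_smul, hv]
      _ = (u.1 : G) • d.pt := by rw [← mul_smul (v.1 : G) v.1, invol_mul_self v.2.1, one_smul]
      _ = y := hu
  obtain ⟨u₀, hu₀, hu₀y, -⟩ := d.exists_swap hy
  have hle : Nat.card (d.two y) ≤ d.q := Nat.card_le_card_of_injective _ (d.two_injective hy)
  have hbij : ∀ u : d.Fib y, Function.Bijective
      (fun v : d.Fib y => (⟨(u.1 : G) * v.1, hmem u v⟩ : d.two y)) := by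
    intro u
    have hinj : Function.Injective
        (fun v : d.Fib y => (⟨(u.1 : G) * v.1, hmem u v⟩ : d.two y)) := fun v v' h =>
      Subtype.ext (mul_left_cancel (congrArg Subtype.val h))
    refine (Nat.bijective_iff_injective_and_card _).2 ⟨hinj, le_antisymm ?_ ?_⟩
    · exact Nat.card_le_card_of_injective _ hinj
    · rw [d.fib_eq hy]; exact hle
  refine ⟨?_, fun u hu huy x hx => ?_⟩
  · rw [← Nat.card_congr (Equiv.ofBijective _ (hbij ⟨u₀, hu₀, (d.smul_pt _).symm.trans hu₀y⟩)),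
      d.fib_eq hy]
  · obtain ⟨v, hv⟩ := (hbij ⟨u, hu, (d.smul_pt _).symm.trans huy⟩).2 ⟨x, hx⟩
    have hv' : u * v.1 = x := congrArg Subtype.val hv
    rw [← hv', mul_inv_rev, invol_inv hu, invol_inv v.2.1, ← mul_assoc, invol_mul_self hu, one_mul]

theorem inverts {α β : d.Ω} (hαβ : α ≠ β) {x : G} (hxα : x • α = α) (hxβ : x • β = β) :
    ∃ u : G, u • α = β ∧ u • β = α ∧ u * x * u⁻¹ = x⁻¹ := by
  obtain ⟨g, rfl⟩ := d.exists_pre α
  set y := g⁻¹ • β with hy
  have hyne : y ≠ d.pt := fun h => hαβ (by rw [← h, hy, smul_inv_smul])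
  obtain ⟨u, hu, hu1, hu2⟩ := d.exists_swap hyne
  have hx' : g⁻¹ * x * g ∈ d.two y := by
    refine ⟨d.smul_pt_iff.1 ?_, ?_⟩
    · rw [mul_smul, mul_smul, hxα, inv_smul_smul]
    · show (g⁻¹ * x * g) • y = y
      rw [hy, mul_smul, mul_smul, smul_inv_smul, hxβ]
  have h := (d.card_two hyne).2 u hu hu1 _ hx'
  refine ⟨g * u * g⁻¹, ?_, ?_, ?_⟩
  · rw [mul_smul, mul_smul, inv_smul_smul, hu1, hy, smul_inv_smul]
  · rw [mul_smul, mul_smul, ← hy, hu2]
  · calc g * u * g⁻¹ * x * (g * u * g⁻¹)⁻¹ = g * (u * (g⁻¹ * x * g) * u⁻¹) * g⁻¹ := by group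
      _ = g * (g⁻¹ * x * g)⁻¹ * g⁻¹ := by rw [h]
      _ = x⁻¹ := by group

theorem two_sq {y : d.Ω} (hy : y ≠ d.pt) {x : G} (hx : x ∈ d.two y) (h2 : x * x = 1) : x = 1 :=
  d.two_no_invol hy hx h2

theorem not_inverted {y : d.Ω} (hy : y ≠ d.pt) {x m : G} (hx : x ∈ d.two y) (hm : m ∈ d.M)
    (h : m * x * m⁻¹ = x⁻¹) : x = 1 := by
  -- write `m` as an element of the stabiliser times an element of `A`
  have hb : Function.Bijective
      (fun x : d.two y => ((⟨(x : G), x.2.1⟩ : d.M) : d.M ⧸ d.A.subgroupOf d.M)) :=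
    (Nat.bijective_iff_injective_and_card _).2 ⟨d.two_injective hy, (d.card_two hy).1⟩
  obtain ⟨e, he⟩ := hb.2 ((⟨m, hm⟩ : d.M) : d.M ⧸ d.A.subgroupOf d.M)
  have ha : (e : G)⁻¹ * m ∈ d.A := by simpa using Subgroup.mem_subgroupOf.1 (QuotientGroup.eq.1 he)
  obtain ⟨u, hu, hu1, -⟩ := d.exists_swap hy
  have hcomm : (e : G) * x = x * e := by
    have h1 := (d.card_two hy).2 u hu hu1 _ e.2
    have h2 := (d.card_two hy).2 u hu hu1 _ hx
    have h3 := (d.card_two hy).2 u hu hu1 _ ((d.two y).mul_mem e.2 hx)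
    have h4 : u * ((e : G) * x) * u⁻¹ = (u * (e : G) * u⁻¹) * (u * x * u⁻¹) := by group
    rw [h1, h2, h3, ← mul_inv_rev, inv_inj] at h4
    exact h4
  set a := (e : G)⁻¹ * m with hadef
  have h1 : a * x * a⁻¹ = x⁻¹ := by
    have : a * x * a⁻¹ = (e : G)⁻¹ * (m * x * m⁻¹) * e := by rw [hadef]; group
    rw [this, h, mul_assoc, show x⁻¹ * (e : G) = e * x⁻¹ from (Commute.inv_left hcomm.symm).eq]
    group
  -- hence `x * x` lies in `A`
  have h2 : a⁻¹ * (x * a * x⁻¹) ∈ d.A := d.A.mul_mem (d.A.inv_mem ha) (d.conj_mem hx.1 ha)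
  have h3 : (a⁻¹ * (x * a * x⁻¹))⁻¹ = x * a⁻¹ * x⁻¹ * a := by group
  have h4 : x * a⁻¹ * x⁻¹ * a = x * x := by
    have h5 : a⁻¹ * x⁻¹ * a = x := by
      calc a⁻¹ * x⁻¹ * a = a⁻¹ * (a * x * a⁻¹) * a := by rw [h1]
        _ = x := by group
    calc x * a⁻¹ * x⁻¹ * a = x * (a⁻¹ * x⁻¹ * a) := by group
      _ = x * x := by rw [h5]
  have h6 : x * x ∈ d.A := by rw [← h4, ← h3]; exact d.A.inv_mem h2
  exact d.two_sq hy hx (d.two_inf_A hy h6 ((d.two y).mul_mem hx hx).2)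

/-- Only the identity fixes three points. -/
theorem three {x : G} {α β γ : d.Ω} (hab : α ≠ β) (hbc : β ≠ γ) (hac : α ≠ γ) (ha : x • α = α)
    (hb : x • β = β) (hc : x • γ = γ) : x = 1 := by
  obtain ⟨u₁, h11, h12, h13⟩ := d.inverts hab ha hb
  obtain ⟨u₂, h21, h22, h23⟩ := d.inverts hbc hb hc
  obtain ⟨u₃, h31, h32, h33⟩ := d.inverts hac ha hc
  obtain ⟨g, rfl⟩ := d.exists_pre α
  set y := g⁻¹ • β with hy
  have hyne : y ≠ d.pt := fun h => hab (by rw [← h, hy, smul_inv_smul])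
  have hx' : g⁻¹ * x * g ∈ d.two y := by
    refine ⟨d.smul_pt_iff.1 ?_, ?_⟩
    · rw [mul_smul, mul_smul, ha, inv_smul_smul]
    · show (g⁻¹ * x * g) • y = y
      rw [hy, mul_smul, mul_smul, smul_inv_smul, hb]
  set w := u₃ * (u₂ * u₁) with hw
  have hwα : w • g • d.pt = g • d.pt := by rw [hw, mul_smul, mul_smul, h11, h21, h32]
  have hwx : w * x * w⁻¹ = x⁻¹ := by
    have e1 : u₂ * x⁻¹ * u₂⁻¹ = x := by
      calc u₂ * x⁻¹ * u₂⁻¹ = (u₂ * x * u₂⁻¹)⁻¹ := by group
        _ = x := by rw [h23, inv_inv]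
    calc w * x * w⁻¹ = u₃ * (u₂ * (u₁ * x * u₁⁻¹) * u₂⁻¹) * u₃⁻¹ := by rw [hw]; group
      _ = u₃ * x * u₃⁻¹ := by rw [h13, e1]
      _ = x⁻¹ := h33
  have hm : g⁻¹ * w * g ∈ d.M := by
    refine d.smul_pt_iff.1 ?_
    rw [mul_smul, mul_smul, hwα, inv_smul_smul]
  have := d.not_inverted hyne hx' hm (by
    calc g⁻¹ * w * g * (g⁻¹ * x * g) * (g⁻¹ * w * g)⁻¹ = g⁻¹ * (w * x * w⁻¹) * g := by group
      _ = (g⁻¹ * x * g)⁻¹ := by rw [hwx]; group)
  calc x = g * (g⁻¹ * x * g) * g⁻¹ := by group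
    _ = 1 := by rw [this]; group

theorem A_semireg {y : d.Ω} (hy : y ≠ d.pt) : Function.Injective (fun a : d.A => (a : G) • y) := by
  intro a b h
  have h1 : ((b : G)⁻¹ * a) • y = y := by
    rw [mul_smul]
    exact inv_smul_eq_iff.2 h
  exact Subtype.ext (inv_mul_eq_one.1 (d.two_inf_A hy
    (d.A.mul_mem (d.A.inv_mem b.2) a.2) h1)).symm

theorem prime_not_dvd {y : d.Ω} (hy : y ≠ d.pt) {l : ℕ} [hl : Fact l.Prime] (x : d.two y)
    (hxne : (x : G) ≠ 1) (hx : orderOf x = l) : ¬ l ∣ Nat.card d.A := by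
  intro h
  obtain ⟨a, ha⟩ := exists_prime_orderOf_dvd_card' l h
  have hcount : ∀ g : G, orderOf g = l → Nat.card d.Ω ≡ Nat.card {p : d.Ω // g • p = p} [MOD l] := by
    intro g hg
    have hp : IsPGroup l (Subgroup.zpowers g) :=
      IsPGroup.of_card (n := 1) (by rw [Nat.card_zpowers, hg, pow_one])
    have e : MulAction.fixedPoints (Subgroup.zpowers g) d.Ω ≃ {p : d.Ω // g • p = p} :=
      Equiv.subtypeEquivRight fun p => ⟨fun h => h ⟨g, Subgroup.mem_zpowers g⟩, fun h k =>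
        MulAction.mem_stabilizer_iff.1
          ((Subgroup.zpowers_le.2 (MulAction.mem_stabilizer_iff.2 h)) k.2)⟩
    exact Nat.card_congr e ▸ hp.card_modEq_card_fixedPoints d.Ω
  have h1 := hcount a (by rw [Subgroup.orderOf_coe, ha])
  have h2 := hcount (x : G) (by rw [Subgroup.orderOf_coe, hx])
  have ha1 : Nat.card {p : d.Ω // (a : G) • p = p} = 1 := by
    have : Subsingleton {p : d.Ω // (a : G) • p = p} := by
      have hpt : ∀ p : d.Ω, (a : G) • p = p → p = d.pt := by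
        intro p hp
        by_contra hne
        have := d.two_inf_A hne a.2 hp
        rw [← Subgroup.orderOf_coe, this, orderOf_one] at ha
        exact hl.out.one_lt.ne ha
      exact ⟨fun p p' => Subtype.ext ((hpt _ p.2).trans (hpt _ p'.2).symm)⟩
    have : Nonempty {p : d.Ω // (a : G) • p = p} := ⟨⟨d.pt, d.smul_pt_iff.2 (d.A_le_M a.2)⟩⟩
    exact Nat.card_eq_one_iff_unique.2 ⟨inferInstance, inferInstance⟩
  have hx2 : Nat.card {p : d.Ω // (x : G) • p = p} = 2 := by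
    rw [Nat.card_eq_two_iff]
    refine ⟨⟨d.pt, d.smul_pt_iff.2 x.2.1⟩, ⟨y, x.2.2⟩, fun e => hy (congrArg Subtype.val e).symm,
      Set.eq_univ_of_forall fun p => ?_⟩
    rcases eq_or_ne p.1 d.pt with e | e
    · exact Or.inl (Subtype.ext e)
    · refine Or.inr (Subtype.ext ?_)
      by_contra e'
      exact hxne (d.three (Ne.symm hy) (Ne.symm e') (Ne.symm e) (d.smul_pt_iff.2 x.2.1) x.2.2 p.2)
  rw [ha1] at h1
  rw [hx2] at h2
  have h3 : 1 ≡ 2 [MOD l] := h1.symm.trans h2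
  have h4 := (Nat.modEq_iff_dvd' (by norm_num : 1 ≤ 2)).1 h3
  exact hl.out.one_lt.ne' (Nat.dvd_one.1 h4)

theorem A_trans {y z : d.Ω} (hy : y ≠ d.pt) (hz : z ≠ d.pt) : ∃ a ∈ d.A, a • y = z := by
  classical
  -- a prime order element of the stabiliser of `y` fixes a point in each `A`-orbit
  obtain ⟨l, hl, hldvd⟩ := Nat.exists_prime_and_dvd (show d.q ≠ 1 from (d.one_lt_q).ne')
  have : Fact l.Prime := ⟨hl⟩
  obtain ⟨x, hx⟩ := exists_prime_orderOf_dvd_card' l
    (show l ∣ Nat.card (d.two y) by rw [(d.card_two hy).1]; exact hldvd)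
  have hxne : (x : G) ≠ 1 := by
    intro h
    rw [← Subgroup.orderOf_coe, h, orderOf_one] at hx
    exact hl.one_lt.ne hx
  -- the set `O` of translates of `z` under `M`
  let O : Set d.Ω := {p | ∃ m ∈ d.M, m • z = p}
  have hOA : ∀ p ∈ O, ∃ a ∈ d.A, a • z = p := by
    rintro p ⟨m, hm, rfl⟩
    have hb : Function.Bijective
        (fun x : d.two z => ((⟨(x : G), x.2.1⟩ : d.M) : d.M ⧸ d.A.subgroupOf d.M)) :=
      (Nat.bijective_iff_injective_and_card _).2 ⟨d.two_injective hz, (d.card_two hz).1⟩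
    obtain ⟨e, he⟩ := hb.2 ((⟨m, hm⟩ : d.M) : d.M ⧸ d.A.subgroupOf d.M)
    have ha : (e : G)⁻¹ * m ∈ d.A := by
      simpa using Subgroup.mem_subgroupOf.1 (QuotientGroup.eq.1 he)
    refine ⟨(e : G) * ((e : G)⁻¹ * m) * (e : G)⁻¹, d.conj_mem e.2.1 ha, ?_⟩
    have hez : (e : G)⁻¹ • z = z := inv_smul_eq_iff.2 (e.2.2 : (e : G) • z = z).symm
    rw [mul_smul, hez]
    congr 1
    group
  have hOcard : Nat.card O = Nat.card d.A := by
    refine (Nat.card_congr (Equiv.ofBijective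
      (fun a : d.A => (⟨(a : G) • z, a, d.A_le_M a.2, rfl⟩ : O)) ⟨?_, ?_⟩)).symm
    · exact fun a b h => d.A_semireg hz (congrArg Subtype.val h)
    · rintro ⟨p, hp⟩
      obtain ⟨a, ha, hap⟩ := hOA p hp
      exact ⟨⟨a, ha⟩, Subtype.ext hap⟩
  letI : MulAction (Subgroup.zpowers (x : G)) O :=
    { smul := fun g p => ⟨(g : G) • p.1, by
        obtain ⟨m, hm, hmp⟩ := p.2
        exact ⟨(g : G) * m, d.M.mul_mem ((Subgroup.zpowers_le.2 x.2.1) g.2) hm,
          by rw [mul_smul, hmp]⟩⟩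
      one_smul := fun p => Subtype.ext (one_smul G p.1)
      mul_smul := fun g h p => Subtype.ext (mul_smul (g : G) (h : G) p.1) }
  have hp : IsPGroup l (Subgroup.zpowers (x : G)) :=
    IsPGroup.of_card (n := 1) (by rw [Nat.card_zpowers, Subgroup.orderOf_coe, hx, pow_one])
  have hnd : ¬ l ∣ Nat.card O := by
    rw [hOcard]
    exact d.prime_not_dvd hy x hxne hx
  obtain ⟨⟨p, hpO⟩, hpf⟩ := hp.nonempty_fixed_point_of_prime_not_dvd_card O hnd
  have hxp : (x : G) • p = p :=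
    congrArg Subtype.val (hpf ⟨(x : G), Subgroup.mem_zpowers _⟩)
  obtain ⟨a, ha, hap⟩ := hOA p hpO
  have hppt : p ≠ d.pt := by
    intro h
    apply hz
    rw [h] at hap
    calc z = a⁻¹ • d.pt := eq_inv_smul_iff.2 hap
      _ = d.pt := d.smul_pt_iff.2 (d.M.inv_mem (d.A_le_M ha))
  have hpy : p = y := by
    by_contra h
    exact hxne (d.three (Ne.symm hy) (Ne.symm h) (Ne.symm hppt) (d.smul_pt_iff.2 x.2.1) x.2.2 hxp)
  exact ⟨a⁻¹, d.A.inv_mem ha, by rw [← hpy, ← hap, inv_smul_smul]⟩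

theorem stab_pt : MulAction.stabilizer G d.pt = d.M := by
  ext g
  exact d.smul_pt_iff

theorem isZassenhaus : Cfsg.IsZassenhausGroup G d.Ω := by
  have hfaith : FaithfulSMul G d.Ω := by
    refine ⟨fun {g h} hgh => ?_⟩
    obtain ⟨y, hy⟩ := d.exists_ne_pt
    have hk : ∀ p : d.Ω, (g⁻¹ * h) • p = p := fun p => by rw [mul_smul, ← hgh, inv_smul_smul]
    refine inv_mul_eq_one.1 (d.three (Ne.symm hy) (γ := d.t • y) ?_ ?_ (hk _) (hk _) (hk _))
    · intro e
      exact d.t_ne (d.two_inf_A hy d.t_mem e.symm)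
    · intro e
      exact hy (smul_left_cancel d.t (e.symm.trans (d.smul_pt_iff.2 (d.A_le_M d.t_mem)).symm))
  refine ⟨hfaith, ?_, fun g a b c h1 h2 h3 ha hb hc => d.three h1 h2 h3 ha hb hc, ?_, ?_⟩
  · refine MulAction.is_two_pretransitive_iff.2 fun {a b c e} hab hce => ?_
    obtain ⟨g, rfl⟩ := d.exists_pre a
    obtain ⟨k, rfl⟩ := d.exists_pre c
    have h1 : g⁻¹ • b ≠ d.pt := fun h => hab (by rw [← h, smul_inv_smul])
    have h2 : k⁻¹ • e ≠ d.pt := fun h => hce (by rw [← h, smul_inv_smul])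
    obtain ⟨m, hm, hmy⟩ := d.A_trans h1 h2
    refine ⟨k * m * g⁻¹, ?_, ?_⟩
    · rw [mul_smul, mul_smul, inv_smul_smul, d.smul_pt_iff.2 (d.A_le_M hm)]
    · rw [mul_smul, mul_smul, hmy, smul_inv_smul]
  · obtain ⟨y, hy⟩ := d.exists_ne_pt
    have h : 1 < Nat.card (d.two y) := by rw [(d.card_two hy).1]; exact d.one_lt_q
    haveI := Finite.one_lt_card_iff_nontrivial.1 h
    obtain ⟨x, hx⟩ := exists_ne (1 : d.two y)
    exact ⟨x, fun e => hx (Subtype.ext e), d.pt, y, Ne.symm hy, d.smul_pt_iff.2 x.2.1, x.2.2⟩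
  · intro N hN hNt
    refine ⟨d.pt, fun h => ?_⟩
    have hfix : ∀ n ∈ N, n • d.pt = d.pt → n = 1 := fun n hn hnp => by
      have : (⟨n, hn⟩ : N) ∈ MulAction.stabilizer N d.pt := MulAction.mem_stabilizer_iff.2 hnp
      have h2 : (⟨n, hn⟩ : N) ∈ (⊥ : Subgroup N) := h ▸ this
      exact congrArg Subtype.val (Subgroup.mem_bot.1 h2)
    have hno : ∀ n ∈ N, n * n = 1 → n = 1 := by
      intro n hn hn2
      by_contra hn1
      obtain ⟨g, hg⟩ := isConj_iff.1 (d.isConj_t (orderOf_eq_two_of_mul_self hn2 hn1))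
      have htN : d.t ∈ N := by
        have := hN.conj_mem n hn g⁻¹
        rwa [← hg, show g⁻¹ * (g * d.t * g⁻¹) * g⁻¹⁻¹ = d.t by group] at this
      exact d.t_ne (hfix _ htN (d.smul_pt_iff.2 (d.A_le_M d.t_mem)))
    have hinv : ∀ a : G, orderOf a = 2 → a ∈ d.A → ∀ n ∈ N, a * n * a⁻¹ = n⁻¹ := by
      intro a ha haA n hn
      let φ : N → N := fun m => ⟨(m : G)⁻¹ * (a * m * a⁻¹),
        N.mul_mem (N.inv_mem m.2) (hN.conj_mem m m.2 a)⟩
      have hφ : Function.Injective φ := by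
        intro m m' e
        have e1 : (m : G)⁻¹ * (a * m * a⁻¹) = (m' : G)⁻¹ * (a * m' * a⁻¹) := congrArg Subtype.val e
        have e2 : (m' : G) * (m : G)⁻¹ * a = a * ((m' : G) * (m : G)⁻¹) := by
          calc (m' : G) * (m : G)⁻¹ * a
              = (m' : G) * ((m : G)⁻¹ * (a * m * a⁻¹)) * a * (m : G)⁻¹ := by group
            _ = (m' : G) * ((m' : G)⁻¹ * (a * m' * a⁻¹)) * a * (m : G)⁻¹ := by rw [e1]
            _ = a * ((m' : G) * (m : G)⁻¹) := by group
        have e3 := d.cent_mem haA ha e2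
        exact Subtype.ext (mul_inv_eq_one.1 (hfix _ (N.mul_mem m'.2 (N.inv_mem m.2))
          (d.smul_pt_iff.2 (d.A_le_M e3)))).symm
      obtain ⟨m, hm⟩ := (Finite.injective_iff_surjective.1 hφ) ⟨n, hn⟩
      have hm' : (m : G)⁻¹ * (a * m * a⁻¹) = n := congrArg Subtype.val hm
      rw [← hm', invol_inv ha]
      calc a * ((m : G)⁻¹ * (a * m * a)) * a = a * (m : G)⁻¹ * a * m * (a * a) := by group
        _ = ((m : G)⁻¹ * (a * m * a))⁻¹ := by
            rw [invol_mul_self ha, mul_one]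
            simp only [mul_inv_rev, inv_inv, invol_inv ha, mul_assoc]
    obtain ⟨s, hs, hst, hsA⟩ := d.pair
    have hprod : orderOf (s * d.t) = 2 := by
      refine orderOf_eq_two_of_mul_self ?_ ?_
      · calc s * d.t * (s * d.t) = s * (d.t * s) * d.t := by group
          _ = s * (s * d.t) * d.t := by rw [d.comm_A d.t_mem hsA]
          _ = (s * s) * (d.t * d.t) := by group
          _ = 1 := by rw [invol_mul_self hs, invol_mul_self d.ht, one_mul]
      · intro e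
        exact hst ((eq_inv_of_mul_eq_one_left e).trans (invol_inv d.ht))
    obtain ⟨y, hy⟩ := d.exists_ne_pt
    obtain ⟨⟨n, hn⟩, hny⟩ := hNt.exists_smul_eq d.pt y
    have h1 := hinv (s * d.t) hprod (d.A.mul_mem hsA d.t_mem) n hn
    have h2 : s * d.t * n * (s * d.t)⁻¹ = n := by
      calc s * d.t * n * (s * d.t)⁻¹ = s * (d.t * n * d.t⁻¹) * s⁻¹ := by group
        _ = (s * n * s⁻¹)⁻¹ := by rw [hinv _ d.ht d.t_mem n hn]; group
        _ = n := by rw [hinv _ hs hsA n hn, inv_inv]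
    have hn1 : n = 1 := hno n hn (mul_eq_one_iff_eq_inv.2 (h2.symm.trans h1))
    subst hn1
    exact hy (hny.symm.trans (one_smul G d.pt))

/-- `A` has one more element than involutions, so has exponent two. -/
theorem sq_A {a : G} (ha : a ∈ d.A) : a * a = 1 := by
  classical
  obtain ⟨y, hy⟩ := d.exists_ne_pt
  haveI := Fintype.ofFinite d.Ω
  have hreg : ∀ p z : d.Ω, p ≠ d.pt → z ≠ d.pt → ∃! u : d.A, (u : G) • p = z := by
    intro p z hp hz
    obtain ⟨u, hu, hup⟩ := d.A_trans hp hz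
    exact ⟨⟨u, hu⟩, hup, fun v hv => d.A_semireg hp (hv.trans hup.symm)⟩
  have K := Cfsg.Agent.Lib.OddLocal.ZassPSL.ker_of_reg d.isZassenhaus (Ne.symm hy)
    (le_of_le_of_eq d.A_le_M d.stab_pt.symm) hreg
  have he : Nat.card ↥(MulAction.stabilizer G d.pt ⊓ MulAction.stabilizer G y : Subgroup G) = d.q := by
    rw [d.stab_pt]
    exact (d.card_two hy).1
  have hh : Fintype.card d.Ω - 1 = Nat.card d.A := K.hHcard.symm
  rw [he, hh] at K
  have hle := Cfsg.Agent.Lib.OddLocal.ZassPSL.le_two_mul K d.A_comm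
  obtain ⟨⟨k, hk⟩, hlo⟩ := Cfsg.Agent.Lib.OddLocal.ZassPSL.card_dvd K.toZData
  have h2 : 2 ∣ Nat.card d.A := d.ht ▸ Subgroup.orderOf_dvd_natCard _ d.t_mem
  have hq : Nat.card d.A - 1 = d.q := by
    rcases k with _ | _ | _ | k
    · simp at hk; omega
    · simpa using hk
    · omega
    · have : d.q * 3 ≤ d.q * (k + 1 + 1 + 1) := Nat.mul_le_mul_left _ (by omega)
      have := d.q_pos
      omega
  -- the involutions of `A` exhaust `A \ {1}`
  by_contra h
  have ha1 : a ≠ 1 := fun e => h (by rw [e, one_mul])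
  let f : {u : G // orderOf u = 2 ∧ u ∈ d.A} → {b : d.A // b ≠ 1} := fun u =>
    ⟨⟨u.1, u.2.2⟩, fun e => invol_ne_one u.2.1 (congrArg Subtype.val e)⟩
  have hf : Function.Injective f := fun u v e =>
    Subtype.ext (congrArg (fun b : {b : d.A // b ≠ 1} => (b.1 : G)) e)
  have hcard : Nat.card {b : d.A // b ≠ 1} = Nat.card d.A - 1 := by
    have := Fintype.ofFinite d.A
    rw [Nat.card_eq_fintype_card, Nat.card_eq_fintype_card, Fintype.card_subtype_compl,
      Fintype.card_subtype_eq]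
  have hb := (Nat.bijective_iff_injective_and_card f).2 ⟨hf, by rw [d.card_invol_A, hcard, hq]⟩
  obtain ⟨⟨u, hu, huA⟩, he'⟩ := hb.2 ⟨⟨a, ha⟩, fun e => ha1 (congrArg Subtype.val e)⟩
  have hua : u = a := congrArg (fun b : {b : d.A // b ≠ 1} => (b.1 : G)) he'
  rw [hua] at hu
  exact h (invol_mul_self hu)

theorem cent_elementary (d : TIData G) {u : G} (hu : orderOf u = 2) :
    IsMulCommutative (Subgroup.centralizer ({u} : Set G)) ∧
      ∀ c ∈ Subgroup.centralizer ({u} : Set G), c ^ 2 = 1 := by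
  refine ⟨⟨⟨fun x y => Subtype.ext (d.hab u hu x x.2 y y.2)⟩⟩, fun c hc => ?_⟩
  obtain ⟨g, hg⟩ := d.exists_conj_mem hu
  have h1 : g * c * g⁻¹ ∈ d.A := by
    refine d.cent_mem hg (by rw [orderOf_conj_eq, hu]) ?_
    have h2 := Subgroup.mem_centralizer_singleton_iff.1 hc
    calc g * c * g⁻¹ * (g * u * g⁻¹) = g * (c * u) * g⁻¹ := by group
      _ = g * u * g⁻¹ * (g * c * g⁻¹) := by rw [h2]; group
  have h3 := d.sq_A h1
  have h4 : g * (c * c) * g⁻¹ = 1 := by rw [← h3]; group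
  rw [sq]
  exact conj_eq_one_iff.1 h4

end TIData

end Cfsg.Agent.Lib.CATI
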