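import Cfsg.Agent.Lib.OddLocal.CASimple

/-!
# No subgroup of odd order is transitive on the involutions of such a simple group

Each point stabiliser in such a subgroup would fix exactly one further point, pairing up an odd
number of points.
-/

set_option autoImplicit false
set_option linter.unusedSectionVars false

namespace Cfsg.Agent.Lib.CASimple

open Cfsg.Agent.Lib.Involutions

universe u

variable {G : Type u} [Group G] [Finite G]

namespace CAData

variable (d : CAData G)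

theorem odd_sub_not_transitive (E : Subgroup G) (hE : Odd (Nat.card E)) :
    ¬ ∀ u : G, orderOf u = 2 → ∃ e ∈ E, e * d.t * e⁻¹ = u := by
  classical
  intro htr
  have hEA : ∀ e ∈ E, e ∈ d.A → e = 1 := by
    intro e he heA
    by_contra h
    have h2 : orderOf e = 2 := orderOf_eq_two_of_mul_self (d.sq_A heA) h
    have := hE.of_dvd_nat (h2 ▸ Subgroup.orderOf_dvd_natCard _ he)
    exact (by decide : ¬ Odd 2) this
  have htransΩ : ∀ p : d.Ω, ∃ e ∈ E, e • d.pt = p := by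
    intro p
    obtain ⟨g, rfl⟩ := d.exists_pre p
    obtain ⟨e, he, heq⟩ := htr (g * d.t * g⁻¹) (by rw [orderOf_conj_eq, d.ht])
    refine ⟨e, he, ?_⟩
    have h1 : g⁻¹ * e ∈ d.A := by
      refine Subgroup.mem_centralizer_singleton_iff.2 ?_
      calc g⁻¹ * e * d.t = g⁻¹ * (e * d.t * e⁻¹) * e := by group
        _ = d.t * (g⁻¹ * e) := by rw [heq]; group
    calc e • d.pt = g • (g⁻¹ * e) • d.pt := by rw [← mul_smul]; group
      _ = g • d.pt := by rw [d.smul_pt_iff.2 (d.A_le_M h1)]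
  -- the stabiliser in `E` is non-trivial and abelian
  obtain ⟨y, hy⟩ := d.exists_ne_pt
  have hb : Function.Bijective
      (fun x : d.two y => ((⟨(x : G), x.2.1⟩ : d.M) : d.M ⧸ d.A.subgroupOf d.M)) :=
    (Nat.bijective_iff_injective_and_card _).2 ⟨d.two_injective hy, (d.card_two hy).1⟩
  have hcommM : ∀ a ∈ d.M, ∀ b ∈ d.M, a * b * a⁻¹ * b⁻¹ ∈ d.A := by
    intro a ha b hb'
    haveI : (d.A.subgroupOf d.M).Normal := Subgroup.normal_subgroupOf_iff_le_normalizer d.A_le_M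
      |>.2 le_rfl
    obtain ⟨x, hx⟩ := hb.2 ((⟨a, ha⟩ : d.M) : d.M ⧸ d.A.subgroupOf d.M)
    obtain ⟨z, hz⟩ := hb.2 ((⟨b, hb'⟩ : d.M) : d.M ⧸ d.A.subgroupOf d.M)
    obtain ⟨u, hu, hu1, -⟩ := d.exists_swap hy
    have hxz : (x : G) * z = z * x := by
      have h1 := (d.card_two hy).2 u hu hu1 _ x.2
      have h2 := (d.card_two hy).2 u hu hu1 _ z.2
      have h3 := (d.card_two hy).2 u hu hu1 _ ((d.two y).mul_mem x.2 z.2)
      have h4 : u * ((x : G) * z) * u⁻¹ = (u * (x : G) * u⁻¹) * (u * (z : G) * u⁻¹) := by group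
      rw [h1, h2, h3, ← mul_inv_rev, inv_inj] at h4
      exact h4
    have h5 : ((⟨a, ha⟩ * ⟨b, hb'⟩ * ⟨a, ha⟩⁻¹ * ⟨b, hb'⟩⁻¹ : d.M) :
        d.M ⧸ d.A.subgroupOf d.M) = 1 := by
      simp only [QuotientGroup.mk_mul, QuotientGroup.mk_inv]
      rw [← hx, ← hz]
      simp only [← QuotientGroup.mk_inv, ← QuotientGroup.mk_mul]
      rw [QuotientGroup.eq_one_iff, Subgroup.mem_subgroupOf]
      push_cast
      rw [hxz]
      simp [mul_assoc]
    exact Subgroup.mem_subgroupOf.1 ((QuotientGroup.eq_one_iff _).1 h5)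
  have hcommE : ∀ a ∈ E, a ∈ d.M → ∀ b ∈ E, b ∈ d.M → a * b = b * a := by
    intro a ha haM b hb' hbM
    have h1 := hEA _ (E.mul_mem (E.mul_mem (E.mul_mem ha hb') (E.inv_mem ha)) (E.inv_mem hb'))
      (hcommM a haM b hbM)
    calc a * b = a * b * a⁻¹ * b⁻¹ * (b * a) := by group
      _ = b * a := by rw [h1, one_mul]
  obtain ⟨y0, hy0E, hy0M, hy0⟩ : ∃ y0 ∈ E, y0 ∈ d.M ∧ (orderOf y0).Prime := by
    obtain ⟨s, hs, hsA, hst⟩ : ∃ s, orderOf s = 2 ∧ s ∈ d.A ∧ s ≠ d.t := by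
      by_contra h
      push Not at h
      have : Subsingleton {u : G // orderOf u = 2 ∧ u ∈ d.A} :=
        ⟨fun a b => Subtype.ext ((h _ a.2.1 a.2.2).trans (h _ b.2.1 b.2.2).symm)⟩
      have h1 := d.one_lt_q
      rw [← d.card_invol_A] at h1
      exact absurd (Finite.one_lt_card_iff_nontrivial.1 h1) (not_nontrivial _)
    obtain ⟨e, he, heq⟩ := htr s hs
    have heM : e ∈ d.M := d.mem_M d.t_mem d.t_ne (heq.symm ▸ hsA)
    have he1 : orderOf e ≠ 1 := fun h => hst (by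
      rw [← heq, orderOf_eq_one_iff.1 h]; simp)
    obtain ⟨l, hl, hld⟩ := Nat.exists_prime_and_dvd he1
    refine ⟨e ^ (orderOf e / l), E.pow_mem he _, d.M.pow_mem heM _, ?_⟩
    rwa [orderOf_pow_orderOf_div (orderOf_pos e).ne' hld]
  have hy01 : y0 ≠ 1 := by rintro rfl; simp [Nat.not_prime_one] at hy0
  -- `y0` fixes exactly one point other than the base point
  obtain ⟨p', hp', hp'fix⟩ : ∃ p' : d.Ω, p' ≠ d.pt ∧ y0 • p' = p' := by
    let Y : Subgroup G := Subgroup.zpowers y0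
    haveI : Fact (orderOf y0).Prime := ⟨hy0⟩
    let Ω' := {p : d.Ω // p ≠ d.pt}
    have hfixpt : ∀ g ∈ Y, g • d.pt = d.pt := fun g hg =>
      d.smul_pt_iff.2 (Subgroup.zpowers_le.2 hy0M hg)
    letI : MulAction Y Ω' :=
      { smul := fun g p => ⟨(g : G) • p.1, fun h => p.2 (by
          calc p.1 = (g : G)⁻¹ • d.pt := eq_inv_smul_iff.2 h
            _ = d.pt := hfixpt _ (Y.inv_mem g.2))⟩
        one_smul := fun p => Subtype.ext (one_smul G p.1)
        mul_smul := fun g h p => Subtype.ext (mul_smul (g : G) (h : G) p.1) }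
    have hp : IsPGroup (orderOf y0) Y :=
      IsPGroup.of_card (n := 1) (by rw [Nat.card_zpowers, pow_one])
    have hcard : Nat.card Ω' = Nat.card d.A := by
      refine (Nat.card_congr (Equiv.ofBijective (fun a : d.A => (⟨(a : G) • y, fun h => hy (by
        calc y = (a : G)⁻¹ • d.pt := eq_inv_smul_iff.2 h
          _ = d.pt := d.smul_pt_iff.2 (d.M.inv_mem (d.A_le_M a.2)))⟩ : Ω')) ⟨?_, ?_⟩)).symm
      · exact fun a b h => d.A_semireg hy (congrArg Subtype.val h)
      · rintro ⟨p, hp⟩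
        obtain ⟨a, ha, hap⟩ := d.A_trans hy hp
        exact ⟨⟨a, ha⟩, Subtype.ext hap⟩
    have hnd : ¬ orderOf y0 ∣ Nat.card Ω' := by
      rw [hcard]
      intro h
      have hA : IsPGroup 2 d.A := fun a => ⟨1, by rw [pow_one, sq]; exact Subtype.ext (d.sq_A a.2)⟩
      obtain ⟨n, hn⟩ := IsPGroup.iff_card.1 hA
      rw [hn] at h
      have h2 := (Nat.prime_dvd_prime_iff_eq hy0 Nat.prime_two).1 (hy0.dvd_of_dvd_pow h)
      exact (by decide : ¬ Odd 2) (hE.of_dvd_nat (h2 ▸ Subgroup.orderOf_dvd_natCard _ hy0E))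
    obtain ⟨⟨p, hp1⟩, hpf⟩ := hp.nonempty_fixed_point_of_prime_not_dvd_card Ω' hnd
    exact ⟨p, hp1, congrArg Subtype.val (hpf ⟨y0, Subgroup.mem_zpowers y0⟩)⟩
  -- the pairing
  let P : d.Ω → d.Ω → Prop := fun p r => r ≠ p ∧ ∀ e ∈ E, e • p = p → e • r = r
  have hPpt : P d.pt p' := by
    refine ⟨hp', fun e he hept => ?_⟩
    have heM := d.smul_pt_iff.1 hept
    by_contra h
    have h1 : y0 • e • p' = e • p' := by
      rw [← mul_smul, hcommE y0 hy0E hy0M e he heM, mul_smul, hp'fix]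
    have hne : e • p' ≠ d.pt := fun h' => hp' (by
      calc p' = e⁻¹ • d.pt := eq_inv_smul_iff.2 h'
        _ = d.pt := d.smul_pt_iff.2 (d.M.inv_mem heM))
    exact hy01 (d.three (Ne.symm hp') (Ne.symm h) (Ne.symm hne) (d.smul_pt_iff.2 hy0M) hp'fix h1)
  have hconj : ∀ p, ∃ w ∈ E, w • d.pt = p := htransΩ
  have huniq : ∀ p r r', P p r → P p r' → r = r' := by
    intro p r r' hr hr'
    by_contra h
    obtain ⟨w, hw, rfl⟩ := hconj p
    have hfix : (w * y0 * w⁻¹) • w • d.pt = w • d.pt := by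
      rw [mul_smul, mul_smul, inv_smul_smul, d.smul_pt_iff.2 hy0M]
    have hwy : w * y0 * w⁻¹ ∈ E := E.mul_mem (E.mul_mem hw hy0E) (E.inv_mem hw)
    exact (fun e => hy01 (conj_eq_one_iff.1 e)) (d.three (Ne.symm hr.1) h (Ne.symm hr'.1)
      hfix (hr.2 _ hwy hfix) (hr'.2 _ hwy hfix))
  have hex : ∀ p, ∃ r, P p r := by
    intro p
    obtain ⟨w, hw, rfl⟩ := hconj p
    refine ⟨w • p', fun h => hp' (smul_left_cancel w h), fun e he hep => ?_⟩
    have h1 := hPpt.2 (w⁻¹ * e * w) (E.mul_mem (E.mul_mem (E.inv_mem hw) he) hw)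
      (by rw [mul_smul, mul_smul, hep, inv_smul_smul])
    rw [mul_smul, mul_smul, inv_smul_eq_iff] at h1
    exact h1
  choose f hf using hex
  have hcardstab : ∀ p : d.Ω, Nat.card (E ⊓ MulAction.stabilizer G p : Subgroup G) =
      Nat.card (E ⊓ MulAction.stabilizer G d.pt : Subgroup G) := by
    intro p
    obtain ⟨w, hw, rfl⟩ := hconj p
    refine Nat.card_congr
      { toFun := fun e => ⟨w⁻¹ * e.1 * w, E.mul_mem (E.mul_mem (E.inv_mem hw) e.2.1) hw,
          MulAction.mem_stabilizer_iff.2 (by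
            rw [mul_smul, mul_smul, MulAction.mem_stabilizer_iff.1 e.2.2, inv_smul_smul])⟩
        invFun := fun e => ⟨w * e.1 * w⁻¹, E.mul_mem (E.mul_mem hw e.2.1) (E.inv_mem hw),
          MulAction.mem_stabilizer_iff.2 (by
            rw [mul_smul, mul_smul, inv_smul_smul, MulAction.mem_stabilizer_iff.1 e.2.2])⟩
        left_inv := fun e => Subtype.ext (by simp [mul_assoc])
        right_inv := fun e => Subtype.ext (by simp [mul_assoc]) }
  have hinv : ∀ p, f (f p) = p := by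
    intro p
    refine huniq (f p) _ _ (hf (f p)) ⟨(hf p).1.symm, fun e he hef => ?_⟩
    have hle : (E ⊓ MulAction.stabilizer G p : Subgroup G) ≤ E ⊓ MulAction.stabilizer G (f p) :=
      fun e he => ⟨he.1, MulAction.mem_stabilizer_iff.2
        ((hf p).2 e he.1 (MulAction.mem_stabilizer_iff.1 he.2))⟩
    have heq := Subgroup.eq_of_le_of_card_ge hle (le_of_eq ((hcardstab _).trans (hcardstab p).symm))
    exact MulAction.mem_stabilizer_iff.1
      ((heq ▸ (⟨he, hef⟩ : e ∈ E ⊓ MulAction.stabilizer G (f p)) :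
        e ∈ E ⊓ MulAction.stabilizer G p)).2
  -- an even number of points
  let σ : Equiv.Perm d.Ω := ⟨f, f, hinv, hinv⟩
  haveI : Fact (Nat.Prime 2) := ⟨Nat.prime_two⟩
  have hσ : IsPGroup 2 (Subgroup.zpowers σ) := by
    intro g
    obtain ⟨k, hk⟩ := g.2
    refine ⟨1, Subtype.ext ?_⟩
    have h2 : σ ^ 2 = 1 := Equiv.ext fun p => by
      rw [pow_two]; exact hinv p
    show (g : Equiv.Perm d.Ω) ^ (2 ^ 1) = 1
    rw [← hk, pow_one]
    show (σ ^ k) ^ (2 : ℕ) = 1
    rw [← zpow_natCast (σ ^ k), zpow_comm, zpow_natCast, h2, one_zpow]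
  have hfixed : IsEmpty (MulAction.fixedPoints (Subgroup.zpowers σ) d.Ω) :=
    ⟨fun p => (hf p.1).1 (p.2 ⟨σ, Subgroup.mem_zpowers σ⟩)⟩
  have h1 := hσ.card_modEq_card_fixedPoints d.Ω
  rw [Nat.card_of_isEmpty (α := MulAction.fixedPoints (Subgroup.zpowers σ) d.Ω)] at h1
  have hΩ : Nat.card d.Ω = Nat.card d.A + 1 := by
    haveI := Fintype.ofFinite d.Ω
    have e : d.A ⊕ PUnit.{1} ≃ d.Ω :=
      Equiv.ofBijective (Sum.elim (fun a : d.A => (a : G) • y) (fun _ => d.pt)) ⟨by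
        rintro (a | a) (b | b) h
        · exact congrArg Sum.inl (d.A_semireg hy h)
        · exact absurd (show y = d.pt by
            calc y = (a : G)⁻¹ • d.pt := eq_inv_smul_iff.2 h
              _ = d.pt := d.smul_pt_iff.2 (d.M.inv_mem (d.A_le_M a.2))) hy
        · exact absurd (show y = d.pt by
            calc y = (b : G)⁻¹ • d.pt := eq_inv_smul_iff.2 h.symm
              _ = d.pt := d.smul_pt_iff.2 (d.M.inv_mem (d.A_le_M b.2))) hy
        · rfl, by
        intro p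
        rcases eq_or_ne p d.pt with rfl | hp
        · exact ⟨Sum.inr PUnit.unit, rfl⟩
        · obtain ⟨a, ha, hap⟩ := d.A_trans hy hp
          exact ⟨Sum.inl ⟨a, ha⟩, hap⟩⟩
    rw [← Nat.card_congr e, Nat.card_sum]
    simp
  have h2 : 2 ∣ Nat.card d.A := d.ht ▸ Subgroup.orderOf_dvd_natCard _ d.t_mem
  rw [hΩ, Nat.modEq_zero_iff_dvd] at h1
  omega

end CAData

end Cfsg.Agent.Lib.CASimple
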