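import Cfsg.Agent.Lib.OddLocal.CATI
import Cfsg.Agent.Lib.OddLocal.CATIOddSub
import Cfsg.Agent.Lib.KnownA.GL2
import Cfsg.Agent.Lib.Compute.SL2Tori
import Cfsg.Agent.Lib.Frobenius.UniqueSubgroup
import Cfsg.Agent.S0223
import Cfsg.Agent.S1225
import Cfsg.Agent.S1230
import Cfsg.Agent.S5748

/-!
# Groups with abelian involution centralisers
-/

set_option autoImplicit false
set_option linter.unusedSectionVars false

namespace Cfsg.Agent.Lib.CATI

open Cfsg.Agent.Lib.Involutions
open Matrix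

universe u

/-- The conclusion. -/
def Concl (G : Type u) [Group G] : Prop :=
  ∃ (F : Type) (_ : Field F) (_ : Fintype F) (A : Type) (_ : CommGroup A) (_ : Finite A),
    CharP F 2 ∧ 4 ≤ Fintype.card F ∧ Odd (Nat.card A) ∧
      Nonempty (G ≃* SpecialLinearGroup (Fin 2) F × A)

/-- Involution centralisers are abelian. -/
def Hab (G : Type u) [Group G] : Prop :=
  ∀ u : G, orderOf u = 2 → ∀ x ∈ Subgroup.centralizer ({u} : Set G),
    ∀ y ∈ Subgroup.centralizer ({u} : Set G), x * y = y * x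

section SL

variable (F : Type) [Field F] [Fintype F] [CharP F 2]

theorem sl_simple (h4 : 4 ≤ Fintype.card F) : IsSimpleGroup (SpecialLinearGroup (Fin 2) F) := by
  haveI := Matrix.ProjectiveSpecialLinearGroup.rank_two_simple (F := F)
    (by rwa [Nat.card_eq_fintype_card])
  let e : ProjectiveSpecialLinearGroup (Fin 2) F ≃* SpecialLinearGroup (Fin 2) F :=
    (QuotientGroup.quotientMulEquivOfEq (Cfsg.Agent.S5748.center_eq_bot)).trans QuotientGroup.quotientBot
  exact e.symm.isSimpleGroup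

theorem sl_not_comm : ¬ IsMulCommutative (SpecialLinearGroup (Fin 2) F) := by
  intro h
  let a : SpecialLinearGroup (Fin 2) F := ⟨!![1, 1; 0, 1], by simp [Matrix.det_fin_two]⟩
  let b : SpecialLinearGroup (Fin 2) F := ⟨!![1, 0; 1, 1], by simp [Matrix.det_fin_two]⟩
  have := congrArg (fun g : Matrix (Fin 2) (Fin 2) F => g 0 0)
    (show (a : Matrix (Fin 2) (Fin 2) F) * b = b * a from congrArg Subtype.val (h.is_comm.comm a b))
  simp [a, b, Matrix.mul_apply, Fin.sum_univ_two] at this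

theorem sl_data (h4 : 4 ≤ Fintype.card F) : Nonempty (CASimple.CAData (SpecialLinearGroup (Fin 2) F)) := by
  refine CASimple.exists_data ?_ (sl_simple F h4) (sl_not_comm F) ?_
  · intro a b c _ hb _ hab hbc
    exact Cfsg.Agent.S5748.sl_ct Cfsg.Agent.S5748.center_eq_bot a b c hb hab hbc
  · let a : SpecialLinearGroup (Fin 2) F := ⟨!![1, 1; 0, 1], by simp [Matrix.det_fin_two]⟩
    have h2 : a * a = 1 := by
      apply Subtype.ext
      show (!![(1 : F), 1; 0, 1]) * !![1, 1; 0, 1] = 1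
      ext i j
      fin_cases i <;> fin_cases j <;>
        simp [a, Matrix.mul_apply, Fin.sum_univ_two, CharTwo.add_self_eq_zero]
    have h1 : a ≠ 1 := fun h => by
      have := congrArg (fun g : SpecialLinearGroup (Fin 2) F => (g : Matrix (Fin 2) (Fin 2) F) 0 1) h
      simp [a] at this
    have h3 := orderOf_dvd_natCard a
    rw [orderOf_eq_two_of_mul_self h2 h1] at h3
    exact even_iff_two_dvd.2 h3

end SL

variable {G : Type u} [Group G] [Finite G]

theorem mem_sylow_of_comm {p : ℕ} [Fact p.Prime] (S : Sylow p G) {x : G}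
    (hc : ∀ s ∈ (S : Subgroup G), x * s = s * x) (hx : IsPGroup p (Subgroup.zpowers x)) :
    x ∈ (S : Subgroup G) := by
  have hN : Subgroup.zpowers x ≤ Subgroup.normalizer ((S : Subgroup G) : Set G) := by
    refine Subgroup.zpowers_le.2 (Subgroup.mem_normalizer_iff.2 fun s => ⟨fun hs => ?_, fun hs => ?_⟩)
    · rw [hc s hs, mul_inv_cancel_right]
      exact hs
    · have : x * s * x⁻¹ = s := mul_left_cancel (a := x) (by
        calc x * (x * s * x⁻¹) = x * s * x⁻¹ * x := hc _ hs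
          _ = x * s := inv_mul_cancel_right _ _)
      rwa [this] at hs
  have h := S.3 (hx.to_sup_of_normal_right' S.2 hN) le_sup_right
  rw [← h]
  exact Subgroup.mem_sup_left (Subgroup.mem_zpowers x)

theorem zpowers_pgroup {p : ℕ} [Fact p.Prime] {H : Subgroup G} (hH : IsPGroup p H) {x : G}
    (hx : x ∈ H) : IsPGroup p (Subgroup.zpowers x) :=
  hH.to_le (Subgroup.zpowers_le.2 hx)

/-- A non-cyclic Sylow subgroup inside the abelian centraliser holds a second involution. -/
theorem exists_second {t : G} (S : Sylow 2 G)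
    (hcomm : ∀ x ∈ (S : Subgroup G), ∀ y ∈ (S : Subgroup G), x * y = y * x)
    (hnc : ¬ IsCyclic (S : Subgroup G)) :
    ∃ s ∈ (S : Subgroup G), orderOf s = 2 ∧ s ≠ t := by
  haveI : Fact (Nat.Prime 2) := ⟨Nat.prime_two⟩
  by_contra h
  push Not at h
  rcases Cfsg.Agent.Lib.Frobenius.isCyclic_or_quaternion_of_unique S.2 (fun a b ha hb => by
      have h1 := h a a.2 (by rw [Subgroup.orderOf_coe, ha])
      have h2 := h b b.2 (by rw [Subgroup.orderOf_coe, hb])
      rw [Subtype.ext (h1.trans h2.symm)]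
      exact Subgroup.mem_zpowers b) with hc | ⟨-, m, ⟨e⟩⟩
  · exact hnc hc
  · have hq : ∀ x y : QuaternionGroup (2 ^ (m + 1)), x * y = y * x := fun x y => by
      have := congrArg e (Subtype.ext (hcomm _ (e.symm x).2 _ (e.symm y).2) :
        e.symm x * e.symm y = e.symm y * e.symm x)
      simpa using this
    have h1 := hq (QuaternionGroup.a 1) (QuaternionGroup.xa 0)
    rw [QuaternionGroup.a_mul_xa, QuaternionGroup.xa_mul_a] at h1
    simp only [QuaternionGroup.xa.injEq, zero_sub, zero_add] at h1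
    have h2 : ((2 : ℕ) : ZMod (2 * 2 ^ (m + 1))) = 0 := by
      push_cast
      linear_combination -h1
    rw [ZMod.natCast_eq_zero_iff] at h2
    have h3 := Nat.le_of_dvd two_pos h2
    have h4 : 2 ≤ 2 ^ (m + 1) := Nat.le_self_pow (by omega) 2
    omega

theorem exists_central (S : Sylow 2 G) (hne : (S : Subgroup G) ≠ ⊥) :
    ∃ t ∈ (S : Subgroup G), orderOf t = 2 ∧
      (S : Subgroup G) ≤ Subgroup.centralizer ({t} : Set G) := by
  haveI : Fact (Nat.Prime 2) := ⟨Nat.prime_two⟩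
  have : Nontrivial (S : Subgroup G) := Subgroup.nontrivial_iff_ne_bot _ |>.2 hne
  have hc : Nontrivial (Subgroup.center (S : Subgroup G)) := S.2.center_nontrivial
  have h2 : 2 ∣ Nat.card (Subgroup.center (S : Subgroup G)) := by
    obtain ⟨n, hn⟩ := IsPGroup.iff_card.1 (S.2.to_subgroup (Subgroup.center (S : Subgroup G)))
    have := Finite.one_lt_card_iff_nontrivial.2 hc
    rw [hn] at this ⊢
    exact dvd_pow_self _ (by rintro rfl; simp at this)
  obtain ⟨z, hz⟩ := exists_prime_orderOf_dvd_card' 2 h2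
  refine ⟨((z : (S : Subgroup G)) : G), z.1.2, by rw [Subgroup.orderOf_coe, Subgroup.orderOf_coe, hz],
    fun x hx => ?_⟩
  exact Subgroup.mem_centralizer_singleton_iff.2
    (congrArg Subtype.val (Subgroup.mem_center_iff.1 z.2 ⟨x, hx⟩))

/-- The data common to both cases of the induction. -/
structure Setup (G : Type u) [Group G] where
  /-- the involution -/
  t : G
  ht : orderOf t = 2
  /-- the Sylow subgroup -/
  S : Sylow 2 G
  hab : Hab G
  tS : t ∈ (S : Subgroup G)
  hS : (S : Subgroup G) ≤ Subgroup.centralizer ({t} : Set G)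
  hnc : ¬ IsCyclic (S : Subgroup G)
  hnn : ¬ (S : Subgroup G).Normal

namespace Setup

variable (d : Setup G)

/-- The centraliser of the involution. -/
def A : Subgroup G := Subgroup.centralizer ({d.t} : Set G)

/-- Its normaliser. -/
def M : Subgroup G := Subgroup.normalizer (d.A : Set G)

theorem t_mem : d.t ∈ d.A := Subgroup.mem_centralizer_singleton_iff.2 rfl

theorem comm_A {x y : G} (hx : x ∈ d.A) (hy : y ∈ d.A) : x * y = y * x :=
  d.hab d.t d.ht x hx y hy

theorem cent_mem {a x : G} (ha : a ∈ d.A) (ha1 : orderOf a = 2) (hx : x * a = a * x) : x ∈ d.A :=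
  Subgroup.mem_centralizer_singleton_iff.2 (d.hab a ha1 x (Subgroup.mem_centralizer_singleton_iff.2 hx)
    d.t (Subgroup.mem_centralizer_singleton_iff.2 (Subgroup.mem_centralizer_singleton_iff.1 ha).symm))

theorem mem_M {g a : G} (ha : a ∈ d.A) (ha1 : orderOf a = 2) (h : g * a * g⁻¹ ∈ d.A) : g ∈ d.M := by
  refine Subgroup.mem_normalizer_iff.2 fun x => ⟨fun hx => ?_, fun hx => ?_⟩
  · refine d.cent_mem h (by rw [orderOf_conj_eq, ha1]) ?_
    calc g * x * g⁻¹ * (g * a * g⁻¹) = g * (x * a) * g⁻¹ := by group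
      _ = g * (a * x) * g⁻¹ := by rw [d.comm_A hx ha]
      _ = g * a * g⁻¹ * (g * x * g⁻¹) := by group
  · refine d.cent_mem ha ha1 ?_
    have h1 := d.comm_A hx h
    calc x * a = g⁻¹ * (g * x * g⁻¹ * (g * a * g⁻¹)) * g := by group
      _ = g⁻¹ * (g * a * g⁻¹ * (g * x * g⁻¹)) * g := by rw [h1]
      _ = a * x := by group

theorem conj_mem {g : G} (hg : g ∈ d.M) {a : G} (ha : a ∈ d.A) : g * a * g⁻¹ ∈ d.A :=
  (Subgroup.mem_normalizer_iff.1 hg a).1 ha

theorem exists_not_M : ∃ g : G, g ∉ d.M := by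
  haveI : Fact (Nat.Prime 2) := ⟨Nat.prime_two⟩
  by_contra h
  push Not at h
  refine d.hnn ⟨fun s hs g => ?_⟩
  refine mem_sylow_of_comm d.S (fun x hx => d.comm_A (d.conj_mem (h g) (d.hS hs)) (d.hS hx)) ?_
  exact (IsPGroup.of_card (n := Nat.factorization (Nat.card (Subgroup.zpowers (g * s * g⁻¹))) 2) (by
    rw [Nat.card_zpowers, orderOf_conj_eq]
    obtain ⟨k, hk⟩ := IsPGroup.iff_orderOf.1 d.S.2 ⟨s, hs⟩
    rw [← Subgroup.orderOf_coe] at hk
    rw [show orderOf s = 2 ^ k from hk, Nat.prime_two.factorization_pow, Finsupp.single_eq_same]))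

/-- All involutions of `G` are conjugate. -/
theorem isConj_t {u : G} (hu : orderOf u = 2) : IsConj d.t u := by
  have key : ∀ {s w : G}, orderOf s = 2 → s ∈ d.A → orderOf w = 2 → w ∉ d.A → IsConj s w := by
    intro s w hs hsA hw hwA
    by_contra h
    obtain ⟨v, hv, hvs, hvw⟩ := exists_invol_commute hs hw h
    exact hwA (d.cent_mem (d.cent_mem hsA hs hvs) hv hvw.symm)
  obtain ⟨g, hg⟩ := d.exists_not_M
  have hw : orderOf (g * d.t * g⁻¹) = 2 := by rw [orderOf_conj_eq, d.ht]
  have hwA : g * d.t * g⁻¹ ∉ d.A := fun h => hg (d.mem_M d.t_mem d.ht h)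
  by_cases huA : u ∈ d.A
  · exact (key d.ht d.t_mem hw hwA).trans (key hu huA hw hwA).symm
  · exact key d.ht d.t_mem hu huA

theorem exists_second' : ∃ s ∈ (d.S : Subgroup G), orderOf s = 2 ∧ s ≠ d.t :=
  exists_second d.S (fun _ hx _ hy => d.comm_A (d.hS hx) (d.hS hy)) d.hnc

theorem center_le : Subgroup.center G ≤ d.A := fun z hz =>
  Subgroup.mem_centralizer_singleton_iff.2 (Subgroup.mem_center_iff.1 hz d.t).symm

theorem center_odd (d : Setup G) : Odd (Nat.card (Subgroup.center G)) := by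
  haveI : Fact (Nat.Prime 2) := ⟨Nat.prime_two⟩
  by_contra h
  obtain ⟨z, hz⟩ := exists_prime_orderOf_dvd_card' 2 (even_iff_two_dvd.1 (Nat.not_odd_iff_even.1 h))
  obtain ⟨g, hg⟩ := d.exists_not_M
  refine hg (d.mem_M (d.center_le z.2) (by rw [Subgroup.orderOf_coe, hz]) ?_)
  rw [Subgroup.mem_center_iff.1 z.2 g, mul_inv_cancel_right]
  exact d.center_le z.2

/-- Intersections of conjugates of `A` are central. -/
def TI : Prop := ∀ g : G, g ∉ d.M → ∀ a ∈ d.A, g * a * g⁻¹ ∈ d.A → a ∈ Subgroup.center G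

theorem concl_of_ti (hti : d.TI) : Concl G := by
  classical
  haveI : Fact (Nat.Prime 2) := ⟨Nat.prime_two⟩
  let Z := Subgroup.center G
  let π : G →* G ⧸ Z := QuotientGroup.mk' Z
  have hZo : ∀ c ∈ Z, c * c = 1 → c = 1 := fun c hc hc2 => by
    by_contra h
    exact (by decide : ¬ Odd 2) (d.center_odd.of_dvd_nat
      (orderOf_eq_two_of_mul_self hc2 h ▸ Subgroup.orderOf_dvd_natCard _ hc))
  have hπ : ∀ x, π x = 1 ↔ x ∈ Z := fun x => QuotientGroup.eq_one_iff x
  have hordπ : ∀ u : G, orderOf u = 2 → orderOf (π u) = 2 := by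
    intro u hu
    refine orderOf_eq_two_of_mul_self (by rw [← map_mul, invol_mul_self hu, map_one]) fun h => ?_
    exact invol_ne_one hu (hZo u ((hπ u).1 h) (invol_mul_self hu))
  have hcent : ∀ u x : G, orderOf u = 2 → π x * π u = π u * π x → x * u = u * x := by
    intro u x hu h
    rw [← map_mul, ← map_mul] at h
    have hc : (u * x)⁻¹ * (x * u) ∈ Z := (QuotientGroup.eq).1 h.symm
    set c := (u * x)⁻¹ * (x * u) with hcdef
    have hcx : x * u = u * x * c := by rw [hcdef, mul_inv_cancel_left]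
    have hcc := Subgroup.mem_center_iff.1 hc
    have h2 : x = x * (c * c) := by
      calc x = x * u * u := by rw [mul_assoc, invol_mul_self hu, mul_one]
        _ = u * x * (c * u) := by rw [hcx, mul_assoc]
        _ = u * (x * u) * c := by rw [← hcc u]; simp only [mul_assoc]
        _ = (u * u) * (x * (c * c)) := by rw [hcx]; simp only [mul_assoc]
        _ = x * (c * c) := by rw [invol_mul_self hu, one_mul]
    rw [hcx, hZo c hc (mul_eq_left.1 h2.symm), mul_one]
  have hAmem : ∀ x, π x ∈ Subgroup.centralizer ({π d.t} : Set (G ⧸ Z)) ↔ x ∈ d.A := fun x =>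
    ⟨fun h => Subgroup.mem_centralizer_singleton_iff.2
      (hcent _ _ d.ht (Subgroup.mem_centralizer_singleton_iff.1 h)),
    fun h => Subgroup.mem_centralizer_singleton_iff.2 (by
      rw [← map_mul, ← map_mul, Subgroup.mem_centralizer_singleton_iff.1 h])⟩
  have hMmem : ∀ g, π g ∈ Subgroup.normalizer
      (Subgroup.centralizer ({π d.t} : Set (G ⧸ Z)) : Set (G ⧸ Z)) → g ∈ d.M := by
    intro g hg
    refine d.mem_M d.t_mem d.ht ((hAmem _).1 ?_)
    rw [map_mul, map_mul, map_inv]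
    exact (Subgroup.mem_normalizer_iff.1 hg _).1 ((hAmem _).2 d.t_mem)
  have hlift : ∀ v : G ⧸ Z, orderOf v = 2 → ∃ u : G, orderOf u = 2 ∧ π u = v := by
    intro v hv
    obtain ⟨x, rfl⟩ := QuotientGroup.mk'_surjective Z v
    have hx2 : x * x ∈ Z := (hπ _).1 (by rw [map_mul]; exact invol_mul_self hv)
    set n := Nat.card Z with hn
    obtain ⟨m, hm⟩ := d.center_odd
    have h1 : x ^ n * x ^ n = 1 := by
      rw [← (Commute.refl x).mul_pow, hn]
      exact congrArg Subtype.val (pow_card_eq_one' (x := (⟨x * x, hx2⟩ : Z)))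
    have h2 : π (x ^ n) = π x := by
      rw [map_pow, hn, hm, pow_succ, pow_mul, sq, invol_mul_self hv, one_pow, one_mul]
    refine ⟨x ^ n, orderOf_eq_two_of_mul_self h1 fun h => invol_ne_one hv ?_, h2⟩
    show π x = 1
    rw [← h2, h, map_one]
  let S' : Sylow 2 (G ⧸ Z) := d.S.mapSurjective (QuotientGroup.mk'_surjective Z)
  have hS' : (S' : Subgroup (G ⧸ Z)) = (d.S : Subgroup G).map π := Sylow.coe_mapSurjective ..
  have hSinj : Function.Injective ((π).subgroupMap (d.S : Subgroup G)) := by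
    refine (injective_iff_map_eq_one _).2 fun s hs => ?_
    have h1 : (s : G) ∈ Z := (hπ _).1 (congrArg Subtype.val hs)
    obtain ⟨k, hk⟩ := IsPGroup.iff_orderOf.1 d.S.2 s
    have h3 : Nat.Coprime (orderOf (s : G)) (Nat.card Z) := by
      rw [Subgroup.orderOf_coe, hk]
      exact Nat.Coprime.pow_left _ d.center_odd.coprime_two_left
    exact Subtype.ext (orderOf_eq_one_iff.1
      (Nat.eq_one_of_dvd_coprimes h3 dvd_rfl (Subgroup.orderOf_dvd_natCard _ h1)))
  let eS : (d.S : Subgroup G) ≃* (S' : Subgroup (G ⧸ Z)) :=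
    (MulEquiv.ofBijective _ ⟨hSinj, MonoidHom.subgroupMap_surjective _ _⟩).trans
      (MulEquiv.subgroupCongr hS'.symm)
  obtain ⟨g0, hg0⟩ := d.exists_not_M
  obtain ⟨s, hsS, hs, hst⟩ := d.exists_second'
  have hS'le : (S' : Subgroup (G ⧸ Z)) ≤ Subgroup.centralizer ({π d.t} : Set (G ⧸ Z)) := by
    rw [hS']
    rintro _ ⟨x, hx, rfl⟩
    exact (hAmem x).2 (d.hS hx)
  let e : TIData (G ⧸ Z) :=
    { t := π d.t
      ht := hordπ _ d.ht
      hab := by
        intro v hv x hx y hy
        obtain ⟨u, hu, rfl⟩ := hlift v hv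
        obtain ⟨x, rfl⟩ := QuotientGroup.mk'_surjective Z x
        obtain ⟨y, rfl⟩ := QuotientGroup.mk'_surjective Z y
        rw [Subgroup.mem_centralizer_singleton_iff] at hx hy
        show π x * π y = π y * π x
        rw [← map_mul, ← map_mul, d.hab u hu x
          (Subgroup.mem_centralizer_singleton_iff.2 (hcent u x hu hx)) y
          (Subgroup.mem_centralizer_singleton_iff.2 (hcent u y hu hy))]
      hS := ⟨S', hS'le⟩
      top := fun h => hg0 (hMmem g0 (h ▸ Subgroup.mem_top _))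
      pair := by
        refine ⟨π s, hordπ s hs, fun h => hst ?_, (hAmem s).2 (d.hS hsS)⟩
        have h1 : eS ⟨s, hsS⟩ = eS ⟨d.t, d.tS⟩ := Subtype.ext h
        exact congrArg Subtype.val (eS.injective h1)
      ti := by
        intro g hg a ha h
        obtain ⟨g, rfl⟩ := QuotientGroup.mk'_surjective Z g
        obtain ⟨a, rfl⟩ := QuotientGroup.mk'_surjective Z a
        have hgM : g ∉ d.M := by
          intro hgM
          refine hg (Subgroup.mem_normalizer_iff.2 fun v => ?_)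
          obtain ⟨v, rfl⟩ := QuotientGroup.mk'_surjective Z v
          show π v ∈ _ ↔ π g * π v * (π g)⁻¹ ∈ _
          rw [← map_inv, ← map_mul, ← map_mul]
          exact (hAmem v).trans ((Subgroup.mem_normalizer_iff.1 hgM v).trans (hAmem _).symm)
        refine (hπ a).2 (hti g hgM a ((hAmem a).1 ha) ((hAmem _).1 ?_))
        rw [map_mul, map_mul, map_inv]
        exact h }
  have hnc' : ¬ IsCyclic (S' : Subgroup (G ⧸ Z)) := fun h => d.hnc ((eS.isCyclic).2 h)
  have hnn' : ¬ (S' : Subgroup (G ⧸ Z)).Normal := by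
    intro h
    refine hg0 (d.mem_M d.t_mem d.ht ((hAmem _).1 (hS'le ?_)))
    rw [map_mul, map_mul, map_inv]
    refine h.conj_mem _ ?_ _
    rw [hS']
    exact ⟨d.t, d.tS, rfl⟩
  obtain ⟨F, i1, i2, hF, ⟨ε⟩⟩ :=
    Cfsg.Agent.S1230.result S' hnc' hnn' (fun v hv => e.cent_elementary hv)
  obtain ⟨k, hk⟩ := IsPGroup.iff_card.1 S'.2
  have hF4 : 4 ≤ Fintype.card F := by
    rw [hF, hk]
    rcases k with _ | _ | k
    · exact absurd (isCyclic_of_card_dvd_prime (p := 2) (hk ▸ one_dvd _)) hnc'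
    · exact absurd (isCyclic_of_prime_card (p := 2) (by simpa using hk)) hnc'
    · exact Nat.pow_le_pow_right two_pos (show 2 ≤ k + 1 + 1 by omega)
  have hFev : Even (Fintype.card F) := by
    rw [hF, hk]
    rcases k with _ | k
    · rw [hF, hk] at hF4; simp at hF4
    · exact ⟨2 ^ k, by rw [pow_succ]; ring⟩
  haveI : CharP F 2 :=
    (FiniteField.even_card_iff_char_two.mpr (Nat.even_iff.mp hFev)) ▸ ringChar.charP F
  let ψ : G ⧸ Z ≃* SpecialLinearGroup (Fin 2) F := ε.trans
    ((QuotientGroup.quotientMulEquivOfEq Cfsg.Agent.S5748.center_eq_bot).trans QuotientGroup.quotientBot)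
  let φ : G →* SpecialLinearGroup (Fin 2) F := ψ.toMonoidHom.comp π
  have hφs : Function.Surjective φ := ψ.surjective.comp (QuotientGroup.mk'_surjective Z)
  have hφk : φ.ker = Z := by
    ext x
    simp [φ, MonoidHom.mem_ker, hπ]
  -- transfers to the two tori
  have htor : ∀ x : SpecialLinearGroup (Fin 2) F, ∃ V : Subgroup G,
      V.index * orderOf x = Nat.card (SpecialLinearGroup (Fin 2) F) ∧
      (∀ a ∈ V, ∀ b ∈ V, a * b = b * a) ∧ Z ≤ V := by
    intro x
    refine ⟨(Subgroup.zpowers x).comap φ, ?_, ?_, ?_⟩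
    · rw [Subgroup.index_comap_of_surjective _ hφs, ← Nat.card_zpowers]
      exact Subgroup.index_mul_card _
    · intro a ha b hb
      let f := φ.subgroupComap (Subgroup.zpowers x)
      have hf : f.ker ≤ Subgroup.center ((Subgroup.zpowers x).comap φ) := by
        intro c hc
        have hcZ : (c : G) ∈ Z := hφk ▸ (MonoidHom.mem_ker.2 (congrArg Subtype.val hc))
        exact Subgroup.mem_center_iff.2 fun v =>
          Subtype.ext (Subgroup.mem_center_iff.1 hcZ (v : G))
      exact congrArg Subtype.val (commutative_of_cyclic_center_quotient f hf ⟨a, ha⟩ ⟨b, hb⟩)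
    · intro c hc
      have : φ c = 1 := MonoidHom.mem_ker.1 (hφk.symm ▸ hc)
      exact Subgroup.mem_comap.2 (this ▸ Subgroup.one_mem _)
  have htr : ∀ x : SpecialLinearGroup (Fin 2) F, ∃ (n : ℕ) (N : Subgroup G), N.Normal ∧
      n * orderOf x = Nat.card (SpecialLinearGroup (Fin 2) F) ∧
      (∀ a b : G, a * b * a⁻¹ * b⁻¹ ∈ N) ∧ ∀ c ∈ Z, c ∈ N → c ^ n = 1 := by
    intro x
    obtain ⟨V, hV, hVc, hZV⟩ := htor x
    letI : CommGroup V :=
      { mul_comm := fun a b => Subtype.ext (hVc _ a.2 _ b.2) }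
    let T := MonoidHom.transfer (MonoidHom.id V)
    refine ⟨V.index, T.ker, MonoidHom.normal_ker T, hV, fun a b => ?_, fun c hc hcN => ?_⟩
    · rw [MonoidHom.mem_ker, map_mul, map_mul, map_mul, map_inv, map_inv, mul_inv_eq_one,
        mul_inv_eq_iff_eq_mul, mul_comm]
    · have h1 := MonoidHom.transfer_eq_pow (MonoidHom.id V) c (fun m g₀ _ => by
        rw [mul_assoc, ← Subgroup.mem_center_iff.1 (Z.pow_mem hc m) g₀, inv_mul_cancel_left])
      rw [show MonoidHom.transfer (MonoidHom.id V) c = 1 from MonoidHom.mem_ker.1 hcN] at h1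
      exact congrArg Subtype.val h1.symm
  obtain ⟨x1, hx1, -⟩ := Cfsg.Agent.Lib.Compute.SL2.exists_split (F := F)
  obtain ⟨x2, hx2⟩ := Cfsg.Agent.Lib.Compute.SL2.exists_nonsplit (F := F)
  obtain ⟨n1, N1, hN1, hn1, hc1, hp1⟩ := htr x1
  obtain ⟨n2, N2, hN2, hn2, hc2, hp2⟩ := htr x2
  set K := N1 ⊓ N2 with hK
  have hKZ : ∀ c ∈ K, c ∈ Z → c = 1 := by
    intro c hcK hcZ
    rw [hx1, Cfsg.Agent.Lib.KnownA.card_SL2] at hn1
    rw [hx2, Cfsg.Agent.Lib.KnownA.card_SL2] at hn2
    set q := Fintype.card F with hq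
    have h1 : n1 = q * (q + 1) := by
      have : q * (q ^ 2 - 1) = q * (q + 1) * (q - 1) := by
        rw [show q ^ 2 - 1 = (q + 1) * (q - 1) by
          have := Nat.sq_sub_sq q 1; rw [one_pow] at this; rw [this], mul_assoc]
      exact Nat.eq_of_mul_eq_mul_right (show 0 < q - 1 by omega) (hn1.trans this)
    have h2 : n2 = q * (q - 1) := by
      have : q * (q ^ 2 - 1) = q * (q - 1) * (q + 1) := by
        rw [show q ^ 2 - 1 = (q + 1) * (q - 1) by
          have := Nat.sq_sub_sq q 1; rw [one_pow] at this; rw [this]]; ring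
      exact Nat.eq_of_mul_eq_mul_right (show 0 < q + 1 by omega) (hn2.trans this)
    have hd1 := orderOf_dvd_of_pow_eq_one (hp1 c hcZ hcK.1)
    have hd2 := orderOf_dvd_of_pow_eq_one (hp2 c hcZ hcK.2)
    have ho : Odd (orderOf c) := d.center_odd.of_dvd_nat (Subgroup.orderOf_dvd_natCard _ hcZ)
    have hcq : Nat.Coprime (orderOf c) q := by
      rw [hF, hk]
      exact Nat.Coprime.pow_right _ ho.coprime_two_right
    rw [h1] at hd1
    rw [h2] at hd2
    have e1 := hcq.dvd_of_dvd_mul_left hd1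
    have e2 := hcq.dvd_of_dvd_mul_left hd2
    have e3 : orderOf c ∣ 2 := by
      have := Nat.dvd_sub e1 e2
      rwa [show q + 1 - (q - 1) = 2 by omega] at this
    exact orderOf_eq_one_iff.1 (Nat.eq_one_of_dvd_coprimes ho.coprime_two_right dvd_rfl e3)
  haveI : K.Normal := inferInstanceAs (N1 ⊓ N2).Normal
  haveI := sl_simple F hF4
  have hKtop : K.map φ = ⊤ := by
    rcases (Subgroup.Normal.map ‹K.Normal› φ hφs).eq_bot_or_eq_top with h | h
    · exfalso
      have hKbot : ∀ c ∈ K, c = 1 := fun c hc => hKZ c hc (hφk ▸ MonoidHom.mem_ker.2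
        (Subgroup.mem_bot.1 (h ▸ Subgroup.mem_map_of_mem φ hc)))
      refine sl_not_comm F ⟨⟨fun a b => ?_⟩⟩
      obtain ⟨a, rfl⟩ := hφs a
      obtain ⟨b, rfl⟩ := hφs b
      have := hKbot _ ⟨hc1 a b, hc2 a b⟩
      rw [mul_inv_eq_one, mul_inv_eq_iff_eq_mul] at this
      rw [← map_mul, this, map_mul]
    · exact h
  let f : K × Z →* G :=
    { toFun := fun p => (p.1 : G) * p.2
      map_one' := by simp
      map_mul' := fun a b => by
        show ((a.1 : G) * b.1) * ((a.2 : G) * b.2) = (a.1 : G) * a.2 * ((b.1 : G) * b.2)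
        rw [mul_assoc, mul_assoc, ← mul_assoc (b.1 : G), Subgroup.mem_center_iff.1 a.2.2 (b.1 : G),
          mul_assoc] }
  have hf : Function.Bijective f := by
    refine ⟨(injective_iff_map_eq_one f).2 ?_, fun g => ?_⟩
    · rintro ⟨a, c⟩ h
      have h1 : (a : G) * c = 1 := h
      have ha : (a : G) = (c : G)⁻¹ := eq_inv_of_mul_eq_one_left h1
      have ha1 := hKZ _ a.2 (ha ▸ Z.inv_mem c.2)
      rw [ha1, one_mul] at h1
      exact Prod.ext (Subtype.ext ha1) (Subtype.ext h1)
    · obtain ⟨a, ha, hag⟩ := Subgroup.mem_map.1 (hKtop ▸ Subgroup.mem_top (φ g) : φ g ∈ K.map φ)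
      have : a⁻¹ * g ∈ Z := hφk ▸ MonoidHom.mem_ker.2 (by rw [map_mul, map_inv, hag, inv_mul_cancel])
      exact ⟨(⟨a, ha⟩, ⟨_, this⟩), mul_inv_cancel_left a g⟩
  let e1 : K ≃* SpecialLinearGroup (Fin 2) F := MulEquiv.ofBijective (φ.comp K.subtype) ⟨by
      refine (injective_iff_map_eq_one _).2 fun a ha => Subtype.ext ?_
      exact hKZ _ a.2 (hφk ▸ MonoidHom.mem_ker.2 ha), fun v => by
      obtain ⟨a, ha, hav⟩ := Subgroup.mem_map.1 (hKtop ▸ Subgroup.mem_top v : v ∈ K.map φ)
      exact ⟨⟨a, ha⟩, hav⟩⟩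
  haveI : Small.{0} Z := Countable.toSmall _
  letI : CommGroup Z := { mul_comm := fun a b => Subtype.ext (Subgroup.mem_center_iff.1 b.2 (a : G)) }
  refine ⟨F, i1, i2, Shrink.{0} Z, inferInstance, Finite.of_equiv _ (equivShrink Z), inferInstance,
    hF4, ?_, ⟨(MulEquiv.ofBijective f hf).symm.trans (e1.prodCongr Shrink.mulEquiv.symm)⟩⟩
  rw [← Nat.card_congr (equivShrink Z)]
  exact d.center_odd

theorem false_of_not_ti (hti : ¬ d.TI)
    (ih : ∀ C : Subgroup G, C ≠ ⊤ → Hab C → ∀ S : Sylow 2 C, ¬ IsCyclic (S : Subgroup C) →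
      ¬ (S : Subgroup C).Normal → Concl C) : False := by
  classical
  haveI : Fact (Nat.Prime 2) := ⟨Nat.prime_two⟩
  simp only [TI] at hti
  push Not at hti
  obtain ⟨g, hg, z, hzA, hgz, hzc⟩ := hti
  set C := Subgroup.centralizer ({z} : Set G) with hC
  have hCtop : C ≠ ⊤ := fun h => hzc (Subgroup.mem_center_iff.2 fun x =>
    Subgroup.mem_centralizer_singleton_iff.1 (show x ∈ C from h ▸ Subgroup.mem_top x))
  have hAC : d.A ≤ C := fun a ha => Subgroup.mem_centralizer_singleton_iff.2 (d.comm_A ha hzA)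
  have hACg : ∀ a ∈ d.A, g⁻¹ * a * g ∈ C := fun a ha => by
    refine Subgroup.mem_centralizer_singleton_iff.2 ?_
    calc g⁻¹ * a * g * z = g⁻¹ * (a * (g * z * g⁻¹)) * g := by group
      _ = g⁻¹ * ((g * z * g⁻¹) * a) * g := by rw [d.comm_A ha hgz]
      _ = z * (g⁻¹ * a * g) := by group
  have htC : d.t ∈ C := hAC d.t_mem
  have hginv : g⁻¹ ∉ d.M := fun h => hg (by simpa using d.M.inv_mem h)
  have hout : g⁻¹ * d.t * g ∉ d.A := fun h => hginv (d.mem_M d.t_mem d.ht (by rwa [inv_inv]))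
  let SC : Sylow 2 C := d.S.subtype (d.hS.trans hAC)
  have hSC : (SC : Subgroup C) = (d.S : Subgroup G).subgroupOf C := Sylow.coe_subtype ..
  let eSC : (SC : Subgroup C) ≃* (d.S : Subgroup G) :=
    (MulEquiv.subgroupCongr hSC).trans (Subgroup.subgroupOfEquivOfLe (d.hS.trans hAC))
  have hC_hab : Hab C := fun u hu x hx y hy => Subtype.ext (d.hab (u : G)
    (by rw [Subgroup.orderOf_coe, hu]) x
    (Subgroup.mem_centralizer_singleton_iff.2 (congrArg Subtype.val (Subgroup.mem_centralizer_singleton_iff.1 hx)))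
    y (Subgroup.mem_centralizer_singleton_iff.2 (congrArg Subtype.val (Subgroup.mem_centralizer_singleton_iff.1 hy))))
  have hnC : ¬ (SC : Subgroup C).Normal := by
    intro hn
    let v : C := ⟨g⁻¹ * d.t * g, hACg _ d.t_mem⟩
    have h2 : orderOf v = 2 := by
      rw [← Subgroup.orderOf_coe]
      show orderOf (g⁻¹ * d.t * g) = 2
      have := orderOf_conj_eq g⁻¹ d.t
      rw [inv_inv, d.ht] at this
      exact this
    have hp : IsPGroup 2 (Subgroup.zpowers v) :=
      IsPGroup.of_card (n := 1) (by rw [Nat.card_zpowers, h2, pow_one])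
    obtain ⟨R, hR⟩ := hp.exists_le_sylow
    haveI := Sylow.unique_of_normal SC hn
    have hvS := hR (Subgroup.mem_zpowers v)
    rw [Subsingleton.elim R SC, hSC, Subgroup.mem_subgroupOf] at hvS
    exact hout (d.hS hvS)
  obtain ⟨F, i1, i2, B, i3, i4, i5, hF4, hBodd, ⟨e⟩⟩ :=
    ih C hCtop hC_hab SC (fun h => d.hnc (eSC.isCyclic.1 h)) hnC
  -- squares of `A` form the second factor
  let τ : C := ⟨d.t, htC⟩
  have hτ : orderOf τ = 2 := by rw [← Subgroup.orderOf_coe]; exact d.ht
  have heτ2 : (e τ).2 = 1 := by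
    have h1 : (e τ).2 * (e τ).2 = 1 := by
      rw [← Prod.snd_mul, ← map_mul, invol_mul_self hτ, map_one, Prod.snd_one]
    by_contra h
    exact (by decide : ¬ Odd 2) (hBodd.of_dvd_nat
      (orderOf_eq_two_of_mul_self h1 h ▸ orderOf_dvd_natCard _))
  have heτ1 : orderOf (e τ).1 = 2 := by
    have h1 : orderOf (e τ) = 2 := by rw [MulEquiv.orderOf_eq, hτ]
    rwa [show e τ = ((e τ).1, 1) from Prod.ext rfl heτ2, Prod.orderOf_mk, orderOf_one,
      Nat.lcm_one_right] at h1
  obtain ⟨ds⟩ := sl_data F hF4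
  have hsq : ∀ a : C, (a : G) ∈ d.A → (e (a * a)).1 = 1 := by
    intro a ha
    have h1 : (e a).1 ∈ Subgroup.centralizer ({(e τ).1} : Set (SpecialLinearGroup (Fin 2) F)) := by
      refine Subgroup.mem_centralizer_singleton_iff.2 ?_
      rw [← Prod.fst_mul, ← Prod.fst_mul, ← map_mul, ← map_mul,
        show a * τ = τ * a from Subtype.ext (d.comm_A ha d.t_mem)]
    rw [map_mul, Prod.fst_mul, ← pow_two]
    exact (ds.cent_elementary heτ1).2 _ h1
  -- elements of the second factor are squares of elements of `A`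
  have hroot : ∀ c : C, (e c).1 = 1 → ∃ a ∈ d.A, a * a = c := by
    intro c hc
    obtain ⟨k, hk⟩ := hBodd
    refine ⟨((c ^ (k + 1) : C) : G), ?_, ?_⟩
    · refine Subgroup.mem_centralizer_singleton_iff.2 ?_
      have : c * τ = τ * c := e.injective (by
        rw [map_mul, map_mul]
        refine Prod.ext ?_ (mul_comm _ _)
        rw [Prod.fst_mul, Prod.fst_mul, hc, one_mul, mul_one])
      exact congrArg Subtype.val ((show Commute c τ from this).pow_left (k + 1)).eq
    · have h1 : c ^ (k + 1) * c ^ (k + 1) = c := e.injective (by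
        rw [map_mul, map_pow]
        refine Prod.ext (by simp [hc]) ?_
        rw [Prod.snd_mul, Prod.pow_snd, ← pow_add, show k + 1 + (k + 1) = Nat.card B + 1 by omega,
          pow_succ, pow_card_eq_one', one_mul])
      exact congrArg Subtype.val h1
  have hcentW : ∀ a ∈ d.A, ∀ c : C, (c : G) * (a * a) = a * a * c := by
    intro a ha c
    have h1 := hsq ⟨a, hAC ha⟩ ha
    have : c * (⟨a, hAC ha⟩ * ⟨a, hAC ha⟩) = ⟨a, hAC ha⟩ * ⟨a, hAC ha⟩ * c := e.injective (by
      rw [map_mul e c, map_mul e _ c]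
      refine Prod.ext ?_ (mul_comm _ _)
      rw [Prod.fst_mul, Prod.fst_mul, h1, one_mul, mul_one])
    exact congrArg Subtype.val this
  obtain ⟨b, hb, hbz⟩ : ∃ b ∈ d.A, b * b = z := by
    refine hroot ⟨z, Subgroup.mem_centralizer_singleton_iff.2 rfl⟩ ?_
    haveI := sl_simple F hF4
    have hcen : (e ⟨z, Subgroup.mem_centralizer_singleton_iff.2 rfl⟩).1 ∈
        Subgroup.center (SpecialLinearGroup (Fin 2) F) := by
      refine Subgroup.mem_center_iff.2 fun v => ?_
      have h1 : (⟨z, Subgroup.mem_centralizer_singleton_iff.2 rfl⟩ : C) * e.symm (v, 1) =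
          e.symm (v, 1) * ⟨z, Subgroup.mem_centralizer_singleton_iff.2 rfl⟩ :=
        Subtype.ext (Subgroup.mem_centralizer_singleton_iff.1 (e.symm (v, (1 : B))).2).symm
      have h2 := congrArg (fun w => (e w).1) h1
      simp only [map_mul, Prod.fst_mul, MulEquiv.apply_symm_apply] at h2
      exact h2.symm
    rwa [Cfsg.Agent.S5748.center_eq_bot, Subgroup.mem_bot] at hcen
  -- `M` normalises `C`
  have hMC : ∀ m ∈ d.M, ∀ c ∈ C, m * c * m⁻¹ ∈ C := by
    intro m hm c hc
    have ha : m⁻¹ * b * m ∈ d.A := by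
      have := d.conj_mem (d.M.inv_mem hm) hb
      rwa [inv_inv] at this
    have h1 := hcentW _ ha ⟨c, hc⟩
    refine Subgroup.mem_centralizer_singleton_iff.2 ?_
    calc m * c * m⁻¹ * z = m * (c * (m⁻¹ * b * m * (m⁻¹ * b * m))) * m⁻¹ := by rw [← hbz]; group
      _ = m * (m⁻¹ * b * m * (m⁻¹ * b * m) * c) * m⁻¹ := by rw [h1]
      _ = z * (m * c * m⁻¹) := by rw [← hbz]; group
  -- one class of involutions inside `C`
  have hconjC : ∀ u : G, orderOf u = 2 → u ∈ C → ∃ c ∈ C, c * d.t * c⁻¹ = u := by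
    intro u hu huC
    have hu' : orderOf (⟨u, huC⟩ : C) = 2 := by rw [← Subgroup.orderOf_coe]; exact hu
    let dC : Setup C :=
      { t := τ, ht := hτ, S := SC, hab := hC_hab
        tS := by rw [hSC]; exact d.tS
        hS := fun x hx => by
          rw [hSC] at hx
          exact Subgroup.mem_centralizer_singleton_iff.2
            (Subtype.ext (Subgroup.mem_centralizer_singleton_iff.1 (d.hS hx)))
        hnc := fun h => d.hnc (eSC.isCyclic.1 h)
        hnn := hnC }
    obtain ⟨c, hc⟩ := isConj_iff.1 (dC.isConj_t hu')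
    exact ⟨c, c.2, congrArg Subtype.val hc⟩
  have hMle : d.M ≤ C := by
    intro m hm
    obtain ⟨c, hc, hcm⟩ := hconjC (m * d.t * m⁻¹) (by rw [orderOf_conj_eq, d.ht]) (hMC m hm _ htC)
    have : c⁻¹ * m ∈ d.A := by
      refine Subgroup.mem_centralizer_singleton_iff.2 ?_
      calc c⁻¹ * m * d.t = c⁻¹ * (m * d.t * m⁻¹) * m := by group
        _ = c⁻¹ * (c * d.t * c⁻¹) * m := by rw [hcm]
        _ = d.t * (c⁻¹ * m) := by group
    simpa using C.mul_mem hc (hAC this)
  have hfus : ∀ x u : G, orderOf u = 2 → u ∈ C → x * u * x⁻¹ ∈ C → x ∈ C := by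
    intro x u hu huC hxu
    obtain ⟨c, hc, rfl⟩ := hconjC u hu huC
    obtain ⟨c', hc', hcc⟩ := hconjC _ (by rw [orderOf_conj_eq]; exact hu) hxu
    have : c'⁻¹ * x * c ∈ d.A := by
      refine Subgroup.mem_centralizer_singleton_iff.2 ?_
      calc c'⁻¹ * x * c * d.t = c'⁻¹ * (x * (c * d.t * c⁻¹) * x⁻¹) * x * c := by group
        _ = c'⁻¹ * (c' * d.t * c'⁻¹) * x * c := by rw [hcc]
        _ = d.t * (c'⁻¹ * x * c) := by group
    have := C.mul_mem (C.mul_mem hc' (hAC this)) (C.inv_mem hc)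
    rwa [show c' * (c'⁻¹ * x * c) * c⁻¹ = x by group] at this
  have hse : Cfsg.IsStronglyEmbedded C := by
    refine (Cfsg.Agent.S0223.result C hCtop
      (even_iff_two_dvd.2 (d.ht ▸ Subgroup.orderOf_dvd_natCard _ htC))).2 ⟨fun u huC hu x hx => ?_,
        fun u huC s hsC hu hs h => ?_⟩
    · refine hfus x u hu huC ?_
      rw [Subgroup.mem_centralizer_singleton_iff.1 hx, mul_inv_cancel_right]
      exact huC
    · obtain ⟨x, hx⟩ := isConj_iff.1 h
      exact ⟨x, hfus x u hu huC (hx ▸ hsC), hx⟩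
  obtain ⟨x, hx⟩ : ∃ x, x ∉ C := by
    by_contra h
    exact hCtop (Subgroup.eq_top_iff' _ |>.2 (by simpa using h))
  set u := x * d.t * x⁻¹ with hu_def
  have hu : orderOf u = 2 := by rw [hu_def, orderOf_conj_eq, d.ht]
  have huC : u ∉ C := fun h => hx (hfus x d.t d.ht htC h)
  set D := C ⊓ C.map (MulAut.conj u).toMonoidHom with hD
  have hDodd : Odd (Nat.card D) := hse.2.2 u huC
  let pr : D →* SpecialLinearGroup (Fin 2) F :=
    (MonoidHom.fst _ _).comp (e.toMonoidHom.comp (Subgroup.inclusion (inf_le_left : D ≤ C)))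
  have hprodd : Odd (Nat.card pr.range) :=
    hDodd.of_dvd_nat (Subgroup.card_range_dvd pr)
  refine ds.odd_sub_not_transitive pr.range hprodd fun v hv => ?_
  have hlift : ∀ w : SpecialLinearGroup (Fin 2) F, orderOf w = 2 →
      orderOf (((e.symm (w, 1)) : C) : G) = 2 := fun w hw => by
    rw [Subgroup.orderOf_coe, MulEquiv.orderOf_eq, Prod.orderOf_mk, orderOf_one, Nat.lcm_one_right,
      hw]
  obtain ⟨⟨δ, hδ, hδeq⟩, -⟩ := Cfsg.Agent.S1225.result C hse u hu huC _ _ (hlift _ ds.ht)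
    (e.symm (ds.t, 1)).2 (hlift _ hv) (e.symm (v, 1)).2
  refine ⟨pr ⟨δ, hδ⟩, ⟨⟨δ, hδ⟩, rfl⟩, ?_⟩
  have h1 : (⟨δ, hδ.1⟩ : C) * e.symm (ds.t, 1) * (⟨δ, hδ.1⟩ : C)⁻¹ = e.symm (v, 1) :=
    Subtype.ext hδeq
  have h2 := congrArg (fun w => (e w).1) h1
  simp only [map_mul, map_inv, Prod.fst_mul, Prod.fst_inv, MulEquiv.apply_symm_apply] at h2
  exact h2

end Setup

theorem main : ∀ (n : ℕ) (G : Type u) [Group G] [Finite G], Nat.card G = n → Hab G →
    ∀ S : Sylow 2 G, ¬ IsCyclic (S : Subgroup G) → ¬ (S : Subgroup G).Normal → Concl G := by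
  intro n
  induction n using Nat.strong_induction_on with
  | _ n ih =>
  intro G _ _ hn hab S hnc hnn
  have hne : (S : Subgroup G) ≠ ⊥ := fun h => hnn (h ▸ inferInstance)
  obtain ⟨t, htS, ht, hS⟩ := exists_central S hne
  let d : Setup G := ⟨t, ht, S, hab, htS, hS, hnc, hnn⟩
  by_cases hti : d.TI
  · exact d.concl_of_ti hti
  · refine (d.false_of_not_ti hti fun C hC hCab S' h1 h2 => ?_).elim
    refine ih _ ?_ C rfl hCab S' h1 h2
    rw [← hn]
    exact lt_of_le_of_ne (Subgroup.card_le_card_group C)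
      fun e => hC (Subgroup.eq_top_of_card_eq C e)

end Cfsg.Agent.Lib.CATI
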