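import Cfsg.Agent.Lib.OddLocal.PuigIn
import Cfsg.Agent.S1465
import Cfsg.Agent.Lib.PGroups.Subnormal

/-! Puig's theorem for solvable groups of odd order. -/

set_option autoImplicit false

namespace Cfsg.Agent.Lib.OddLocal

open Subgroup

universe u

variable {G : Type u} [Group G] [Finite G] [Group.IsSolvable G]

theorem puig_chain (hodd : Odd (Nat.card G)) (p : ℕ) [Fact p.Prime] (hp : p ≠ 2)
    (hO : Cfsg.pPrimeCore p G = ⊥) (S : Sylow p G) (n : ℕ) :
    puigSeqIn (S : Subgroup G) (2 * n) ≤ puigSeqIn (Cfsg.pCore p G) (2 * n) ∧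
      puigSeqIn (Cfsg.pCore p G) (2 * n + 1) ≤ puigSeqIn (S : Subgroup G) (2 * n + 1) := by
  have hTS : Cfsg.pCore p G ≤ (S : Subgroup G) := Cfsg.Agent.Lib.Cores.pCore_le_sylow S
  have hT := Cfsg.Agent.Lib.Cores.pCore_isPGroup p G
  have hodd' : ∀ n, puigSeqIn (S : Subgroup G) (2 * n) ≤ puigSeqIn (Cfsg.pCore p G) (2 * n) →
      puigSeqIn (Cfsg.pCore p G) (2 * n + 1) ≤ puigSeqIn (S : Subgroup G) (2 * n + 1) := by
    intro n h; rw [puigSeqIn_succ, puigSeqIn_succ]; exact puigStepIn_mono hTS h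
  induction n with
  | zero =>
    have h0 : puigSeqIn (S : Subgroup G) (2 * 0) ≤ puigSeqIn (Cfsg.pCore p G) (2 * 0) := by
      simp [puigSeqIn_zero]
    exact ⟨h0, hodd' 0 h0⟩
  | succ n ih =>
    suffices h : puigSeqIn (S : Subgroup G) (2 * n + 1 + 1) ≤ puigSeqIn (Cfsg.pCore p G) (2 * n + 1 + 1) from
      ⟨h, hodd' (n + 1) h⟩
    rw [puigSeqIn_succ (S : Subgroup G) (2 * n + 1), puigSeqIn_succ (Cfsg.pCore p G) (2 * n + 1)]
    haveI hPn : (puigSeqIn (Cfsg.pCore p G) (2 * n + 1)).Normal := by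
      rw [← normalizer_eq_top_iff, ← top_le_iff]
      refine le_trans ?_ (normalizer_le_normalizer_puigSeqIn _ _)
      rw [normalizer_eq_top]
    refine sSup_le fun A ⟨hAS, hAc, hAn⟩ => ?_
    have hPA := ih.2.trans hAn
    have := (Cfsg.Agent.S1465.result hodd p hp (puigSeqIn (Cfsg.pCore p G) (2 * n + 1))
      (hT.to_le (puigSeqIn_le _ _)) {A} (fun B hB => by
        rw [Set.mem_singleton_iff.mp hB]; exact ⟨hAc, S.2.to_le hAS, hPA⟩)).2 hO
      (centralizer_puigSeqIn_le hT _)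
    rw [sSup_singleton] at this
    exact le_puigStepIn this hAc hPA

theorem puig_lower_le (hodd : Odd (Nat.card G)) (p : ℕ) [Fact p.Prime] (hp : p ≠ 2)
    (hO : Cfsg.pPrimeCore p G = ⊥) (S : Sylow p G) :
    puigLowerIn (S : Subgroup G) ≤ puigLowerIn (Cfsg.pCore p G) ∧
      puigSubgroupIn (Cfsg.pCore p G) ≤ puigSubgroupIn (S : Subgroup G) := by
  obtain ⟨k, hk⟩ := puigIn_stabilizes (S : Subgroup G)
  obtain ⟨l, hl⟩ := puigIn_stabilizes (Cfsg.pCore p G)
  rw [← (hk (max k l) (le_max_left _ _)).1, ← (hk (max k l) (le_max_left _ _)).2,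
    ← (hl (max k l) (le_max_right _ _)).1, ← (hl (max k l) (le_max_right _ _)).2]
  exact puig_chain hodd p hp hO S _

/-- `Z(L(S))` inside `G`. -/
def puigCenterIn (S : Subgroup G) : Subgroup G :=
  puigSubgroupIn S ⊓ centralizer (puigSubgroupIn S : Set G)

omit [Group.IsSolvable G] in
theorem map_puigCenterIn {G' : Type u} [Group G'] [Finite G'] (f : G →* G') (S : Subgroup G)
    (hf : Function.Injective (f.comp S.subtype)) :
    (puigCenterIn S).map f = puigCenterIn (S.map f) := by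
  unfold puigCenterIn
  rw [← (map_puigSubgroupIn f S hf).1]
  have hL : puigSubgroupIn S ≤ S := map_subtype_le _
  refine le_antisymm ?_ ?_
  · rintro _ ⟨x, hx, rfl⟩
    refine ⟨mem_map_of_mem f hx.1, mem_centralizer_iff.mpr ?_⟩
    rintro _ ⟨y, hy, rfl⟩
    rw [← map_mul, ← map_mul, mem_centralizer_iff.mp hx.2 y hy]
  · rintro _ ⟨⟨x, hx, rfl⟩, hxc⟩
    refine ⟨x, ⟨hx, mem_centralizer_iff.mpr ?_⟩, rfl⟩
    intro y hy
    exact congrArg Subtype.val (hf (a₁ := ⟨y, hL hy⟩ * ⟨x, hL hx⟩) (a₂ := ⟨x, hL hx⟩ * ⟨y, hL hy⟩)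
      (by simpa using mem_centralizer_iff.mp hxc (f y) (mem_map_of_mem f hy)))

omit [Group.IsSolvable G] in
theorem normalizer_le_normalizer_puigCenterIn (S : Subgroup G) :
    normalizer (S : Set G) ≤ normalizer (puigCenterIn S : Set G) := fun g hg =>
  mem_normalizer_iff_map_conj_eq.mpr ((map_puigCenterIn (MulAut.conj g : G →* G) S
    ((MulAut.conj g).injective.comp S.subtype_injective)).trans
    (congrArg puigCenterIn (mem_normalizer_iff_map_conj_eq.mp hg)))

/-- Puig's theorem, the case `O_{p'}(G) = 1`. -/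
theorem puigCenterIn_normal (hodd : Odd (Nat.card G)) (p : ℕ) [Fact p.Prime] (hp : p ≠ 2)
    (hO : Cfsg.pPrimeCore p G = ⊥) (S : Sylow p G) :
    (puigCenterIn (S : Subgroup G)).Normal := by
  obtain ⟨hlow, hup⟩ := puig_lower_le hodd p hp hO S
  have hT := Cfsg.Agent.Lib.Cores.pCore_isPGroup p G
  have hTS : Cfsg.pCore p G ≤ (S : Subgroup G) := Cfsg.Agent.Lib.Cores.pCore_le_sylow S
  set L := puigSubgroupIn (S : Subgroup G) with hL
  set Ls := puigLowerIn (S : Subgroup G) with hLs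
  set Lt := puigLowerIn (Cfsg.pCore p G) with hLt
  set Z := puigCenterIn (S : Subgroup G) with hZ
  set Zt := Lt ⊓ centralizer (Lt : Set G) with hZt
  have hLtn : Lt.Normal := by
    obtain ⟨k, hk⟩ := puigIn_stabilizes (Cfsg.pCore p G)
    rw [hLt, ← (hk k le_rfl).1, ← normalizer_eq_top_iff, ← top_le_iff]
    refine le_trans ?_ (normalizer_le_normalizer_puigSeqIn _ _)
    rw [normalizer_eq_top]
  haveI := hLtn
  haveI hZtn : Zt.Normal := by rw [hZt]; exact Subgroup.normal_inf_normal _ _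
  have hLtL : Lt ≤ L := (puigLowerIn_le_puigSubgroupIn _).trans hup
  have hLtT : Lt ≤ Cfsg.pCore p G := map_subtype_le _
  have hZtLs : Zt ≤ Ls := fun z hz => centralizer_puigLowerIn_le S.2
    ⟨hTS (hLtT hz.1), centralizer_le hlow hz.2⟩
  have hZLs : Z ≤ Ls := fun z hz => centralizer_puigLowerIn_le S.2
    ⟨map_subtype_le _ hz.1, centralizer_le (puigLowerIn_le_puigSubgroupIn _) hz.2⟩
  have hZZt : Z ≤ Zt := le_inf (hZLs.trans hlow) (inf_le_right.trans (centralizer_le hLtL))
  set C := centralizer (Zt : Set G)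
  set D := (Cfsg.pCore p (G ⧸ C)).comap (QuotientGroup.mk' C) with hD
  set SD := (S : Subgroup G) ⊓ D with hSD
  have hAD : ∀ A : Subgroup G, A ≤ (S : Subgroup G) → IsMulCommutative A →
      Zt ≤ normalizer (A : Set G) → A ≤ D := by
    intro A hAS hAc hAn
    have h := (Cfsg.Agent.S1465.result hodd p hp Zt (hT.to_le (inf_le_left.trans hLtT)) {A} (fun B hB => by
      rw [Set.mem_singleton_iff.mp hB]; exact ⟨hAc, S.2.to_le hAS, hAn⟩)).1
    rw [sSup_singleton] at h
    exact map_le_iff_le_comap.mp h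
  have hstep : ∀ X, Zt ≤ X → puigStepIn (S : Subgroup G) X = puigStepIn SD X := by
    intro X hX
    exact le_antisymm (sSup_le fun A ⟨hAS, hAc, hAn⟩ =>
      le_puigStepIn (le_inf hAS (hAD A hAS hAc (hX.trans hAn))) hAc hAn)
      (puigStepIn_mono inf_le_left le_rfl)
  have hZtL : Zt ≤ L := hZtLs.trans (puigLowerIn_le_puigSubgroupIn _)
  have hLSD : L = puigStepIn SD Ls := by rw [← hstep Ls hZtLs]; exact puigSubgroupIn_eq_step _
  have hLsSD : Ls = puigStepIn SD L := by rw [← hstep L hZtL]; exact puigLowerIn_eq_step _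
  have hA : ∀ n, puigSeqIn SD (2 * n) ≤ Ls ∧ L ≤ puigSeqIn SD (2 * n + 1) := by
    intro n
    have hstep' : ∀ n, puigSeqIn SD (2 * n) ≤ Ls → L ≤ puigSeqIn SD (2 * n + 1) := fun n h => by
      rw [puigSeqIn_succ, hLSD]; exact puigStepIn_mono le_rfl h
    induction n with
    | zero => exact ⟨by simp [puigSeqIn_zero], hstep' 0 (by simp [puigSeqIn_zero])⟩
    | succ n ih =>
      suffices h : puigSeqIn SD (2 * n + 1 + 1) ≤ Ls from ⟨h, hstep' (n + 1) h⟩
      rw [puigSeqIn_succ SD (2 * n + 1), hLsSD]; exact puigStepIn_mono le_rfl ih.2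
  have hB : ∀ n, puigSeqIn (S : Subgroup G) (2 * n) ≤ puigSeqIn SD (2 * n) ∧
      puigSeqIn SD (2 * n + 1) ≤ puigSeqIn (S : Subgroup G) (2 * n + 1) := by
    intro n
    have hstep' : ∀ n, puigSeqIn (S : Subgroup G) (2 * n) ≤ puigSeqIn SD (2 * n) →
        puigSeqIn SD (2 * n + 1) ≤ puigSeqIn (S : Subgroup G) (2 * n + 1) := fun n h => by
      rw [puigSeqIn_succ, puigSeqIn_succ]; exact puigStepIn_mono inf_le_left h
    induction n with
    | zero => exact ⟨by simp [puigSeqIn_zero], hstep' 0 (by simp [puigSeqIn_zero])⟩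
    | succ n ih =>
      suffices h : puigSeqIn (S : Subgroup G) (2 * n + 1 + 1) ≤ puigSeqIn SD (2 * n + 1 + 1) from
        ⟨h, hstep' (n + 1) h⟩
      rw [puigSeqIn_succ (S : Subgroup G) (2 * n + 1), puigSeqIn_succ SD (2 * n + 1),
        hstep _ (hZtL.trans (puigSubgroupIn_le_odd _ n))]
      exact puigStepIn_mono le_rfl ih.2
  have hLeq : puigSubgroupIn SD = L := by
    obtain ⟨k, hk⟩ := puigIn_stabilizes SD
    obtain ⟨l, hl⟩ := puigIn_stabilizes (S : Subgroup G)
    refine le_antisymm ?_ ?_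
    · rw [hL, ← (hl (max k l) (le_max_right _ _)).2, ← (hk (max k l) (le_max_left _ _)).2]
      exact (hB _).2
    · rw [← (hk k le_rfl).2]; exact (hA k).2
  have hNSD : normalizer (SD : Set G) ≤ normalizer (Z : Set G) := by
    have := normalizer_le_normalizer_puigCenterIn SD
    rwa [show puigCenterIn SD = Z by rw [hZ]; unfold puigCenterIn; rw [hLeq]] at this
  have hC : C ≤ normalizer (Z : Set G) :=
    (centralizer_le hZZt).trans (centralizer_le_normalizer _)
  have hDle : D ≤ C ⊔ SD := by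
    intro x hx
    obtain ⟨s, hs, hsx⟩ := Cfsg.Agent.Lib.Cores.pCore_le_sylow
      (S.mapSurjective (QuotientGroup.mk'_surjective C)) (mem_comap.mp hx)
    have hsD : s ∈ D := by rw [hD, mem_comap, hsx]; exact hx
    have hc : x * s⁻¹ ∈ C := by
      rw [← QuotientGroup.eq_one_iff, ← QuotientGroup.mk'_apply, map_mul, map_inv, hsx, mul_inv_cancel]
    simpa using mul_mem (mem_sup_left hc : x * s⁻¹ ∈ C ⊔ SD) (mem_sup_right ⟨hs, hsD⟩)
  have hDN : D ≤ normalizer (Z : Set G) := hDle.trans (sup_le hC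
    (inf_le_left.trans (le_normalizer.trans (normalizer_le_normalizer_puigCenterIn _))))
  have hDn : D.Normal := inferInstance
  have hfr : normalizer (SD : Set G) ⊔ D = ⊤ := by
    have hp' : ¬ p ∣ (((S : Subgroup G) ⊓ D).subgroupOf D).index := by
      intro hd
      refine S.not_dvd_index (hd.trans ?_)
      rw [show (((S : Subgroup G) ⊓ D).subgroupOf D).index = ((S : Subgroup G) ⊓ D).relIndex D from rfl,
        inf_relIndex_right]
      exact Cfsg.Agent.Lib.PGroups.relIndex_dvd_index_of_normal_right D _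
    let P : Sylow p D := (S.2.to_le inf_le_left |>.comap_of_injective D.subtype D.subtype_injective).toSylow hp'
    have := Sylow.normalizer_sup_eq_top P
    rwa [show (P : Subgroup D).map D.subtype = SD from
      map_subgroupOf_eq_of_le (inf_le_right : (S : Subgroup G) ⊓ D ≤ D)] at this
  rw [← normalizer_eq_top_iff, ← top_le_iff, ← hfr]
  exact sup_le hNSD hDN

end Cfsg.Agent.Lib.OddLocal
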