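import Cfsg.Prelude.Def_OddOrderLocal
import Cfsg.Agent.Lib.Cores

/-! The largest normal nilpotent Hall subgroup. -/

set_option autoImplicit false

namespace Cfsg.Agent.Lib.OddLocal

universe u

variable {G : Type u} [Group G] [Finite G]

theorem fittingHall_spec : Group.IsNilpotent (Cfsg.fittingHall G) ∧
    (Nat.card (Cfsg.fittingHall G)).Coprime (Cfsg.fittingHall G).index :=
  ((Cfsg.Agent.Lib.Cores.sSup_mem_of_sup_closed (α := Subgroup G) (Set.toFinite
    {N : Subgroup G | N.Normal ∧ Group.IsNilpotent N ∧ (Nat.card N).Coprime N.index})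
    ⟨inferInstance, inferInstance, by simp⟩
    fun A hA B hB => by
      have := hA.1; have := hB.1
      refine ⟨Subgroup.sup_normal A B, Cfsg.Agent.Lib.Cores.normal_sup_isNilpotent hA.2.1 hB.2.1,
        Nat.coprime_of_dvd fun q hq h1 h2 => ?_⟩
      rcases Cfsg.Agent.Lib.Cores.prime_dvd_card_sup hq h1 with h | h
      · exact hq.not_dvd_one (hA.2.2 ▸ Nat.dvd_gcd h (h2.trans (Subgroup.index_dvd_of_le le_sup_left)))
      · exact hq.not_dvd_one (hB.2.2 ▸ Nat.dvd_gcd h (h2.trans (Subgroup.index_dvd_of_le le_sup_right)))) :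
    Cfsg.fittingHall G ∈ {N : Subgroup G | N.Normal ∧ Group.IsNilpotent N ∧ (Nat.card N).Coprime N.index}).2

omit [Finite G] in
theorem le_fittingHall {N : Subgroup G} (h1 : N.Normal) (h2 : Group.IsNilpotent N)
    (h3 : (Nat.card N).Coprime N.index) : N ≤ Cfsg.fittingHall G :=
  le_sSup ⟨h1, h2, h3⟩

omit [Finite G] in
theorem card_dvd_index_of_inf_eq_bot {N K : Subgroup G} [N.Normal] (h : K ⊓ N = ⊥) :
    Nat.card K ∣ N.index := by
  have := Cfsg.Agent.Lib.Cores.card_map_mul_card_inf_ker (QuotientGroup.mk' N) K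
  rw [QuotientGroup.ker_mk', h, Subgroup.card_bot, mul_one] at this
  rw [← this]
  exact Subgroup.card_subgroup_dvd_card _

/-- `|U|` is coprime to `|M_F|` for a subgroup `U` of `M` meeting `M_F` trivially. -/
theorem coprime_card_fittingHallOf {M U : Subgroup G} (hU : U ≤ M)
    (h : Cfsg.fittingHallOf M ⊓ U = ⊥) :
    (Nat.card U).Coprime (Nat.card (Cfsg.fittingHallOf M)) := by
  have h1 : U.subgroupOf M ⊓ Cfsg.fittingHall M = ⊥ := by
    refine (Subgroup.eq_bot_iff_forall _).mpr fun x hx => Subtype.ext ?_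
    have : (x : G) ∈ Cfsg.fittingHallOf M ⊓ U := ⟨Subgroup.mem_map_of_mem M.subtype hx.2, hx.1⟩
    rwa [h, Subgroup.mem_bot] at this
  have h2 := card_dvd_index_of_inf_eq_bot h1
  rw [Nat.card_congr (Subgroup.subgroupOfEquivOfLe hU).toEquiv] at h2
  have h3 := (fittingHall_spec (G := M)).2
  rw [Nat.card_congr ((Cfsg.fittingHall M).equivMapOfInjective M.subtype M.subtype_injective).toEquiv] at h3
  exact (h3.coprime_dvd_right h2).symm

theorem fittingOf_isNilpotent (M : Subgroup G) : Group.IsNilpotent (Cfsg.fittingOf M) := by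
  haveI := Cfsg.Agent.Lib.Cores.fittingSubgroup_isNilpotent M
  exact Cfsg.Agent.Lib.Cores.isNilpotent_map _ _

end Cfsg.Agent.Lib.OddLocal
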