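import Cfsg.Agent.Lib.Frobenius.Structure
import Cfsg.Agent.Lib.Frobenius.UniqueSubgroup
import Cfsg.Agent.Lib.OddLocal.CNGroup
import Cfsg.Agent.Lib.OddLocal.FittingHall

/-! Fixed-point-free groups with nilpotent centralisers are nilpotent. -/

set_option autoImplicit false

namespace Cfsg.Agent.Lib.OddLocal

universe u

variable {A : Type u} [Group A] [Finite A] {V : Type u} [CommGroup V] [Finite V] [Nontrivial V]
  (φ : A →* MulAut V) (hfpf : ∀ a : A, a ≠ 1 → ∀ v : V, φ a v = v → v = 1)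

include hfpf

theorem coprime_card_of_fixedPointFree : (Nat.card A).Coprime (Nat.card V) :=
  Cfsg.Agent.Lib.Frobenius.card_coprime φ hfpf

/-- A group of prime order normalised by an element of another prime order is centralised by it. -/
theorem commute_of_prime_normal {r q : ℕ} [Fact r.Prime] [Fact q.Prime] (hrq : r ≠ q)
    (R : Subgroup A) (hR : Nat.card R = r) (x : A) (hx : orderOf x = q)
    (hxR : x ∈ Subgroup.normalizer (R : Set A)) : ∀ y ∈ R, x * y = y * x := by
  by_contra! hne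
  obtain ⟨y₁, hy₁, hne⟩ := hne
  have hXR : Subgroup.zpowers x ≤ Subgroup.normalizer (R : Set A) := Subgroup.zpowers_le.mpr hxR
  set S := R ⊔ Subgroup.zpowers x with hS
  have hcopRX : (Nat.card R).Coprime (Nat.card (Subgroup.zpowers x)) := by
    rw [hR, Nat.card_zpowers, hx]
    exact (Nat.coprime_primes Fact.out Fact.out).mpr hrq
  have hcR : ∀ n : ℕ, ∀ y ∈ R, x ^ n * y * (x ^ n)⁻¹ = y → x ^ n = 1 ∨ y = 1 := by
    intro n y hy hc
    by_cases hn : x ^ n = 1
    · exact Or.inl hn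
    by_cases hy1 : y = 1
    · exact Or.inr hy1
    exfalso
    have hcop : (orderOf x).Coprime n := by
      rw [hx]
      exact (Fact.out : q.Prime).coprime_iff_not_dvd.mpr fun ⟨m, hm⟩ => hn (by
        rw [hm, pow_mul, ← hx, pow_orderOf_eq_one, one_pow])
    have hxy : y * x = x * y := by
      have h1 : y ∈ Subgroup.centralizer ({x ^ n} : Set A) :=
        Subgroup.mem_centralizer_singleton_iff.mpr (mul_inv_eq_iff_eq_mul.mp hc).symm
      rw [centralizer_pow_eq hcop] at h1
      exact Subgroup.mem_centralizer_singleton_iff.mp h1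
    have hle : R ≤ Subgroup.zpowers y := by
      refine le_of_eq (Subgroup.eq_of_le_of_card_ge (Subgroup.zpowers_le.mpr hy) ?_).symm
      have hyr : y ^ r = 1 := by
        have h := congrArg Subtype.val (pow_card_eq_one' (x := (⟨y, hy⟩ : R)))
        rw [hR] at h
        exact h
      rw [hR, Nat.card_zpowers, orderOf_eq_prime hyr hy1]
    obtain ⟨i, hi⟩ := Subgroup.mem_zpowers_iff.mp (hle hy₁)
    apply hne
    rw [← hi]
    exact (Commute.zpow_right hxy.symm i).eq
  have hdisj : R.subgroupOf S ⊓ (Subgroup.zpowers x).subgroupOf S = ⊥ := by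
    rw [Subgroup.eq_bot_iff_forall]
    rintro ⟨y, hyS⟩ ⟨hyR, hyX⟩
    exact Subtype.ext (Cfsg.Agent.Lib.Coprime.eq_one_of_mem_of_mem hcopRX hyR hyX)
  have hcover : ∀ a : S, a ∉ R.subgroupOf S →
      ∃! f : R.subgroupOf S, (f : S)⁻¹ * a * f ∈ (Subgroup.zpowers x).subgroupOf S := by
    rintro ⟨a, haS⟩ ha
    obtain ⟨y, hy, z, hz, rfl⟩ := Cfsg.Agent.Lib.Coprime.exists_mul_of_mem_sup hXR haS
    obtain ⟨n, rfl⟩ := (Submonoid.mem_powers_iff _ _).mp
      (mem_powers_iff_mem_zpowers.mpr hz)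
    have hn1 : x ^ n ≠ 1 := fun e => ha (by
      show y * x ^ n ∈ R
      rw [e, mul_one]; exact hy)
    have hconj : ∀ f ∈ R, x ^ n * f * (x ^ n)⁻¹ ∈ R := fun f hf =>
      (Subgroup.mem_normalizer_iff.mp (pow_mem hxR n) f).mp hf
    let ψ : R → R := fun f => f * ⟨x ^ n * (f : A)⁻¹ * (x ^ n)⁻¹, hconj _ (inv_mem f.2)⟩
    have hψ : Function.Injective ψ := by
      intro f g e
      have e' : (f : A) * (x ^ n * (f : A)⁻¹ * (x ^ n)⁻¹) = g * (x ^ n * (g : A)⁻¹ * (x ^ n)⁻¹) :=
        congrArg Subtype.val e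
      have e2 : x ^ n * ((g : A)⁻¹ * f) * (x ^ n)⁻¹ = (g : A)⁻¹ * f := by
        have := congrArg (fun t => (g : A)⁻¹ * t * (x ^ n * f * (x ^ n)⁻¹)) e'
        simp only [mul_assoc, inv_mul_cancel_left, mul_inv_cancel, mul_one] at this ⊢
        exact this.symm
      rcases hcR n _ (mul_mem (inv_mem g.2) f.2) e2 with h1 | h1
      · exact absurd h1 hn1
      · exact Subtype.ext (inv_mul_eq_one.mp h1).symm
    obtain ⟨f, hf⟩ := Finite.injective_iff_surjective.mp hψ ⟨y, hy⟩
    have hf' : (f : A) * (x ^ n * (f : A)⁻¹ * (x ^ n)⁻¹) = y := congrArg Subtype.val hf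
    refine ⟨⟨⟨f, Subgroup.mem_sup_left f.2⟩, f.2⟩, ?_, ?_⟩
    · show (f : A)⁻¹ * (y * x ^ n) * f ∈ Subgroup.zpowers x
      rw [← hf']
      simp only [mul_assoc, inv_mul_cancel_left, inv_mul_cancel, mul_one]
      exact pow_mem (Subgroup.mem_zpowers x) n
    · rintro ⟨⟨g, hgS⟩, hg : g ∈ R⟩ (hgx : g⁻¹ * (y * x ^ n) * g ∈ Subgroup.zpowers x)
      have hmem : g⁻¹ * (y * x ^ n) * g * (x ^ n)⁻¹ ∈ R := by
        rw [show g⁻¹ * (y * x ^ n) * g * (x ^ n)⁻¹ = g⁻¹ * y * (x ^ n * g * (x ^ n)⁻¹) by group]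
        exact mul_mem (mul_mem (inv_mem hg) hy) (hconj g hg)
      have hbot := Cfsg.Agent.Lib.Coprime.eq_one_of_mem_of_mem hcopRX
        hmem (mul_mem hgx (inv_mem (pow_mem (Subgroup.mem_zpowers x) n)))
      have e3 : ψ ⟨g, hg⟩ = ψ f := by
        rw [hf]
        apply Subtype.ext
        show g * (x ^ n * g⁻¹ * (x ^ n)⁻¹) = y
        have := congrArg (fun t => g * t * (x ^ n * g⁻¹ * (x ^ n)⁻¹)) hbot
        simp only [mul_assoc, mul_inv_cancel_left, inv_mul_cancel_left, mul_inv_cancel,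
          one_mul, mul_one] at this ⊢
        exact this.symm
      have := congrArg Subtype.val (hψ e3)
      exact Subtype.ext (Subtype.ext this)
  obtain ⟨v, hv⟩ := exists_ne (1 : V)
  obtain ⟨y0, hy0, hy1⟩ : ∃ y ∈ R, y ≠ 1 := ⟨y₁, hy₁, fun h => hne (by rw [h, mul_one, one_mul])⟩
  have hx1 : x ≠ 1 := fun h => hne (by rw [h, mul_one, one_mul])
  refine hv (Cfsg.Agent.Lib.Frobenius.eq_one_of_frobenius_partition (φ.comp S.subtype)
    (R.subgroupOf S) ((Subgroup.zpowers x).subgroupOf S) ?_ hcover hdisj ?_ ?_ v)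
  · rw [Nat.card_congr (Subgroup.subgroupOfEquivOfLe (show R ≤ S from le_sup_left)).toEquiv]
    exact (coprime_card_of_fixedPointFree φ hfpf).coprime_dvd_left (Subgroup.card_subgroup_dvd_card R)
  · intro w hw
    exact hfpf y0 hy1 w (hw ⟨y0, Subgroup.mem_sup_left hy0⟩ hy0)
  · intro w hw
    exact hfpf x hx1 w (hw ⟨x, Subgroup.mem_sup_right (Subgroup.mem_zpowers x)⟩
      (Subgroup.mem_zpowers x))

theorem isNilpotent_of_fixedPointFree_CN (hCN : Cfsg.IsCNGroup A) : Group.IsNilpotent A := by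
  classical
  rcases subsingleton_or_nontrivial A with hs | hn
  · infer_instance
  suffices h : ∃ z : A, z ≠ 1 ∧ ∀ a : A, a * z = z * a by
    obtain ⟨z, hz, hc⟩ := h
    have : Group.IsNilpotent (Subgroup.centralizer ({z} : Set A)) := hCN z hz
    have e : Subgroup.centralizer ({z} : Set A) = ⊤ :=
      top_le_iff.mp fun a _ => Subgroup.mem_centralizer_singleton_iff.mpr (hc a)
    exact Group.nilpotent_of_mulEquiv ((MulEquiv.subgroupCongr e).trans Subgroup.topEquiv)
  by_cases h2 : 2 ∣ Nat.card A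
  · obtain ⟨i, hi⟩ := exists_prime_orderOf_dvd_card' 2 h2
    refine ⟨i, fun e => by simp [e] at hi, fun a => ?_⟩
    have := Cfsg.Agent.Lib.Frobenius.eq_of_orderOf_eq_two φ hfpf
      (s := a * i * a⁻¹) (t := i) (by
        rw [← hi, ← MulAut.conj_apply, ← MulEquiv.coe_toMonoidHom]
        exact orderOf_injective _ (MulAut.conj a).injective i) hi
    exact mul_inv_eq_iff_eq_mul.mp this
  have hcyc : ∀ (s : ℕ) [Fact s.Prime] (S : Sylow s A), IsCyclic (S : Subgroup A) := by
    intro s _ S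
    rcases Cfsg.Agent.Lib.Frobenius.isCyclic_or_quaternion_of_fixedPointFree φ hfpf
      (S : Subgroup A) S.isPGroup' with h | ⟨rfl, m, ⟨e⟩⟩
    · exact h
    · exfalso
      apply h2
      have h4 : 2 ∣ Nat.card (S : Subgroup A) := by
        rw [Nat.card_congr e.toEquiv, Nat.card_eq_fintype_card, QuaternionGroup.card]
        exact ⟨2 * 2 ^ (m + 1), by ring⟩
      exact h4.trans (Subgroup.card_subgroup_dvd_card _)
  have : IsZGroup A := ⟨fun s hs S => @hcyc s ⟨hs⟩ S⟩
  obtain ⟨r, R, hr, hRn, hR, hRc, hRp, hRr⟩ :=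
    Cfsg.Agent.Lib.Coprime.exists_normal_isPGroup_isMulCommutative A
  have := Fact.mk hr
  have hRcyc : IsCyclic R := Cfsg.Agent.Lib.Frobenius.isCyclic_of_commutative φ hfpf R
    fun a ha b hb => congrArg Subtype.val (hRc.is_comm.comm ⟨a, ha⟩ ⟨b, hb⟩)
  obtain ⟨g, hg⟩ := hRcyc.exists_generator
  have hg1 : (g : A) ≠ 1 := fun e => hR ((Subgroup.eq_bot_iff_forall _).mpr fun x hx => by
    obtain ⟨i, hi⟩ := Subgroup.mem_zpowers_iff.mp (hg ⟨x, hx⟩)
    have h1 := congrArg Subtype.val hi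
    simp only [SubgroupClass.coe_zpow, e, one_zpow] at h1
    exact h1.symm)
  have hcard : Nat.card R = r := by
    rw [← orderOf_eq_card_of_forall_mem_zpowers hg, ← Subgroup.orderOf_coe]
    exact orderOf_eq_prime (hRr g g.2) hg1
  refine ⟨g, hg1, fun a => ?_⟩
  have htop : Subgroup.centralizer ({(g : A)} : Set A) = ⊤ := by
    rw [← Subgroup.index_eq_one]
    refine Nat.eq_one_iff_not_exists_prime_dvd.mpr fun q hq hqd => ?_
    have := Fact.mk hq
    obtain ⟨Q⟩ : Nonempty (Sylow q A) := inferInstance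
    refine Q.not_dvd_index (hqd.trans (Subgroup.index_dvd_of_le fun x hx =>
      Subgroup.mem_centralizer_singleton_iff.mpr ?_))
    by_cases hqr : q = r
    · subst hqr
      obtain ⟨T, hT⟩ := hRp.exists_le_sylow
      obtain ⟨c, hc⟩ := MulAction.exists_smul_eq A T Q
      have hgQ : (g : A) ∈ (Q : Subgroup A) := by
        rw [← hc, Sylow.coe_subgroup_smul, Cfsg.Agent.Lib.Coprime.mem_conj_smul]
        exact hT (by simpa using hRn.conj_mem g g.2 c⁻¹)
      have := hcyc q Q
      exact congrArg Subtype.val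
        ((IsCyclic.isMulCommutative (α := (Q : Subgroup A))).is_comm.comm ⟨x, hx⟩ ⟨g, hgQ⟩)
    · by_cases hx1 : x = 1
      · simp [hx1]
      obtain ⟨k, hk⟩ := (IsPGroup.iff_orderOf.mp Q.isPGroup') ⟨x, hx⟩
      have hk' : orderOf x = q ^ k := by rw [← hk]; exact Subgroup.orderOf_coe ⟨x, hx⟩
      have hk0 : k ≠ 0 := fun h0 => hx1 (orderOf_eq_one_iff.mp (by rw [hk', h0, pow_zero]))
      set y := x ^ (orderOf x / q) with hy
      have hyo : orderOf y = q := orderOf_pow_orderOf_div (orderOf_pos x).ne' (hk' ▸ dvd_pow_self q hk0)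
      have hy1 : y ≠ 1 := fun e => hq.ne_one (hyo.symm.trans (by rw [e, orderOf_one]))
      have hgy := commute_of_prime_normal φ hfpf (Ne.symm hqr) R hcard y hyo
        (Subgroup.le_normalizer_of_normal (Subgroup.mem_top y)) g g.2
      refine commute_of_mem_nilpotent (hCN y hy1) ?_ ?_ ?_
      · exact Subgroup.mem_centralizer_singleton_iff.mpr (Commute.pow_right (Commute.refl x) _)
      · exact Subgroup.mem_centralizer_singleton_iff.mpr hgy.symm
      · rw [hk', orderOf_eq_prime (hRr g g.2) hg1]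
        exact Nat.Coprime.pow_left k ((Nat.coprime_primes hq hr).mpr hqr)
  exact Subgroup.mem_centralizer_singleton_iff.mp (htop.symm ▸ Subgroup.mem_top a)

omit hfpf

theorem isCNGroup_subgroup {G : Type u} [Group G] [Finite G] (h : Cfsg.IsCNGroup G)
    (E : Subgroup G) : Cfsg.IsCNGroup E := by
  intro e he
  have he' : (e : G) ≠ 1 := fun h => he (Subtype.ext h)
  have := h _ he'
  let f : Subgroup.centralizer ({e} : Set E) →* Subgroup.centralizer ({(e : G)} : Set G) :=
    { toFun := fun x => ⟨((x : E) : G), Subgroup.mem_centralizer_singleton_iff.mpr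
        (congrArg Subtype.val (Subgroup.mem_centralizer_singleton_iff.mp x.2))⟩
      map_one' := rfl
      map_mul' := fun _ _ => rfl }
  exact Cfsg.Agent.Lib.Cores.isNilpotent_of_injective f fun x y hxy => by
    have h' : ((x : E) : G) = ((y : E) : G) :=
      congrArg (fun z : Subgroup.centralizer ({(e : G)} : Set G) => (z : G)) hxy
    exact Subtype.ext (Subtype.ext h')

end Cfsg.Agent.Lib.OddLocal
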