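import Cfsg.Agent.Lib.OddLocal.CNSolvable
import Cfsg.Agent.Lib.OddLocal.PuigTheorem
import Cfsg.Agent.Lib.OddLocal.Transitivity
import Cfsg.Agent.Lib.Transfer.Focal
import Cfsg.Agent.S1474

/-! Minimal simple groups of odd order with nilpotent centralisers. -/

set_option autoImplicit false

open Pointwise
open scoped commutatorElement

namespace Cfsg.Agent.Lib.OddLocal

universe u

variable {G : Type u} [Group G] [Finite G]

omit [Finite G] in
theorem smul_eq_map (g : G) (H : Subgroup G) :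
    MulAut.conj g • H = H.map (MulAut.conj g : G →* G) := rfl

theorem puigCenterIn_le (S : Subgroup G) : puigCenterIn S ≤ S :=
  inf_le_left.trans (Subgroup.map_subtype_le _)

theorem puigCenterIn_ne_bot {p : ℕ} [Fact p.Prime] {S : Subgroup G} (hS : IsPGroup p S)
    (h : S ≠ ⊥) : puigCenterIn S ≠ ⊥ := by
  have hLne : puigSubgroupIn S ≠ ⊥ := by
    intro e
    have h1 : puigLowerIn S = ⊥ := le_bot_iff.mp (e ▸ puigLowerIn_le_puigSubgroupIn S)
    have h2 := centralizer_puigLowerIn_le hS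
    rw [h1, show Subgroup.centralizer ((⊥ : Subgroup G) : Set G) = ⊤ from
      Subgroup.centralizer_eq_top_iff_subset.mpr (by simp), inf_top_eq] at h2
    exact h (le_bot_iff.mp h2)
  have hLp : IsPGroup p (puigSubgroupIn S) := hS.to_le (Subgroup.map_subtype_le _)
  obtain ⟨z, hz, hz1, hzc⟩ := exists_center_ne_one hLp.isNilpotent hLne
  intro e
  apply hz1
  have : z ∈ puigCenterIn S := ⟨hz, Subgroup.mem_centralizer_iff.mpr hzc⟩
  rwa [e, Subgroup.mem_bot] at this

theorem normal_subgroupOf_eq {M N : Subgroup G} (hN : (N.subgroupOf M).Normal) :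
    M ≤ Subgroup.normalizer ((N ⊓ M : Subgroup G) : Set G) := by
  refine le_normalizer_of_conj_mem' fun m hm n hn => ?_
  exact ⟨hN.conj_mem ⟨n, hn.2⟩ hn.1 ⟨m, hm⟩, M.mul_mem (M.mul_mem hm hn.2) (M.inv_mem hm)⟩

variable (hG : Cfsg.IsMinSimpleOddOrder G)

include hG

theorem prime_ne_two {p : ℕ} (hd : p ∣ Nat.card G) : p ≠ 2 := by
  rintro rfl
  exact Nat.not_even_iff_odd.mpr hG.1 (even_iff_two_dvd.mpr hd)

theorem exists_coatom_ge_cn {X : Subgroup G} (h : X ≠ ⊤) : ∃ M, IsCoatom M ∧ X ≤ M :=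
  (eq_top_or_exists_le_coatom X).resolve_left h

theorem normalizer_le_of_coatom {M N : Subgroup G} (hM : IsCoatom M) (hN : N ≠ ⊥) (hNt : N ≠ ⊤)
    (hn : M ≤ Subgroup.normalizer (N : Set G)) : Subgroup.normalizer (N : Set G) = M := by
  by_contra h
  exact normalizer_ne_top hG hN hNt (hM.2 _ (lt_of_le_of_ne hn (Ne.symm h)))

variable (hCN : Cfsg.IsCNGroup G)

include hCN

/-- A proper subgroup with `O_p ≠ 1` normalises the Puig centre of its Sylow subgroup. -/
theorem le_normalizer_puig {X : Subgroup G} (_hX : X ≠ ⊤) {p : ℕ} [Fact p.Prime]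
    (hp : Cfsg.pCore p X ≠ ⊥) (R : Sylow p X) :
    X ≤ Subgroup.normalizer (puigCenterIn ((R : Subgroup X).map X.subtype) : Set G) := by
  have hRne : (R : Subgroup X) ≠ ⊥ := fun e =>
    hp (le_bot_iff.mp (e ▸ Cfsg.Agent.Lib.Cores.pCore_le_sylow R))
  have hodd : Odd (Nat.card X) := hG.1.of_dvd_nat (Subgroup.card_subgroup_dvd_card X)
  have hp2 : p ≠ 2 := by
    obtain ⟨j, hj⟩ := IsPGroup.iff_card.mp R.isPGroup'
    have hj0 : j ≠ 0 := fun e => hRne (Subgroup.card_eq_one.mp (by rw [hj, e, pow_zero]))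
    exact prime_ne_two hG (((dvd_pow_self p hj0).trans (hj ▸ Subgroup.card_subgroup_dvd_card _)).trans
      (Subgroup.card_subgroup_dvd_card X))
  have : Group.IsSolvable X := hG.2.2.2 X _hX
  have hn : (puigCenterIn (R : Subgroup X)).Normal := by
    by_cases hO : Cfsg.pPrimeCore p X = ⊥
    · exact puigCenterIn_normal hodd p hp2 hO R
    · have hRn : (R : Subgroup X).Normal := by
        refine sylow_normal_of_commuting (isCNGroup_subgroup hCN X) hp hO
          (Cfsg.Agent.Lib.Cores.pPrimeCore_coprime p X) ?_ R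
        intro a ha w hw
        exact Cfsg.Agent.Lib.Cores.commute_of_mem_pCore_of_mem_pPrimeCore ha hw
      rw [← Subgroup.normalizer_eq_top_iff, ← top_le_iff]
      refine le_trans ?_ (normalizer_le_normalizer_puigCenterIn _)
      rw [Subgroup.normalizer_eq_top]
  rw [← map_puigCenterIn X.subtype (R : Subgroup X)
    (X.subtype_injective.comp (Subgroup.subtype_injective _))]
  intro m hm
  rw [Subgroup.mem_normalizer_iff]
  intro x
  constructor
  · rintro ⟨w, hw, rfl⟩
    exact ⟨⟨m, hm⟩ * w * ⟨m, hm⟩⁻¹, hn.conj_mem w hw _, rfl⟩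
  · rintro ⟨w, hw, hwx⟩
    refine ⟨⟨m, hm⟩⁻¹ * w * ⟨m, hm⟩, by simpa using hn.conj_mem w hw ⟨m, hm⟩⁻¹, ?_⟩
    show m⁻¹ * (w : G) * m = x
    rw [show ((w : X) : G) = m * x * m⁻¹ from hwx]
    group

omit hG hCN in
/-- `L_S`: the normaliser of the Puig centre. -/
def puigLocal {p : ℕ} (S : Sylow p G) : Subgroup G :=
  Subgroup.normalizer (puigCenterIn (S : Subgroup G) : Set G)

omit hG hCN in
theorem normalizer_le_puigLocal {p : ℕ} (S : Sylow p G) :
    Subgroup.normalizer ((S : Subgroup G) : Set G) ≤ puigLocal S :=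
  normalizer_le_normalizer_puigCenterIn _

/-- Every proper subgroup with `O_p ≠ 1` lies in `L_S` for a Sylow subgroup `S` over its own. -/
theorem exists_le_puigLocal {X : Subgroup G} (hX : X ≠ ⊤) {p : ℕ} [Fact p.Prime]
    (hp : Cfsg.pCore p X ≠ ⊥) (R : Sylow p X) :
    ∃ S : Sylow p G, (R : Subgroup X).map X.subtype ≤ (S : Subgroup G) ∧ X ≤ puigLocal S := by
  obtain ⟨d, hd⟩ : ∃ d, Nat.card G - Nat.card (R : Subgroup X) = d := ⟨_, rfl⟩
  induction d using Nat.strongRecOn generalizing X with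
  | ind d ih =>
  set R' := (R : Subgroup X).map X.subtype with hR'
  have hcardR : Nat.card R' = Nat.card (R : Subgroup X) := by
    rw [hR', ← Nat.card_congr ((R : Subgroup X).equivMapOfInjective X.subtype X.subtype_injective).toEquiv]
  have hR'p : IsPGroup p R' := R.isPGroup'.map X.subtype
  have hR'ne : R' ≠ ⊥ := fun e => by
    rw [hR', Subgroup.map_eq_bot_iff, Subgroup.ker_subtype, le_bot_iff] at e
    exact hp (le_bot_iff.mp (e ▸ Cfsg.Agent.Lib.Cores.pCore_le_sylow R))
  obtain ⟨S, hS⟩ := hR'p.exists_le_sylow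
  set X₁ := Subgroup.normalizer (puigCenterIn R' : Set G) with hX₁def
  have hle : X ≤ X₁ := le_normalizer_puig hG hCN hX hp R
  rcases eq_or_lt_of_le hS with heq | hlt
  · refine ⟨S, hS, ?_⟩
    rw [puigLocal, ← heq]
    exact hle
  have hWle := puigCenterIn_le R'
  have hWne := puigCenterIn_ne_bot hR'p hR'ne
  have hX₁ : X₁ ≠ ⊤ := normalizer_ne_top hG hWne fun e =>
    eq_top_of_isPGroup_absurd hG (hR'p.to_le hWle) e
  have hWX₁ : puigCenterIn R' ≤ X₁ := Subgroup.le_normalizer
  have hp₁ : Cfsg.pCore p X₁ ≠ ⊥ := by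
    intro e
    have hn : ((puigCenterIn R').subgroupOf X₁).Normal :=
      Subgroup.normal_subgroupOf_of_le_normalizer (H := X₁) le_rfl
    have h1 := Cfsg.Agent.Lib.Cores.le_pCore hn
      ((hR'p.to_le hWle).comap_of_injective X₁.subtype X₁.subtype_injective)
    rw [e, le_bot_iff, Subgroup.subgroupOf_eq_bot, disjoint_iff, inf_eq_left.mpr hWX₁] at h1
    exact hWne h1
  set T := Subgroup.normalizer (R' : Set G) ⊓ (S : Subgroup G)
  have hT : T ≤ X₁ := inf_le_left.trans (normalizer_le_normalizer_puigCenterIn R')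
  obtain ⟨R₁, hR₁⟩ := ((S.isPGroup'.to_le (inf_le_right : T ≤ _)).comap_of_injective X₁.subtype
    X₁.subtype_injective : IsPGroup p (T.subgroupOf X₁)).exists_le_sylow
  have hTR : T ≤ (R₁ : Subgroup X₁).map X₁.subtype := fun t ht => ⟨⟨t, hT ht⟩, hR₁ ht, rfl⟩
  have hRT : R' < T := lt_of_le_not_ge (le_inf Subgroup.le_normalizer hlt.le)
    (exists_mem_normalizer_not_mem S.isPGroup' hlt)
  have hc : Nat.card (R : Subgroup X) < Nat.card (R₁ : Subgroup X₁) := by
    have h1 : Nat.card R' < Nat.card T := lt_of_le_of_ne (Subgroup.card_le_of_le hRT.le)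
      fun e => hRT.ne (Subgroup.eq_of_le_of_card_ge hRT.le e.ge)
    have h2 := Subgroup.card_le_of_le hTR
    rw [← Nat.card_congr ((R₁ : Subgroup X₁).equivMapOfInjective X₁.subtype X₁.subtype_injective).toEquiv] at h2
    omega
  have h3 : Nat.card (R₁ : Subgroup X₁) ≤ Nat.card G :=
    (Subgroup.card_le_card_group _).trans (Subgroup.card_le_card_group _)
  obtain ⟨S', hS', hX'⟩ := ih _ (by omega) hX₁ hp₁ R₁ rfl
  exact ⟨S', (hRT.le.trans hTR).trans hS', hle.trans hX'⟩

omit hG hCN in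
theorem puigLocal_conj {p : ℕ} [Fact p.Prime] (g : G) (S : Sylow p G) :
    puigLocal (g • S) = MulAut.conj g • puigLocal S := by
  have h1 : ((g • S : Sylow p G) : Subgroup G) = (S : Subgroup G).map (MulAut.conj g : G →* G) := by
    rw [Sylow.coe_subgroup_smul, smul_eq_map]
  have h2 : puigCenterIn ((g • S : Sylow p G) : Subgroup G) =
      MulAut.conj g • puigCenterIn (S : Subgroup G) := by
    rw [h1, ← map_puigCenterIn (MulAut.conj g : G →* G) _
      ((MulAut.conj g).injective.comp (Subgroup.subtype_injective _)), smul_eq_map]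
  rw [puigLocal, puigLocal, h2, smul_eq_map, smul_eq_map]
  exact (Subgroup.map_equiv_normalizer_eq _ (MulAut.conj g)).symm

/-- Sylow subgroups meeting nontrivially have the same local subgroup. -/
theorem puigLocal_eq_of_inf_ne_bot {p : ℕ} [Fact p.Prime] (S S' : Sylow p G)
    (h : (S : Subgroup G) ⊓ (S' : Subgroup G) ≠ ⊥) : puigLocal S = puigLocal S' := by
  obtain ⟨d, hd⟩ : ∃ d, Nat.card G - Nat.card ↥((S : Subgroup G) ⊓ (S' : Subgroup G)) = d := ⟨_, rfl⟩
  induction d using Nat.strongRecOn generalizing S S' with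
  | ind d ih =>
  by_cases heq : S = S'
  · rw [heq]
  set D := (S : Subgroup G) ⊓ (S' : Subgroup G) with hD
  have hDp : IsPGroup p D := S.isPGroup'.to_le inf_le_left
  have hlt : D < (S : Subgroup G) := lt_of_le_of_ne inf_le_left fun e => heq
    (Sylow.ext (S.is_maximal' S'.isPGroup' (inf_eq_left.mp e))).symm
  have hlt' : D < (S' : Subgroup G) := lt_of_le_of_ne inf_le_right fun e => heq
    (Sylow.ext (S'.is_maximal' S.isPGroup' (inf_eq_right.mp e)))
  set X := Subgroup.normalizer (D : Set G) with hXdef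
  have hX : X ≠ ⊤ := normalizer_ne_top hG h fun e => eq_top_of_isPGroup_absurd hG hDp e
  have hDX : D ≤ X := Subgroup.le_normalizer
  have hp : Cfsg.pCore p X ≠ ⊥ := by
    intro e
    have hn : (D.subgroupOf X).Normal := Subgroup.normal_subgroupOf_of_le_normalizer (H := X) le_rfl
    have h1 := Cfsg.Agent.Lib.Cores.le_pCore hn (hDp.comap_of_injective X.subtype X.subtype_injective)
    rw [e, le_bot_iff, Subgroup.subgroupOf_eq_bot, disjoint_iff, inf_eq_left.mpr hDX] at h1
    exact h h1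
  have hsub : ∀ U : Sylow p G, ∃ R : Sylow p X, X ⊓ (U : Subgroup G) ≤ (R : Subgroup X).map X.subtype := by
    intro U
    obtain ⟨R, hR⟩ := ((U.isPGroup'.to_le (inf_le_right : X ⊓ (U : Subgroup G) ≤ _)).comap_of_injective
      X.subtype X.subtype_injective :
        IsPGroup p ((X ⊓ (U : Subgroup G)).subgroupOf X)).exists_le_sylow
    exact ⟨R, fun x hx => ⟨⟨x, hx.1⟩, hR hx, rfl⟩⟩
  obtain ⟨R, hR⟩ := hsub S
  obtain ⟨R', hR'⟩ := hsub S'
  obtain ⟨T, hT, hXT⟩ := exists_le_puigLocal hG hCN hX hp R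
  obtain ⟨k, hk⟩ := MulAction.exists_smul_eq X R R'
  have hR'T : (R' : Subgroup X).map X.subtype ≤ (((k : G) • T : Sylow p G) : Subgroup G) := by
    rw [← hk, show k • R = MulAut.conj k • R from rfl, Cfsg.Agent.Lib.Coprime.sylow_map_conj_smul,
      Sylow.coe_subgroup_smul]
    exact Subgroup.pointwise_smul_le_pointwise_smul_iff.mpr hT
  have hbig : ∀ U : Sylow p G, D < (U : Subgroup G) → ∀ V : Sylow p G,
      X ⊓ (U : Subgroup G) ≤ (V : Subgroup G) → D ≤ (U : Subgroup G) ⊓ (V : Subgroup G) →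
      puigLocal U = puigLocal V := by
    intro U hU V hV _
    have hlt2 : D < (U : Subgroup G) ⊓ (V : Subgroup G) :=
      lt_of_lt_of_le (lt_of_le_not_ge (le_inf hDX hU.le) (exists_mem_normalizer_not_mem U.isPGroup' hU))
        (le_inf inf_le_right hV)
    refine ih _ ?_ U V (ne_bot_of_gt hlt2) rfl
    have h1 : Nat.card D < Nat.card ↥((U : Subgroup G) ⊓ (V : Subgroup G)) :=
      lt_of_le_of_ne (Subgroup.card_le_of_le hlt2.le)
        fun e => hlt2.ne (Subgroup.eq_of_le_of_card_ge hlt2.le e.ge)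
    have h2 := Subgroup.card_le_card_group ((U : Subgroup G) ⊓ (V : Subgroup G))
    omega
  have e1 : puigLocal S = puigLocal T := hbig S hlt T (hR.trans hT)
    (le_inf inf_le_left ((le_inf hDX inf_le_left).trans (hR.trans hT)))
  have e2 : puigLocal S' = puigLocal ((k : G) • T) := hbig S' hlt' _ (hR'.trans hR'T)
    (le_inf inf_le_right ((le_inf hDX inf_le_right).trans (hR'.trans hR'T)))
  rw [e1, e2, puigLocal_conj, Cfsg.Agent.Lib.Coprime.conj_smul_eq_of_mem_normalizer
    (Subgroup.le_normalizer (hXT k.2))]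

/-- `L_S` controls the fusion in `S`. -/
theorem controlsFusion_puigLocal {p : ℕ} [Fact p.Prime] (S : Sylow p G) :
    Cfsg.Agent.Lib.Transfer.ControlsFusion (puigLocal S) (S : Subgroup G) := by
  intro x hx g hgx
  by_cases hx1 : x = 1
  · exact ⟨1, one_mem _, by simp [hx1]⟩
  set L := puigLocal S
  have hmem : g * x * g⁻¹ ∈ ((g • S : Sylow p G) : Subgroup G) := by
    rw [Sylow.coe_subgroup_smul, Cfsg.Agent.Lib.Coprime.mem_conj_smul]
    simpa [mul_assoc] using hx
  have hne : (S : Subgroup G) ⊓ ((g • S : Sylow p G) : Subgroup G) ≠ ⊥ := fun e => by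
    have : g * x * g⁻¹ ∈ (⊥ : Subgroup G) := e ▸ ⟨hgx, hmem⟩
    rw [Subgroup.mem_bot, mul_inv_eq_one] at this
    exact hx1 (mul_eq_left.mp this)
  have he := puigLocal_eq_of_inf_ne_bot hG hCN S (g • S) hne
  rw [puigLocal_conj] at he
  have hgS : ((g • S : Sylow p G) : Subgroup G) ≤ L := by
    rw [Sylow.coe_subgroup_smul]
    exact (Subgroup.pointwise_smul_le_pointwise_smul_iff.mpr
      (Subgroup.le_normalizer.trans (normalizer_le_puigLocal S))).trans (le_of_eq he.symm)
  have hSL : (S : Subgroup G) ≤ L := Subgroup.le_normalizer.trans (normalizer_le_puigLocal S)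
  obtain ⟨l, hl⟩ := MulAction.exists_smul_eq L ((g • S).subtype hgS) (S.subtype hSL)
  have hN : (l : G) * g ∈ Subgroup.normalizer ((S : Subgroup G) : Set G) := by
    refine Cfsg.Agent.Lib.Coprime.mem_normalizer_of_conj_smul_eq ?_
    have := congrArg (fun T : Sylow p L => (T : Subgroup L).map L.subtype) hl
    simp only [show ∀ U : Sylow p L, l • U = MulAut.conj l • U from fun U => rfl,
      Cfsg.Agent.Lib.Coprime.sylow_map_conj_smul, Sylow.coe_subtype,
      Subgroup.map_subgroupOf_eq_of_le hSL, Sylow.coe_subgroup_smul] at this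
    have hgS' : MulAut.conj g • (S : Subgroup G) ≤ L := by rwa [← Sylow.coe_subgroup_smul]
    rw [Subgroup.map_subgroupOf_eq_of_le hgS'] at this
    rwa [Cfsg.Agent.Lib.Coprime.conj_mul_smul]
  exact ⟨g, by simpa [← mul_assoc] using L.mul_mem (L.inv_mem l.2) (normalizer_le_puigLocal S hN), rfl⟩

theorem sylow_le_commutator_puigLocal {p : ℕ} [Fact p.Prime] (S : Sylow p G) :
    (S : Subgroup G) ≤ ⁅puigLocal S, puigLocal S⁆ := by
  have hsimp : IsSimpleGroup G := hG.2.1
  have htop : commutator G = ⊤ := by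
    rcases hsimp.eq_bot_or_eq_top_of_normal (commutator G) inferInstance with h | h
    · exfalso
      refine hG.2.2.1 ⟨⟨fun x y => ?_⟩⟩
      have : ⁅x, y⁆ ∈ commutator G := Subgroup.commutator_mem_commutator (Subgroup.mem_top x) (Subgroup.mem_top y)
      rw [h, Subgroup.mem_bot, commutatorElement_eq_one_iff_mul_comm] at this
      exact this
    · exact h
  have h := Cfsg.Agent.Lib.Transfer.commutator_inf_eq_of_controlsFusion S
    (Subgroup.le_normalizer.trans (normalizer_le_puigLocal S)) (controlsFusion_puigLocal hG hCN S)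
  rw [htop, top_inf_eq] at h
  rw [h]
  exact inf_le_left

theorem puigLocal_eq_normalizer {p : ℕ} [Fact p.Prime] (S : Sylow p G) (hpG : p ∣ Nat.card G) :
    puigLocal S = Subgroup.normalizer ((S : Subgroup G) : Set G) := by
  refine le_antisymm ?_ (normalizer_le_puigLocal S)
  have hSne : (S : Subgroup G) ≠ ⊥ := S.ne_bot_of_dvd_card hpG
  set L := puigLocal S with hLdef
  have hSL : (S : Subgroup G) ≤ L := Subgroup.le_normalizer.trans (normalizer_le_puigLocal S)
  have hWne := puigCenterIn_ne_bot S.isPGroup' hSne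
  have hLtop : L ≠ ⊤ := normalizer_ne_top hG hWne fun e =>
    eq_top_of_isPGroup_absurd hG (S.isPGroup'.to_le (puigCenterIn_le _)) e
  have hsolv : Group.IsSolvable L := hG.2.2.2 L hLtop
  set R := S.subtype hSL
  by_contra hnot
  have hRn : ¬ (R : Subgroup L).Normal := fun hn => hnot fun l hl => by
    rw [← Subgroup.map_subgroupOf_eq_of_le hSL, ← S.coe_subtype hSL]
    exact Subgroup.le_normalizer_map _ ⟨⟨l, hl⟩, by
      rw [SetLike.mem_coe, @Subgroup.normalizer_eq_top _ _ _ hn]; trivial, rfl⟩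
  have hcore : Cfsg.pCore p L ≠ ⊥ := by
    intro e
    have hn : ((puigCenterIn (S : Subgroup G)).subgroupOf L).Normal :=
      Subgroup.normal_subgroupOf_of_le_normalizer (H := L) le_rfl
    have h1 := Cfsg.Agent.Lib.Cores.le_pCore hn
      ((S.isPGroup'.to_le (puigCenterIn_le _)).comap_of_injective L.subtype L.subtype_injective)
    rw [e, le_bot_iff, Subgroup.subgroupOf_eq_bot, disjoint_iff,
      inf_eq_left.mpr ((puigCenterIn_le _).trans hSL)] at h1
    exact hWne h1
  have hCNL := isCNGroup_subgroup hCN L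
  have hO : Cfsg.pPrimeCore p L = ⊥ := by
    by_contra hO
    exact hRn (sylow_normal_of_commuting hCNL hcore hO (Cfsg.Agent.Lib.Cores.pPrimeCore_coprime p L)
      (fun a ha w hw => Cfsg.Agent.Lib.Cores.commute_of_mem_pCore_of_mem_pPrimeCore ha hw) R)
  have : Nontrivial L := (Subgroup.nontrivial_iff_ne_bot L).mpr fun e => hSne (le_bot_iff.mp (e ▸ hSL))
  have hns : ∀ (q : ℕ) [Fact q.Prime] (T : Sylow q L), (T : Subgroup L) ≠ ⊥ →
      ¬ (T : Subgroup L).Normal := by
    intro q _ T hT hTn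
    by_cases hqp : q = p
    · subst hqp
      have : Subsingleton (Sylow q L) := (Sylow.unique_of_normal T hTn).instSubsingleton
      exact hRn (Subsingleton.elim T R ▸ hTn)
    · refine hT (le_bot_iff.mp (hO ▸ Cfsg.Agent.Lib.Cores.le_pPrimeCore hTn ?_))
      obtain ⟨j, hj⟩ := IsPGroup.iff_card.mp T.isPGroup'
      rw [hj]
      exact Nat.Coprime.pow_left j ((Nat.coprime_primes Fact.out Fact.out).mpr hqp)
  obtain ⟨r, hr, hP₀, A, -, -, -, hAp, hKn, hKtop, ⟨n, hn⟩, -, -⟩ :=
    isThreeStep_of_no_normal_sylow hCNL hns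
  have := Fact.mk hr
  have hrp : r = p := by
    by_contra hrp
    refine hP₀ (le_bot_iff.mp (hO ▸ Cfsg.Agent.Lib.Cores.le_pPrimeCore inferInstance ?_))
    obtain ⟨j, hj⟩ := IsPGroup.iff_card.mp (Cfsg.Agent.Lib.Cores.pCore_isPGroup r L)
    rw [hj]
    exact Nat.Coprime.pow_left j ((Nat.coprime_primes hr Fact.out).mpr hrp)
  subst hrp
  set K := Cfsg.pCore r L ⊔ A
  have := hKn
  have hq : IsPGroup r (L ⧸ K) := IsPGroup.of_card (n := n) (by rw [← Subgroup.index_eq_card, hn])
  have hsurj := QuotientGroup.mk'_surjective K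
  have hRtop : (R : Subgroup L).map (QuotientGroup.mk' K) = ⊤ := by
    have h1 := (R.mapSurjective hsurj).is_maximal' (hq.to_subgroup ⊤) le_top
    exact h1.symm
  have hcomm : (R : Subgroup L) ≤ commutator L := by
    have h1 := sylow_le_commutator_puigLocal hG hCN S
    intro y hy
    have hy' : (y : G) ∈ (⁅L, L⁆ : Subgroup G) := h1 (Subgroup.mem_subgroupOf.mp hy)
    rw [← Subgroup.map_subtype_commutator] at hy'
    obtain ⟨z, hz, hzy⟩ := hy'
    exact Subtype.ext hzy ▸ hz
  have h2 : commutator (L ⧸ K) = ⊤ := by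
    rw [← top_le_iff, ← hRtop]
    refine (Subgroup.map_mono hcomm).trans ?_
    rw [commutator_def, commutator_def, Subgroup.map_commutator]
    exact Subgroup.commutator_mono le_top le_top
  apply hKtop
  have hn' := hq.isNilpotent
  have : Subsingleton (L ⧸ K) := by
    by_contra hns'
    rw [not_subsingleton_iff_nontrivial] at hns'
    have := Group.IsSolvable.commutator_lt_top_of_nontrivial (L ⧸ K)
    exact this.ne h2
  exact Subgroup.index_eq_one.mp (by rw [Subgroup.index_eq_card]; exact Nat.card_of_subsingleton (1 : L ⧸ K))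

end Cfsg.Agent.Lib.OddLocal
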