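import Mathlib

/-!
Elements of prime power order commuting with a subgroup of prime order fix all moved points when the moved set is small.
-/

set_option autoImplicit false

namespace Cfsg.Agent.Lib.OddLocal

open MulAction

variable {G : Type*} [Group G] {Ω : Type*} [MulAction G Ω] [Finite Ω]

/-- Let `P` have prime order `p` and let `h` of `q`-power order commute with `P`. If fewer than `p * q`
points are moved by `P`, then `h` fixes each of them. -/
theorem fixes_moved [Finite G] {p q : ℕ} [hp : Fact p.Prime] [hq : Fact q.Prime] (hpq : p ≠ q)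
    (P : Subgroup G) (hP : Nat.card P = p) (h : G) (hh : IsPGroup q (Subgroup.zpowers h))
    (hcomm : ∀ x ∈ P, x * h = h * x)
    (hsmall : Nat.card Ω < p * q + Nat.card (fixedPoints P Ω)) :
    ∀ ω : Ω, ω ∉ fixedPoints P Ω → h • ω = ω := by
  classical
  let Δ : Type _ := {ω : Ω // ω ∉ fixedPoints P Ω}
  have hcomm' : ∀ z ∈ Subgroup.zpowers h, ∀ x ∈ P, x * z = z * x := by
    intro z hz x hx
    obtain ⟨i, rfl⟩ := Subgroup.mem_zpowers_iff.mp hz
    exact ((show Commute x h from hcomm x hx).zpow_right i).eq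
  have hstab : ∀ z ∈ Subgroup.zpowers h, ∀ ω : Ω, ω ∉ fixedPoints P Ω → z • ω ∉ fixedPoints P Ω := by
    intro z hz ω hω hfix
    apply hω
    intro x
    have h1 := hfix x
    rw [Subgroup.smul_def] at h1 ⊢
    rw [smul_smul, hcomm' z hz x x.2, ← smul_smul] at h1
    exact MulAction.injective z h1
  letI : MulAction (Subgroup.zpowers h) Δ :=
    { smul := fun z ω => ⟨(z : G) • ω.1, hstab z z.2 ω.1 ω.2⟩
      one_smul := fun ω => Subtype.ext (one_smul G ω.1)
      mul_smul := fun a b ω => Subtype.ext (mul_smul (a : G) (b : G) ω.1) }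
  have hPstab : ∀ x ∈ P, ∀ ω : Ω, ω ∉ fixedPoints P Ω → x • ω ∉ fixedPoints P Ω := by
    intro x hx ω hω hfix
    apply hω
    have h1 := hfix (⟨x, hx⟩⁻¹ : P)
    rw [Subgroup.smul_def] at h1
    have h2 : x⁻¹ • x • ω = x • ω := h1
    rw [inv_smul_smul] at h2
    rw [h2]
    exact hfix
  -- the points moved by `h` among those moved by `P`
  let W : Type _ := {ω : Δ // ω ∉ fixedPoints (Subgroup.zpowers h) Δ}
  letI : MulAction P W :=
    { smul := fun x ω => ⟨⟨(x : G) • ω.1.1, hPstab x x.2 ω.1.1 ω.1.2⟩, by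
        intro hfix
        apply ω.2
        intro z
        have h1 : (z : G) • (x : G) • ω.1.1 = (x : G) • ω.1.1 := congrArg Subtype.val (hfix z)
        rw [smul_smul, ← hcomm' z z.2 x x.2, ← smul_smul] at h1
        exact Subtype.ext (MulAction.injective (x : G) h1)⟩
      one_smul := fun ω => Subtype.ext (Subtype.ext (one_smul G ω.1.1))
      mul_smul := fun a b ω => Subtype.ext (Subtype.ext (mul_smul (a : G) (b : G) ω.1.1)) }
  have hdvdp : p ∣ Nat.card W := by
    have hP' : IsPGroup p P := IsPGroup.of_card (n := 1) (by rw [hP, pow_one])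
    have hmod := hP'.card_modEq_card_fixedPoints W
    have : IsEmpty (fixedPoints P W) := ⟨fun ω => ω.1.1.2 fun x => by
      have h1 := congrArg (fun w : W => w.1.1) (ω.2 x)
      exact h1⟩
    rw [@Nat.card_of_isEmpty (fixedPoints P W) this] at hmod
    exact Nat.modEq_zero_iff_dvd.mp hmod
  have hsplit : Nat.card (fixedPoints (Subgroup.zpowers h) Δ) + Nat.card W = Nat.card Δ := by
    rw [← Nat.card_sum]
    exact Nat.card_congr (Equiv.sumCompl (fun ω : Δ => ω ∈ fixedPoints (Subgroup.zpowers h) Δ))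
  have hdvdq : q ∣ Nat.card W := by
    have hmod : Nat.card Δ ≡ Nat.card (fixedPoints (Subgroup.zpowers h) Δ) [MOD q] :=
      hh.card_modEq_card_fixedPoints Δ
    have hm := (Nat.modEq_iff_dvd' (by omega)).mp hmod.symm
    rwa [show Nat.card Δ - Nat.card (fixedPoints (Subgroup.zpowers h) Δ) = Nat.card W by omega] at hm
  have hΔ : Nat.card (fixedPoints P Ω) + Nat.card Δ = Nat.card Ω := by
    rw [← Nat.card_sum]
    exact Nat.card_congr (Equiv.sumCompl (fun ω : Ω => ω ∈ fixedPoints P Ω))
  have hW : Nat.card W = 0 := by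
    have hd := ((Nat.coprime_primes hp.out hq.out).mpr hpq).mul_dvd_of_dvd_of_dvd hdvdp hdvdq
    rcases Nat.eq_zero_or_pos (Nat.card W) with h0 | h0
    · exact h0
    · have := Nat.le_of_dvd h0 hd
      omega
  intro ω hω
  by_contra hne
  have : Nonempty W := ⟨⟨⟨ω, hω⟩, fun hf => hne (congrArg Subtype.val (hf ⟨h, Subgroup.mem_zpowers h⟩))⟩⟩
  exact Nat.card_pos.ne' hW

end Cfsg.Agent.Lib.OddLocal
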