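import Cfsg.Agent.Lib.OddLocal.CriticalAbelian

/-!
The critical configuration for `p`-length one.
-/

set_option autoImplicit false

namespace Cfsg.Agent.Lib.OddLocal

open Cfsg.Agent.Lib
open scoped commutatorElement

variable {G : Type*} [Group G] [Finite G]

theorem map_conj_eq_of_mem {g : G} {H : Subgroup G} (hg : g ∈ Subgroup.normalizer (H : Set G)) :
    H.map (MulAut.conj g).toMonoidHom = H :=
  Coprime.conj_smul_eq_of_mem_normalizer hg

/-- A `q`-group `Q`, minimal normalised and moved by a minimal invariant `p`-group, acting faithfully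
on a module in which `x` has at most `p` fixed points: impossible. -/
theorem critical_false {p q r : ℕ} [Fact p.Prime] [Fact q.Prime] [Fact r.Prime] (hp2 : p ≠ 2)
    (hq2 : q ≠ 2) (hr2 : r ≠ 2) (hqp : q ≠ p) (hrp : r ≠ p) (hqr : q ≠ r) (V : Subgroup G) [V.Normal]
    (hV : Cfsg.IsElementaryAbelian p V) (x : G) (hxr : x ^ r = 1)
    (hCV : ∀ c ∈ V, ∀ d ∈ V, x * c * x⁻¹ = c → x * d * x⁻¹ = d → c ≠ 1 → ∃ m : ℕ, c ^ m = d)
    (P : Subgroup G) (hP : IsPGroup p P) (hP1 : P ≠ ⊥) (hxP : x ∈ Subgroup.normalizer (P : Set G))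
    (hPfix : ∀ a ∈ P, x * a * x⁻¹ = a → a = 1)
    (hPmin : ∀ S : Subgroup G, S ≤ P → x ∈ Subgroup.normalizer (S : Set G) → S = ⊥ ∨ S = P)
    (Q : Subgroup G) (hQ : IsPGroup q Q) (hxQ : x ∈ Subgroup.normalizer (Q : Set G))
    (hPQ : P ≤ Subgroup.normalizer (Q : Set G)) (hQne : ¬ Q ≤ Subgroup.centralizer (P : Set G))
    (hQmin : ∀ S : Subgroup G, S < Q → x ∈ Subgroup.normalizer (S : Set G) →
      P ≤ Subgroup.normalizer (S : Set G) → S ≤ Subgroup.centralizer (P : Set G))
    (hQx : ∀ y ∈ Q, ∀ z ∈ Q, Commute y x → Commute z x → y * z = z * y → y ^ q = 1 → z ^ q = 1 →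
      y ≠ 1 → ∃ m : ℕ, y ^ m = z)
    (hfaith : Q ⊓ Subgroup.centralizer (V : Set G) = ⊥) : False := by
  classical
  have hp : p.Prime := Fact.out
  have hq : q.Prime := Fact.out
  have hr : r.Prime := Fact.out
  set X := Subgroup.zpowers x with hX
  have hXP : X ≤ Subgroup.normalizer (P : Set G) := Subgroup.zpowers_le.mpr hxP
  have hXQ : X ≤ Subgroup.normalizer (Q : Set G) := Subgroup.zpowers_le.mpr hxQ
  -- `P`
  have hPx : ⁅P, X⁆ = P := by
    rcases hPmin ⁅P, X⁆ (Coprime.commutator_le_of_le_normalizer hXP)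
      (Subgroup.normalizer_commutator_ge_right P X (Subgroup.mem_zpowers x)) with h | h
    · exfalso
      rw [Subgroup.commutator_eq_bot_iff_le_centralizer] at h
      refine hP1 (eq_bot_iff.mpr fun a ha => hPfix a ha ?_)
      rw [mul_inv_eq_iff_eq_mul]
      exact Subgroup.mem_centralizer_iff.mp (h ha) x (Subgroup.mem_zpowers x)
    · exact h
  have hPc : ∀ a ∈ P, ∀ b ∈ P, a * b = b * a := by
    rcases hPmin ⁅P, P⁆ (Coprime.commutator_le_of_le_normalizer Subgroup.le_normalizer)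
      (by rw [Subgroup.mem_normalizer_iff_map_conj_eq]
          show ⁅P, P⁆.map (MulAut.conj x).toMonoidHom = _
          rw [Subgroup.map_commutator, map_conj_eq_of_mem hxP]) with h | h
    · rw [Subgroup.commutator_eq_bot_iff_le_centralizer] at h
      exact fun a ha b hb => (Subgroup.mem_centralizer_iff.mp (h ha) b hb).symm
    · exfalso
      haveI : Nontrivial P := Subgroup.nontrivial_iff_ne_bot P |>.mpr hP1
      haveI : Group.IsNilpotent P := hP.isNilpotent
      refine (Group.IsSolvable.commutator_lt_top_of_nontrivial (G := P)).ne ?_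
      refine Subgroup.map_injective (f := P.subtype) Subtype.val_injective ?_
      rw [Subgroup.map_subtype_commutator, h, ← MonoidHom.range_eq_map, Subgroup.range_subtype]
  have hcopPQ : (Nat.card P).Coprime (Nat.card Q) := by
    obtain ⟨i, hi⟩ := hP.exists_card_eq
    obtain ⟨j, hj⟩ := hQ.exists_card_eq
    rw [hi, hj]; exact Nat.coprime_pow_primes i j hp hq (Ne.symm hqp)
  -- `Q`
  have hsQ : Group.IsSolvable Q := by haveI := hQ.isNilpotent; infer_instance
  have hinvmap : ∀ {A : Subgroup G}, A ≤ Subgroup.normalizer (Q : Set G) →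
      A ≤ Subgroup.normalizer ((⁅Q, Q⁆ : Subgroup G) : Set G) := fun hA g hg => by
    rw [Subgroup.mem_normalizer_iff_map_conj_eq]
    show ⁅Q, Q⁆.map (MulAut.conj g).toMonoidHom = _
    rw [Subgroup.map_commutator, map_conj_eq_of_mem (hA hg)]
  have hQP : ⁅Q, P⁆ = Q := by
    by_contra h
    have hlt : ⁅Q, P⁆ < Q := lt_of_le_of_ne (Coprime.commutator_le_of_le_normalizer hPQ) h
    have hx1 : x ∈ Subgroup.normalizer ((⁅Q, P⁆ : Subgroup G) : Set G) := by
      rw [Subgroup.mem_normalizer_iff_map_conj_eq]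
      show ⁅Q, P⁆.map (MulAut.conj x).toMonoidHom = _
      rw [Subgroup.map_commutator, map_conj_eq_of_mem hxQ, map_conj_eq_of_mem hxP]
    have h2 : ⁅⁅Q, P⁆, P⁆ = ⊥ := Subgroup.commutator_eq_bot_iff_le_centralizer.mpr
      (hQmin _ hlt hx1 (Subgroup.normalizer_commutator_ge_right Q P))
    rw [Coprime.commutator_commutator_eq hPQ hcopPQ (Or.inr hsQ),
      Subgroup.commutator_eq_bot_iff_le_centralizer] at h2
    exact hQne h2
  have hcentral : ∀ H : Subgroup G, H < Q → x ∈ Subgroup.normalizer (H : Set G) →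
      P ≤ Subgroup.normalizer (H : Set G) → Q ≤ Subgroup.normalizer (H : Set G) →
      Q ≤ Subgroup.centralizer (H : Set G) := by
    intro H hH hxH hPH hQH
    have hc := hQmin H hH hxH hPH
    have h1 : ⁅⁅P, H⁆, Q⁆ = ⊥ := by
      rw [Subgroup.commutator_comm P H, (Subgroup.commutator_eq_bot_iff_le_centralizer).mpr hc,
        Subgroup.commutator_bot_left]
    have h2 : ⁅⁅H, Q⁆, P⁆ = ⊥ := by
      rw [Subgroup.commutator_eq_bot_iff_le_centralizer]
      exact (Subgroup.le_normalizer_iff_commutator_le_left.mp hQH).trans hc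
    have h3 := Subgroup.commutator_commutator_eq_bot_of_rotate h1 h2
    rwa [hQP, Subgroup.commutator_eq_bot_iff_le_centralizer] at h3
  have hQ1 : Q ≠ ⊥ := fun h => hQne (h ▸ bot_le)
  haveI : Nontrivial Q := (Subgroup.nontrivial_iff_ne_bot Q).mpr hQ1
  haveI : Group.IsNilpotent Q := hQ.isNilpotent
  have hQQlt : ⁅Q, Q⁆ < Q := by
    refine lt_of_le_of_ne (Coprime.commutator_le_of_le_normalizer Subgroup.le_normalizer) fun h => ?_
    refine (Group.IsSolvable.commutator_lt_top_of_nontrivial (G := Q)).ne ?_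
    refine Subgroup.map_injective (f := Q.subtype) Subtype.val_injective ?_
    rw [Subgroup.map_subtype_commutator, h, ← MonoidHom.range_eq_map, Subgroup.range_subtype]
  set Z := Q ⊓ Subgroup.centralizer (P : Set G) with hZdef
  have hQQZ : ⁅Q, Q⁆ ≤ Z := le_inf hQQlt.le
    (hQmin _ hQQlt (hinvmap hXQ (Subgroup.mem_zpowers x)) (hinvmap hPQ))
  have hxC : x ∈ Subgroup.normalizer ((Subgroup.centralizer (P : Set G) : Subgroup G) : Set G) := by
    have key : ∀ g ∈ Subgroup.normalizer (P : Set G), ∀ c ∈ Subgroup.centralizer (P : Set G),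
        g * c * g⁻¹ ∈ Subgroup.centralizer (P : Set G) := fun g hg c hc => by
      rw [Subgroup.mem_centralizer_iff]
      intro a ha
      have h1 := Subgroup.mem_centralizer_iff.mp hc _ ((Subgroup.mem_normalizer_iff''.mp hg a).mp ha)
      calc a * (g * c * g⁻¹) = g * ((g⁻¹ * a * g) * c) * g⁻¹ := by group
        _ = g * (c * (g⁻¹ * a * g)) * g⁻¹ := by rw [h1]
        _ = _ := by group
    rw [Subgroup.mem_normalizer_iff]
    exact fun c => ⟨key x hxP c, fun h => by simpa [mul_assoc] using key x⁻¹ (inv_mem hxP) _ h⟩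
  have hxZ : x ∈ Subgroup.normalizer (Z : Set G) := by
    rw [Subgroup.mem_normalizer_iff]
    intro c
    rw [Subgroup.mem_inf, Subgroup.mem_inf, Subgroup.mem_normalizer_iff.mp hxQ c,
      Subgroup.mem_normalizer_iff.mp hxC c]
  have hZlt : Z < Q := lt_of_le_of_ne inf_le_left fun h => hQne (inf_eq_left.mp h)
  have hPZ : P ≤ Subgroup.normalizer (Z : Set G) := fun a ha => by
    rw [Subgroup.mem_normalizer_iff]
    intro c
    have hcP : ∀ a ∈ P, ∀ c ∈ Z, a * c * a⁻¹ = c := fun a ha c hc => by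
      rw [mul_inv_eq_iff_eq_mul]; exact Subgroup.mem_centralizer_iff.mp hc.2 a ha
    refine ⟨fun hc => by rwa [hcP a ha c hc], fun h => ?_⟩
    have h1 := hcP a⁻¹ (inv_mem ha) _ h
    rw [inv_inv, show a⁻¹ * (a * c * a⁻¹) * a = c by group] at h1
    rwa [h1]
  have hQZn : Q ≤ Subgroup.normalizer (Z : Set G) := by
    intro g hg
    have key : ∀ g ∈ Q, ∀ c ∈ Z, g * c * g⁻¹ ∈ Z := fun g hg c hc => by
      have h1 : ⁅g, c⁆ ∈ Z := hQQZ (Subgroup.commutator_mem_commutator hg hc.1)
      have h2 := mul_mem h1 hc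
      simpa [commutatorElement_def, mul_assoc] using h2
    rw [Subgroup.mem_normalizer_iff]
    exact fun c => ⟨key g hg c, fun h => by simpa [mul_assoc] using key g⁻¹ (inv_mem hg) _ h⟩
  have hZc : Q ≤ Subgroup.centralizer (Z : Set G) := hcentral Z hZlt hxZ hPZ hQZn
  -- `q`-th powers lie in `Z`
  have hQqZ : ∀ y ∈ Q, y ^ q ∈ Z := by
    set K := Subgroup.closure ((fun y => y ^ q) '' (Q : Set G)) ⊔ ⁅Q, Q⁆ with hK
    have hKn : ∀ g ∈ Subgroup.normalizer (Q : Set G), g ∈ Subgroup.normalizer (K : Set G) := by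
      intro g hg
      rw [Subgroup.mem_normalizer_iff_map_conj_eq]
      show K.map (MulAut.conj g).toMonoidHom = _
      rw [hK, Subgroup.map_sup, Subgroup.map_commutator, map_conj_eq_of_mem hg, MonoidHom.map_closure]
      congr 2
      ext v
      constructor
      · rintro ⟨_, ⟨y, hy, rfl⟩, rfl⟩
        exact ⟨g * y * g⁻¹, (Subgroup.mem_normalizer_iff.mp hg y).mp hy, conj_pow⟩
      · rintro ⟨y, hy, rfl⟩
        refine ⟨_, ⟨g⁻¹ * y * g, (Subgroup.mem_normalizer_iff''.mp hg y).mp hy, rfl⟩, ?_⟩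
        show g * (g⁻¹ * y * g) ^ q * g⁻¹ = y ^ q
        rw [← conj_pow]
        congr 1
        group
    have hKlt : K < Q := by
      refine lt_of_le_of_ne (sup_le ((Subgroup.closure_le _).mpr ?_) hQQlt.le) ?_
      · rintro _ ⟨y, hy, rfl⟩; exact pow_mem hy q
      intro hKQ
      haveI : (commutator Q).Normal := inferInstance
      let f : (Q ⧸ commutator Q) →* (Q ⧸ commutator Q) :=
        { toFun := fun w => w ^ q
          map_one' := one_pow q
          map_mul' := fun a b => (show Commute a b from Abelianization.commGroup Q |>.mul_comm a b).mul_pow q }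
      have hne : f.range ≠ ⊤ := by
        intro h
        haveI : Nontrivial (Q ⧸ commutator Q) := QuotientGroup.nontrivial_iff.mpr
          (Group.IsSolvable.commutator_lt_top_of_nontrivial (G := Q)).ne
        have hinj : Function.Injective f := Finite.injective_iff_surjective.mpr (MonoidHom.range_eq_top.mp h)
        have hQb : IsPGroup q (Q ⧸ commutator Q) := hQ.to_quotient _
        obtain ⟨n, hn'⟩ := IsPGroup.exists_card_eq hQb
        have hn : 0 < n := Nat.pos_of_ne_zero fun h0 => by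
          have h1 := Finite.one_lt_card (α := Q ⧸ commutator Q)
          rw [hn', h0, pow_zero] at h1
          exact lt_irrefl 1 h1
        haveI := Fintype.ofFinite (Q ⧸ commutator Q)
        obtain ⟨w, hw⟩ := exists_prime_orderOf_dvd_card' (G := Q ⧸ commutator Q) q
          (by rw [hn']; exact dvd_pow_self q hn.ne')
        have : w = 1 := hinj (by show w ^ q = 1 ^ q; rw [one_pow, ← hw, pow_orderOf_eq_one])
        rw [this, orderOf_one] at hw
        exact hq.one_lt.ne hw
      apply hne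
      rw [eq_top_iff]
      intro w _
      obtain ⟨y, rfl⟩ := QuotientGroup.mk'_surjective (commutator Q) w
      have hle : K ≤ (f.range.comap (QuotientGroup.mk' (commutator Q))).map Q.subtype := by
        refine sup_le ((Subgroup.closure_le _).mpr ?_) ?_
        · rintro _ ⟨y, hy, rfl⟩
          exact ⟨⟨y, hy⟩ ^ q, ⟨QuotientGroup.mk' _ ⟨y, hy⟩, (map_pow _ _ q).symm⟩, rfl⟩
        · rw [← Subgroup.map_subtype_commutator]
          refine Subgroup.map_mono fun z hz => ?_
          rw [Subgroup.mem_comap, QuotientGroup.mk'_apply, (QuotientGroup.eq_one_iff z).mpr hz]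
          exact one_mem _
      obtain ⟨z, hz, hzy⟩ := hle (hKQ.symm ▸ y.2 : (y : G) ∈ K)
      exact (Subtype.ext hzy : z = y) ▸ hz
    intro y hy
    refine ⟨pow_mem hy q, hQmin K hKlt (hKn x hxQ) (fun a ha => hKn a (hPQ ha)) ?_⟩
    exact Subgroup.mem_sup_left (Subgroup.subset_closure ⟨y, hy, rfl⟩)
  -- exponent `q`
  have hQe : ∀ y ∈ Q, y ^ q = 1 := by
    have hcomm : ∀ a ∈ Q, ∀ b ∈ Q, ∀ g ∈ Q, g * ⁅a, b⁆ = ⁅a, b⁆ * g := fun a ha b hb g hg =>
      (Subgroup.mem_centralizer_iff.mp (hZc hg) _ (hQQZ (Subgroup.commutator_mem_commutator ha hb))).symm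
    have hcq : ∀ a ∈ Q, ∀ b ∈ Q, ⁅a, b⁆ ^ q = 1 := by
      intro a ha b hb
      have e : ∀ n : ℕ, a ^ n * b = ⁅a, b⁆ ^ n * b * a ^ n := by
        intro n
        induction n with
        | zero => simp
        | succ n ih =>
          calc a ^ (n + 1) * b = a * (a ^ n * b) := by rw [pow_succ', mul_assoc]
            _ = (a * ⁅a, b⁆ ^ n) * b * a ^ n := by rw [ih]; group
            _ = ⁅a, b⁆ ^ n * (a * b) * a ^ n := by
              rw [((show Commute a ⁅a, b⁆ from hcomm a ha b hb a ha).pow_right n).eq]; group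
            _ = ⁅a, b⁆ ^ n * (⁅a, b⁆ * b * a) * a ^ n := by
              rw [show a * b = ⁅a, b⁆ * b * a by rw [commutatorElement_def]; group]
            _ = _ := by rw [pow_succ, pow_succ']; group
      have h1 := e q
      rw [Subgroup.mem_centralizer_iff.mp (hZc hb) _ (hQqZ a ha), mul_assoc, eq_comm] at h1
      exact mul_eq_right.mp (h1.trans rfl)
    have hmul : ∀ a ∈ Q, ∀ b ∈ Q, (a * b) ^ q = a ^ q * b ^ q := by
      intro a ha b hb
      rw [mul_pow_of_central_commutator (c := ⁅b, a⁆) (hcomm b hb a ha a ha) (hcomm b hb a ha b hb)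
        (by rw [commutatorElement_def]; group)]
      obtain ⟨c, hc⟩ : q ∣ q.choose 2 := hq.dvd_choose_self (by norm_num) (lt_of_le_of_ne hq.two_le (Ne.symm hq2))
      rw [hc, pow_mul, hcq b hb a ha, one_pow, one_mul]
    let H : Subgroup G :=
      { carrier := {y | y ∈ Q ∧ y ^ q = 1}
        one_mem' := ⟨one_mem _, one_pow q⟩
        mul_mem' := fun {a b} ha hb => ⟨mul_mem ha.1 hb.1, by rw [hmul a ha.1 b hb.1, ha.2, hb.2, one_mul]⟩
        inv_mem' := fun {a} ha => ⟨inv_mem ha.1, by rw [inv_pow, ha.2, inv_one]⟩ }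
    have hle : ⁅Q, P⁆ ≤ H := Subgroup.commutator_le.mpr fun y hy a ha => by
      have h1 : a * y⁻¹ * a⁻¹ ∈ Q := (Subgroup.mem_normalizer_iff.mp (hPQ ha) _).mp (inv_mem hy)
      have e : ⁅y, a⁆ = y * (a * y⁻¹ * a⁻¹) := by rw [commutatorElement_def]; group
      refine ⟨e ▸ mul_mem hy h1, ?_⟩
      rw [e, hmul y hy _ h1, conj_pow, inv_pow]
      have h2 : a * (y ^ q)⁻¹ = (y ^ q)⁻¹ * a :=
        Subgroup.mem_centralizer_iff.mp (inv_mem (hQqZ y hy)).2 a ha
      rw [h2]; group
    intro y hy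
    exact (hle (hQP.symm ▸ hy : y ∈ ⁅Q, P⁆)).2
  by_cases hab : ∀ a ∈ Q, ∀ b ∈ Q, a * b = b * a
  · exact critical_abelian_false (p := p) (q := q) (r := r) hp2 hr2 hqp hrp V hV x hxr hCV P hP hP1 hxP
      hPx hPfix hPmin hPc Q hab hQe hQ1 hxQ hPQ hQP hfaith
  -- the nonabelian case
  have hQx' : ∀ z ∈ Z, Commute z x → ∀ y ∈ Q, y ∉ Z → Commute y x → z = 1 := by
    intro z hz hzx y hy hyZ hyx
    by_contra hz1
    obtain ⟨m, hm⟩ := hQx z hz.1 y hy hzx hyx (Subgroup.mem_centralizer_iff.mp (hZc hy) z hz)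
      (hQe z hz.1) (hQe y hy) hz1
    exact hyZ (hm ▸ pow_mem hz m)
  have hcopX : (Nat.card X).Coprime (Nat.card Q) := by
    obtain ⟨j, hj⟩ := hQ.exists_card_eq
    rw [hj, hX, Nat.card_zpowers]
    exact Nat.Coprime.coprime_dvd_left (orderOf_dvd_of_pow_eq_one hxr)
      (((Nat.coprime_primes hr hq).mpr (Ne.symm hqr)).pow_right j)
  -- a fixed element outside `Z`
  obtain ⟨y, hy, hyZ, hyx⟩ : ∃ y ∈ Q, y ∉ Z ∧ Commute y x := by
    set S := Subgroup.normalizer (Q : Set G) ⊓ Subgroup.normalizer (Z : Set G) with hS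
    set N := Z.subgroupOf Q with hN
    haveI : N.Normal := Subgroup.normal_subgroupOf_of_le_normalizer hQZn
    have hQbc : ∀ a b : Q ⧸ N, a * b = b * a := by
      intro a b
      obtain ⟨a, rfl⟩ := QuotientGroup.mk'_surjective N a
      obtain ⟨b, rfl⟩ := QuotientGroup.mk'_surjective N b
      rw [← map_mul, ← map_mul, QuotientGroup.mk'_apply, QuotientGroup.mk'_apply, QuotientGroup.eq]
      show ((a * b)⁻¹ * (b * a) : G) ∈ Z
      have h := hQQZ (Subgroup.commutator_mem_commutator (inv_mem b.2) (inv_mem a.2))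
      simpa [commutatorElement_def, mul_assoc] using h
    letI : CommGroup (Q ⧸ N) := { (inferInstance : Group (Q ⧸ N)) with mul_comm := hQbc }
    let α : S →* MulAut Q := Q.normalizerMonoidHom.comp (Subgroup.inclusion inf_le_left)
    have hα : ∀ (g : S) (v : Q), ((α g v : Q) : G) = g * v * (g : G)⁻¹ := fun g v => rfl
    have hαN : ∀ g : S, N.map (α g).toMonoidHom = N := fun g => by
      refine Subgroup.eq_of_le_of_card_ge ?_ (Subgroup.card_map_of_injective (α g).injective).ge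
      rintro _ ⟨v, hv, rfl⟩
      exact (Subgroup.mem_normalizer_iff.mp g.2.2 _).mp hv
    let φ : S →* MulAut (Q ⧸ N) :=
      { toFun := fun g => QuotientGroup.congr N N (α g) (hαN g)
        map_one' := MulEquiv.ext fun w => by
          obtain ⟨w, rfl⟩ := QuotientGroup.mk'_surjective N w
          show QuotientGroup.mk' N (α 1 w) = QuotientGroup.mk' N w
          rw [map_one]; rfl
        map_mul' := fun g h => MulEquiv.ext fun w => by
          obtain ⟨w, rfl⟩ := QuotientGroup.mk'_surjective N w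
          show QuotientGroup.mk' N (α (g * h) w) = QuotientGroup.mk' N (α g (α h w))
          rw [map_mul]; rfl }
    have hPS : P ≤ S := le_inf hPQ hPZ
    haveI : Nontrivial (Q ⧸ N) := QuotientGroup.nontrivial_iff.mpr fun h => hZlt.not_ge fun v hv => by
      have : (⟨v, hv⟩ : Q) ∈ N := h ▸ Subgroup.mem_top _
      exact this
    obtain ⟨w, hw1, hwx⟩ := exists_fixed_of_frobenius φ (P.subgroupOf S) ⟨x, hxQ, hxZ⟩ hr
      (Subtype.ext hxr)
      (by
        rw [Subgroup.mem_normalizer_iff]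
        intro g
        simp only [Subgroup.mem_subgroupOf, Subgroup.coe_mul, InvMemClass.coe_inv]
        exact Subgroup.mem_normalizer_iff.mp hxP _)
      (fun a ha b hb => Subtype.ext (hPc _ ha _ hb))
      (fun a ha h => Subtype.ext (hPfix _ ha (congrArg Subtype.val h)))
      (by
        rw [Nat.card_congr (Subgroup.subgroupOfEquivOfLe hPS).toEquiv]
        exact hcopPQ.coprime_dvd_right (Subgroup.card_quotient_dvd_card N))
      (fun w hw => by
        obtain ⟨⟨v, hv⟩, rfl⟩ := QuotientGroup.mk'_surjective N w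
        obtain ⟨n, hn, hc⟩ := Coprime.exists_mem_centralizer_of_fixed_coset hPZ
          (hcopPQ.coprime_dvd_right (Subgroup.card_dvd_of_le hZlt.le)) (Or.inr (Coprime.isSolvable_of_le hZlt.le hsQ))
          (hQZn hv) (fun a ha => by
            have h1 := hw ⟨a, hPS ha⟩ ha
            have h2 : α ⟨a, hPS ha⟩ ⟨v, hv⟩ * (⟨v, hv⟩ : Q)⁻¹ ∈ N := by
              rw [← QuotientGroup.eq_one_iff, QuotientGroup.mk_mul, QuotientGroup.mk_inv,
                show ((α ⟨a, hPS ha⟩ ⟨v, hv⟩ : Q) : Q ⧸ N) = ((⟨v, hv⟩ : Q) : Q ⧸ N) from h1, mul_inv_cancel]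
            exact h2)
        have hvn : v * n ∈ Z := ⟨mul_mem hv hn.1, hc⟩
        refine (QuotientGroup.eq_one_iff _).mpr ?_
        show v ∈ Z
        simpa using mul_mem hvn (inv_mem hn))
    obtain ⟨⟨v, hv⟩, rfl⟩ := QuotientGroup.mk'_surjective N w
    obtain ⟨n, hn, hc⟩ := Coprime.exists_mem_centralizer_of_fixed_coset (A := X)
      (Subgroup.zpowers_le.mpr hxZ)
      (hcopX.coprime_dvd_right (Subgroup.card_dvd_of_le hZlt.le)) (Or.inl (Coprime.isSolvable_zpowers x))
      (hQZn hv) (fun a ha => by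
        obtain ⟨j, hj⟩ := (isOfFinOrder_of_finite x).mem_powers_iff_mem_zpowers.mpr ha
        change x ^ j = a at hj
        subst hj
        clear ha
        induction j with
        | zero => simp
        | succ j ih =>
          have h2 : α ⟨x, hxQ, hxZ⟩ ⟨v, hv⟩ * (⟨v, hv⟩ : Q)⁻¹ ∈ N := by
            rw [← QuotientGroup.eq_one_iff, QuotientGroup.mk_mul, QuotientGroup.mk_inv,
              show ((α ⟨x, hxQ, hxZ⟩ ⟨v, hv⟩ : Q) : Q ⧸ N) = ((⟨v, hv⟩ : Q) : Q ⧸ N) from hwx, mul_inv_cancel]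
          have h3 : x ^ j * (x * v * x⁻¹ * v⁻¹) * (x ^ j)⁻¹ ∈ Z :=
            (Subgroup.mem_normalizer_iff.mp (pow_mem hxZ j) _).mp h2
          have h4 := mul_mem h3 ih
          have e : x ^ (j + 1) * v * (x ^ (j + 1))⁻¹ * v⁻¹ =
              x ^ j * (x * v * x⁻¹ * v⁻¹) * (x ^ j)⁻¹ * (x ^ j * v * (x ^ j)⁻¹ * v⁻¹) := by
            rw [pow_succ]; group
          rw [e]; exact h4)
    refine ⟨v * n, mul_mem hv hn.1, fun h => hw1 ?_, (Subgroup.mem_centralizer_iff.mp hc x (Subgroup.mem_zpowers x)).symm⟩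
    refine (QuotientGroup.eq_one_iff _).mpr ?_
    show v ∈ Z
    simpa using mul_mem h (inv_mem hn)
  -- `x` acts on `Z` without fixed points
  have hZx : ⁅Z, X⁆ = Z := by
    have h := Coprime.commutator_sup_centralizer_eq (A := X) (K := Z) (Subgroup.zpowers_le.mpr hxZ)
      (hcopX.coprime_dvd_right (Subgroup.card_dvd_of_le hZlt.le)) (Or.inl (Coprime.isSolvable_zpowers x))
    have h0 : Z ⊓ Subgroup.centralizer (X : Set G) = ⊥ := eq_bot_iff.mpr fun z hz => hQx' z hz.1
      (Subgroup.mem_centralizer_iff.mp hz.2 x (Subgroup.mem_zpowers x)).symm y hy hyZ hyx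
    rwa [h0, sup_bot_eq] at h
  have hVc : ∀ u ∈ V, ∀ v ∈ V, u * v = v * u := fun u hu v hv =>
    congrArg Subtype.val (hV.1.is_comm.comm (⟨u, hu⟩ : V) ⟨v, hv⟩)
  have hVn : ∀ A : Subgroup G, A ≤ Subgroup.normalizer (V : Set G) := fun A => by
    rw [Subgroup.normalizer_eq_top]; exact le_top
  have hcopV : (Nat.card Z).Coprime (Nat.card V) := by
    obtain ⟨i, hi⟩ := (hQ.to_le hZlt.le).exists_card_eq
    obtain ⟨j, hj⟩ := (show IsPGroup p V from fun u => ⟨1, Subtype.ext (by simpa using hV.2 u u.2)⟩).exists_card_eq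
    rw [hi, hj]; exact Nat.coprime_pow_primes i j hq hp hqp
  set U := ⁅V, Z⁆ with hU
  have hUV : U ≤ V := Subgroup.commutator_le_left _ _
  have hUZ : U ⊓ Subgroup.centralizer (Z : Set G) = ⊥ :=
    inf_centralizer_commutator_eq_bot hVc (hVn Z) hcopV
  have hUn : ∀ g, g ∈ Subgroup.normalizer (Z : Set G) → g ∈ Subgroup.normalizer (U : Set G) := by
    intro g hg
    rw [Subgroup.mem_normalizer_iff_map_conj_eq]
    show U.map (MulAut.conj g).toMonoidHom = _
    rw [hU, Subgroup.map_commutator, map_conj_eq_of_mem hg,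
      map_conj_eq_of_mem (by rw [Subgroup.normalizer_eq_top]; trivial : g ∈ Subgroup.normalizer (V : Set G))]
  have hyU : y ∈ Subgroup.normalizer (U : Set G) := hUn y (hQZn hy)
  -- `y` is a power map on the fixed points
  obtain ⟨m, hm⟩ : ∃ m : ℕ, ∀ u ∈ U, x * u * x⁻¹ = u → y * u * y⁻¹ = u ^ m := by
    by_cases h : ∀ u ∈ U, x * u * x⁻¹ = u → u = 1
    · exact ⟨1, fun u hu hux => by rw [h u hu hux]; simp⟩
    push Not at h
    obtain ⟨c, hc, hcx, hc1⟩ := h
    have hyc : y * c * y⁻¹ ∈ U := (Subgroup.mem_normalizer_iff.mp hyU c).mp hc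
    have hycx : x * (y * c * y⁻¹) * x⁻¹ = y * c * y⁻¹ := by
      calc x * (y * c * y⁻¹) * x⁻¹ = (x * y) * c * (x * y)⁻¹ := by group
        _ = y * (x * c * x⁻¹) * y⁻¹ := by rw [← hyx.eq]; group
        _ = _ := by rw [hcx]
    obtain ⟨m, hm⟩ := hCV c (hUV hc) _ (hUV hyc) hcx hycx hc1
    refine ⟨m, fun u hu hux => ?_⟩
    obtain ⟨j, rfl⟩ := hCV c (hUV hc) u (hUV hu) hcx hux hc1
    rw [← conj_pow, ← hm, ← pow_mul, ← pow_mul, mul_comm]
  have hscal := conj_eq_pow_of_fixed (p := p) hr hr2 hrp hq hq2 hqp hqr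
    (fun u hu v hv => hVc u (hUV hu) v (hUV hv)) (fun u hu => hV.2 u (hUV hu)) hxr (hUn x hxZ) hxZ
    (fun z hz => hUn z (Subgroup.le_normalizer hz)) (hQ.to_le hZlt.le) hZx hUZ hyU hyx
    (fun z hz => (Subgroup.mem_centralizer_iff.mp (hZc hy) z hz).symm) hm
  -- so `y` is central
  have hVdec := Coprime.commutator_sup_centralizer_eq (A := Z) (K := V) (hVn Z) hcopV
    (Or.inl (Coprime.isSolvable_of_le hZlt.le hsQ))
  have hycen : ∀ g ∈ Q, g * y = y * g := by
    intro g hg
    have hk : ⁅g, y⁆ ∈ Z := hQQZ (Subgroup.commutator_mem_commutator hg hy)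
    have hcU : ⁅g, y⁆ ∈ Subgroup.centralizer (U : Set G) := by
      rw [Subgroup.mem_centralizer_iff]
      intro u hu
      have hgn := hUn g (hQZn hg)
      have hu' : g⁻¹ * (y⁻¹ * u * y) * g ∈ U := (Subgroup.mem_normalizer_iff''.mp hgn _).mp
        ((Subgroup.mem_normalizer_iff''.mp hyU _).mp hu)
      have h1 := hscal _ hu'
      have h2 := hscal _ ((Subgroup.mem_normalizer_iff''.mp hyU _).mp hu)
      rw [show y * (y⁻¹ * u * y) * y⁻¹ = u by group] at h2
      have e : ⁅g, y⁆ * u * ⁅g, y⁆⁻¹ = g * (y * (g⁻¹ * (y⁻¹ * u * y) * g) * y⁻¹) * g⁻¹ := by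
        rw [commutatorElement_def]; group
      rw [h1, ← conj_pow, show g * (g⁻¹ * (y⁻¹ * u * y) * g) * g⁻¹ = y⁻¹ * u * y by group, ← h2] at e
      exact (mul_inv_eq_iff_eq_mul.mp e).symm
    have hcV : ⁅g, y⁆ ∈ Subgroup.centralizer (V : Set G) := by
      rw [← hVdec]
      refine Subgroup.mem_centralizer_iff.mpr fun v hv => ?_
      have hle : U ⊔ (V ⊓ Subgroup.centralizer (Z : Set G)) ≤ Subgroup.centralizer ({⁅g, y⁆} : Set G) :=
        sup_le (fun v hv => Subgroup.mem_centralizer_singleton_iff.mpr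
            (Subgroup.mem_centralizer_iff.mp hcU v hv))
          (fun v hv => Subgroup.mem_centralizer_singleton_iff.mpr
            (Subgroup.mem_centralizer_iff.mp hv.2 _ hk).symm)
      exact Subgroup.mem_centralizer_singleton_iff.mp (hle hv)
    have h1 : ⁅g, y⁆ ∈ Q ⊓ Subgroup.centralizer (V : Set G) := ⟨hk.1, hcV⟩
    rw [hfaith, Subgroup.mem_bot, commutatorElement_eq_one_iff_mul_comm] at h1
    exact h1
  -- the centre is centralised by `P`
  set C := Q ⊓ Subgroup.centralizer (Q : Set G) with hC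
  have hCn : ∀ g ∈ Subgroup.normalizer (Q : Set G), g ∈ Subgroup.normalizer (C : Set G) := by
    intro g hg
    have key : ∀ g ∈ Subgroup.normalizer (Q : Set G), ∀ c ∈ C, g * c * g⁻¹ ∈ C := fun g hg c hc => by
      refine ⟨(Subgroup.mem_normalizer_iff.mp hg c).mp hc.1, Subgroup.mem_centralizer_iff.mpr fun a ha => ?_⟩
      have h1 := Subgroup.mem_centralizer_iff.mp hc.2 _ ((Subgroup.mem_normalizer_iff''.mp hg a).mp ha)
      calc a * (g * c * g⁻¹) = g * ((g⁻¹ * a * g) * c) * g⁻¹ := by group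
        _ = g * (c * (g⁻¹ * a * g)) * g⁻¹ := by rw [h1]
        _ = _ := by group
    rw [Subgroup.mem_normalizer_iff]
    exact fun c => ⟨key g hg c, fun h => by simpa [mul_assoc] using key g⁻¹ (inv_mem hg) _ h⟩
  have hClt : C < Q := lt_of_le_of_ne inf_le_left fun h => hab fun a ha b hb =>
    (Subgroup.mem_centralizer_iff.mp ((h.symm ▸ ha : a ∈ C)).2 b hb).symm
  exact hyZ ⟨hy, hQmin C hClt (hCn x hxQ) (fun a ha => hCn a (hPQ ha))
    ⟨hy, Subgroup.mem_centralizer_iff.mpr fun g hg => hycen g hg⟩⟩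

end Cfsg.Agent.Lib.OddLocal
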