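import Cfsg.Agent.Lib.OddLocal.OddHallHigman
import Cfsg.Agent.Lib.OddLocal.Coprime

/-!
Auxiliary facts on coprime actions on abelian groups, used for the `p`-length one theorem.
-/

set_option autoImplicit false

namespace Cfsg.Agent.Lib.OddLocal

open Cfsg.Agent.Lib
open scoped commutatorElement

theorem pow_mem_of_not_dvd {G : Type*} [Group G] {x : G} {r i : ℕ} (hr : r.Prime) (hxr : x ^ r = 1)
    (hi : ¬ r ∣ i) : ∃ a : ℕ, (x ^ i) ^ a = x := by
  obtain ⟨a, -, ha⟩ := Nat.exists_mul_mod_eq_gcd (n := i) (k := r) (by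
    rw [show i.gcd r = 1 from ((hr.coprime_iff_not_dvd.mpr hi).symm)]; exact hr.one_lt)
  rw [show i.gcd r = 1 from ((hr.coprime_iff_not_dvd.mpr hi).symm)] at ha
  refine ⟨a, ?_⟩
  rw [← pow_mul, ← Nat.div_add_mod (i * a) r, ha, pow_add, pow_mul, hxr, one_pow, one_mul, pow_one]

/-- An element of prime order acting on a group without fixed points, and that group acting on a
module without fixed points: the element fixes a point. -/
theorem exists_fixed_of_frobenius {A : Type*} [CommGroup A] [Finite A] [Nontrivial A] {Γ : Type*}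
    [Group Γ] [Finite Γ] (φ : Γ →* MulAut A) (P : Subgroup Γ) (x : Γ) {r : ℕ} (hr : r.Prime)
    (hxr : x ^ r = 1) (hxP : x ∈ Subgroup.normalizer (P : Set Γ))
    (hPc : ∀ a ∈ P, ∀ b ∈ P, a * b = b * a) (hfpf : ∀ a ∈ P, x * a * x⁻¹ = a → a = 1)
    (hcop : (Nat.card P).Coprime (Nat.card A)) (hP : ∀ w, (∀ a ∈ P, φ a w = w) → w = 1) :
    ∃ w : A, w ≠ 1 ∧ φ x w = w := by
  classical
  haveI := Fintype.ofFinite P
  by_contra h
  push Not at h
  have h' : ∀ w, φ x w = w → w = 1 := fun w hw => by_contra fun h1 => h w h1 hw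
  have hnorm : ∀ v : A, ∏ i ∈ Finset.range r, φ (x ^ i) v = 1 := fun v => by
    refine h' _ ?_
    rw [map_prod]
    have h1 := Finset.prod_range_succ (fun i => φ (x ^ i) v) r
    rw [Finset.prod_range_succ', hxr, pow_zero] at h1
    simp only [← MulAut.mul_apply, ← map_mul, ← pow_succ']
    exact mul_right_cancel h1
  obtain ⟨w, hw⟩ := exists_ne (1 : A)
  apply hw
  have h1 : ∏ i ∈ Finset.range r, ∏ a : P, φ ((a : Γ) * x ^ i * (a : Γ)⁻¹) w = 1 := by
    rw [Finset.prod_comm]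
    refine Finset.prod_eq_one fun a _ => ?_
    have h2 := congrArg (φ (a : Γ)) (hnorm (φ ((a : Γ)⁻¹) w))
    rw [map_prod, map_one] at h2
    simpa only [← MulAut.mul_apply, ← map_mul, ← mul_assoc] using h2
  rw [Finset.prod_eq_single 0] at h1
  · simp only [pow_zero, mul_one, mul_inv_cancel, map_one, MulAut.one_apply, Finset.prod_const,
      Finset.card_univ, ← Nat.card_eq_fintype_card] at h1
    exact orderOf_eq_one_iff.mp (Nat.eq_one_of_dvd_coprimes hcop (orderOf_dvd_of_pow_eq_one h1)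
      (orderOf_dvd_natCard w))
  · intro i hi hi0
    have hir : ¬ r ∣ i := fun hd => by
      have := Nat.le_of_dvd (Nat.pos_of_ne_zero hi0) hd
      have := Finset.mem_range.mp hi
      omega
    have hxi : x ^ i ∈ Subgroup.normalizer (P : Set Γ) := pow_mem hxP i
    let e : P → P := fun a => ⟨(a : Γ) * x ^ i * (a : Γ)⁻¹ * (x ^ i)⁻¹, by
      rw [mul_assoc (a : Γ), mul_assoc (a : Γ)]
      exact mul_mem a.2 ((Subgroup.mem_normalizer_iff.mp hxi _).mp (inv_mem a.2))⟩
    have he : Function.Injective e := by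
      intro a b hab
      have h2 : (a : Γ) * x ^ i * (a : Γ)⁻¹ = (b : Γ) * x ^ i * (b : Γ)⁻¹ :=
        mul_right_cancel (congrArg Subtype.val hab)
      have h3 : x ^ i * ((b : Γ)⁻¹ * a) * (x ^ i)⁻¹ = (b : Γ)⁻¹ * a := by
        have := congrArg (fun t => (b : Γ)⁻¹ * t * (a : Γ) * (x ^ i)⁻¹) h2
        simp only [mul_assoc, inv_mul_cancel_left, inv_mul_cancel, mul_one] at this ⊢
        simpa [mul_assoc] using this.symm
      obtain ⟨c, hc⟩ := pow_mem_of_not_dvd hr hxr hir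
      have h4 : x * ((b : Γ)⁻¹ * a) * x⁻¹ = (b : Γ)⁻¹ * a := by
        rw [mul_inv_eq_iff_eq_mul] at h3 ⊢
        have := (show Commute (x ^ i) ((b : Γ)⁻¹ * a) from h3).pow_left c
        rwa [hc] at this
      exact Subtype.ext (inv_mul_eq_one.mp (hfpf _ (mul_mem (inv_mem b.2) a.2) h4)).symm
    have h2 : ∏ a : P, φ ((a : Γ) * x ^ i * (a : Γ)⁻¹) w = ∏ b : P, φ (b : Γ) (φ (x ^ i) w) := by
      refine Fintype.prod_bijective e (Finite.injective_iff_bijective.mp he) _ _ fun a => ?_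
      rw [← MulAut.mul_apply, ← map_mul]
      show _ = φ ((a : Γ) * x ^ i * (a : Γ)⁻¹ * (x ^ i)⁻¹ * x ^ i) w
      rw [inv_mul_cancel_right]
    rw [h2]
    refine hP _ fun a ha => ?_
    rw [map_prod]
    refine Fintype.prod_equiv (Equiv.mulLeft (⟨a, ha⟩ : P)) _ _ fun b => ?_
    rw [← MulAut.mul_apply, ← map_mul]
    rfl
  · intro h0
    exact absurd (Finset.mem_range.mpr hr.pos) h0

variable {G : Type*} [Group G] [Finite G]

/-- Commutators lie in the kernel of a fixed-point-free action. -/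
theorem commute_commutator_of_fixedPointFree {U Q : Subgroup G} {x : G} {p r q : ℕ} [Fact p.Prime]
    (hr : r.Prime) (hr2 : r ≠ 2) (hrp : r ≠ p) (hq : q.Prime) (hq2 : q ≠ 2) (hqp : q ≠ p) (hqr : q ≠ r)
    (hUc : ∀ u ∈ U, ∀ v ∈ U, u * v = v * u) (hUp : ∀ u ∈ U, u ^ p = 1) (hxr : x ^ r = 1)
    (hxU : x ∈ Subgroup.normalizer (U : Set G)) (hxQ : x ∈ Subgroup.normalizer (Q : Set G))
    (hQU : Q ≤ Subgroup.normalizer (U : Set G)) (hQ : IsPGroup q Q)
    (hfpf : ∀ u ∈ U, x * u * x⁻¹ = u → u = 1) :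
    ∀ y ∈ Q, ∀ u ∈ U, ⁅x, y⁆ * u = u * ⁅x, y⁆ := by
  letI : CommGroup U := { (inferInstance : Group U) with
    mul_comm := fun u v => Subtype.ext (hUc u u.2 v v.2) }
  set ψ : Subgroup.normalizer (U : Set G) →* MulAut U := U.normalizerMonoidHom with hψ
  set Q' := (Q.subgroupOf (Subgroup.normalizer (U : Set G))).map ψ with hQ'
  have hxQ' : ψ ⟨x, hxU⟩ ∈ Subgroup.normalizer (Q' : Set (MulAut U)) := by
    refine Subgroup.le_normalizer_map ψ ⟨⟨x, hxU⟩, ?_, rfl⟩
    rw [SetLike.mem_coe, Subgroup.mem_normalizer_iff]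
    intro g
    simp only [Subgroup.mem_subgroupOf, Subgroup.coe_mul, InvMemClass.coe_inv]
    exact Subgroup.mem_normalizer_iff.mp hxQ _
  have h := commute_of_fixedPointFree_mulAut (V := U) (p := p)
    (fun u => Subtype.ext (hUp u u.2)) hr hr2 hrp hq hq2 hqp hqr (ψ ⟨x, hxU⟩)
    (by rw [← map_pow, show (⟨x, hxU⟩ : Subgroup.normalizer (U : Set G)) ^ r = 1 from Subtype.ext hxr,
      map_one])
    (fun u hu => Subtype.ext (hfpf u u.2 (congrArg Subtype.val hu)))
    Q' ((hQ.comap_of_injective (Subgroup.normalizer (U : Set G)).subtype Subtype.val_injective).map ψ)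
    hxQ'
  intro y hy u hu
  have hc := h (ψ ⟨y, hQU hy⟩) ⟨⟨y, hQU hy⟩, hy, rfl⟩
  have h1 : ψ ⁅(⟨x, hxU⟩ : Subgroup.normalizer (U : Set G)), ⟨y, hQU hy⟩⁆ = 1 := by
    rw [map_commutatorElement, commutatorElement_eq_one_iff_commute]
    exact hc
  have h2 := congrArg (fun f : MulAut U => ((f ⟨u, hu⟩ : U) : G)) h1
  change ⁅x, y⁆ * u * ⁅x, y⁆⁻¹ = u at h2
  exact mul_inv_eq_iff_eq_mul.mp h2

/-- An operator commuting with a fixed-point-free pair is determined by the fixed points. -/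
theorem conj_eq_pow_of_fixed {U Z : Subgroup G} {x y : G} {p r q m : ℕ} [Fact p.Prime]
    (hr : r.Prime) (hr2 : r ≠ 2) (hrp : r ≠ p) (hq : q.Prime) (hq2 : q ≠ 2) (hqp : q ≠ p) (hqr : q ≠ r)
    (hUc : ∀ u ∈ U, ∀ v ∈ U, u * v = v * u) (hUp : ∀ u ∈ U, u ^ p = 1) (hxr : x ^ r = 1)
    (hxU : x ∈ Subgroup.normalizer (U : Set G)) (hxZ : x ∈ Subgroup.normalizer (Z : Set G))
    (hZU : Z ≤ Subgroup.normalizer (U : Set G)) (hZ : IsPGroup q Z)
    (hZx : ⁅Z, Subgroup.zpowers x⁆ = Z) (hUZ : U ⊓ Subgroup.centralizer (Z : Set G) = ⊥)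
    (hyU : y ∈ Subgroup.normalizer (U : Set G)) (hyx : Commute y x) (hyZ : ∀ z ∈ Z, Commute y z)
    (hfix : ∀ u ∈ U, x * u * x⁻¹ = u → y * u * y⁻¹ = u ^ m) :
    ∀ u ∈ U, y * u * y⁻¹ = u ^ m := by
  letI : CommGroup U := { (inferInstance : Group U) with
    mul_comm := fun u v => Subtype.ext (hUc u u.2 v v.2) }
  let act : ∀ g ∈ Subgroup.normalizer (U : Set G), U → U := fun g hg u =>
    ⟨g * u * g⁻¹, (Subgroup.mem_normalizer_iff.mp hg _).mp u.2⟩
  let f : U →* U :=
    { toFun := fun u => act y hyU u * (u ^ m)⁻¹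
      map_one' := by simp [act]
      map_mul' := fun u v => by
        have e : act y hyU (u * v) = act y hyU u * act y hyU v := Subtype.ext (by
          simp only [act, Subgroup.coe_mul]; group)
        rw [e, mul_pow, mul_inv, mul_mul_mul_comm] }
  have hf : ∀ u : U, ((f u : U) : G) = y * u * y⁻¹ * ((u : G) ^ m)⁻¹ := fun u => rfl
  set I := f.range.map U.subtype with hI
  have hIU : I ≤ U := Subgroup.map_subtype_le _
  -- the image is invariant under anything commuting with `y`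
  have hinv : ∀ g ∈ Subgroup.normalizer (U : Set G), Commute y g →
      g ∈ Subgroup.normalizer (I : Set G) := by
    intro g hg hyg
    rw [Subgroup.mem_normalizer_iff_map_conj_eq]
    refine Subgroup.eq_of_le_of_card_ge ?_ (Subgroup.card_map_of_injective (MulAut.conj g).injective).ge
    rintro _ ⟨_, ⟨_, ⟨u, rfl⟩, rfl⟩, rfl⟩
    refine ⟨f (act g hg u), ⟨_, rfl⟩, ?_⟩
    show ((f (act g hg u) : U) : G) = g * (f u : U) * g⁻¹
    rw [hf, hf]
    show y * (g * u * g⁻¹) * y⁻¹ * ((g * u * g⁻¹) ^ m)⁻¹ = _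
    rw [conj_pow]
    calc y * (g * u * g⁻¹) * y⁻¹ * (g * (u : G) ^ m * g⁻¹)⁻¹
        = (y * g) * u * (y * g)⁻¹ * g * ((u : G) ^ m)⁻¹ * g⁻¹ := by group
      _ = (g * y) * u * (g * y)⁻¹ * g * ((u : G) ^ m)⁻¹ * g⁻¹ := by rw [hyg.eq]
      _ = _ := by group
  -- `x` has no fixed points on it
  have hfpf : ∀ v ∈ I, x * v * x⁻¹ = v → v = 1 := by
    rintro _ ⟨_, ⟨u, rfl⟩, rfl⟩ hv
    let σ : MulAut U := U.normalizerMonoidHom ⟨x, hxU⟩
    have hσv : ∀ (i : ℕ) (u : U), (((σ ^ i) u : U) : G) = x ^ i * u * (x ^ i)⁻¹ := by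
      intro i
      induction i with
      | zero => intro u; simp
      | succ i ih =>
        intro u
        rw [pow_succ, MulAut.mul_apply, ih, pow_succ, mul_inv_rev]
        show x ^ i * (x * u * x⁻¹) * (x ^ i)⁻¹ = _
        group
    have hfσ : ∀ u, f (σ u) = σ (f u) := fun u => Subtype.ext (by
      show y * (x * u * x⁻¹) * y⁻¹ * ((x * u * x⁻¹) ^ m)⁻¹ = x * (y * u * y⁻¹ * ((u : G) ^ m)⁻¹) * x⁻¹
      rw [conj_pow]
      calc y * (x * u * x⁻¹) * y⁻¹ * (x * (u : G) ^ m * x⁻¹)⁻¹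
          = (y * x) * u * (y * x)⁻¹ * x * ((u : G) ^ m)⁻¹ * x⁻¹ := by group
        _ = (x * y) * u * (x * y)⁻¹ * x * ((u : G) ^ m)⁻¹ * x⁻¹ := by rw [hyx.eq]
        _ = _ := by group)
    have hfix1 : σ (f u) = f u := Subtype.ext hv
    have hfixi : ∀ i : ℕ, f ((σ ^ i) u) = f u := by
      intro i
      induction i with
      | zero => rfl
      | succ i ih => rw [pow_succ', MulAut.mul_apply, hfσ, ih, hfix1]
    set w := ∏ i ∈ Finset.range r, (σ ^ i) u with hw
    have hσr : σ ^ r = 1 := MulEquiv.ext fun u => Subtype.ext (by rw [hσv, hxr]; simp)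
    have hwfix : σ w = w := by
      rw [hw, map_prod]
      have h1 := Finset.prod_range_succ (fun i => (σ ^ i) u) r
      rw [Finset.prod_range_succ', hσr, pow_zero] at h1
      simp only [← MulAut.mul_apply, ← pow_succ']
      exact mul_right_cancel h1
    have hfw : f w = 1 := Subtype.ext (by
      rw [hf, hfix w w.2 (congrArg Subtype.val hwfix)]; simp)
    rw [hw, map_prod, Finset.prod_congr rfl (fun i _ => hfixi i), Finset.prod_const,
      Finset.card_range] at hfw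
    have h2 : (f u) ^ p = 1 := Subtype.ext (hUp _ (f u).2)
    have h3 : f u = 1 := orderOf_eq_one_iff.mp (Nat.eq_one_of_dvd_coprimes
      ((Nat.coprime_primes hr Fact.out).mpr hrp) (orderOf_dvd_of_pow_eq_one hfw)
      (orderOf_dvd_of_pow_eq_one h2))
    rw [h3]; rfl
  have hc := commute_commutator_of_fixedPointFree hr hr2 hrp hq hq2 hqp hqr
    (fun a ha b hb => hUc a (hIU ha) b (hIU hb)) (fun a ha => hUp a (hIU ha)) hxr (hinv x hxU hyx)
    hxZ (fun z hz => hinv z (hZU hz) (hyZ z hz)) hZ hfpf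
  have hZI : Z ≤ Subgroup.centralizer (I : Set G) := by
    conv_lhs => rw [← hZx, Subgroup.commutator_comm]
    refine Subgroup.commutator_le.mpr fun g hg z hz => ?_
    obtain ⟨i, hi⟩ := (isOfFinOrder_of_finite x).mem_powers_iff_mem_zpowers.mpr hg
    change x ^ i = g at hi
    subst hi
    clear hg
    have key : ∀ i : ℕ, ∀ z ∈ Z, ⁅x ^ i, z⁆ ∈ Subgroup.centralizer (I : Set G) := by
      intro i
      induction i with
      | zero => intro z _; rw [pow_zero, commutatorElement_one_left]; exact one_mem _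
      | succ i ih =>
        intro z hz
        have hz' : x * z * x⁻¹ ∈ Z := (Subgroup.mem_normalizer_iff.mp hxZ _).mp hz
        have h1 : ⁅x ^ (i + 1), z⁆ = ⁅x ^ i, x * z * x⁻¹⁆ * ⁅x, z⁆ := by
          simp only [commutatorElement_def, pow_succ]; group
        rw [h1]
        refine mul_mem (ih _ hz') (Subgroup.mem_centralizer_iff.mpr fun v hv => ?_)
        exact (hc z hz v hv).symm
    exact key i z hz
  have hI1 : I = ⊥ := eq_bot_iff.mpr ((le_inf hIU (Subgroup.le_centralizer_iff.mp hZI)).trans hUZ.le)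
  intro u hu
  have h1 : ((f ⟨u, hu⟩ : U) : G) ∈ I := ⟨_, ⟨_, rfl⟩, rfl⟩
  rw [hI1, Subgroup.mem_bot, hf, mul_inv_eq_one] at h1
  exact h1

/-- Coprime action on an abelian group: `[V, Q]` has no fixed points. -/
theorem inf_centralizer_commutator_eq_bot {V Q : Subgroup G} (hVc : ∀ u ∈ V, ∀ v ∈ V, u * v = v * u)
    (hQV : Q ≤ Subgroup.normalizer (V : Set G)) (hcop : (Nat.card Q).Coprime (Nat.card V)) :
    ⁅V, Q⁆ ⊓ Subgroup.centralizer (Q : Set G) = ⊥ := by
  classical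
  haveI := Fintype.ofFinite Q
  letI : CommGroup V := { (inferInstance : Group V) with
    mul_comm := fun u v => Subtype.ext (hVc u u.2 v v.2) }
  let act : Q → V → V := fun g u =>
    ⟨g * u * (g : G)⁻¹, (Subgroup.mem_normalizer_iff.mp (hQV g.2) _).mp u.2⟩
  let N : V →* V :=
    { toFun := fun u => ∏ g : Q, act g u
      map_one' := Finset.prod_eq_one fun g _ => Subtype.ext (by simp [act])
      map_mul' := fun u v => by
        rw [← Finset.prod_mul_distrib]
        refine Finset.prod_congr rfl fun g _ => Subtype.ext ?_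
        simp only [act, Subgroup.coe_mul]; group }
  rw [eq_bot_iff]
  rintro u ⟨hu, hc⟩
  have hle : ⁅V, Q⁆ ≤ N.ker.map V.subtype := by
    refine Subgroup.commutator_le.mpr fun v hv g hg => ?_
    have hmem : g * v⁻¹ * g⁻¹ ∈ V := (Subgroup.mem_normalizer_iff.mp (hQV hg) _).mp (inv_mem hv)
    refine ⟨⟨v, hv⟩ * act ⟨g, hg⟩ (⟨v, hv⟩⁻¹), ?_, ?_⟩
    · show N (_ * _) = 1
      rw [map_mul]
      have h1 : N (act ⟨g, hg⟩ (⟨v, hv⟩⁻¹)) = N (⟨v, hv⟩⁻¹) :=
        Fintype.prod_equiv (Equiv.mulRight (⟨g, hg⟩ : Q)) _ _ fun a => Subtype.ext (by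
          simp only [act, Equiv.coe_mulRight, Subgroup.coe_mul, InvMemClass.coe_inv]; group)
      rw [h1, ← map_mul, mul_inv_cancel, map_one]
    · show v * (g * v⁻¹ * g⁻¹) = ⁅v, g⁆
      rw [commutatorElement_def]; group
  obtain ⟨u', hu', rfl⟩ := hle hu
  have h1 : ∀ g : Q, act g u' = u' := fun g => Subtype.ext (by
    show (g : G) * u' * (g : G)⁻¹ = u'
    rw [mul_inv_eq_iff_eq_mul]
    exact Subgroup.mem_centralizer_iff.mp hc g g.2)
  have h2 : N u' = 1 := hu'
  change ∏ g : Q, act g u' = 1 at h2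
  simp only [h1, Finset.prod_const, Finset.card_univ, ← Nat.card_eq_fintype_card] at h2
  rw [Subgroup.mem_bot, show u' = 1 from orderOf_eq_one_iff.mp (Nat.eq_one_of_dvd_coprimes hcop
    (orderOf_dvd_of_pow_eq_one h2) (orderOf_dvd_natCard u'))]
  rfl

end Cfsg.Agent.Lib.OddLocal
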