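import Cfsg.Prelude.Def_Transfer
import Cfsg.Agent.Lib.OddLocal.CriticalAction
import Cfsg.Agent.Lib.CoprimeGen.Abelian

/-!
The critical configuration for `p`-length one, abelian case.
-/

set_option autoImplicit false

namespace Cfsg.Agent.Lib.OddLocal

open Cfsg.Agent.Lib
open Cfsg.Agent.Lib.Coprime (mem_conj_smul conj_mul_smul conj_one_smul conj_smul_eq_of_mem_normalizer
  mem_normalizer_of_conj_smul_eq)
open scoped commutatorElement Pointwise

variable {G : Type*} [Group G] [Finite G]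

/-- If two subgroups normalise a subgroup with cyclic quotient, their commutator centralises the quotient. -/
theorem commutator_le_of_cyclic_quotient {Q Y : Subgroup G} (hQc : ∀ u ∈ Q, ∀ v ∈ Q, u * v = v * u)
    (hYQ : Y ≤ Q) {e : G} (he : Y ⊔ Subgroup.zpowers e = Q) {A B : Subgroup G}
    (hAQ : A ≤ Subgroup.normalizer (Q : Set G)) (hBQ : B ≤ Subgroup.normalizer (Q : Set G))
    (hAY : A ≤ Subgroup.normalizer (Y : Set G)) (hBY : B ≤ Subgroup.normalizer (Y : Set G)) :
    ⁅Q, ⁅A, B⁆⁆ ≤ Y := by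
  letI : CommGroup Q := { (inferInstance : Group Q) with
    mul_comm := fun u v => Subtype.ext (hQc u u.2 v v.2) }
  have heQ : e ∈ Q := he ▸ Subgroup.mem_sup_right (Subgroup.mem_zpowers e)
  have hdec : ∀ y ∈ Q, ∃ w ∈ Y, ∃ k : ℕ, y = w * e ^ k := by
    intro y hy
    rw [← he] at hy
    obtain ⟨w, hw, t, ht, rfl⟩ := Coprime.exists_mul_of_mem_sup (N := Y) (H := Subgroup.zpowers e)
      (Subgroup.zpowers_le.mpr ((Subgroup.mem_normalizer_iff).mpr fun n => by
        constructor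
        · intro hn; rw [hQc e heQ n (hYQ hn), mul_inv_cancel_right]; exact hn
        · intro hn
          have h2 : n = e⁻¹ * (e * n * e⁻¹) * e := by group
          rw [h2, hQc _ (inv_mem heQ) _ (hYQ hn), inv_mul_cancel_right]; exact hn)) hy
    obtain ⟨k, hk⟩ := (isOfFinOrder_of_finite e).mem_powers_iff_mem_zpowers.mpr ht
    exact ⟨w, hw, k, by rw [← hk]⟩
  have hpow : ∀ g, g ∈ Subgroup.normalizer (Q : Set G) → g ∈ Subgroup.normalizer (Y : Set G) →
      ∃ m : ℕ, ∀ y ∈ Q, g * y * g⁻¹ * (y ^ m)⁻¹ ∈ Y := by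
    intro g hgQ hgY
    obtain ⟨w₀, hw₀, m, hm⟩ := hdec _ ((Subgroup.mem_normalizer_iff.mp hgQ _).mp heQ)
    refine ⟨m, fun y hy => ?_⟩
    obtain ⟨w, hw, k, rfl⟩ := hdec y hy
    have hgw : g * w * g⁻¹ ∈ Y := (Subgroup.mem_normalizer_iff.mp hgY _).mp hw
    have h1 : g * (w * e ^ k) * g⁻¹ = g * w * g⁻¹ * (w₀ * e ^ m) ^ k := by
      rw [← hm, conj_pow]; group
    rw [h1, (show Commute w₀ (e ^ m) from hQc _ (hYQ hw₀) _ (pow_mem heQ _)).mul_pow,
      (show Commute w (e ^ k) from hQc _ (hYQ hw) _ (pow_mem heQ _)).mul_pow, ← pow_mul, ← pow_mul,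
      mul_comm k m, mul_inv_rev, ← mul_assoc (g * w * g⁻¹), mul_assoc (g * w * g⁻¹ * w₀ ^ k),
      mul_inv_cancel_left]
    exact mul_mem (mul_mem hgw (pow_mem hw₀ _)) (inv_mem (pow_mem hw _))
  let C : Subgroup G :=
    { carrier := {g | g ∈ Subgroup.normalizer (Q : Set G) ∧ g ∈ Subgroup.normalizer (Y : Set G) ∧
        ∀ y ∈ Q, g * y * g⁻¹ * y⁻¹ ∈ Y}
      one_mem' := ⟨one_mem _, one_mem _, fun y _ => by simp⟩
      mul_mem' := fun {g h} hg hh => ⟨mul_mem hg.1 hh.1, mul_mem hg.2.1 hh.2.1, fun y hy => by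
        have h2 : g * (h * y * h⁻¹ * y⁻¹) * g⁻¹ ∈ Y :=
          (Subgroup.mem_normalizer_iff.mp hg.2.1 _).mp (hh.2.2 y hy)
        have := mul_mem h2 (hg.2.2 y hy)
        simpa [mul_assoc] using this⟩
      inv_mem' := fun {g} hg => ⟨inv_mem hg.1, inv_mem hg.2.1, fun y hy => by
        have hz : g⁻¹ * y * g ∈ Q := (Subgroup.mem_normalizer_iff''.mp hg.1 _).mp hy
        have := inv_mem (hg.2.2 _ hz)
        simpa [mul_assoc] using this⟩ }
  have hC : ⁅A, B⁆ ≤ C := by
    refine Subgroup.commutator_le.mpr fun g hg h hh => ?_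
    obtain ⟨m, hm⟩ := hpow g (hAQ hg) (hAY hg)
    obtain ⟨n, hn⟩ := hpow h (hBQ hh) (hBY hh)
    have hcm : ∀ {H : Subgroup G}, A ≤ Subgroup.normalizer (H : Set G) →
        B ≤ Subgroup.normalizer (H : Set G) → ⁅g, h⁆ ∈ Subgroup.normalizer (H : Set G) := by
      intro H hA' hB'
      rw [commutatorElement_def]
      exact mul_mem (mul_mem (mul_mem (hA' hg) (hB' hh)) (inv_mem (hA' hg))) (inv_mem (hB' hh))
    refine ⟨hcm hAQ hBQ, hcm hAY hBY, fun y hy => ?_⟩
    set z := g⁻¹ * (h⁻¹ * y * h) * g with hz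
    have hzQ : z ∈ Q := (Subgroup.mem_normalizer_iff''.mp (hAQ hg) _).mp
      ((Subgroup.mem_normalizer_iff''.mp (hBQ hh) _).mp hy)
    have hgz : g * z * g⁻¹ ∈ Q := (Subgroup.mem_normalizer_iff.mp (hAQ hg) _).mp hzQ
    have hhz : h * z * h⁻¹ ∈ Q := (Subgroup.mem_normalizer_iff.mp (hBQ hh) _).mp hzQ
    -- both products act as the `m n`-th power
    have hY' : ∀ w ∈ Y, ∀ k : ℕ, ∀ u ∈ Q, g * (w * u ^ k) * g⁻¹ ∈ Q := fun w hw k u hu =>
      (Subgroup.mem_normalizer_iff.mp (hAQ hg) _).mp (mul_mem (hYQ hw) (pow_mem hu _))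
    have key : ∀ {a b : G} {i j : ℕ}, a ∈ Subgroup.normalizer (Y : Set G) →
        (∀ u ∈ Q, a * u * a⁻¹ * (u ^ i)⁻¹ ∈ Y) → (∀ u ∈ Q, b * u * b⁻¹ * (u ^ j)⁻¹ ∈ Y) →
        b ∈ Subgroup.normalizer (Q : Set G) →
        ∀ u ∈ Q, a * b * u * (a * b)⁻¹ * (u ^ (i * j))⁻¹ ∈ Y := by
      intro a b i j haY ha hb hbQ u hu
      have h1 : a * (b * u * b⁻¹ * (u ^ j)⁻¹) * a⁻¹ ∈ Y :=
        (Subgroup.mem_normalizer_iff.mp haY _).mp (hb u hu)
      have h2 := ha (u ^ j) (pow_mem hu j)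
      have h3 := mul_mem h1 h2
      rw [← pow_mul] at h2
      have e : a * b * u * (a * b)⁻¹ * (u ^ (i * j))⁻¹ =
          a * (b * u * b⁻¹ * (u ^ j)⁻¹) * a⁻¹ * (a * u ^ j * a⁻¹ * ((u ^ j) ^ i)⁻¹) := by
        rw [← pow_mul, mul_comm j i]; group
      rw [e]; exact h3
    have h1 := key (hAY hg) hm hn (hBQ hh) z hzQ
    have h2 := key (hBY hh) hn hm (hAQ hg) z hzQ
    rw [mul_comm n m] at h2
    have h3 := mul_mem h1 (inv_mem h2)
    have e : ⁅g, h⁆ * y * ⁅g, h⁆⁻¹ * y⁻¹ =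
        g * h * z * (g * h)⁻¹ * (z ^ (m * n))⁻¹ * (h * g * z * (h * g)⁻¹ * (z ^ (m * n))⁻¹)⁻¹ := by
      rw [hz, commutatorElement_def]; group
    rw [e]; exact h3
  refine Subgroup.commutator_le.mpr fun y hy k hk => ?_
  have := inv_mem ((hC hk).2.2 y hy)
  simpa [commutatorElement_def, mul_assoc] using this

/-- The abelian case. -/
theorem critical_abelian_false {p q r : ℕ} [Fact p.Prime] [Fact q.Prime] [Fact r.Prime] (hp2 : p ≠ 2)
    (hr2 : r ≠ 2) (hqp : q ≠ p) (hrp : r ≠ p) (V : Subgroup G) [V.Normal]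
    (hV : Cfsg.IsElementaryAbelian p V) (x : G) (hxr : x ^ r = 1)
    (hCV : ∀ c ∈ V, ∀ d ∈ V, x * c * x⁻¹ = c → x * d * x⁻¹ = d → c ≠ 1 → ∃ m : ℕ, c ^ m = d)
    (P : Subgroup G) (hP : IsPGroup p P) (hP1 : P ≠ ⊥) (hxP : x ∈ Subgroup.normalizer (P : Set G))
    (hPx : ⁅P, Subgroup.zpowers x⁆ = P) (hPfix : ∀ a ∈ P, x * a * x⁻¹ = a → a = 1)
    (hPmin : ∀ S : Subgroup G, S ≤ P → x ∈ Subgroup.normalizer (S : Set G) → S = ⊥ ∨ S = P)
    (hPc : ∀ a ∈ P, ∀ b ∈ P, a * b = b * a)
    (Q : Subgroup G) (hQc : ∀ a ∈ Q, ∀ b ∈ Q, a * b = b * a) (hQe : ∀ a ∈ Q, a ^ q = 1)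
    (hQ1 : Q ≠ ⊥) (hxQ : x ∈ Subgroup.normalizer (Q : Set G)) (hPQ : P ≤ Subgroup.normalizer (Q : Set G))
    (hQP : ⁅Q, P⁆ = Q) (hfaith : Q ⊓ Subgroup.centralizer (V : Set G) = ⊥) : False := by
  classical
  have hr : r.Prime := Fact.out
  have hq : q.Prime := Fact.out
  have hp : p.Prime := Fact.out
  have hVc : ∀ u ∈ V, ∀ v ∈ V, u * v = v * u := fun u hu v hv =>
    congrArg Subtype.val (hV.1.is_comm.comm (⟨u, hu⟩ : V) ⟨v, hv⟩)
  letI : CommGroup V := { (inferInstance : Group V) with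
    mul_comm := fun u v => Subtype.ext (hVc u u.2 v v.2) }
  letI : CommGroup Q := { (inferInstance : Group Q) with
    mul_comm := fun u v => Subtype.ext (hQc u u.2 v v.2) }
  have hQp : IsPGroup q Q := fun u => ⟨1, Subtype.ext (by simpa using hQe u u.2)⟩
  have hVp : IsPGroup p V := fun u => ⟨1, Subtype.ext (by simpa using hV.2 u u.2)⟩
  have hcop : (Nat.card Q).Coprime (Nat.card V) := by
    obtain ⟨i, hi⟩ := hQp.exists_card_eq
    obtain ⟨j, hj⟩ := hVp.exists_card_eq
    rw [hi, hj]; exact Nat.coprime_pow_primes i j hq hp hqp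
  have hQV : Q ≤ Subgroup.normalizer (V : Set G) := by rw [Subgroup.normalizer_eq_top]; exact le_top
  have hVQ := inf_centralizer_commutator_eq_bot hVc hQV hcop
  -- the pieces
  let W : Subgroup G → Subgroup G := fun Y => V ⊓ Subgroup.centralizer (Y : Set G)
  let U : Subgroup G → Subgroup G := fun Y => ⁅W Y, Q⁆
  let Piece : Subgroup G → Prop := fun Y => Y ≤ Q ∧ (∃ a, Y ⊔ Subgroup.zpowers a = Q) ∧ U Y ≠ ⊥
  have hWn : ∀ (Y : Subgroup G), Y ≤ Q → Q ≤ Subgroup.normalizer (W Y : Set G) := by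
    intro Y hY g hg
    rw [Subgroup.mem_normalizer_iff]
    intro v
    have hmem : ∀ g ∈ Q, ∀ v ∈ W Y, g * v * g⁻¹ ∈ W Y := fun g hg v hv => ⟨(inferInstance : V.Normal).conj_mem v hv.1 g,
      Subgroup.mem_centralizer_iff.mpr fun y hy => by
        have h1 : y * v = v * y := Subgroup.mem_centralizer_iff.mp hv.2 y hy
        have h2 : y * g = g * y := hQc y (hY hy) g hg
        calc y * (g * v * g⁻¹) = (y * g) * v * g⁻¹ := by group
          _ = g * (y * v) * g⁻¹ := by rw [h2]; group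
          _ = g * v * (y * g⁻¹) := by rw [h1]; group
          _ = g * v * g⁻¹ * y := by rw [hQc y (hY hy) g⁻¹ (inv_mem hg)]; group⟩
    exact ⟨hmem g hg v, fun h => by simpa [mul_assoc] using hmem g⁻¹ (inv_mem hg) _ h⟩
  have hUW : ∀ Y, Y ≤ Q → U Y ≤ W Y := fun Y hY =>
    Subgroup.le_normalizer_iff_commutator_le_left.mp (hWn Y hY)
  have hUC : ∀ Y, U Y ⊓ Subgroup.centralizer (Q : Set G) = ⊥ := fun Y =>
    eq_bot_iff.mpr ((inf_le_inf_right _ (Subgroup.commutator_mono inf_le_left le_rfl)).trans hVQ.le)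
  have hUn : ∀ Y, ∀ g ∈ Q, g ∈ Subgroup.normalizer (U Y : Set G) := fun Y g hg =>
    Subgroup.normalizer_commutator_ge_right (W Y) Q hg
  have hne : ∀ Y, Piece Y → Y ≠ Q := fun Y hY h => hY.2.2 (by
    show ⁅W Y, Q⁆ = ⊥
    rw [Subgroup.commutator_eq_bot_iff_le_centralizer, h]; exact inf_le_right)
  have hmax : ∀ Y, Piece Y → ∀ y ∈ Q, y ∉ Y → Y ⊔ Subgroup.zpowers y = Q := by
    intro Y hY y hy hyY
    refine le_antisymm (sup_le hY.1 (Subgroup.zpowers_le.mpr hy)) ?_
    obtain ⟨a, ha⟩ := hY.2.1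
    have haQ : a ∈ Q := ha ▸ Subgroup.mem_sup_right (Subgroup.mem_zpowers a)
    obtain ⟨w, hw, t, ht, rfl⟩ := Coprime.exists_mul_of_mem_sup (N := Y) (H := Subgroup.zpowers a)
      (Subgroup.zpowers_le.mpr ((Subgroup.mem_normalizer_iff).mpr fun n => by
        constructor
        · intro hn; rw [hQc a haQ n (hY.1 hn), mul_inv_cancel_right]; exact hn
        · intro hn
          have h2 : n = a⁻¹ * (a * n * a⁻¹) * a := by group
          rw [h2, hQc _ (inv_mem haQ) _ (hY.1 hn), inv_mul_cancel_right]; exact hn))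
      (ha.symm ▸ hy : y ∈ Y ⊔ Subgroup.zpowers a)
    obtain ⟨k, rfl⟩ := (isOfFinOrder_of_finite a).mem_powers_iff_mem_zpowers.mpr ht
    have hk : ¬ q ∣ k := fun hd => by
      obtain ⟨c, rfl⟩ := hd
      exact hyY (mul_mem hw (by show a ^ (q * c) ∈ Y; rw [pow_mul, hQe a haQ, one_pow]; exact one_mem _))
    obtain ⟨c, hc⟩ := pow_mem_of_not_dvd hq (hQe a haQ) hk
    conv_lhs => rw [← ha]
    refine sup_le le_sup_left (Subgroup.zpowers_le.mpr ?_)
    suffices h : a ^ k ∈ Y ⊔ Subgroup.zpowers (w * a ^ k) by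
      have h' := pow_mem h c
      rwa [hc] at h'
    have h1 : w⁻¹ * (w * a ^ k) ∈ Y ⊔ Subgroup.zpowers (w * a ^ k) :=
      mul_mem (Subgroup.mem_sup_left (inv_mem hw)) (Subgroup.mem_sup_right (Subgroup.mem_zpowers _))
    simpa using h1
  let cj : G →* MulAut V := MulAut.conjNormal
  have hcj : ∀ g (v : V), ((cj g v : V) : G) = g * v * g⁻¹ := fun g v => MulAut.conjNormal_apply g v
  -- independence
  have indep : ∀ (s : Finset (ℕ ⊕ ℕ)) (f : ℕ ⊕ ℕ → Subgroup G) (u : ℕ ⊕ ℕ → V),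
      Set.InjOn f s → (∀ i ∈ s, Piece (f i)) → (∀ i ∈ s, (u i : G) ∈ U (f i)) →
      ∏ i ∈ s, u i = 1 → ∀ i ∈ s, u i = 1 := by
    intro s
    induction s using Finset.induction_on with
    | empty => intro f u _ _ _ _ i hi; simp at hi
    | @insert i₀ s hi₀ ih =>
      intro f u hinj hpiece hu hprod
      have hzero : ∀ i ∈ s, u i = 1 := by
        intro i hi
        have hne' : f i₀ ≠ f i := fun h => hi₀ (hinj (Finset.mem_insert_self _ _) (Finset.mem_insert_of_mem hi) h ▸ hi)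
        obtain ⟨y, hy, hyn⟩ : ∃ y ∈ f i₀, y ∉ f i := by
          by_contra h
          push Not at h
          refine hne' (le_antisymm h fun z hz => ?_)
          by_contra hz'
          exact hne _ (hpiece i (Finset.mem_insert_of_mem hi)) (le_antisymm (hpiece i (Finset.mem_insert_of_mem hi)).1
            ((hmax _ (hpiece i₀ (Finset.mem_insert_self _ _)) z ((hpiece i (Finset.mem_insert_of_mem hi)).1 hz) hz').ge.trans
              (sup_le h (Subgroup.zpowers_le.mpr hz))))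
        have hyQ := (hpiece i₀ (Finset.mem_insert_self _ _)).1 hy
        let D : V →* V :=
          { toFun := fun v => cj y v * v⁻¹
            map_one' := by simp
            map_mul' := fun a b => by rw [map_mul, mul_inv, mul_mul_mul_comm] }
        have hD0 : D (u i₀) = 1 := Subtype.ext (by
          show ((cj y (u i₀) : V) : G) * (u i₀ : G)⁻¹ = 1
          rw [hcj, mul_inv_eq_one, mul_inv_eq_iff_eq_mul]
          exact Subgroup.mem_centralizer_iff.mp
            (hUW _ (hpiece i₀ (Finset.mem_insert_self _ _)).1 (hu i₀ (Finset.mem_insert_self _ _))).2 y hy)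
        have h1 : ∏ j ∈ s, D (u j) = 1 := by
          rw [← map_prod]
          have := congrArg D hprod
          rwa [Finset.prod_insert hi₀, map_mul, hD0, one_mul, map_one] at this
        have h2 := ih f (fun j => D (u j)) (hinj.mono (by simp)) (fun j hj => hpiece j (Finset.mem_insert_of_mem hj))
          (fun j hj => by
            show ((cj y (u j) : V) : G) * (u j : G)⁻¹ ∈ U (f j)
            rw [hcj]
            exact mul_mem ((Subgroup.mem_normalizer_iff.mp (hUn _ y hyQ) _).mp (hu j (Finset.mem_insert_of_mem hj)))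
              (inv_mem (hu j (Finset.mem_insert_of_mem hj)))) h1 i hi
        have h3 : y * (u i : G) * y⁻¹ = u i := by
          have := congrArg Subtype.val h2
          change ((cj y (u i) : V) : G) * (u i : G)⁻¹ = 1 at this
          rwa [hcj, mul_inv_eq_one] at this
        have hpi := hpiece i (Finset.mem_insert_of_mem hi)
        have hui := hu i (Finset.mem_insert_of_mem hi)
        have hcQ : (u i : G) ∈ Subgroup.centralizer (Q : Set G) := by
          rw [← hmax _ hpi y hyQ hyn, Subgroup.mem_centralizer_iff]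
          intro g hg
          refine ((Subgroup.mem_centralizer_singleton_iff).mp (?_ : g ∈ Subgroup.centralizer ({(u i : G)} : Set G)))
          revert g
          show f i ⊔ Subgroup.zpowers y ≤ Subgroup.centralizer ({(u i : G)} : Set G)
          refine sup_le (fun g hg => Subgroup.mem_centralizer_singleton_iff.mpr
            (Subgroup.mem_centralizer_iff.mp (hUW _ hpi.1 hui).2 g hg)) (Subgroup.zpowers_le.mpr ?_)
          exact Subgroup.mem_centralizer_singleton_iff.mpr (mul_inv_eq_iff_eq_mul.mp h3)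
        exact Subtype.ext (Subgroup.mem_bot.mp ((hUC (f i)).le ⟨hui, hcQ⟩))
      intro i hi
      rcases Finset.mem_insert.mp hi with rfl | hi
      · rwa [Finset.prod_insert hi₀, Finset.prod_eq_one hzero, mul_one] at hprod
      · exact hzero i hi
  -- transport of pieces
  have hUmap : ∀ g ∈ Subgroup.normalizer (Q : Set G), ∀ Y, Y ≤ Q → ∀ u ∈ U Y,
      g * u * g⁻¹ ∈ U (MulAut.conj g • Y) := by
    intro g hg Y _ u hu
    have h1 : (U Y).map (MulAut.conj g).toMonoidHom ≤ U (MulAut.conj g • Y) := by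
      show (⁅W Y, Q⁆).map _ ≤ _
      rw [Subgroup.map_commutator]
      refine Subgroup.commutator_mono ?_ ?_
      · rintro _ ⟨v, hv, rfl⟩
        refine ⟨(inferInstance : V.Normal).conj_mem v hv.1 g, Subgroup.mem_centralizer_iff.mpr fun y hy => ?_⟩
        have hy' : g⁻¹ * y * g ∈ Y := mem_conj_smul.mp hy
        have h2 := Subgroup.mem_centralizer_iff.mp hv.2 _ hy'
        show y * (g * v * g⁻¹) = g * v * g⁻¹ * y
        calc y * (g * v * g⁻¹) = g * ((g⁻¹ * y * g) * v) * g⁻¹ := by group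
          _ = g * (v * (g⁻¹ * y * g)) * g⁻¹ := by rw [h2]
          _ = _ := by group
      · rintro _ ⟨v, hv, rfl⟩
        exact (Subgroup.mem_normalizer_iff.mp hg v).mp hv
    exact h1 ⟨u, hu, rfl⟩
  have hPiece : ∀ g ∈ Subgroup.normalizer (Q : Set G), ∀ Y, Piece Y → Piece (MulAut.conj g • Y) := by
    intro g hg Y hY
    refine ⟨?_, ?_, fun h => hY.2.2 (eq_bot_iff.mpr fun u hu => ?_)⟩
    · intro y hy
      exact (Subgroup.mem_normalizer_iff''.mp hg y).mpr (hY.1 (mem_conj_smul.mp hy))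
    · obtain ⟨a, ha⟩ := hY.2.1
      refine ⟨g * a * g⁻¹, ?_⟩
      conv_rhs => rw [← conj_smul_eq_of_mem_normalizer hg, ← ha]
      rw [Subgroup.smul_sup]
      congr 1
      exact (MonoidHom.map_zpowers (MulAut.conj g).toMonoidHom a).symm
    · have := hUmap g hg Y hY.1 u hu
      rw [h, Subgroup.mem_bot] at this
      rw [Subgroup.mem_bot, ← conj_eq_one_iff (a := g)]
      exact this
  -- an element fixed by both is impossible
  have hboth : ∀ Y, Piece Y → x ∈ Subgroup.normalizer (Y : Set G) → P ≤ Subgroup.normalizer (Y : Set G) → False := by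
    intro Y hY hxY hPY
    obtain ⟨a, ha⟩ := hY.2.1
    have h := commutator_le_of_cyclic_quotient hQc hY.1 ha hPQ (Subgroup.zpowers_le.mpr hxQ) hPY
      (Subgroup.zpowers_le.mpr hxY)
    rw [hPx, hQP] at h
    exact hne Y hY (le_antisymm hY.1 h)
  -- no nontrivial element of `Q` lies in every piece
  have hexists : ∃ Y, Piece Y := by
    by_contra h
    push Not at h
    refine hQ1 (eq_bot_iff.mpr fun k hk => ?_)
    rw [← hfaith]
    refine ⟨hk, ?_⟩
    show k ∈ Subgroup.centralizer (V : Set G)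
    rw [Subgroup.mem_centralizer_iff]
    intro v hv
    let φ : Q →* MulAut V := cj.comp Q.subtype
    have hgen := CoprimeGen.iSup_fix_eq_top (Nat.card Q) Q V φ rfl hcop
    have hle : (⊤ : Subgroup V) ≤ CoprimeGen.fix φ ⊤ := by
      rw [← hgen]
      refine iSup₂_le fun B hB w hw => ?_
      obtain ⟨a, ha⟩ := hB
      set Y := B.map Q.subtype with hY
      have hYQ : Y ≤ Q := Subgroup.map_subtype_le _
      have hYa : Y ⊔ Subgroup.zpowers (a : G) = Q := by
        have := congrArg (Subgroup.map Q.subtype) ha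
        rwa [Subgroup.map_sup, MonoidHom.map_zpowers, ← MonoidHom.range_eq_map, Subgroup.range_subtype] at this
      have hwY : (w : G) ∈ W Y := ⟨w.2, Subgroup.mem_centralizer_iff.mpr (by
        rintro _ ⟨b, hb, rfl⟩
        have := congrArg Subtype.val (hw b hb)
        change ((cj (b : G) w : V) : G) = w at this
        rw [hcj, mul_inv_eq_iff_eq_mul] at this
        exact this)⟩
      have hU0 : U Y = ⊥ := by
        by_contra h0
        exact h Y ⟨hYQ, ⟨a, hYa⟩, h0⟩
      rw [Subgroup.commutator_eq_bot_iff_le_centralizer] at hU0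
      intro g _
      refine Subtype.ext ?_
      show ((cj (g : G) w : V) : G) = w
      rw [hcj, mul_inv_eq_iff_eq_mul]
      exact Subgroup.mem_centralizer_iff.mp (hU0 hwY) g g.2
    have := congrArg Subtype.val (hle (Subgroup.mem_top ⟨v, hv⟩) ⟨k, hk⟩ trivial)
    change ((cj k ⟨v, hv⟩ : V) : G) = v at this
    rw [hcj, mul_inv_eq_iff_eq_mul] at this
    exact this.symm
  -- orbits under `x`
  let o : Subgroup G → ℕ → Subgroup G := fun Y i => MulAut.conj (x ^ i) • Y
  have hoP : ∀ Y, Piece Y → ∀ i, Piece (o Y i) := fun Y hY i => hPiece _ (pow_mem hxQ i) Y hY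
  have hoadd : ∀ Y i j, o (o Y i) j = o Y (j + i) := fun Y i j => by
    show MulAut.conj (x ^ j) • MulAut.conj (x ^ i) • Y = _
    rw [← conj_mul_smul, ← pow_add]
  have hor : ∀ Y i, o Y i = o Y (i % r) := fun Y i => by
    show MulAut.conj (x ^ i) • Y = MulAut.conj (x ^ (i % r)) • Y
    conv_lhs => rw [← Nat.div_add_mod i r, pow_add, pow_mul, hxr, one_pow, one_mul]
  have hoinj : ∀ Y : Subgroup G, x ∉ Subgroup.normalizer (Y : Set G) → ∀ i < r, ∀ j < r, o Y i = o Y j → i = j := by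
    intro Y hY
    have key : ∀ i j, i ≤ j → j < r → o Y i = o Y j → i = j := by
      intro i j hle hj hij
      by_contra hne'
      refine hY ?_
      have h1 : o Y (j - i) = Y := by
        have h2 := congrArg (fun Z => o Z (r - i)) hij
        simp only [hoadd] at h2
        rw [Nat.sub_add_cancel (by omega : i ≤ r), hor Y r, Nat.mod_self, hor Y (r - i + j),
          show r - i + j = r + (j - i) by omega, Nat.add_mod_left, Nat.mod_eq_of_lt (by omega : j - i < r)] at h2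
        rw [← h2]
        show MulAut.conj (x ^ 0) • Y = Y
        rw [pow_zero, conj_one_smul]
      obtain ⟨a, ha⟩ := pow_mem_of_not_dvd hr hxr (i := j - i) fun hd => by
        have := Nat.le_of_dvd (by omega) hd; omega
      rw [← ha]
      exact pow_mem (mem_normalizer_of_conj_smul_eq h1) a
    intro i hi j hj h
    rcases le_total i j with h' | h'
    · exact key i j h' hj h
    · exact (key j i h' hi h.symm).symm
  -- norms
  let σ : MulAut V := cj x
  let nrm : V → V := fun u => ∏ i ∈ Finset.range r, (σ ^ i) u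
  have hσ : ∀ (i : ℕ) (u : V), (((σ ^ i) u : V) : G) = x ^ i * u * (x ^ i)⁻¹ := fun i u => by
    show (((cj x) ^ i) u : V).1 = _
    rw [← map_pow, hcj]
  have hnfix : ∀ u, x * (nrm u : G) * x⁻¹ = nrm u := by
    intro u
    rw [← hcj]
    refine congrArg Subtype.val ?_
    show σ (nrm u) = nrm u
    simp only [nrm]
    rw [map_prod]
    have h1 := Finset.prod_range_succ (fun i => (σ ^ i) u) r
    rw [Finset.prod_range_succ', show σ ^ r = 1 by rw [← map_pow, hxr, map_one], pow_zero] at h1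
    simp only [← MulAut.mul_apply, ← pow_succ']
    exact mul_right_cancel h1
  have hσU : ∀ Y, Piece Y → ∀ (u : V), (u : G) ∈ U Y → ∀ i, (((σ ^ i) u : V) : G) ∈ U (o Y i) :=
    fun Y hY u hu i => by rw [hσ]; exact hUmap _ (pow_mem hxQ i) Y hY.1 u hu
  have hn1 : ∀ Y, Piece Y → x ∉ Subgroup.normalizer (Y : Set G) → ∀ u : V, (u : G) ∈ U Y →
      nrm u = 1 → u = 1 := by
    intro Y hY hxY u hu hn
    have h := indep ((Finset.range r).map ⟨Sum.inl, Sum.inl_injective⟩) (Sum.elim (o Y) (o Y))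
      (Sum.elim (fun i => (σ ^ i) u) (fun _ => 1)) ?_ ?_ ?_ ?_ (Sum.inl 0)
      (Finset.mem_map.mpr ⟨0, Finset.mem_range.mpr hr.pos, rfl⟩)
    · simpa using h
    · intro a ha b hb hab
      obtain ⟨i, hi, rfl⟩ := Finset.mem_map.mp ha
      obtain ⟨j, hj, rfl⟩ := Finset.mem_map.mp hb
      exact congrArg _ (hoinj Y hxY i (Finset.mem_range.mp hi) j (Finset.mem_range.mp hj) hab)
    · intro a ha
      obtain ⟨i, -, rfl⟩ := Finset.mem_map.mp ha
      exact hoP Y hY i
    · intro a ha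
      obtain ⟨i, -, rfl⟩ := Finset.mem_map.mp ha
      exact hσU Y hY u hu i
    · rw [Finset.prod_map]; exact hn
  have horbit : ∀ Y Y', Piece Y → Piece Y' → x ∉ Subgroup.normalizer (Y : Set G) →
      x ∉ Subgroup.normalizer (Y' : Set G) → ∃ i < r, o Y i = Y' := by
    intro Y Y' hY hY' hxY hxY'
    by_contra h
    push Not at h
    obtain ⟨u, hu, hu1⟩ := (Subgroup.bot_or_exists_ne_one (U Y)).resolve_left hY.2.2
    obtain ⟨u', hu', hu1'⟩ := (Subgroup.bot_or_exists_ne_one (U Y')).resolve_left hY'.2.2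
    let uV : V := ⟨u, (hUW Y hY.1 hu).1⟩
    let uV' : V := ⟨u', (hUW Y' hY'.1 hu').1⟩
    have hnu : nrm uV ≠ 1 := fun hn => hu1 (congrArg Subtype.val (hn1 Y hY hxY uV hu hn))
    obtain ⟨m, hm⟩ := hCV _ (nrm uV).2 _ (nrm uV').2 (hnfix _) (hnfix _) fun h => hnu (Subtype.ext h)
    have hmV : ∏ i ∈ Finset.range r, (σ ^ i) (uV ^ m) = nrm uV' := Subtype.ext (by
      rw [← hm]
      simp only [map_pow, Finset.prod_pow]
      rfl)
    have hind := indep ((Finset.range r).disjSum (Finset.range r)) (Sum.elim (o Y) (o Y'))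
      (Sum.elim (fun i => (σ ^ i) (uV ^ m)) (fun i => ((σ ^ i) uV')⁻¹)) ?_ ?_ ?_ ?_ (Sum.inr 0)
      (Finset.inr_mem_disjSum.mpr (Finset.mem_range.mpr hr.pos))
    · simp only [Sum.elim_inr, pow_zero, MulAut.one_apply, inv_eq_one] at hind
      exact hu1' (congrArg Subtype.val hind)
    · have key : ∀ i < r, ∀ j < r, o Y i ≠ o Y' j := by
        intro i hi j hj hij
        refine h ((r - j + i) % r) (Nat.mod_lt _ hr.pos) ?_
        rw [← hor, ← hoadd, hij, hoadd, Nat.sub_add_cancel hj.le, hor, Nat.mod_self]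
        show MulAut.conj (x ^ 0) • Y' = Y'
        rw [pow_zero, conj_one_smul]
      rintro (i | i) ha (j | j) hb hab <;>
        simp only [Finset.mem_coe, Finset.inl_mem_disjSum, Finset.inr_mem_disjSum, Finset.mem_range] at ha hb <;>
        simp only [Sum.elim_inl, Sum.elim_inr] at hab
      · rw [hoinj Y hxY i ha j hb hab]
      · exact absurd hab (key i ha j hb)
      · exact absurd hab.symm (key j hb i ha)
      · rw [hoinj Y' hxY' i ha j hb hab]
    · rintro (i | i) -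
      · exact hoP Y hY i
      · exact hoP Y' hY' i
    · rintro (i | i) -
      · exact hσU Y hY (uV ^ m) (pow_mem hu m) i
      · exact inv_mem (hσU Y' hY' uV' hu' i)
    · rw [Finset.prod_disjSum]
      simp only [Sum.elim_inl, Sum.elim_inr, Finset.prod_inv_distrib]
      rw [hmV]
      exact mul_inv_cancel _
  have hoPg : ∀ a ∈ P, ∀ Y, Piece Y → Piece (MulAut.conj a • Y) := fun a ha => hPiece a (hPQ ha)
  have hstabinv : ∀ Y, x ∈ Subgroup.normalizer (Y : Set G) →
      x ∈ Subgroup.normalizer ((P ⊓ Subgroup.normalizer (Y : Set G) : Subgroup G) : Set G) := by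
    intro Y hY
    rw [Subgroup.mem_normalizer_iff]
    intro a
    rw [Subgroup.mem_inf, Subgroup.mem_inf, ← Subgroup.mem_normalizer_iff.mp hxP a]
    refine and_congr_right fun _ => ⟨fun h => mul_mem (mul_mem hY h) (inv_mem hY), fun h => ?_⟩
    simpa [mul_assoc] using mul_mem (mul_mem (inv_mem hY) h) hY
  -- no piece is fixed by `x`
  have hnofix : ∀ Y, Piece Y → x ∉ Subgroup.normalizer (Y : Set G) := by
    intro Y hY hxY
    rcases hPmin _ inf_le_left (hstabinv Y hxY) with h | h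
    swap
    · exact hboth Y hY hxY (inf_eq_left.mp h)
    have hinj : ∀ a ∈ P, ∀ b ∈ P, MulAut.conj a • Y = MulAut.conj b • Y → a = b := by
      intro a ha b hb hab
      have h1 : MulAut.conj (b⁻¹ * a) • Y = Y := by
        rw [conj_mul_smul, hab, ← conj_mul_smul, inv_mul_cancel, conj_one_smul]
      have h2 : b⁻¹ * a ∈ P ⊓ Subgroup.normalizer (Y : Set G) :=
        Subgroup.mem_inf.mpr ⟨mul_mem (inv_mem hb) ha, mem_normalizer_of_conj_smul_eq h1⟩
      rw [h, Subgroup.mem_bot, inv_mul_eq_one] at h2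
      exact h2.symm
    have hmove : ∀ a ∈ P, a ≠ 1 → x ∉ Subgroup.normalizer ((MulAut.conj a • Y : Subgroup G) : Set G) := by
      intro a ha ha1 hxa
      refine ha1 (hPfix a ha (hinj _ ((Subgroup.mem_normalizer_iff.mp hxP a).mp ha) a ha ?_))
      rw [conj_mul_smul, conj_smul_eq_of_mem_normalizer (inv_mem hxY), conj_mul_smul,
        conj_smul_eq_of_mem_normalizer hxa]
    obtain ⟨a₀, ha₀, ha₀1⟩ := (Subgroup.bot_or_exists_ne_one P).resolve_left hP1
    have hY₁ := hoPg a₀ ha₀ Y hY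
    have hxY₁ := hmove a₀ ha₀ ha₀1
    have hidx : ∀ a : {a : P // a ≠ 1}, ∃ i : Fin r, o (MulAut.conj a₀ • Y) i = MulAut.conj ((a.1 : G)) • Y := by
      intro a
      obtain ⟨i, hi, h'⟩ := horbit _ _ hY₁ (hoPg _ a.1.2 Y hY) hxY₁
        (hmove _ a.1.2 fun h' => a.2 (Subtype.ext h'))
      exact ⟨⟨i, hi⟩, h'⟩
    choose e he using hidx
    have hcard : Nat.card {a : P // a ≠ 1} = r := by
      rw [Nat.card_eq_of_bijective e ⟨fun a b hab => ?_, fun i => ?_⟩, Nat.card_fin]
      · refine Subtype.ext (Subtype.ext (hinj _ a.1.2 _ b.1.2 ?_))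
        rw [← he a, ← he b, hab]
      · have hb : x ^ (i : ℕ) * a₀ * (x ^ (i : ℕ))⁻¹ ∈ P :=
          (Subgroup.mem_normalizer_iff.mp (pow_mem hxP _) _).mp ha₀
        have hb1 : (⟨_, hb⟩ : P) ≠ 1 := fun h' => ha₀1 (conj_eq_one_iff.mp (congrArg Subtype.val h'))
        refine ⟨⟨⟨_, hb⟩, hb1⟩, Fin.ext (hoinj _ hxY₁ _ (e _).2 _ i.2 ?_)⟩
        rw [he]
        show _ = MulAut.conj (x ^ (i : ℕ)) • MulAut.conj a₀ • Y
        rw [conj_mul_smul, conj_smul_eq_of_mem_normalizer (inv_mem (pow_mem hxY _)), conj_mul_smul]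
    have h1 : Nat.card {a : P // a ≠ 1} = Nat.card P - 1 := by
      haveI := Fintype.ofFinite P
      rw [Nat.card_eq_fintype_card, Fintype.card_subtype_compl, Fintype.card_subtype_eq,
        Nat.card_eq_fintype_card]
    obtain ⟨n, hn⟩ := hP.exists_card_eq
    obtain ⟨o₁, ho₁⟩ := (hp.odd_of_ne_two hp2).pow (n := n)
    obtain ⟨o₂, ho₂⟩ := hr.odd_of_ne_two hr2
    omega
  obtain ⟨Y₀, hY₀⟩ := hexists
  -- some piece is fixed by `P`
  let X := {Y : Subgroup G // Piece Y}
  have hX : Nat.card X = r := by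
    rw [← Nat.card_fin r]
    refine (Nat.card_eq_of_bijective (fun i : Fin r => (⟨o Y₀ i, hoP Y₀ hY₀ i⟩ : X))
      ⟨fun i j hij => Fin.ext (hoinj Y₀ (hnofix _ hY₀) _ i.2 _ j.2 (congrArg Subtype.val hij)),
        fun Y => ?_⟩).symm
    obtain ⟨i, hi, h⟩ := horbit Y₀ Y.1 hY₀ Y.2 (hnofix _ hY₀) (hnofix _ Y.2)
    exact ⟨⟨i, hi⟩, Subtype.ext h⟩
  letI : MulAction P X :=
    { smul := fun a Y => ⟨MulAut.conj (a : G) • Y.1, hoPg a a.2 _ Y.2⟩
      one_smul := fun Y => Subtype.ext (conj_one_smul Y.1)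
      mul_smul := fun a b Y => Subtype.ext (conj_mul_smul (a : G) b Y.1) }
  obtain ⟨Y, hY⟩ : (MulAction.fixedPoints P X).Nonempty := by
    by_contra h
    rw [Set.not_nonempty_iff_eq_empty] at h
    have h1 := hP.card_modEq_card_fixedPoints X
    rw [h, hX] at h1
    simp only [Nat.card_eq_fintype_card, Fintype.card_eq_zero, Nat.modEq_zero_iff_dvd] at h1
    exact hrp ((Nat.prime_dvd_prime_iff_eq hp hr).mp h1).symm
  have hPY : ∀ a ∈ P, a ∈ Subgroup.normalizer (Y.1 : Set G) := fun a ha =>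
    mem_normalizer_of_conj_smul_eq (congrArg Subtype.val (hY ⟨a, ha⟩))
  -- its part of `V` has order `p`
  obtain ⟨u, hu, hu1⟩ := (Subgroup.bot_or_exists_ne_one (U Y.1)).resolve_left Y.2.2.2
  have hgen : ∀ u' ∈ U Y.1, ∃ m : ℕ, u ^ m = u' := by
    intro u' hu'
    let uV : V := ⟨u, (hUW _ Y.2.1 hu).1⟩
    let uV' : V := ⟨u', (hUW _ Y.2.1 hu').1⟩
    have hnu : nrm uV ≠ 1 := fun hn => hu1 (congrArg Subtype.val (hn1 _ Y.2 (hnofix _ Y.2) uV hu hn))
    obtain ⟨m, hm⟩ := hCV _ (nrm uV).2 _ (nrm uV').2 (hnfix _) (hnfix _) fun h => hnu (Subtype.ext h)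
    refine ⟨m, ?_⟩
    have h1 : nrm (uV ^ m * uV'⁻¹) = 1 := by
      have h2 : nrm uV ^ m = nrm uV' := Subtype.ext hm
      simp only [nrm, map_mul, map_inv, map_pow, Finset.prod_mul_distrib, Finset.prod_inv_distrib,
        Finset.prod_pow] at h2 ⊢
      rw [h2, mul_inv_cancel]
    have h3 := hn1 _ Y.2 (hnofix _ Y.2) _ (mul_mem (pow_mem hu m) (inv_mem hu')) h1
    exact mul_inv_eq_one.mp (congrArg Subtype.val h3)
  have huo : orderOf u = p :=
    (hp.eq_one_or_self_of_dvd _ (orderOf_dvd_of_pow_eq_one (hV.2 u (hUW _ Y.2.1 hu).1))).resolve_left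
      fun h => hu1 (orderOf_eq_one_iff.mp h)
  have hPu : ∀ a ∈ P, a * u * a⁻¹ = u := by
    intro a ha
    have h1 : a * u * a⁻¹ ∈ U Y.1 := by
      have := hUmap a (hPQ ha) _ Y.2.1 u hu
      rwa [conj_smul_eq_of_mem_normalizer (hPY a ha)] at this
    obtain ⟨m, hm⟩ := hgen _ h1
    have h2 : ∀ k : ℕ, a ^ k * u * (a ^ k)⁻¹ = u ^ m ^ k := by
      intro k
      induction k with
      | zero => simp
      | succ k ih =>
        calc a ^ (k + 1) * u * (a ^ (k + 1))⁻¹ = a ^ k * (a * u * a⁻¹) * (a ^ k)⁻¹ := by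
              rw [pow_succ]; group
          _ = (a ^ k * u * (a ^ k)⁻¹) ^ m := by rw [← hm, conj_pow]
          _ = _ := by rw [ih, ← pow_mul, ← pow_succ]
    obtain ⟨n, hn⟩ := hP.exists_card_eq
    have h3 := h2 (p ^ n)
    have ha1 : a ^ p ^ n = 1 := by
      rw [← hn]; exact congrArg Subtype.val (pow_card_eq_one' (x := (⟨a, ha⟩ : P)))
    rw [ha1, one_mul, inv_one, mul_one] at h3
    have h4 : m ^ p ^ n ≡ 1 [MOD p] := by
      rw [← huo, ← pow_eq_pow_iff_modEq, pow_one, huo]; exact h3.symm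
    have h5 : (m : ZMod p) = 1 := by
      rw [← ZMod.natCast_eq_natCast_iff, Nat.cast_pow, ZMod.pow_card_pow, Nat.cast_one] at h4
      exact h4
    have h6 : m ≡ 1 [MOD p] := (ZMod.natCast_eq_natCast_iff m 1 p).mp (by rw [h5, Nat.cast_one])
    rw [← hm]
    conv_rhs => rw [← pow_one u]
    rw [pow_eq_pow_iff_modEq, huo]; exact h6
  have hPU : P ≤ Subgroup.centralizer (U Y.1 : Set G) := by
    intro a ha
    rw [Subgroup.mem_centralizer_iff]
    intro u' hu'
    obtain ⟨m, rfl⟩ := hgen u' hu'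
    exact ((show Commute a u from mul_inv_eq_iff_eq_mul.mp (hPu a ha)).pow_right m).eq.symm
  refine Y.2.2.2 (eq_bot_iff.mpr ((le_inf le_rfl ?_).trans (hUC Y.1).le))
  rw [Subgroup.le_centralizer_iff]
  conv_lhs => rw [← hQP]
  refine Subgroup.commutator_le.mpr fun y hy a ha => Subgroup.mem_centralizer_iff.mpr fun u' hu' => ?_
  have hy' : y⁻¹ * u' * y ∈ U Y.1 := (Subgroup.mem_normalizer_iff''.mp (hUn _ y hy) _).mp hu'
  have e1 := Subgroup.mem_centralizer_iff.mp (hPU ha) _ hy'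
  have e2 := Subgroup.mem_centralizer_iff.mp (hPU (inv_mem ha)) _ hu'
  have e1' : u' * (y * a * y⁻¹) = (y * a * y⁻¹) * u' := by
    calc u' * (y * a * y⁻¹) = y * ((y⁻¹ * u' * y) * a) * y⁻¹ := by group
      _ = y * (a * (y⁻¹ * u' * y)) * y⁻¹ := by rw [e1]
      _ = _ := by group
  rw [commutatorElement_def, show y * a * y⁻¹ * a⁻¹ = (y * a * y⁻¹) * a⁻¹ from rfl]
  exact ((show Commute u' (y * a * y⁻¹) from e1').mul_right (show Commute u' a⁻¹ from e2)).eq

end Cfsg.Agent.Lib.OddLocal
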