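import Mathlib.GroupTheory.GroupAction.Jordan
import Mathlib.GroupTheory.GroupAction.Quotient
import Mathlib.GroupTheory.Sylow
import Mathlib.GroupTheory.Perm.Cycle.Type
import Mathlib.Tactic

/-!
At least `2|G|/n` derangements in a 2-transitive group with non-trivial two-point stabilizers.

The number of derangements equals `n (n - 1) ∑ 1 / fix g`, summed over a two-point stabilizer `H`.
The sum is estimated by Cauchy-Schwarz and by bounding fixed point sets through the lines
(fixed point sets of two-point stabilizers). The one configuration left, all `H`-orbits of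
length at most two, is impossible: the two-point stabilizers through a point would then commute.
-/

namespace Cfsg.Agent.OddLocal.Derangement

open MulAction

variable {G Ω : Type*} [Group G] [MulAction G Ω]

/-- the stabilizer of two points -/
abbrev stab2 (G : Type*) [Group G] [MulAction G Ω] (a b : Ω) : Subgroup G :=
  stabilizer G a ⊓ stabilizer G b

theorem mem_stab2 {a b : Ω} {g : G} : g ∈ stab2 G a b ↔ g • a = a ∧ g • b = b := Iff.rfl

theorem stab2_comm (a b : Ω) : stab2 G a b = stab2 G b a := inf_comm _ _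

/-- every orbit of `H` has at most two points -/
def ShortOrbits (H : Subgroup G) (Ω : Type*) [MulAction G Ω] : Prop :=
  ∀ ω : Ω, ∀ g ∈ H, ∀ g' ∈ H, g • ω = ω ∨ g' • ω = ω ∨ g • ω = g' • ω

variable [Finite G]

theorem eq_of_le_card_le {H K : Subgroup G} (hle : H ≤ K) (hc : Nat.card K ≤ Nat.card H) :
    H = K :=
  Subgroup.eq_of_le_of_card_ge hle hc

/-- a subgroup of index two is covered by adding any larger subgroup -/
theorem eq_of_half_lt {I K H : Subgroup G} (hIK : I ≤ K) (hne : I ≠ K) (hKH : K ≤ H)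
    (hI : 2 * Nat.card I = Nat.card H) : K = H := by
  refine eq_of_le_card_le hKH ?_
  obtain ⟨m, hm⟩ := Subgroup.card_dvd_of_le hIK
  rcases m with _ | _ | m
  · have := Nat.card_pos (α := K)
    omega
  · exact absurd (eq_of_le_card_le hIK (by omega)) hne
  · rw [hm, ← hI]
    nlinarith

theorem two_mul_card_inf_stabilizer {H : Subgroup G} {c : Ω} (hs : ShortOrbits H Ω)
    {x : G} (hx : x ∈ H) (hxc : x • c ≠ c) :
    2 * Nat.card ↥(H ⊓ stabilizer G c) = Nat.card H := by
  have horb : orbit H c = {c, x • c} := by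
    ext z
    constructor
    · rintro ⟨⟨g, hg⟩, rfl⟩
      show g • c ∈ _
      rcases hs c g hg x hx with h | h | h
      · exact Or.inl h
      · exact absurd h hxc
      · exact Or.inr h
    · rintro (rfl | rfl)
      · exact mem_orbit_self _
      · exact ⟨⟨x, hx⟩, rfl⟩
  have h2 : Nat.card (orbit H c) = 2 := by
    rw [horb, Nat.card_coe_set_eq, Set.ncard_pair (Ne.symm hxc)]
  have he : Nat.card (stabilizer H c) = Nat.card ↥(H ⊓ stabilizer G c) :=
    Nat.card_congr ⟨fun g => ⟨g.1.1, g.1.2, g.2⟩, fun g => ⟨⟨g.1, g.2.1⟩, g.2.2⟩,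
      fun g => rfl, fun g => rfl⟩
  have h := Nat.card_congr (orbitProdStabilizerEquivGroup H c)
  rw [Nat.card_prod, h2, he] at h
  exact h

theorem sq_eq_one_of_short [FaithfulSMul G Ω] {H : Subgroup G} (hs : ShortOrbits H Ω)
    {x : G} (hx : x ∈ H) : x * x = 1 := by
  refine eq_of_smul_eq_smul fun ω : Ω => ?_
  rw [one_smul, mul_smul]
  rcases hs ω x hx (x * x) (H.mul_mem hx hx) with h | h | h
  · rw [h, h]
  · rwa [mul_smul] at h
  · rw [mul_smul] at h
    exact h.symm.trans (smul_left_cancel x h.symm)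

theorem commute_of_short [FaithfulSMul G Ω] {H : Subgroup G} (hs : ShortOrbits H Ω)
    {x y : G} (hx : x ∈ H) (hy : y ∈ H) : Commute x y := by
  have hinv : ∀ z ∈ H, z⁻¹ = z := fun z hz => inv_eq_of_mul_eq_one_left (sq_eq_one_of_short hs hz)
  show x * y = y * x
  rw [← hinv _ (H.mul_mem hx hy), mul_inv_rev, hinv x hx, hinv y hy]

/-- If all orbits of all two-point stabilizers have at most two points, these have order at most
two. -/
theorem short_orbits_false [FaithfulSMul G Ω] (h : ℕ) (h3 : 3 ≤ h)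
    (hh : ∀ a b : Ω, a ≠ b → Nat.card ↥(stab2 G a b) = h)
    (hs : ∀ a b : Ω, a ≠ b → ShortOrbits (stab2 G a b) Ω) {a b : Ω} (hab : a ≠ b) : False := by
  have moved : ∀ {K : Subgroup G}, K ≠ ⊥ → ∃ x ∈ K, ∃ c : Ω, x • c ≠ c := by
    intro K hK
    obtain ⟨x, hx, hx1⟩ := (Subgroup.bot_or_exists_ne_one K).resolve_left hK
    refine ⟨x, hx, not_forall.mp fun hall => hx1 (eq_of_smul_eq_smul fun ω : Ω => ?_)⟩
    rw [one_smul]; exact hall ω
  -- `stab2 a b ⊓ stab2 a c`
  have hinf : ∀ a b c : Ω, stab2 G a b ⊓ stab2 G a c = stab2 G a b ⊓ stabilizer G c := by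
    intro a b c
    refine le_antisymm (inf_le_inf_left _ inf_le_right) ?_
    exact le_inf inf_le_left (le_inf (inf_le_left.trans inf_le_left) inf_le_right)
  have hhalf : ∀ a b c : Ω, a ≠ b → a ≠ c → ¬ stab2 G a b ≤ stab2 G a c →
      2 * Nat.card ↥(stab2 G a b ⊓ stab2 G a c) = h := by
    intro a b c hab hac hn
    obtain ⟨x, hx, hxc⟩ := SetLike.not_le_iff_exists.mp hn
    rw [hinf, two_mul_card_inf_stabilizer (hs a b hab) hx (fun e => hxc ⟨hx.1, e⟩), hh a b hab]
  have central : ∀ a b c e : Ω, a ≠ b → a ≠ c → a ≠ e → ¬ stab2 G a b ≤ stab2 G a c →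
      ∀ x ∈ stab2 G a b ⊓ stab2 G a c, ∀ y ∈ stab2 G a e, Commute x y := by
    intro a b c e hab hac hae hn x hx y hy
    set I := stab2 G a b ⊓ stab2 G a c with hI
    by_cases hIe : I ≤ stab2 G a e
    · exact commute_of_short (hs a e hae) (hIe hx) hy
    have hne : ∀ d, a ≠ d → I ≤ stab2 G a d → ¬ stab2 G a e ≤ stab2 G a d := by
      intro d had hId hle
      have := eq_of_le_card_le hle (by rw [hh a d had, hh a e hae])
      exact hIe (this ▸ hId)
    have hb' := hhalf a e b hae hab (hne b hab inf_le_left)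
    have hc' := hhalf a e c hae hac (hne c hac inf_le_right)
    set J₁ := stab2 G a e ⊓ stab2 G a b
    set J₂ := stab2 G a e ⊓ stab2 G a c
    have hJ : J₁ ≠ J₁ ⊔ J₂ := by
      intro he
      have h21 : J₂ ≤ J₁ := he ▸ le_sup_right
      have hJI : J₂ ≤ I := le_inf (h21.trans inf_le_right) inf_le_right
      have heq : J₂ = I := eq_of_le_card_le hJI (by
        have := hhalf a b c hab hac hn
        rw [← hI] at this
        omega)
      exact hIe (heq ▸ inf_le_left)
    have hsup : J₁ ⊔ J₂ = stab2 G a e :=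
      eq_of_half_lt le_sup_left hJ (sup_le inf_le_left inf_le_left) (by rw [hb', hh a e hae])
    have hle : J₁ ⊔ J₂ ≤ Subgroup.centralizer {x} := by
      refine sup_le ?_ ?_
      · intro z hz
        rw [Subgroup.mem_centralizer_singleton_iff]
        exact (commute_of_short (hs a b hab) hx.1 hz.2).eq.symm
      · intro z hz
        rw [Subgroup.mem_centralizer_singleton_iff]
        exact (commute_of_short (hs a c hac) hx.2 hz.2).eq.symm
    rw [hsup] at hle
    have := hle hy
    rw [Subgroup.mem_centralizer_singleton_iff] at this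
    exact this.symm
  have allcomm : ∀ a b e : Ω, a ≠ b → a ≠ e →
      ∀ x ∈ stab2 G a b, ∀ y ∈ stab2 G a e, Commute x y := by
    intro a b e hab hae x hx y hy
    have hne : stab2 G a b ≠ ⊥ := fun h0 => by
      have := hh a b hab
      rw [h0, Subgroup.card_bot] at this
      omega
    obtain ⟨z, hz, c, hzc⟩ := moved hne
    have hac : a ≠ c := fun e => hzc (e ▸ hz.1)
    have hnc : ¬ stab2 G a b ≤ stab2 G a c := fun hle => hzc (hle hz).2
    have hI2 := hhalf a b c hab hac hnc
    have hIne : stab2 G a b ⊓ stab2 G a c ≠ ⊥ := fun h0 => by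
      rw [h0, Subgroup.card_bot] at hI2
      omega
    obtain ⟨w, hw, d, hwd⟩ := moved hIne
    have had : a ≠ d := fun e => hwd (e ▸ hw.1.1)
    have hnd : ¬ stab2 G a b ≤ stab2 G a d := fun hle => hwd (hle hw.1).2
    have hJ2 := hhalf a b d hab had hnd
    set I := stab2 G a b ⊓ stab2 G a c
    set J := stab2 G a b ⊓ stab2 G a d
    have hne' : I ≠ I ⊔ J := by
      intro he
      have hJI : J ≤ I := he ▸ le_sup_right
      have heq : J = I := eq_of_le_card_le hJI (by
        omega)
      have hw' : w ∈ J := heq ▸ hw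
      exact hwd hw'.2.2
    have hsup : I ⊔ J = stab2 G a b :=
      eq_of_half_lt le_sup_left hne' (sup_le inf_le_left inf_le_left) (by rw [hI2, hh a b hab])
    have hle : I ⊔ J ≤ Subgroup.centralizer {y} := by
      refine sup_le ?_ ?_
      · intro z hz
        rw [Subgroup.mem_centralizer_singleton_iff]
        exact (central a b c e hab hac hae hnc z hz y hy).eq
      · intro z hz
        rw [Subgroup.mem_centralizer_singleton_iff]
        exact (central a b d e hab had hae hnd z hz y hy).eq
    rw [hsup] at hle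
    have := hle hx
    rwa [Subgroup.mem_centralizer_singleton_iff] at this
  have hne : stab2 G a b ≠ ⊥ := fun h0 => by
    have := hh a b hab
    rw [h0, Subgroup.card_bot] at this
    omega
  obtain ⟨x, hx, c, hxc⟩ := moved hne
  have hac : a ≠ c := fun e => hxc (e ▸ hx.1)
  have hbc : b ≠ c := fun e => hxc (e ▸ hx.2)
  have hfixa : stab2 G a c ≤ stabilizer G (x • c) := by
    intro y hy
    show y • x • c = x • c
    rw [← mul_smul, ← (allcomm a b c hab hac x hx y hy).eq, mul_smul, hy.2]
  have hfixb : stab2 G b c ≤ stabilizer G (x • c) := by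
    intro y hy
    show y • x • c = x • c
    rw [← mul_smul, ← (allcomm b a c (Ne.symm hab) hbc x ⟨hx.2, hx.1⟩ y hy).eq, mul_smul, hy.2]
  have h1 : stab2 G a c = stab2 G c (x • c) :=
    eq_of_le_card_le (le_inf inf_le_right hfixa) (by rw [hh a c hac, hh c _ (Ne.symm hxc)])
  have h2 : stab2 G b c = stab2 G c (x • c) :=
    eq_of_le_card_le (le_inf inf_le_right hfixb) (by rw [hh b c hbc, hh c _ (Ne.symm hxc)])
  have h3 : stab2 G a c ≤ stab2 G a b :=
    le_inf inf_le_left ((h1.trans h2.symm).le.trans inf_le_left)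
  have h4 := eq_of_le_card_le h3 (by rw [hh a c hac, hh a b hab])
  exact hxc (h4.symm.le hx).2

section Counting

open scoped Classical

variable [Fintype Ω]

/-- the fixed points of an element -/
noncomputable def fixFin (Ω : Type*) [MulAction G Ω] [Fintype Ω] (g : G) : Finset Ω :=
  Finset.univ.filter fun ω : Ω => g • ω = ω

theorem card_fixFin (g : G) : Nat.card (fixedBy Ω g) = (fixFin Ω g).card := by
  rw [Nat.card_eq_fintype_card, fixFin, ← Fintype.card_subtype]
  exact Fintype.card_congr (Equiv.refl _)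

/-- the common fixed points of a subgroup -/
noncomputable def fixSub (Ω : Type*) [MulAction G Ω] [Fintype Ω] (H : Subgroup G) : Finset Ω :=
  Finset.univ.filter fun ω : Ω => H ≤ stabilizer G ω

variable [FaithfulSMul G Ω]

theorem two_transitive_of_rank_two [IsPretransitive G Ω] {x y : Ω} (hxy : x ≠ y)
    (hr : Nat.card (orbitRel.Quotient G (Ω × Ω)) = 2) {a b : Ω} (hab : a ≠ b) :
    ∃ g : G, g • x = a ∧ g • y = b := by
  haveI : Fintype (orbitRel.Quotient G (Ω × Ω)) := Fintype.ofFinite _
  have hclass : Quotient.mk (orbitRel G (Ω × Ω)) (x, x) ≠ Quotient.mk _ (x, y) := by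
    intro h
    obtain ⟨g, hg⟩ := Quotient.exact h
    have hg1 : g • x = x := congrArg Prod.fst hg
    have hg2 : g • y = x := congrArg Prod.snd hg
    exact hxy (smul_left_cancel g (hg1.trans hg2.symm))
  have huniv : (Finset.univ : Finset (orbitRel.Quotient G (Ω × Ω)))
      = {Quotient.mk _ (x, x), Quotient.mk _ (x, y)} := by
    symm
    apply Finset.eq_univ_of_card
    rw [Finset.card_pair hclass, ← Nat.card_eq_fintype_card, hr]
  have hm := Finset.mem_univ (Quotient.mk (orbitRel G (Ω × Ω)) (a, b) : orbitRel.Quotient G (Ω × Ω))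
  rw [huniv, Finset.mem_insert, Finset.mem_singleton] at hm
  rcases hm with h | h
  · obtain ⟨g, hg⟩ := Quotient.exact h
    exact absurd ((congrArg Prod.fst hg).symm.trans (congrArg Prod.snd hg)) hab
  · obtain ⟨g, hg⟩ := Quotient.exact h
    exact ⟨g, congrArg Prod.fst hg, congrArg Prod.snd hg⟩

theorem sum_card_fixFin [IsPretransitive G Ω] [Nonempty Ω] [Fintype G] :
    ∑ g : G, (fixFin Ω g).card = Fintype.card G := by
  have h := sum_card_fixedBy_eq_card_orbits_mul_card_group G Ω
  have h1 : Fintype.card (Quotient (orbitRel G Ω)) = 1 := by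
    rw [Fintype.card_eq_one_iff]
    obtain ⟨ω⟩ : Nonempty Ω := inferInstance
    refine ⟨Quotient.mk _ ω, fun q => ?_⟩
    induction q using Quotient.inductionOn with
    | h y => exact Quotient.sound (exists_smul_eq G ω y)
  rw [h1, one_mul] at h
  rw [← h]
  exact Finset.sum_congr rfl fun g _ => by rw [← card_fixFin, Nat.card_eq_fintype_card]

theorem sum_card_fixFin_sq [Fintype G] :
    ∑ g : G, (fixFin Ω g).card * (fixFin Ω g).card
      = Nat.card (orbitRel.Quotient G (Ω × Ω)) * Fintype.card G := by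
  haveI : Fintype (Quotient (orbitRel G (Ω × Ω))) := Fintype.ofFinite _
  have h := sum_card_fixedBy_eq_card_orbits_mul_card_group G (Ω × Ω)
  rw [show Nat.card (orbitRel.Quotient G (Ω × Ω)) = Fintype.card (Quotient (orbitRel G (Ω × Ω)))
    from Nat.card_eq_fintype_card, ← h]
  refine Finset.sum_congr rfl fun g _ => ?_
  rw [← card_fixFin, ← Nat.card_eq_fintype_card, ← Nat.card_prod]
  refine Nat.card_congr ⟨fun x => ⟨(x.1.1, x.2.1), ?_⟩, fun x => (⟨x.1.1, ?_⟩, ⟨x.1.2, ?_⟩), ?_, ?_⟩
  · exact Prod.ext x.1.2 x.2.2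
  · exact congrArg Prod.fst x.2
  · exact congrArg Prod.snd x.2
  · intro x; rfl
  · intro x; rfl

theorem card_derangements [Fintype G] :
    Nat.card {g : G // ∀ ω : Ω, g • ω ≠ ω}
      = (Finset.univ.filter fun g : G => (fixFin Ω g).card = 0).card := by
  rw [Nat.card_eq_fintype_card, Fintype.card_subtype]
  congr 1
  ext g
  simp [fixFin, Finset.card_eq_zero, Finset.filter_eq_empty_iff]

/-- Cameron and Cohen: `n D ≥ (r - 1) |G|`. -/
theorem rank_bound [IsPretransitive G Ω] [Nonempty Ω] :
    ((Nat.card (orbitRel.Quotient G (Ω × Ω)) : ℤ) - 1) * Nat.card G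
      ≤ Fintype.card Ω * Nat.card {g : G // ∀ ω : Ω, g • ω ≠ ω} := by
  haveI : Fintype G := Fintype.ofFinite G
  rw [card_derangements, Nat.card_eq_fintype_card (α := G)]
  set f : G → ℤ := fun g => ((fixFin Ω g).card : ℤ) with hf
  set n : ℤ := (Fintype.card Ω : ℤ) with hn
  set r : ℤ := (Nat.card (orbitRel.Quotient G (Ω × Ω)) : ℤ) with hr
  have h1 : ∑ g, f g = Fintype.card G := by
    have := sum_card_fixFin (G := G) (Ω := Ω)
    simp only [hf]
    exact_mod_cast this
  have h2 : ∑ g, f g * f g = r * Fintype.card G := by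
    have := sum_card_fixFin_sq (G := G) (Ω := Ω)
    simp only [hf, hr]
    exact_mod_cast this
  have h3 : ∑ g, (f g - 1) * (n - f g) = (1 - r) * Fintype.card G := by
    have : ∀ g, (f g - 1) * (n - f g) = (n + 1) * f g - f g * f g - n := fun g => by ring
    rw [Finset.sum_congr rfl fun g _ => this g, Finset.sum_sub_distrib, Finset.sum_sub_distrib,
      ← Finset.mul_sum, h1, h2, Finset.sum_const, Finset.card_univ, nsmul_eq_mul]
    ring
  have h4 : ∀ g, -(n * if (fixFin Ω g).card = 0 then (1 : ℤ) else 0) ≤ (f g - 1) * (n - f g) := by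
    intro g
    split_ifs with h
    · simp [hf, h]
    · have : (fixFin Ω g).card ≤ Fintype.card Ω := Finset.card_le_univ _
      simp only [mul_zero, neg_zero]
      refine mul_nonneg ?_ ?_ <;> simp only [hf, hn] <;> omega
  have h5 := Finset.sum_le_sum fun g (_ : g ∈ Finset.univ) => h4 g
  rw [h3, Finset.sum_neg_distrib, ← Finset.mul_sum, Finset.sum_boole] at h5
  linarith

/-- Burnside on a subgroup, with the orbit-stabilizer theorem. -/
theorem sum_fix_subgroup (H : Subgroup G) [Fintype H] :
    ∃ O : ℕ, ∑ x : H, (fixFin Ω (x : G)).card = O * Fintype.card H ∧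
      ∑ ω : Ω, Nat.card (stabilizer H ω) = O * Fintype.card H := by
  haveI : Fintype (Quotient (orbitRel H Ω)) := Fintype.ofFinite _
  refine ⟨Fintype.card (Quotient (orbitRel H Ω)), ?_, ?_⟩
  · rw [← sum_card_fixedBy_eq_card_orbits_mul_card_group H Ω]
    refine Finset.sum_congr rfl fun x _ => ?_
    rw [← card_fixFin, Nat.card_eq_fintype_card]
    exact Fintype.card_congr (Equiv.refl _)
  · rw [← sum_card_fixedBy_eq_card_orbits_mul_card_group H Ω]
    calc ∑ ω : Ω, Nat.card (stabilizer H ω)
        = ∑ ω : Ω, ∑ x : H, (if x • ω = ω then 1 else 0) := by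
          refine Finset.sum_congr rfl fun ω _ => ?_
          rw [Nat.card_eq_fintype_card, Finset.sum_boole, Nat.cast_id]
          exact Fintype.card_subtype _
      _ = ∑ x : H, ∑ ω : Ω, (if x • ω = ω then 1 else 0) := Finset.sum_comm
      _ = _ := by
          refine Finset.sum_congr rfl fun x _ => ?_
          rw [Finset.sum_boole, Nat.cast_id]
          exact (Fintype.card_subtype _).symm

/-- Cauchy-Schwarz estimate. -/
theorem bound_avg (H : Subgroup G) [Fintype H] {n O : ℕ} (hn : Fintype.card Ω = n) (hn0 : 0 < n)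
    (hsum : ∑ x : H, (fixFin Ω (x : G)).card = O * Fintype.card H)
    (hpos : ∀ x : H, 0 < (fixFin Ω (x : G)).card) (h2 : 2 ≤ Fintype.card H)
    (hO : (2 * Fintype.card H - 1) * O ≤ n * Fintype.card H) :
    2 * (Fintype.card H : ℚ) ≤ n * ∑ x : H, (1 : ℚ) / (fixFin Ω (x : G)).card := by
  set h := Fintype.card H with hh
  have h1 : 1 ≤ h := Fintype.card_pos
  have hone : (fixFin Ω ((1 : H) : G)).card = n := by
    rw [← hn]; simp [fixFin]
  rw [← Finset.add_sum_erase _ _ (Finset.mem_univ (1 : H)), hone]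
  set s := (Finset.univ : Finset H).erase 1
  have hsc : (s.card : ℚ) = h - 1 := by
    simp only [s, Finset.card_erase_of_mem (Finset.mem_univ _), Finset.card_univ, ← hh]
    push_cast [Nat.cast_sub h1]
    ring
  set P : ℚ := ∑ x ∈ s, ((fixFin Ω (x : G)).card : ℚ)
  set S : ℚ := ∑ x ∈ s, (1 : ℚ) / (fixFin Ω (x : G)).card
  have hP : P = (O : ℚ) * h - n := by
    have : ∑ x : H, ((fixFin Ω (x : G)).card : ℚ) = (O : ℚ) * h := by exact_mod_cast hsum
    rw [← Finset.add_sum_erase _ _ (Finset.mem_univ (1 : H)), hone] at this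
    linarith
  have hCS : (s.card : ℚ) ^ 2 ≤ S * P := by
    have := Finset.sum_sq_le_sum_mul_sum_of_sq_eq_mul s
      (r := fun _ => (1 : ℚ)) (f := fun x => (1 : ℚ) / (fixFin Ω (x : G)).card)
      (g := fun x => ((fixFin Ω (x : G)).card : ℚ))
      (fun x _ => by positivity) (fun x _ => by positivity)
      (fun x _ => by
        have : ((fixFin Ω (x : G)).card : ℚ) ≠ 0 := Nat.cast_ne_zero.mpr (hpos x).ne'
        field_simp)
    simpa [S, P] using this
  have hOq : ((2 * h : ℚ) - 1) * O ≤ n * h := by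
    have : (((2 * h - 1) * O : ℕ) : ℚ) ≤ ((n * h : ℕ) : ℚ) := by exact_mod_cast hO
    push_cast [Nat.cast_sub (show 1 ≤ 2 * h by omega)] at this
    exact this
  have hS0 : 0 ≤ S := Finset.sum_nonneg fun x _ => by positivity
  have hnq : (0 : ℚ) < n := by exact_mod_cast hn0
  rw [mul_add, mul_one_div_cancel hnq.ne']
  rcases Nat.lt_or_ge h 2 with hlt | hge
  · omega
  · have hPpos : 0 < P := by
      refine Finset.sum_pos (fun x _ => by exact_mod_cast hpos x) (Finset.card_pos.mp ?_)
      rw [Finset.card_erase_of_mem (Finset.mem_univ _), Finset.card_univ]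
      omega
    have key : (2 * (h : ℚ) - 1) * P ≤ n * ((h : ℚ) - 1) ^ 2 := by
      rw [hP]
      nlinarith [mul_le_mul_of_nonneg_left hOq (Nat.cast_nonneg (α := ℚ) h)]
    rw [hsc] at hCS
    by_contra hcon
    have hlt : (n : ℚ) * S < 2 * h - 1 := by linarith
    nlinarith [mul_lt_mul_of_pos_right hlt hPpos, mul_le_mul_of_nonneg_left hCS hnq.le]

/-- estimate from a bound on the fixed points -/
theorem bound_max (H : Subgroup G) [Fintype H] {n M : ℕ} (hn : Fintype.card Ω = n) (hn0 : 0 < n)
    (hpos : ∀ x : H, 0 < (fixFin Ω (x : G)).card)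
    (hM : ∀ x : H, x ≠ 1 → (fixFin Ω (x : G)).card ≤ M)
    (hle : (2 * Fintype.card H - 1) * M ≤ n * (Fintype.card H - 1)) (hM0 : 0 < M) :
    2 * (Fintype.card H : ℚ) ≤ n * ∑ x : H, (1 : ℚ) / (fixFin Ω (x : G)).card := by
  set h := Fintype.card H with hh
  have h1 : 1 ≤ h := Fintype.card_pos
  have hone : (fixFin Ω ((1 : H) : G)).card = n := by
    rw [← hn]; simp [fixFin]
  rw [← Finset.add_sum_erase _ _ (Finset.mem_univ (1 : H)), hone]
  set s := (Finset.univ : Finset H).erase 1
  have hsc : (s.card : ℚ) = h - 1 := by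
    simp only [s, Finset.card_erase_of_mem (Finset.mem_univ _), Finset.card_univ, ← hh]
    push_cast [Nat.cast_sub h1]
    ring
  have hMq : (0 : ℚ) < M := by exact_mod_cast hM0
  have hnq : (0 : ℚ) < n := by exact_mod_cast hn0
  have hterm : ∀ x ∈ s, (1 : ℚ) / M ≤ 1 / (fixFin Ω (x : G)).card := by
    intro x hx
    exact one_div_le_one_div_of_le (by exact_mod_cast hpos x)
      (by exact_mod_cast hM x (Finset.ne_of_mem_erase hx))
  have hsum := Finset.sum_le_sum hterm
  rw [Finset.sum_const, nsmul_eq_mul, hsc] at hsum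
  have hle' : ((2 * h : ℚ) - 1) * M ≤ n * ((h : ℚ) - 1) := by
    have : (((2 * h - 1) * M : ℕ) : ℚ) ≤ ((n * (h - 1) : ℕ) : ℚ) := by exact_mod_cast hle
    push_cast [Nat.cast_sub (show 1 ≤ 2 * h by omega), Nat.cast_sub h1] at this
    exact this
  have h2 : (2 * (h : ℚ) - 1) ≤ (n : ℚ) * (((h : ℚ) - 1) * (1 / M)) := by
    rw [mul_one_div, ← mul_div_assoc, le_div_iff₀ hMq]
    exact hle'
  rw [mul_add, mul_one_div_cancel hnq.ne']
  have h3 := mul_le_mul_of_nonneg_left hsum hnq.le
  linarith

end Counting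

end Cfsg.Agent.OddLocal.Derangement
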