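import Cfsg.Agent.Lib.OddLocal.DerangementBound
import Mathlib.GroupTheory.GroupAction.MultipleTransitivity

/-!
A 2-transitive group of degree `n ≥ 7` with non-trivial two-point stabilizers has at least
`2 |G| / n` derangements.
-/

namespace Cfsg.Agent.OddLocal.Derangement

open MulAction

open scoped Classical

variable {G Ω : Type*} [Group G] [MulAction G Ω]

/-- there is no 2-transitive group of degree seven and order 84 -/
theorem no_order_84 [Finite G] [FaithfulSMul G Ω] [Fintype Ω] (h7 : Fintype.card Ω = 7)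
    (h84 : Nat.card G = 84) [IsPretransitive G Ω] : False := by
  haveI : Fact (Nat.Prime 7) := ⟨by norm_num⟩
  obtain ⟨P⟩ : Nonempty (Sylow 7 G) := inferInstance
  have hP : Nat.card (P : Subgroup G) = 7 := by
    rw [Sylow.card_eq_multiplicity, h84]
    have : (84 : ℕ).factorization 7 = 1 := by
      rw [show (84 : ℕ) = 7 ^ 1 * 12 from rfl, Nat.factorization_mul (by norm_num) (by norm_num),
        Finsupp.add_apply, (Fact.out : Nat.Prime 7).factorization_pow,
        Nat.factorization_eq_zero_of_not_dvd (show ¬ 7 ∣ 12 by norm_num), Finsupp.single_eq_same]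
    rw [this, pow_one]
  have hidx : (P : Subgroup G).index = 12 := by
    have := (P : Subgroup G).index_mul_card
    rw [hP, h84] at this
    omega
  have hone : Nat.card (Sylow 7 G) = 1 := by
    have h1 : Nat.card (Sylow 7 G) ≡ 1 [MOD 7] := card_sylow_modEq_one 7 G
    have h2 : Nat.card (Sylow 7 G) ∣ 12 := hidx ▸ Sylow.card_dvd_index P
    have h3 := Nat.le_of_dvd (by norm_num) h2
    unfold Nat.ModEq at h1
    interval_cases hk : Nat.card (Sylow 7 G) <;> simp_all <;> omega
  haveI : Subsingleton (Sylow 7 G) := (Nat.card_eq_one_iff_unique.mp hone).1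
  have hnorm : (P : Subgroup G).Normal := Sylow.normal_of_subsingleton P
  obtain ⟨⟨c, hc⟩, hc1⟩ : ∃ c : (P : Subgroup G), c ≠ 1 := by
    haveI : Nontrivial (P : Subgroup G) := Finite.one_lt_card_iff_nontrivial.mp (by omega)
    exact exists_ne 1
  have hgen : Subgroup.zpowers c = (P : Subgroup G) := by
    refine eq_of_le_card_le (Subgroup.zpowers_le.mpr hc) ?_
    rcases (Fact.out : Nat.Prime 7).eq_one_or_self_of_dvd _
      (hP ▸ Subgroup.card_dvd_of_le (Subgroup.zpowers_le.mpr hc)) with h | h
    · exact absurd (Subgroup.zpowers_eq_bot.mp (Subgroup.eq_bot_of_card_eq _ h))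
        (fun e => hc1 (Subtype.ext e))
    · rw [h, hP]
  haveI : Nonempty Ω := Fintype.card_pos_iff.mp (by omega)
  have : ∃ a : Ω, c • a ≠ a := not_forall.mp fun hall => hc1 (Subtype.ext
    (eq_of_smul_eq_smul fun ω : Ω => (hall ω).trans (one_smul G ω).symm))
  obtain ⟨a, ha⟩ := this
  -- `P` is transitive
  have horb : orbit (P : Subgroup G) a = Set.univ := by
    refine Set.eq_of_subset_of_ncard_le (Set.subset_univ _) ?_ (Set.toFinite _)
    rw [Set.ncard_univ, Nat.card_eq_fintype_card, h7, ← Nat.card_coe_set_eq]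
    have h := Nat.card_congr (orbitProdStabilizerEquivGroup (P : Subgroup G) a)
    rw [Nat.card_prod, hP] at h
    rcases (Fact.out : Nat.Prime 7).eq_one_or_self_of_dvd _ ⟨_, h.symm⟩ with h' | h'
    · exfalso
      have hsub := (Nat.card_eq_one_iff_unique.mp h').1
      exact ha (congrArg Subtype.val (hsub.elim
        (⟨c • a, ⟨⟨c, hc⟩, rfl⟩⟩ : orbit (P : Subgroup G) a) ⟨a, mem_orbit_self _⟩))
    · omega
  have hst : Nat.card (stabilizer G a) = 12 := by
    have h := (stabilizer G a).index_mul_card
    rw [index_stabilizer_of_transitive, Nat.card_eq_fintype_card, h7, h84] at h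
    omega
  have hcj : ∀ g : stabilizer G a, (g : G) * c * (g : G)⁻¹ ∈ (P : Subgroup G) :=
    fun g => hnorm.conj_mem c hc g
  have hne : ∀ g : stabilizer G a, (⟨_, hcj g⟩ : (P : Subgroup G)) ≠ 1 := by
    intro g h
    exact hc1 (Subtype.ext (conj_eq_one_iff.mp (congrArg Subtype.val h)))
  let φ : stabilizer G a → {y : (P : Subgroup G) // y ≠ 1} := fun g => ⟨⟨_, hcj g⟩, hne g⟩
  have hinj : Function.Injective φ := by
    intro g g' h
    have h' : (g : G) * c * (g : G)⁻¹ = (g' : G) * c * (g' : G)⁻¹ :=
      congrArg (fun y => ((y.1 : (P : Subgroup G)) : G)) h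
    set k := (g' : G)⁻¹ * g with hk
    have hkc : Commute k c := by
      show k * c = c * k
      calc k * c = (g' : G)⁻¹ * ((g : G) * c * (g : G)⁻¹) * g := by rw [hk]; group
        _ = (g' : G)⁻¹ * ((g' : G) * c * (g' : G)⁻¹) * g := by rw [h']
        _ = c * k := by rw [hk]; group
    have hka : k • a = a := ((stabilizer G a).mul_mem ((stabilizer G a).inv_mem g'.2) g.2)
    have : k = 1 := by
      refine eq_of_smul_eq_smul fun ω : Ω => ?_
      obtain ⟨⟨y, hy⟩, hyω⟩ := horb.symm ▸ Set.mem_univ ω
      rw [← hgen] at hy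
      obtain ⟨i, rfl⟩ := Subgroup.mem_zpowers_iff.mp hy
      have hyω' : c ^ i • a = ω := hyω
      rw [one_smul, ← hyω', ← mul_smul, (hkc.zpow_right i).eq, mul_smul, hka]
    exact Subtype.ext (inv_mul_eq_one.mp this).symm
  haveI : Fintype (P : Subgroup G) := Fintype.ofFinite _
  have hle := Nat.card_le_card_of_injective φ hinj
  rw [hst, Nat.card_eq_fintype_card, Fintype.card_subtype_compl, Fintype.card_subtype_eq,
    ← Nat.card_eq_fintype_card, hP] at hle
  omega

variable [Finite G] [FaithfulSMul G Ω] [Fintype Ω]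

/-- a sharply 2-transitive group has at most `|G| / n` derangements -/
theorem sharply_false (h2t : ∀ a b u v : Ω, a ≠ b → u ≠ v → ∃ g : G, g • a = u ∧ g • b = v)
    {a b : Ω} (hab : a ≠ b) (hh : Nat.card ↥(stab2 G a b) = 1)
    (hfree : ∀ g : G, g ≠ 1 → Nat.card (fixedBy Ω g) ≤ 1)
    (hlt : Nat.card G < Fintype.card Ω * Nat.card {g : G // ∀ ω : Ω, g • ω ≠ ω}) : False := by
  haveI : Fintype G := Fintype.ofFinite G
  haveI : Nonempty Ω := ⟨a⟩
  haveI : Nontrivial Ω := ⟨a, b, hab⟩
  haveI hpre : IsPretransitive G Ω := ⟨fun x y => by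
    obtain ⟨x', hx'⟩ := exists_ne x
    obtain ⟨y', hy'⟩ := exists_ne y
    obtain ⟨g, hg, -⟩ := h2t x x' y y' (Ne.symm hx') (Ne.symm hy')
    exact ⟨g, hg⟩⟩
  have hst : Nat.card (stabilizer G (a, b)) = 1 := by
    rw [← hh]
    refine Nat.card_congr (Equiv.subtypeEquivRight fun g => ?_)
    simp [mem_stab2, mem_stabilizer_iff, Prod.ext_iff]
  have horb : orbit G (a, b) = ↑((Finset.univ : Finset Ω).offDiag) := by
    ext ⟨u, v⟩
    simp only [Finset.coe_offDiag, Finset.coe_univ, Set.mem_offDiag, Set.mem_univ, true_and]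
    constructor
    · rintro ⟨g, hg⟩ e
      exact hab (smul_left_cancel g ((congrArg Prod.fst hg).trans (e.trans (congrArg Prod.snd hg).symm)))
    · intro huv
      obtain ⟨g, hg1, hg2⟩ := h2t a b u v hab huv
      exact ⟨g, Prod.ext hg1 hg2⟩
  have hG : Nat.card G = Fintype.card Ω * Fintype.card Ω - Fintype.card Ω := by
    rw [← Nat.card_congr (orbitProdStabilizerEquivGroup G (a, b)), Nat.card_prod, hst, mul_one,
      horb, Nat.card_coe_set_eq, Set.ncard_coe_finset, Finset.offDiag_card, Finset.card_univ]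
  have hz : ∑ g : G, (((fixFin Ω g).card : ℤ) - 1) = 0 := by
    rw [Finset.sum_sub_distrib, Finset.sum_const, Finset.card_univ, nsmul_eq_mul, mul_one, sub_eq_zero]
    exact_mod_cast sum_card_fixFin (G := G) (Ω := Ω)
  have hsplit : ∀ g : G, ((fixFin Ω g).card : ℤ) - 1
      = (if g = 1 then (Fintype.card Ω : ℤ) - 1 else 0)
        - (if (fixFin Ω g).card = 0 then 1 else 0) := by
    intro g
    by_cases hg : g = 1
    · subst hg
      have : (fixFin Ω (1 : G)).card = Fintype.card Ω := by simp [fixFin]
      rw [this, if_pos rfl, if_neg Fintype.card_ne_zero, sub_zero]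
    · have := hfree g hg
      rw [card_fixFin] at this
      rw [if_neg hg]
      split_ifs with h0 <;> omega
  rw [Finset.sum_congr rfl fun g _ => hsplit g, Finset.sum_sub_distrib, Finset.sum_ite_eq',
    if_pos (Finset.mem_univ _), Finset.sum_boole, ← card_derangements, sub_eq_zero] at hz
  have : ((Fintype.card Ω * Nat.card {g : G // ∀ ω : Ω, g • ω ≠ ω} : ℕ) : ℤ) = (Nat.card G : ℤ) := by
    rw [hG, Nat.cast_sub (Nat.le_mul_self _)]
    push_cast
    rw [← hz]
    ring
  have := Int.ofNat.inj this
  omega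

/-- Guralnick, Isaacs and Spiga for 2-transitive groups with non-trivial two-point stabilizers -/
theorem two_transitive_bound
    (h2t : ∀ a b u v : Ω, a ≠ b → u ≠ v → ∃ g : G, g • a = u ∧ g • b = v)
    (hn7 : 7 ≤ Fintype.card Ω) {a b : Ω} (hab : a ≠ b) (hh2 : 2 ≤ Nat.card ↥(stab2 G a b)) :
    2 * Nat.card G ≤ Fintype.card Ω * Nat.card {g : G // ∀ ω : Ω, g • ω ≠ ω} := by
  haveI : Fintype G := Fintype.ofFinite G
  haveI : Nonempty Ω := ⟨a⟩
  haveI hpre : IsPretransitive G Ω := ⟨fun x y => by
    haveI : Nontrivial Ω := Fintype.one_lt_card_iff_nontrivial.mp (by omega)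
    obtain ⟨x', hx'⟩ := exists_ne x
    obtain ⟨y', hy'⟩ := exists_ne y
    obtain ⟨g, hg, -⟩ := h2t x x' y y' (Ne.symm hx') (Ne.symm hy')
    exact ⟨g, hg⟩⟩
  set n := Fintype.card Ω with hn
  set h := Nat.card ↥(stab2 G a b) with hh
  -- conjugation
  have hmem : ∀ (g x : G) (u v : Ω),
      x ∈ stab2 G (g • u) (g • v) ↔ g⁻¹ * x * g ∈ stab2 G u v := by
    intro g x u v
    simp only [mem_stab2, mul_smul, inv_smul_eq_iff]
  have hconst : ∀ u v : Ω, u ≠ v → Nat.card ↥(stab2 G u v) = h := by
    intro u v huv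
    obtain ⟨g, rfl, rfl⟩ := h2t a b u v hab huv
    refine Nat.card_congr ⟨fun x => ⟨g⁻¹ * x.1 * g, (hmem g x.1 a b).mp x.2⟩,
      fun x => ⟨g * x.1 * g⁻¹, (hmem g _ a b).mpr (by simpa [mul_assoc] using x.2)⟩,
      fun x => Subtype.ext (by simp [mul_assoc]), fun x => Subtype.ext (by simp [mul_assoc])⟩
  -- the order of `G`
  have hG : Nat.card G = n * (n - 1) * h := by
    have horb : orbit G (a, b) = {p : Ω × Ω | p.1 ≠ p.2} := by
      ext ⟨u, v⟩
      constructor
      · rintro ⟨g, hg⟩
        obtain ⟨rfl, rfl⟩ : g • a = u ∧ g • b = v :=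
          ⟨congrArg Prod.fst hg, congrArg Prod.snd hg⟩
        exact fun e => hab (smul_left_cancel g e)
      · intro huv
        obtain ⟨g, hg1, hg2⟩ := h2t a b u v hab huv
        exact ⟨g, Prod.ext hg1 hg2⟩
    have hst : Nat.card (stabilizer G (a, b)) = h := by
      refine Nat.card_congr (Equiv.subtypeEquivRight fun g => ?_)
      simp [mem_stab2, mem_stabilizer_iff, Prod.ext_iff]
    have hoff : Nat.card (orbit G (a, b)) = n * (n - 1) := by
      rw [horb, Nat.card_eq_fintype_card, Nat.mul_sub, mul_one]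
      have : Fintype.card {p : Ω × Ω | p.1 ≠ p.2} = (Finset.univ : Finset Ω).offDiag.card := by
        rw [← Set.toFinset_card]
        congr 1
        ext p
        simp
      rw [this, Finset.offDiag_card, Finset.card_univ]
    rw [← Nat.card_congr (orbitProdStabilizerEquivGroup G (a, b)), Nat.card_prod, hoff, hst]
  -- the derangement count
  set S : ℚ := ∑ x : stab2 G a b, (1 : ℚ) / (fixFin Ω (x : G)).card with hS
  have hD : (Nat.card {g : G // ∀ ω : Ω, g • ω ≠ ω} : ℚ) = ((n * (n - 1) : ℕ) : ℚ) * S := by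
    have hz : ∑ g : G, (((fixFin Ω g).card : ℚ) - 1) = 0 := by
      rw [Finset.sum_sub_distrib, Finset.sum_const, Finset.card_univ, nsmul_eq_mul, mul_one]
      have := sum_card_fixFin (G := G) (Ω := Ω)
      rw [sub_eq_zero]
      exact_mod_cast this
    have hsplit : ∀ g : G, ((fixFin Ω g).card : ℚ) - 1
        = (∑ p ∈ (fixFin Ω g).offDiag, (1 : ℚ) / (fixFin Ω g).card)
          - (if (fixFin Ω g).card = 0 then 1 else 0) := by
      intro g
      rw [Finset.sum_const, nsmul_eq_mul, Finset.offDiag_card,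
        Nat.cast_sub (Nat.le_mul_self _), Nat.cast_mul]
      split_ifs with h0
      · rw [h0]; norm_num
      · have : ((fixFin Ω g).card : ℚ) ≠ 0 := Nat.cast_ne_zero.mpr h0
        field_simp
        ring
    rw [Finset.sum_congr rfl fun g _ => hsplit g, Finset.sum_sub_distrib, Finset.sum_boole,
      ← card_derangements, sub_eq_zero] at hz
    rw [← hz, Finset.sum_comm' (t' := (Finset.univ : Finset Ω).offDiag)
      (s' := fun p => Finset.univ.filter fun g : G => g ∈ stab2 G p.1 p.2) (by
        intro g p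
        simp [fixFin, mem_stab2]
        tauto)]
    have hinner : ∀ p ∈ (Finset.univ : Finset Ω).offDiag,
        ∑ g ∈ Finset.univ.filter (fun g : G => g ∈ stab2 G p.1 p.2),
          (1 : ℚ) / (fixFin Ω g).card = S := by
      intro p hp
      obtain ⟨k, hk1, hk2⟩ := h2t a b p.1 p.2 hab (Finset.mem_offDiag.mp hp).2.2
      rw [hS, ← Finset.sum_subtype (Finset.univ.filter fun g : G => g ∈ stab2 G a b)
        (fun g => by simp) (fun g : G => (1 : ℚ) / (fixFin Ω g).card)]
      refine Finset.sum_equiv (MulAut.conj k⁻¹).toEquiv (fun g => ?_) (fun g _ => ?_)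
      · simp only [Finset.mem_filter, Finset.mem_univ, true_and, ← hk1, ← hk2]
        rw [hmem]
        simp
      · congr 2
        refine Finset.card_equiv (MulAction.toPerm k⁻¹) fun ω => ?_
        simp only [fixFin, Finset.mem_filter, Finset.mem_univ, true_and, toPerm_apply,
          MulEquiv.toEquiv_eq_coe, EquivLike.coe_coe, MulAut.conj_apply, inv_inv, mul_smul,
          smul_inv_smul, smul_left_cancel_iff]
    rw [Finset.sum_congr rfl hinner, Finset.sum_const, nsmul_eq_mul, Finset.offDiag_card,
      Finset.card_univ, ← hn, Nat.mul_sub, mul_one]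
  suffices hkey : 2 * (Fintype.card (stab2 G a b) : ℚ) ≤ n * S by
    rw [← Nat.card_eq_fintype_card, ← hh] at hkey
    have : (2 * Nat.card G : ℚ) ≤ n * Nat.card {g : G // ∀ ω : Ω, g • ω ≠ ω} := by
      rw [hD, hG]
      push_cast
      have := mul_le_mul_of_nonneg_left hkey
        (mul_nonneg (Nat.cast_nonneg (α := ℚ) n) (Nat.cast_nonneg (α := ℚ) (n - 1)))
      linarith
    exact_mod_cast this
  -- the common fixed points
  set H := stab2 G a b with hHdef
  set K := fixSub Ω H with hKdef
  set k := K.card with hkdef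
  have hkconst : ∀ u v : Ω, u ≠ v → (fixSub Ω (stab2 G u v)).card = k := by
    intro u v huv
    obtain ⟨g, rfl, rfl⟩ := h2t a b u v hab huv
    refine (Finset.card_equiv (MulAction.toPerm g) fun ω => ?_).symm
    simp only [hKdef, hHdef, fixSub, Finset.mem_filter, Finset.mem_univ, true_and, toPerm_apply,
      SetLike.le_def, mem_stabilizer_iff]
    constructor
    · intro hω x hx
      have := hω ((hmem g x a b).mp hx)
      rwa [mul_smul, mul_smul, inv_smul_eq_iff] at this
    · intro hω x hx
      have := hω ((hmem g (g * x * g⁻¹) a b).mpr (by simpa [mul_assoc] using hx))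
      rw [mul_smul, mul_smul, inv_smul_smul] at this
      exact smul_left_cancel g this
  have hk2 : 2 ≤ k := by
    have hsub : ({a, b} : Finset Ω) ⊆ K := by
      intro z hz
      simp only [Finset.mem_insert, Finset.mem_singleton] at hz
      simp only [hKdef, hHdef, fixSub, Finset.mem_filter, Finset.mem_univ, true_and]
      rcases hz with rfl | rfl
      · exact inf_le_left
      · exact inf_le_right
    simpa [Finset.card_pair hab] using Finset.card_le_card hsub
  have hline : ∀ u v p q : Ω, u ≠ v → p ≠ q → p ∈ fixSub Ω (stab2 G u v) →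
      q ∈ fixSub Ω (stab2 G u v) → stab2 G u v = stab2 G p q := by
    intro u v p q huv hpq hp hq
    simp only [fixSub, Finset.mem_filter, Finset.mem_univ, true_and] at hp hq
    exact eq_of_le_card_le (le_inf hp hq) (by rw [hconst p q hpq, hconst u v huv])
  have hmem1 : ∀ u v : Ω, u ∈ fixSub Ω (stab2 G u v) := by
    intro u v; simp [fixSub]
  have hmem2 : ∀ u v : Ω, v ∈ fixSub Ω (stab2 G u v) := by
    intro u v; simp [fixSub]
  have hpart : (k - 1) ∣ (n - 1) := by
    have hfib : ∀ T ∈ (Finset.univ.erase a).image (fun c => stab2 G a c),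
        ((Finset.univ.erase a).filter fun c => stab2 G a c = T).card = k - 1 := by
      intro T hT
      obtain ⟨c, hc, rfl⟩ := Finset.mem_image.mp hT
      have hac : a ≠ c := Ne.symm (Finset.ne_of_mem_erase hc)
      rw [← hkconst a c hac, ← Finset.card_erase_of_mem (hmem1 a c)]
      congr 1
      ext d
      simp only [Finset.mem_filter, Finset.mem_erase, Finset.mem_univ, and_true]
      constructor
      · rintro ⟨hd, he⟩
        exact ⟨hd, he ▸ hmem2 a d⟩
      · rintro ⟨hd, he⟩
        exact ⟨hd, (hline a c a d hac (Ne.symm hd) (hmem1 a c) he).symm⟩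
    have := Finset.card_eq_sum_card_image (fun c => stab2 G a c) (Finset.univ.erase a)
    rw [Finset.sum_congr rfl hfib, Finset.sum_const, smul_eq_mul,
      Finset.card_erase_of_mem (Finset.mem_univ a), Finset.card_univ] at this
    exact ⟨_, this.trans (mul_comm _ _)⟩
  have hfbound : ∀ x : G, x ≠ 1 → (k - 1) * (fixFin Ω x).card ≤ n - 1 := by
    intro x hx
    obtain ⟨c, hc⟩ : ∃ c : Ω, x • c ≠ c := not_forall.mp fun hall =>
      hx (eq_of_smul_eq_smul fun ω : Ω => by rw [one_smul]; exact hall ω)
    have hpc : ∀ p ∈ fixFin Ω x, p ≠ c := by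
      intro p hp e
      simp only [fixFin, Finset.mem_filter] at hp
      exact hc (e ▸ hp.2)
    have hdis : ((fixFin Ω x : Finset Ω) : Set Ω).PairwiseDisjoint
        (fun p => (fixSub Ω (stab2 G c p)).erase c) := by
      intro p hp q hq hpq
      refine Finset.disjoint_left.mpr fun z hz hz' => ?_
      simp only [Finset.mem_erase] at hz hz'
      have hcp := Ne.symm (hpc p hp)
      have hcq := Ne.symm (hpc q hq)
      have e1 := hline c p c z hcp (Ne.symm hz.1) (hmem1 c p) hz.2
      have e2 := hline c q c z hcq (Ne.symm hz'.1) (hmem1 c q) hz'.2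
      have hq' : q ∈ fixSub Ω (stab2 G c p) := (e1.trans e2.symm) ▸ hmem2 c q
      have e3 := hline c p p q hcp hpq (hmem2 c p) hq'
      have hx' : x ∈ stab2 G p q := by
        simp only [fixFin, Finset.coe_filter, Finset.mem_univ, true_and] at hp hq
        exact ⟨hp, hq⟩
      rw [← e3] at hx'
      exact hc hx'.1
    have hcard := Finset.card_biUnion hdis
    rw [Finset.sum_congr rfl (fun p hp => by
      rw [Finset.card_erase_of_mem (hmem1 c p), hkconst c p (Ne.symm (hpc p hp))]),
      Finset.sum_const, smul_eq_mul] at hcard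
    rw [mul_comm, ← hcard]
    calc _ ≤ (Finset.univ.erase c).card := by
          refine Finset.card_le_card fun z hz => ?_
          simp only [Finset.mem_biUnion, Finset.mem_erase] at hz
          obtain ⟨p, -, hz, -⟩ := hz
          simp [hz]
      _ = n - 1 := by rw [Finset.card_erase_of_mem (Finset.mem_univ c), Finset.card_univ]
  have hcardH : Fintype.card H = h := Nat.card_eq_fintype_card.symm
  have hpos : ∀ x : H, 0 < (fixFin Ω (x : G)).card := by
    intro x
    refine Finset.card_pos.mpr ⟨a, ?_⟩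
    simp only [fixFin, Finset.mem_filter, Finset.mem_univ, true_and]
    exact x.2.1
  have hmaxb : ∀ M : ℕ, 0 < M → (∀ x : G, x ≠ 1 → (fixFin Ω x).card ≤ M) →
      (2 * h - 1) * M ≤ n * (h - 1) → 2 * (Fintype.card H : ℚ) ≤ n * S := by
    intro M hM0 hM hle
    exact bound_max H hn.symm (by omega) hpos
      (fun x hx => hM x (fun e => hx (Subtype.ext e))) (hcardH.symm ▸ hle) hM0
  -- many points on a line
  rcases Nat.lt_or_ge k 4 with hk4 | hk4
  swap
  · refine hmaxb ((n - 1) / 3) (by omega) (fun x hx => ?_) ?_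
    · have := hfbound x hx
      have h3 : 3 * (fixFin Ω x).card ≤ (k - 1) * (fixFin Ω x).card :=
        Nat.mul_le_mul_right _ (by omega)
      omega
    · have h1 : 3 * ((n - 1) / 3) ≤ n - 1 := Nat.mul_div_le _ _
      obtain ⟨h', hh'⟩ : ∃ h', h = h' + 2 := ⟨h - 2, by omega⟩
      obtain ⟨n', hn'⟩ : ∃ n', n = n' + 1 := ⟨n - 1, by omega⟩
      rw [hh', hn', show 2 * (h' + 2) - 1 = 2 * h' + 3 by omega,
        show h' + 2 - 1 = h' + 1 by omega]
      rw [hn', show n' + 1 - 1 = n' by omega] at h1
      simp only [hn', Nat.add_sub_cancel]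
      nlinarith [Nat.mul_le_mul_left (2 * h' + 3) h1, Nat.zero_le (h' * n')]
  obtain ⟨O, hO1, hO2⟩ := sum_fix_subgroup (Ω := Ω) H
  rw [hcardH] at hO2
  -- orbit lengths
  set st : Ω → ℕ := fun ω => Nat.card (stabilizer H ω) with hstdef
  have horbst : ∀ ω : Ω, Nat.card (orbit H ω) * st ω = h := by
    intro ω
    rw [← Nat.card_prod, Nat.card_congr (orbitProdStabilizerEquivGroup H ω)]
  have hfix : ∀ ω : Ω, ω ∈ K ↔ Nat.card (orbit H ω) = 1 := by
    intro ω
    simp only [hKdef, fixSub, Finset.mem_filter, Finset.mem_univ, true_and]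
    constructor
    · intro hω
      rw [Nat.card_eq_one_iff_unique]
      refine ⟨⟨?_⟩, ⟨⟨ω, mem_orbit_self _⟩⟩⟩
      rintro ⟨u, g, rfl⟩ ⟨v, g', rfl⟩
      exact Subtype.ext ((hω g.2).trans (hω g'.2).symm)
    · intro hω x hx
      exact congrArg Subtype.val ((Nat.card_eq_one_iff_unique.mp hω).1.elim
        (⟨x • ω, ⟨⟨x, hx⟩, rfl⟩⟩ : orbit H ω) ⟨ω, mem_orbit_self _⟩)
  set B := Finset.univ.filter fun ω : Ω => 3 ≤ Nat.card (orbit H ω) with hBdef
  have hB_K : Disjoint K B := by
    refine Finset.disjoint_left.mpr fun z hz hz' => ?_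
    rw [hfix] at hz
    simp only [hBdef, Finset.mem_filter, hz] at hz'
    omega
  -- the weights
  have hweight : ∀ ω : Ω, 6 * st ω + (if ω ∈ B then h else 0)
      ≤ 3 * h + (if ω ∈ K then 3 * h else 0) := by
    intro ω
    have h1 := horbst ω
    have hp : 0 < Nat.card (orbit H ω) := by
      haveI : Nonempty (orbit H ω) := ⟨⟨ω, mem_orbit_self _⟩⟩
      exact Nat.card_pos
    by_cases hK : ω ∈ K
    · have := Finset.disjoint_left.mp hB_K hK
      rw [if_pos hK, if_neg this]
      rw [hfix] at hK
      rw [hK, one_mul] at h1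
      omega
    · rw [if_neg hK]
      rw [hfix] at hK
      by_cases hB : ω ∈ B
      · rw [if_pos hB]
        simp only [hBdef, Finset.mem_filter, Finset.mem_univ, true_and] at hB
        have : 3 * st ω ≤ h := h1 ▸ Nat.mul_le_mul_right _ hB
        omega
      · rw [if_neg hB]
        have : 2 * st ω ≤ h := h1 ▸ Nat.mul_le_mul_right _ (by omega)
        omega
  have hOB : 6 * O + B.card ≤ 3 * n + 3 * k := by
    have := Finset.sum_le_sum fun ω (_ : ω ∈ Finset.univ) => hweight ω
    rw [Finset.sum_add_distrib, Finset.sum_add_distrib, ← Finset.mul_sum, hO2,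
      Finset.sum_ite_mem, Finset.sum_ite_mem, Finset.univ_inter, Finset.univ_inter,
      Finset.sum_const, Finset.sum_const, Finset.sum_const, smul_eq_mul, smul_eq_mul,
      smul_eq_mul, Finset.card_univ, ← hn, ← hkdef] at this
    have h' : (6 * O + B.card) * h ≤ (3 * n + 3 * k) * h := by nlinarith
    exact Nat.le_of_mul_le_mul_right h' (by omega)
  have havg : (2 * h - 1) * O ≤ n * h → 2 * (Fintype.card H : ℚ) ≤ n * S := fun hle =>
    bound_avg H hn.symm (by omega) hO1 hpos (by omega) (hcardH.symm ▸ hle)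
  have havg2 : 2 * O ≤ n + 1 → 2 * h ≤ n + 1 → 2 * (Fintype.card H : ℚ) ≤ n * S := by
    intro hO hnh
    refine havg ?_
    obtain ⟨h', hh'⟩ : ∃ h', 2 * h = h' + 1 := ⟨2 * h - 1, by omega⟩
    rw [show 2 * h - 1 = h' by omega]
    have h1 : h' * (2 * O) ≤ h' * (n + 1) := Nat.mul_le_mul_left _ hO
    nlinarith
  by_cases hB0 : B = ∅
  · -- all orbits are short
    have hshort : ShortOrbits H Ω := by
      intro ω g hg g' hg'
      have hlt : Nat.card (orbit H ω) ≤ 2 := by
        have := Finset.filter_eq_empty_iff.mp hB0 (Finset.mem_univ ω)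
        omega
      by_contra hcon
      push_neg at hcon
      obtain ⟨h1, h2, h3⟩ := hcon
      have hsub : ({ω, g • ω, g' • ω} : Set Ω) ⊆ orbit H ω := by
        rintro z (rfl | rfl | rfl)
        · exact mem_orbit_self _
        · exact ⟨⟨g, hg⟩, rfl⟩
        · exact ⟨⟨g', hg'⟩, rfl⟩
      have hc := Set.ncard_le_ncard hsub (Set.toFinite _)
      have : ({ω, g • ω, g' • ω} : Set Ω).ncard = 3 :=
        Set.ncard_eq_three.mpr ⟨_, _, _, Ne.symm h1, Ne.symm h2, h3, rfl⟩
      rw [this, ← Nat.card_coe_set_eq] at hc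
      omega
    rcases Nat.lt_or_ge h 3 with hlt | hge
    · have hheq : h = 2 := by omega
      refine havg ?_
      rw [hheq]
      rw [hB0, Finset.card_empty] at hOB
      by_cases h7 : n = 7 ∧ k = 3
      · exfalso
        refine no_order_84 (G := G) (Ω := Ω) h7.1 ?_
        rw [hG, h7.1, hheq]
      · have : k = 2 ∨ k = 3 := by omega
        rcases this with hk' | hk'
        · omega
        · rw [hk'] at hpart
          obtain ⟨m, hm⟩ := hpart
          omega
    · exfalso
      refine short_orbits_false (G := G) (Ω := Ω) h hge hconst (fun u v huv => ?_) hab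
      obtain ⟨g, rfl, rfl⟩ := h2t a b u v hab huv
      intro ω x hx y hy
      have := hshort (g⁻¹ • ω) _ ((hmem g x a b).mp hx) _ ((hmem g y a b).mp hy)
      simpa [mul_smul] using this
  have hB1 : 3 ≤ B.card := by
    obtain ⟨ω, hω⟩ := Finset.nonempty_of_ne_empty hB0
    have hω' := hω
    simp only [hBdef, Finset.mem_filter, Finset.mem_univ, true_and] at hω'
    refine hω'.trans ?_
    rw [Nat.card_eq_fintype_card, ← Set.toFinset_card]
    refine Finset.card_le_card fun z hz => ?_
    simp only [Set.mem_toFinset] at hz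
    simp only [hBdef, Finset.mem_filter, Finset.mem_univ, true_and]
    rw [orbit_eq_iff.mpr hz]
    exact hω'
  have hk23 : k = 2 ∨ k = 3 := by omega
  rcases hk23 with hk' | hk'
  · -- two points on a line
    rw [hk'] at hOB
    rcases Nat.lt_or_ge (2 * O) (n + 1) with hlt | hge
    · refine havg ?_
      have h1 : (2 * h - 1) * (2 * O) ≤ (2 * h) * n := Nat.mul_le_mul (by omega) (by omega)
      nlinarith
    rcases Nat.lt_or_ge (n + 1) (2 * h) with hlt | hge'
    swap
    · exact havg2 (by omega) hge'
    exfalso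
    have hB3 : B.card = 3 := by omega
    obtain ⟨ω₀, hω₀⟩ := Finset.nonempty_of_ne_empty hB0
    simp only [hBdef, Finset.mem_filter, Finset.mem_univ, true_and] at hω₀
    have horb3 : Nat.card (orbit H ω₀) = 3 := by
      refine le_antisymm ?_ hω₀
      rw [← hB3, Nat.card_eq_fintype_card, ← Set.toFinset_card]
      refine Finset.card_le_card fun z hz => ?_
      simp only [Set.mem_toFinset] at hz
      simp only [hBdef, Finset.mem_filter, Finset.mem_univ, true_and]
      rw [orbit_eq_iff.mpr hz]
      exact hω₀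
    haveI : Fact (Nat.Prime 3) := ⟨Nat.prime_three⟩
    obtain ⟨x, hx⟩ := exists_prime_orderOf_dvd_card' (G := H) 3
      ⟨st ω₀, by rw [← hh, ← horb3]; exact (horbst ω₀).symm⟩
    have hx3 : orderOf ((x : H) : G) = 3 := by rw [Subgroup.orderOf_coe, hx]
    set σ := MulAction.toPermHom G Ω (x : G) with hσ
    have hfixout : ∀ ω, ω ∉ B → (x : G) • ω = ω := by
      intro ω hω
      simp only [hBdef, Finset.mem_filter, Finset.mem_univ, true_and] at hω
      by_contra hne
      have hpow : (x : G) ^ 3 • ω = ω := by rw [← hx3, pow_orderOf_eq_one, one_smul]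
      have h2 : (x : G) • (x : G) • ω ≠ ω := by
        intro e
        apply hne
        rw [pow_succ, pow_two, mul_smul, mul_smul] at hpow
        rw [e] at hpow
        exact hpow
      have h3 : (x : G) • ω ≠ (x : G) • (x : G) • ω :=
        fun e => hne (smul_left_cancel (x : G) e).symm
      have hsub : ({ω, (x : G) • ω, (x : G) • (x : G) • ω} : Set Ω) ⊆ orbit H ω := by
        rintro z (rfl | rfl | rfl)
        · exact mem_orbit_self _
        · exact ⟨x, rfl⟩
        · exact ⟨x * x, mul_smul _ _ _⟩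
      have hc := Set.ncard_le_ncard hsub (Set.toFinite _)
      have : ({ω, (x : G) • ω, (x : G) • (x : G) • ω} : Set Ω).ncard = 3 :=
        Set.ncard_eq_three.mpr ⟨_, _, _, Ne.symm hne, Ne.symm h2, h3, rfl⟩
      rw [this, ← Nat.card_coe_set_eq] at hc
      omega
    have hσne : σ ≠ 1 := by
      intro e
      have : ((x : H) : G) = 1 := MulAction.toPerm_injective (α := G) (β := Ω) (by
        rw [← toPermHom_apply, ← toPermHom_apply, map_one]; exact e)
      rw [this, orderOf_one] at hx3
      omega
    have hsupp : σ.support ⊆ B := by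
      intro ω hω
      by_contra hωB
      exact (Equiv.Perm.mem_support.mp hω) (hfixout ω hωB)
    have hσ3 : σ ^ 3 = 1 := by
      rw [hσ, ← map_pow, ← hx3, pow_orderOf_eq_one, map_one]
    have hcyc : σ.IsThreeCycle := by
      rw [← card_support_eq_three_iff]
      have h1 := Finset.card_le_card hsupp
      have h2 := Equiv.Perm.two_le_card_support_of_ne_one hσne
      by_contra hne
      obtain ⟨u, v, huv, hsw⟩ := Equiv.Perm.card_support_eq_two.mp (by omega : σ.support.card = 2)
      apply hσne
      rw [pow_succ, pow_two, hsw, Equiv.swap_mul_self, one_mul] at hσ3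
      rw [hsw]; exact hσ3
    set R := (MulAction.toPermHom G Ω).range with hR
    have hR2 : IsMultiplyPretransitive R Ω 2 := by
      rw [is_two_pretransitive_iff]
      intro p q u v hpq huv
      obtain ⟨g, hg1, hg2⟩ := h2t p q u v hpq huv
      exact ⟨⟨_, g, rfl⟩, hg1, hg2⟩
    have halt : alternatingGroup Ω ≤ R :=
      Equiv.Perm.alternatingGroup_le_of_isPreprimitive_of_isThreeCycle_mem
        (isPreprimitive_of_is_two_pretransitive hR2) hcyc ⟨_, rfl⟩
    -- so every point outside `a`, `b` is in `B`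
    have hall : ∀ c, c ≠ a → c ≠ b → c ∈ B := by
      intro c hca hcb
      simp only [hBdef, Finset.mem_filter, Finset.mem_univ, true_and]
      have hbig : ∀ d, d ≠ a → d ≠ b → d ∈ orbit H c := by
        intro d hda hdb
        by_cases hdc : d = c
        · exact hdc ▸ mem_orbit_self _
        obtain ⟨e, he⟩ : ∃ e, e ∉ ({a, b, c, d} : Finset Ω) := by
          by_contra hcon
          push_neg at hcon
          have := Finset.card_le_card (fun z (_ : z ∈ (Finset.univ : Finset Ω)) => hcon z)
          have h4 := (Finset.card_le_four (a := a) (b := b) (c := c) (d := d))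
          rw [Finset.card_univ] at this
          omega
        simp only [Finset.mem_insert, Finset.mem_singleton, not_or] at he
        obtain ⟨hea, heb, hec, hed⟩ := he
        have hτ := Equiv.Perm.isThreeCycle_swap_mul_swap_same hdc (Ne.symm hed) (Ne.symm hec)
        obtain ⟨g, hg⟩ := halt hτ.mem_alternatingGroup
        have hga : ∀ z, g • z = (Equiv.swap d c * Equiv.swap d e) z := fun z => by
          rw [← hg]; rfl
        refine ⟨⟨g, ?_, ?_⟩, ?_⟩
        · show g • a = a
          rw [hga, Equiv.Perm.mul_apply, Equiv.swap_apply_of_ne_of_ne (Ne.symm hda) (Ne.symm hea),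
            Equiv.swap_apply_of_ne_of_ne (Ne.symm hda) (Ne.symm hca)]
        · show g • b = b
          rw [hga, Equiv.Perm.mul_apply, Equiv.swap_apply_of_ne_of_ne (Ne.symm hdb) (Ne.symm heb),
            Equiv.swap_apply_of_ne_of_ne (Ne.symm hdb) (Ne.symm hcb)]
        · show g • c = d
          rw [hga, Equiv.Perm.mul_apply, Equiv.swap_apply_of_ne_of_ne (Ne.symm hdc) (Ne.symm hec),
            Equiv.swap_apply_right]
      have hsub : (↑((Finset.univ.erase a).erase b) : Set Ω) ⊆ orbit H c := by
        intro d hd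
        simp only [Finset.coe_erase, Set.mem_diff, Set.mem_singleton_iff, Finset.coe_univ,
          Set.mem_univ, true_and] at hd
        exact hbig d hd.1 hd.2
      have hc := Set.ncard_le_ncard hsub (Set.toFinite _)
      rw [Set.ncard_coe_finset, Finset.card_erase_of_mem (by simp [Ne.symm hab]),
        Finset.card_erase_of_mem (Finset.mem_univ a), Finset.card_univ, ← Nat.card_coe_set_eq] at hc
      omega
    have hsub : (Finset.univ.erase a).erase b ⊆ B := by
      intro c hc
      simp only [Finset.mem_erase] at hc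
      exact hall c hc.2.1 hc.1
    have := Finset.card_le_card hsub
    rw [Finset.card_erase_of_mem (by simp [Ne.symm hab]),
      Finset.card_erase_of_mem (Finset.mem_univ a), Finset.card_univ] at this
    omega
  · -- three points on a line
    rw [hk'] at hOB hpart
    rcases Nat.lt_or_ge (n + 1) (2 * h) with hlt | hge
    · refine hmaxb ((n - 1) / 2) (by omega) (fun x hx => ?_) ?_
      · have := hfbound x hx
        rw [hk'] at this
        omega
      · have h1 : 2 * ((n - 1) / 2) ≤ n - 1 := Nat.mul_div_le _ _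
        obtain ⟨h', hh'⟩ : ∃ h', h = h' + 1 := ⟨h - 1, by omega⟩
        obtain ⟨n', hn'⟩ : ∃ n', n = n' + 1 := ⟨n - 1, by omega⟩
        rw [hh', hn', show 2 * (h' + 1) - 1 = 2 * h' + 1 by omega, Nat.add_sub_cancel]
        rw [hn', Nat.add_sub_cancel] at h1
        simp only [hn', Nat.add_sub_cancel]
        have h2 : n' ≤ 2 * h' := by omega
        nlinarith [Nat.mul_le_mul_left (2 * h' + 1) h1]
    · refine havg2 ?_ hge
      obtain ⟨m, hm⟩ := hpart
      omega

end Cfsg.Agent.OddLocal.Derangement
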