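import Cfsg.Agent.Lib.OddLocal.SylowFusion
import Cfsg.Agent.Lib.OddLocal.NilpotentParts
import Cfsg.Agent.Lib.OddLocal.PCore
import Cfsg.Agent.Lib.Components.Local
import Cfsg.Agent.Lib.Coprime.SchurZassenhaus

/-!
# Fusion in nilpotent Hall subgroups
-/

set_option autoImplicit false
set_option linter.unusedSectionVars false

namespace Cfsg.Agent.Lib.OddLocal

open Cfsg.Agent.Lib
open scoped Pointwise

universe u

variable {M : Type u} [Group M] [Finite M]

theorem orderOf_conj_eq' {X : Type*} [Group X] (c z : X) : orderOf (c * z * c⁻¹) = orderOf z :=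
  orderOf_injective (MulAut.conj c).toMonoidHom (MulAut.conj c).injective z

theorem mem_pPrimeCore_of_centralizes_sylow [Group.IsSolvable M] {p : ℕ} [Fact p.Prime]
    (hpl : Cfsg.PLengthLE p 1 M) (S : Sylow p M) {z : M}
    (hz : z ∈ Subgroup.centralizer ((S : Subgroup M) : Set M)) (hzc : (orderOf z).Coprime p) :
    z ∈ Cfsg.pPrimeCore p M := by
  obtain ⟨K, hKn, hKc, hKSn, -, hKle⟩ := exists_of_pLengthLE_one hpl S
  set f := QuotientGroup.mk' (Cfsg.pPrimeCore p M) with hf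
  have hmap : (K ⊔ (S : Subgroup M)).map f = (S : Subgroup M).map f := by
    rw [Subgroup.map_sup, (Subgroup.map_eq_bot_iff K).mpr (by rw [hf, QuotientGroup.ker_mk']; exact hKle),
      bot_sup_eq]
  have hSn : ((S : Subgroup M).map f).Normal := hmap ▸ hKSn.map f (QuotientGroup.mk'_surjective _)
  have hSX : (S : Subgroup M) ≤ Cfsg.pPrimePCore p M := by
    intro s hs
    exact Cores.le_pCore hSn (S.2.map f) ⟨s, hs, rfl⟩
  have hcon := Components.isPConstrained_of_solvable (G := M) (p := p) inferInstance (S.subtype hSX)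
  have hzX : z ∈ Cfsg.pPrimePCore p M := by
    refine hcon ?_
    rw [Subgroup.mem_centralizer_iff] at hz ⊢
    rintro _ ⟨w, hw, rfl⟩
    exact hz _ hw
  have h1 : f z ∈ Cfsg.pCore p (M ⧸ Cfsg.pPrimeCore p M) := hzX
  obtain ⟨k, hk⟩ := exists_orderOf_of_mem (Cores.pCore_isPGroup p _) h1
  have h2 : orderOf (f z) = 1 :=
    Nat.eq_one_of_dvd_coprimes (hzc.pow_right k) (orderOf_map_dvd f z) (hk ▸ dvd_rfl)
  exact (QuotientGroup.eq_one_iff z).mp (orderOf_eq_one_iff.mp h2)

/-- In a solvable group of `p`-length one for every `p`, conjugate elements of a nilpotent Hall subgroup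
are conjugate in its normalizer. -/
theorem nilpotentHall_fusion [Group.IsSolvable M] (H : Subgroup M) (hHn : Group.IsNilpotent H)
    (hHall : (Nat.card H).Coprime H.index) (hpl : ∀ p : ℕ, p.Prime → Cfsg.PLengthLE p 1 M) :
    ∀ x ∈ H, ∀ g : M, g * x * g⁻¹ ∈ H →
      ∃ n ∈ Subgroup.normalizer (H : Set M), n * x * n⁻¹ = g * x * g⁻¹ := by
  intro x hx g hgx
  set π : Set ℕ := {p | p.Prime ∧ p ∣ Nat.card H} with hπ
  have hS : ∀ p, p.Prime → p ∣ Nat.card H → ∃ S : Sylow p M, (S : Subgroup M) ≤ H ∧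
      ∀ z ∈ H, (∃ k, orderOf z = p ^ k) → z ∈ (S : Subgroup M) := by
    intro p hp hpd
    haveI := Fact.mk hp
    have hidx : ¬ p ∣ H.index := fun h => hp.not_dvd_one (hHall ▸ Nat.dvd_gcd hpd h)
    obtain ⟨S⟩ : Nonempty (Sylow p H) := inferInstance
    have hcard : Nat.card ((S : Subgroup H).map H.subtype) = p ^ (Nat.card M).factorization p := by
      rw [Subgroup.card_map_of_injective H.subtype_injective, S.card_eq_multiplicity,
        ← H.card_mul_index, Nat.factorization_mul Nat.card_pos.ne' Subgroup.index_ne_zero_of_finite,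
        Finsupp.add_apply, Nat.factorization_eq_zero_of_not_dvd hidx, add_zero]
    refine ⟨Sylow.ofCard _ hcard, Subgroup.map_subtype_le _, fun z hz ⟨k, hk⟩ => ?_⟩
    have hSn : (S : Subgroup H).Normal :=
      Sylow.normal_of_normalizerCondition Group.normalizerCondition_of_isNilpotent S
    have hle : Subgroup.zpowers (⟨z, hz⟩ : H) ≤ (S : Subgroup H) := by
      obtain ⟨T, hT⟩ := (IsPGroup.of_card (p := p) (n := k) (G := Subgroup.zpowers (⟨z, hz⟩ : H)) (by
        rw [Nat.card_zpowers, ← Subgroup.orderOf_coe]; exact hk)).exists_le_sylow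
      haveI := Sylow.unique_of_normal S hSn
      rwa [Subsingleton.elim T S] at hT
    exact ⟨⟨z, hz⟩, hle (Subgroup.mem_zpowers _), rfl⟩
  set E : Subgroup M := ⨅ p ∈ π, Cfsg.pPrimeCore p M with hE
  have memE : ∀ {z : M}, z ∈ E ↔ ∀ p ∈ π, z ∈ Cfsg.pPrimeCore p M := by
    intro z; simp [hE, Subgroup.mem_iInf]
  haveI hEn : E.Normal := ⟨fun z hz c => memE.mpr fun p hp =>
    (inferInstance : (Cfsg.pPrimeCore p M).Normal).conj_mem z (memE.mp hz p hp) c⟩
  have hEH : (Nat.card E).Coprime (Nat.card H) := by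
    refine Nat.coprime_of_dvd fun p hp h1 h2 => ?_
    haveI := Fact.mk hp
    have hle : E ≤ Cfsg.pPrimeCore p M := fun z hz => memE.mp hz p ⟨hp, h2⟩
    exact hp.not_dvd_one ((Cores.pPrimeCore_coprime p M) ▸
      Nat.dvd_gcd (h1.trans (Subgroup.card_dvd_of_le hle)) dvd_rfl)
  -- other prime parts of `H` lie in the `p'`-cores
  have hcore : ∀ p ∈ π, ∀ z ∈ H, (orderOf z).Coprime p → z ∈ Cfsg.pPrimeCore p M := by
    intro p hp z hz hzc
    haveI := Fact.mk hp.1
    obtain ⟨S, hSH, -⟩ := hS p hp.1 hp.2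
    refine mem_pPrimeCore_of_centralizes_sylow (hpl p hp.1) S ?_ hzc
    rw [Subgroup.mem_centralizer_iff]
    intro s hs
    obtain ⟨k, hk⟩ := exists_orderOf_of_mem S.2 hs
    exact commute_of_mem_nilpotent hHn (hSH hs) hz (hk ▸ hzc.symm.pow_left k)
  have hconj : ∀ z ∈ H, ∀ c : M, c * z * c⁻¹ ∈ E ⊔ H := by
    intro z hz c
    refine isThreeStep_of_no_normal_sylow.mem_of_primeParts fun q hq hqz => ?_
    haveI := Fact.mk hq
    rw [conj_pow, orderOf_conj_eq' c z]
    set w := z ^ (orderOf z / q ^ (orderOf z).factorization q) with hwdef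
    have hw : w ∈ H := pow_mem hz _
    have hwq : orderOf w = q ^ (orderOf z).factorization q := orderOf_pPart q z
    have hqπ : q ∈ π := ⟨hq, by
      rw [orderOf_conj_eq' c z] at hqz
      exact hqz.trans (Subgroup.orderOf_dvd_natCard _ hz)⟩
    obtain ⟨S, hSH, hSmem⟩ := hS q hq hqπ.2
    obtain ⟨K, hKn, -, hKSn, -, hKle⟩ := exists_of_pLengthLE_one (hpl q hq) S
    have hcw : c * w * c⁻¹ ∈ K ⊔ (S : Subgroup M) :=
      hKSn.conj_mem w (Subgroup.mem_sup_right (hSmem w hw ⟨_, hwq⟩)) c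
    obtain ⟨k, hk, s, hs, hks⟩ := Subgroup.mem_sup_of_normal_left.mp hcw
    rw [← hks]
    refine Subgroup.mul_mem_sup (memE.mpr fun r hr => ?_) (hSH hs)
    by_cases hrq : r = q
    · subst hrq; exact hKle hk
    · haveI := Fact.mk hr.1
      have hn : (Cfsg.pPrimeCore r M).Normal := inferInstance
      have hcop : ∀ {t : M}, (∃ j, orderOf t = q ^ j) → (orderOf t).Coprime r := fun ⟨j, hj⟩ =>
        hj ▸ ((Nat.coprime_primes hq hr.1).mpr (Ne.symm hrq)).pow_left j
      have h1 : c * w * c⁻¹ ∈ Cfsg.pPrimeCore r M := hn.conj_mem _ (hcore r hr w hw (hcop ⟨_, hwq⟩)) c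
      have h2 : s ∈ Cfsg.pPrimeCore r M := hcore r hr s (hSH hs) (hcop (exists_orderOf_of_mem S.2 hs))
      have h3 := mul_mem h1 (inv_mem h2)
      rwa [← hks, mul_inv_cancel_right] at h3
  obtain ⟨e, he, heH⟩ := Coprime.exists_conj_eq_of_le_sup (N := E) (H := H)
    (K := MulAut.conj g • H) Subgroup.le_normalizer_of_normal hEH (Or.inl inferInstance)
    (Coprime.card_conj_smul g H) (fun w hw => by
      rw [Coprime.mem_conj_smul] at hw
      have := hconj _ hw g
      simpa [mul_assoc] using this)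
  refine ⟨e⁻¹ * g, ?_, ?_⟩
  · rw [Subgroup.mem_normalizer_iff_map_conj_eq]
    show MulAut.conj (e⁻¹ * g) • H = H
    rw [Coprime.conj_mul_smul, ← heH, ← Coprime.conj_mul_smul, inv_mul_cancel, Coprime.conj_one_smul]
  · have h1 : g * x * g⁻¹ ∈ MulAut.conj g • H := by
      rw [Coprime.mem_conj_smul]; simpa [mul_assoc] using hx
    rw [← heH, Coprime.mem_conj_smul] at h1
    set y := g * x * g⁻¹ with hy
    have h2 : e⁻¹ * y * e * y⁻¹ ∈ H := mul_mem h1 (inv_mem hgx)
    have h3 : e⁻¹ * y * e * y⁻¹ ∈ E := by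
      have := mul_mem (inv_mem he) (hEn.conj_mem e he y)
      simpa [mul_assoc] using this
    have h4 := mul_inv_eq_one.mp (Coprime.eq_one_of_mem_of_mem hEH h3 h2)
    rw [← h4, hy]
    group

variable {G : Type u} [Group G] [Finite G] (hG : Cfsg.IsMinSimpleOddOrder G)
include hG

theorem nilpotentHall_fusion_of_le {L H : Subgroup G} (hL : L ≠ ⊤) (hHL : H ≤ L)
    (hHn : Group.IsNilpotent H) (hHall : (Nat.card H).Coprime H.index) {x g : G} (hx : x ∈ H)
    (hg : g ∈ L) (hgx : g * x * g⁻¹ ∈ H) :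
    ∃ n ∈ Subgroup.normalizer (H : Set G), n ∈ L ∧ n * x * n⁻¹ = g * x * g⁻¹ := by
  haveI : Group.IsSolvable L := isSolvable_of_ne_top hG hL
  haveI := hHn
  have hn : Group.IsNilpotent (H.subgroupOf L) :=
    Group.nilpotent_of_mulEquiv (Subgroup.subgroupOfEquivOfLe hHL).symm
  have hc : (Nat.card (H.subgroupOf L)).Coprime (H.subgroupOf L).index := by
    rw [Nat.card_congr (Subgroup.subgroupOfEquivOfLe hHL).toEquiv]
    exact hHall.coprime_dvd_right (Subgroup.relIndex_dvd_index_of_le hHL)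
  obtain ⟨n, hnN, hne⟩ := nilpotentHall_fusion (H.subgroupOf L) hn hc
    (fun p hp => by haveI := Fact.mk hp; exact pLengthLE_one_of_minSimple hG hL)
    ⟨x, hHL hx⟩ hx ⟨g, hg⟩ hgx
  refine ⟨n, Subgroup.mem_normalizer_iff.mpr fun w => ⟨fun hw => ?_, fun hw => ?_⟩, n.2,
    congrArg Subtype.val hne⟩
  · exact (Subgroup.mem_normalizer_iff.mp hnN ⟨w, hHL hw⟩).mp hw
  · have hwL : w ∈ L := by
      have := mul_mem (mul_mem (inv_mem n.2) (hHL hw)) n.2
      simpa [mul_assoc] using this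
    exact (Subgroup.mem_normalizer_iff.mp hnN ⟨w, hwL⟩).mpr hw

/-- Conjugate elements of a nilpotent Hall subgroup of a minimal simple group of odd order are conjugate
in its normalizer. -/
theorem nilpotentHall_fusion_minSimple (H : Subgroup G) (hHn : Group.IsNilpotent H)
    (hHall : (Nat.card H).Coprime H.index) :
    ∀ x ∈ H, ∀ g : G, g * x * g⁻¹ ∈ H →
      ∃ n ∈ Subgroup.normalizer (H : Set G), n * x * n⁻¹ = g * x * g⁻¹ := by
  intro x hx g hgx
  by_cases hx1 : x = 1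
  · exact ⟨1, one_mem _, by simp [hx1]⟩
  obtain ⟨p, hp, hpx⟩ := Nat.exists_prime_and_dvd (fun e => hx1 (orderOf_eq_one_iff.mp e))
  haveI := Fact.mk hp
  set a := x ^ (orderOf x / p ^ (orderOf x).factorization p) with ha
  set b := x ^ p ^ (orderOf x).factorization p with hb
  have hao := orderOf_pPart p x
  rw [← ha] at hao
  have hbo : (orderOf b).Coprime p := orderOf_pCompl p x
  have ha1 : a ≠ 1 := by
    intro e
    rw [e, orderOf_one] at hao
    have h0 : (orderOf x).factorization p = 0 := by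
      rcases Nat.eq_zero_or_pos ((orderOf x).factorization p) with h | h
      · exact h
      · exact absurd hao.symm (Nat.one_lt_pow h.ne' hp.one_lt).ne'
    exact absurd (hp.factorization_pos_of_dvd (orderOf_pos x).ne' hpx) (by omega)
  set P := pPartOf p H with hP
  have hPH : P ≤ H := pPartOf_le p H
  have hPp : IsPGroup p P := isPGroup_pPartOf p H
  obtain ⟨S, hS⟩ := hPp.exists_le_sylow
  have hHp : H ≤ Subgroup.normalizer (P : Set G) :=
    Subgroup.le_normalizer.trans (normalizer_le_normalizer_pPartOf p H)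
  have hSP : (S : Subgroup G) = P := by
    refine (Subgroup.eq_of_le_of_card_ge hS (Nat.le_of_dvd Nat.card_pos ?_)).symm
    obtain ⟨S₀⟩ : Nonempty (Sylow p H) := inferInstance
    have hidx : ¬ p ∣ H.index := fun h => hp.not_dvd_one
      (hHall ▸ Nat.dvd_gcd (hpx.trans (Subgroup.orderOf_dvd_natCard _ hx)) h)
    have hle : (S₀ : Subgroup H).map H.subtype ≤ P := fun w hw =>
      mem_pPartOf hHn (Subgroup.map_subtype_le _ hw) (exists_orderOf_of_mem (S₀.2.map _) hw)
    have h1 := Subgroup.card_dvd_of_le hle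
    rw [Subgroup.card_map_of_injective H.subtype_injective, S₀.card_eq_multiplicity] at h1
    rw [S.card_eq_multiplicity, ← H.card_mul_index,
      Nat.factorization_mul Nat.card_pos.ne' Subgroup.index_ne_zero_of_finite,
      Finsupp.add_apply, Nat.factorization_eq_zero_of_not_dvd hidx, add_zero]
    exact h1
  have haP : a ∈ P := mem_pPartOf hHn (pow_mem hx _) ⟨_, hao⟩
  have hga : g * a * g⁻¹ ∈ P := by
    refine mem_pPartOf hHn ?_ ⟨(orderOf x).factorization p, by rw [orderOf_conj_eq' g a]; exact hao⟩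
    rw [ha, ← conj_pow]; exact pow_mem hgx _
  obtain ⟨z, hz, c, hc, hzc⟩ := exists_normalizer_mul_centralizer hG S (Q := Subgroup.zpowers a)
    (Subgroup.zpowers_le.mpr (hSP ▸ haP)) (x := g) (by
      intro w hw
      obtain ⟨i, rfl⟩ := Subgroup.mem_zpowers_iff.mp hw
      rw [← conj_zpow]
      exact zpow_mem (hSP ▸ hga) i)
  have hza : z * a * z⁻¹ = g * a * g⁻¹ := by
    have := Subgroup.mem_centralizer_iff.mp hc a (Subgroup.mem_zpowers a)
    rw [hzc, show z * c * a * (z * c)⁻¹ = z * (c * a) * c⁻¹ * z⁻¹ by group, ← this]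
    group
  rw [hSP] at hz
  have hP1 : P ≠ ⊥ := fun e => ha1 (Subgroup.mem_bot.mp (e ▸ haP))
  obtain ⟨n₁, hn₁, -, hn₁a⟩ := nilpotentHall_fusion_of_le hG (normalizer_ne_top_of_pGroup hG hPp hP1)
    hHp hHn hHall (hPH haP) hz (by rw [hza]; exact hPH hga)
  rw [hza] at hn₁a
  set g' := n₁⁻¹ * g with hg'
  have hg'a : g' * a * g'⁻¹ = a := by
    rw [hg', show n₁⁻¹ * g * a * (n₁⁻¹ * g)⁻¹ = n₁⁻¹ * (g * a * g⁻¹) * n₁ by group, ← hn₁a]
    group
  have hy' : g' * x * g'⁻¹ ∈ H := by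
    rw [hg', show n₁⁻¹ * g * x * (n₁⁻¹ * g)⁻¹ = n₁⁻¹ * (g * x * g⁻¹) * n₁⁻¹⁻¹ by group]
    exact (Subgroup.mem_normalizer_iff.mp (inv_mem hn₁) _).mp hgx
  suffices h : ∃ n ∈ Subgroup.normalizer (H : Set G), n * x * n⁻¹ = g' * x * g'⁻¹ by
    obtain ⟨n, hn, hnx⟩ := h
    refine ⟨n₁ * n, mul_mem hn₁ hn, ?_⟩
    rw [show n₁ * n * x * (n₁ * n)⁻¹ = n₁ * (n * x * n⁻¹) * n₁⁻¹ by group, hnx, hg']
    group
  by_cases hb1 : b = 1
  · refine ⟨1, one_mem _, ?_⟩
    have hxa : x ∈ Subgroup.zpowers a := mem_of_parts p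
      (show x ^ p ^ (orderOf x).factorization p ∈ _ from by rw [← hb, hb1]; exact one_mem _)
      (Subgroup.mem_zpowers a)
    obtain ⟨i, hi⟩ := Subgroup.mem_zpowers_iff.mp hxa
    rw [one_mul, inv_one, mul_one, ← hi, ← conj_zpow, hg'a]
  set K := pComplOf p H with hK
  have hbK : b ∈ K := mem_pComplOf hHn (pow_mem hx _) hbo
  have hKH : K ≤ H := pComplOf_le p H
  have hK1 : K ≠ ⊥ := fun e => hb1 (Subgroup.mem_bot.mp (e ▸ hbK))
  have hgbK : g' * b * g'⁻¹ ∈ K := by
    refine mem_pComplOf hHn ?_ (by rw [orderOf_conj_eq' g' b]; exact hbo)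
    rw [hb, ← conj_pow]; exact pow_mem hy' _
  have hKn : Group.IsNilpotent K := by
    haveI := hHn
    exact Group.nilpotent_of_mulEquiv (Subgroup.subgroupOfEquivOfLe hKH)
  have hKHall : (Nat.card K).Coprime K.index := by
    refine Nat.coprime_of_dvd fun r hr h1 h2 => ?_
    haveI := Fact.mk hr
    have hrp : r ≠ p := by
      rintro rfl
      exact hr.not_dvd_one ((coprime_pComplOf r H) ▸ Nat.dvd_gcd h1 dvd_rfl)
    have hidx : ¬ r ∣ H.index := fun h => hr.not_dvd_one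
      (hHall ▸ Nat.dvd_gcd (h1.trans (Subgroup.card_dvd_of_le hKH)) h)
    rw [← Subgroup.relIndex_mul_index hKH] at h2
    rcases hr.dvd_mul.mp h2 with h3 | h3
    · obtain ⟨R⟩ : Nonempty (Sylow r H) := inferInstance
      refine R.not_dvd_index (h3.trans ?_)
      refine Subgroup.index_dvd_of_le fun w hw => ?_
      show (w : G) ∈ K
      obtain ⟨j, hj⟩ := exists_orderOf_of_mem R.2 hw
      refine mem_pComplOf hHn w.2 ?_
      rw [Subgroup.orderOf_coe, hj]
      exact ((Nat.coprime_primes hr hp).mpr hrp).pow_left j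
    · exact hidx h3
  have hL : Subgroup.centralizer ({a} : Set G) ≠ ⊤ := by
    intro e
    have hac : a ∈ Subgroup.center G := Subgroup.mem_center_iff.mpr fun w =>
      Subgroup.mem_centralizer_singleton_iff.mp (e ▸ Subgroup.mem_top w)
    haveI := hG.2.1
    rcases hG.2.1.eq_bot_or_eq_top_of_normal (Subgroup.center G) inferInstance with h | h
    · exact ha1 (Subgroup.mem_bot.mp (h ▸ hac))
    · exact hG.2.2.1 ⟨⟨fun u v => (Subgroup.mem_center_iff.mp (h ▸ Subgroup.mem_top u) v).symm⟩⟩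
  have hKL : K ≤ Subgroup.centralizer ({a} : Set G) := fun w hw =>
    Subgroup.mem_centralizer_singleton_iff.mpr
      (Subgroup.mem_centralizer_iff.mp (pPartOf_le_centralizer_pComplOf p H haP) w hw)
  have hgL : g' ∈ Subgroup.centralizer ({a} : Set G) :=
    Subgroup.mem_centralizer_singleton_iff.mpr (mul_inv_eq_iff_eq_mul.mp hg'a)
  obtain ⟨n₂, hn₂, hn₂L, hn₂b⟩ := nilpotentHall_fusion_of_le hG hL hKL hKn hKHall hbK hgL hgbK
  have hn₂a : n₂ * a * n₂⁻¹ = a :=
    mul_inv_eq_iff_eq_mul.mpr (Subgroup.mem_centralizer_singleton_iff.mp hn₂L)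
  have hn₂x : n₂ * x * n₂⁻¹ = g' * x * g'⁻¹ := by
    have h : g'⁻¹ * n₂ ∈ Subgroup.centralizer ({x} : Set G) := by
      have hm : x ∈ Subgroup.centralizer ({g'⁻¹ * n₂} : Set G) := by
        refine mem_of_parts p (Subgroup.mem_centralizer_singleton_iff.mpr ?_)
          (Subgroup.mem_centralizer_singleton_iff.mpr ?_)
        · have : g'⁻¹ * n₂ * b * (g'⁻¹ * n₂)⁻¹ = b := by
            rw [show g'⁻¹ * n₂ * b * (g'⁻¹ * n₂)⁻¹ = g'⁻¹ * (n₂ * b * n₂⁻¹) * g' by group, hn₂b]
            group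
          exact (mul_inv_eq_iff_eq_mul.mp this).symm
        · have : g'⁻¹ * n₂ * a * (g'⁻¹ * n₂)⁻¹ = a := by
            rw [show g'⁻¹ * n₂ * a * (g'⁻¹ * n₂)⁻¹ = g'⁻¹ * (n₂ * a * n₂⁻¹) * g' by group, hn₂a]
            nth_rw 1 [← hg'a]
            group
          exact (mul_inv_eq_iff_eq_mul.mp this).symm
      exact Subgroup.mem_centralizer_singleton_iff.mpr (Subgroup.mem_centralizer_singleton_iff.mp hm).symm
    have h1 := Subgroup.mem_centralizer_singleton_iff.mp h
    calc n₂ * x * n₂⁻¹ = g' * (g'⁻¹ * n₂ * x) * n₂⁻¹ := by group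
      _ = g' * (x * (g'⁻¹ * n₂)) * n₂⁻¹ := by rw [h1]
      _ = _ := by group
  rw [← hn₂x] at hy' ⊢
  obtain ⟨n₃, hn₃, -, hn₃x⟩ := nilpotentHall_fusion_of_le hG
    (normalizer_ne_top hG hK1 fun e => hL (top_le_iff.mp (e ▸ hKL)))
    (Subgroup.le_normalizer.trans (normalizer_le_normalizer_pComplOf p H)) hHn hHall hx hn₂ hy'
  exact ⟨n₃, hn₃, hn₃x⟩

end Cfsg.Agent.Lib.OddLocal
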