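import Cfsg.Agent.Lib.OddLocal.SigmaCore
import Cfsg.Agent.Lib.Frobenius.UniqueSubgroup

/-!
Complements of `M_σ` and the primes `τ₁`, `τ₃`.
-/

set_option autoImplicit false

namespace Cfsg.Agent.Lib.OddLocal

open Cfsg.Agent.Lib

universe u

/-- A `p`-group of odd order and rank at most one is cyclic. -/
theorem isCyclic_of_pRankLE_one {P : Type u} [Group P] [Finite P] {p : ℕ} [hp : Fact p.Prime]
    (hp2 : p ≠ 2) (hP : IsPGroup p P) (hr : Cfsg.PRankLE p 1 P) : IsCyclic P := by
  rcases subsingleton_or_nontrivial P with h | h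
  · infer_instance
  have := hP.center_nontrivial
  obtain ⟨k, hk⟩ := IsPGroup.iff_card.mp (hP.to_subgroup (Subgroup.center P))
  have hk0 : k ≠ 0 := by
    rintro rfl
    exact absurd hk (Finite.one_lt_card.ne')
  obtain ⟨z, hz⟩ := exists_prime_orderOf_dvd_card' p (hk ▸ dvd_pow_self p hk0)
  rw [← Subgroup.orderOf_coe] at hz
  have key : ∀ a : P, orderOf a = p → a ∈ Subgroup.zpowers (z : P) := by
    intro a ha
    have hcomm : (z : P) * a = a * z := (Subgroup.mem_center_iff.mp z.2 a).symm
    have hc : IsMulCommutative ↥(Subgroup.zpowers (z : P) ⊔ Subgroup.zpowers a) := by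
      rw [Subgroup.zpowers_eq_closure, Subgroup.zpowers_eq_closure, ← Subgroup.closure_union]
      refine Subgroup.isMulCommutative_closure ?_
      intro x hx y hy
      rcases hx with rfl | rfl <;> rcases hy with rfl | rfl
      exacts [rfl, hcomm, hcomm.symm, rfl]
    have hle := hr _ hc (fun x hx => by
      rw [Subgroup.zpowers_eq_closure, Subgroup.zpowers_eq_closure, ← Subgroup.closure_union] at hx
      induction hx using Subgroup.closure_induction with
      | mem x hx => rcases hx with rfl | rfl <;> [exact hz ▸ pow_orderOf_eq_one _;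
          exact ha ▸ pow_orderOf_eq_one _]
      | one => exact one_pow _
      | mul x y hx hy h1 h2 =>
        have hxy : Commute x y := by
          rw [Subgroup.closure_union, ← Subgroup.zpowers_eq_closure, ← Subgroup.zpowers_eq_closure] at hx hy
          exact congrArg Subtype.val (hc.is_comm.comm ⟨x, hx⟩ ⟨y, hy⟩)
        rw [hxy.mul_pow, h1, h2, one_mul]
      | inv x hx h1 => rw [inv_pow, h1, inv_one])
    have heq : Subgroup.zpowers (z : P) = Subgroup.zpowers (z : P) ⊔ Subgroup.zpowers a := by
      refine Subgroup.eq_of_le_of_card_ge le_sup_left ?_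
      rw [Nat.card_zpowers, hz]
      simpa using hle
    exact heq ▸ Subgroup.mem_sup_right (Subgroup.mem_zpowers a)
  refine Frobenius.isCyclic_of_unique_odd hp2 hP fun a b ha hb => ?_
  have heq : Subgroup.zpowers b = Subgroup.zpowers (z : P) := by
    refine Subgroup.eq_of_le_of_card_ge (Subgroup.zpowers_le.mpr (key b hb)) ?_
    rw [Nat.card_zpowers, Nat.card_zpowers, hz, hb]
  exact heq ▸ key a ha

variable {G : Type u} [Group G] [Finite G] (hG : Cfsg.IsMinSimpleOddOrder G)

/-- The projection of a complement of `M_σ` onto `M / M_σ`. -/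
noncomputable def complProj {M E : Subgroup G} (hle : E ≤ M) : E →* M ⧸ Cfsg.piCore (Cfsg.sigma M) M :=
  (QuotientGroup.mk' _).comp (Subgroup.inclusion hle)

theorem complProj_bijective {M E : Subgroup G} (hE : Cfsg.IsComplIn E (Cfsg.sigmaCore M) M) :
    Function.Bijective (complProj hE.1) := by
  refine ⟨(injective_iff_map_eq_one _).mpr fun x hx => ?_, fun q => ?_⟩
  · have h1 : (x : G) ∈ E ⊓ Cfsg.sigmaCore M :=
      ⟨x.2, _, (QuotientGroup.eq_one_iff _).mp hx, rfl⟩
    rw [hE.2.2.1, Subgroup.mem_bot] at h1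
    exact Subtype.ext h1
  · obtain ⟨m, rfl⟩ := QuotientGroup.mk'_surjective _ q
    obtain ⟨a, ha, b, ⟨b', hb', rfl⟩, hm⟩ := hE.2.2.2 m m.2
    refine ⟨⟨a, ha⟩, ?_⟩
    have : m = Subgroup.inclusion hE.1 ⟨a, ha⟩ * b' := Subtype.ext hm
    rw [this, map_mul, show QuotientGroup.mk' _ b' = 1 from (QuotientGroup.eq_one_iff _).mpr hb',
      mul_one]
    rfl

include hG
variable {M : Subgroup G} (hM : IsCoatom M)
include hM

theorem not_sigma_of_dvd_compl {E : Subgroup G} (hE : Cfsg.IsComplIn E (Cfsg.sigmaCore M) M) {q : ℕ}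
    (hq : q.Prime) (hd : q ∣ Nat.card E) : q ∉ Cfsg.sigma M := fun h =>
  not_dvd_index_piCore_sigma hG hM hq h (by
    rwa [Subgroup.index_eq_card, ← Nat.card_eq_of_bijective _ (complProj_bijective hE)])

/-- The derived subgroup of a complement of `M_σ` is nilpotent. -/
theorem isNilpotent_commutator_compl {E : Subgroup G} (hE : Cfsg.IsComplIn E (Cfsg.sigmaCore M) M) :
    Group.IsNilpotent ↥(commutator E) := by
  obtain ⟨-, hcomm, -⟩ := alphaCore_data hG hM
  set f := (QuotientGroup.mk' (Cfsg.piCore (Cfsg.alpha M) M)).comp (Subgroup.inclusion hE.1) with hf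
  have hinj : Function.Injective f := by
    refine (injective_iff_map_eq_one _).mpr fun x hx => ?_
    refine (injective_iff_map_eq_one _).mp (complProj_bijective hE).1 x ((QuotientGroup.eq_one_iff _).mpr ?_)
    have hle : Cfsg.piCore (Cfsg.alpha M) M ≤ Cfsg.piCore (Cfsg.sigma M) M :=
      sSup_le_sSup fun K hK => ⟨hK.1, fun q hq h => alpha_subset_sigma hG hM (hK.2 q hq h)⟩
    exact hle ((QuotientGroup.eq_one_iff _).mp hx)
  have h : (commutator E).map f ≤ Cfsg.fittingSubgroup (M ⧸ Cfsg.piCore (Cfsg.alpha M) M) := by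
    refine le_trans ?_ hcomm
    rw [commutator_def, commutator_def, Subgroup.map_commutator]
    exact Subgroup.commutator_mono le_top le_top
  have := isNilpotent_of_le h (Cores.fittingSubgroup_isNilpotent _)
  exact Group.nilpotent_of_mulEquiv ((commutator E).equivMapOfInjective f hinj).symm

omit hG hM in
/-- Elements of a complement of `M_σ` in `M'` lie in its derived subgroup. -/
theorem mem_commutator_compl {E : Subgroup G} (hE : Cfsg.IsComplIn E (Cfsg.sigmaCore M) M) {x : E}
    (hx : Subgroup.inclusion hE.1 x ∈ commutator M) : x ∈ commutator E := by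
  have h1 : complProj hE.1 x ∈ (commutator M).map (QuotientGroup.mk' (Cfsg.piCore (Cfsg.sigma M) M)) :=
    Subgroup.mem_map_of_mem _ hx
  rw [commutator_def, Subgroup.map_commutator,
    Subgroup.map_top_of_surjective _ (QuotientGroup.mk'_surjective _),
    ← Subgroup.map_top_of_surjective _ (complProj_bijective hE).2, ← Subgroup.map_commutator] at h1
  obtain ⟨y, hy, hyx⟩ := h1
  rw [← (complProj_bijective hE).1 hyx, commutator_def]
  exact hy

omit hM in
theorem isZGroup_of_rank_one {H : Subgroup G}
    (h : ∀ q : ℕ, q.Prime → q ∣ Nat.card H → Cfsg.PRankLE q 1 H) : IsZGroup H := by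
  refine ⟨fun q hq P => ?_⟩
  have := Fact.mk hq
  by_cases hd : q ∣ Nat.card H
  · refine isCyclic_of_pRankLE_one (fun e => ?_) P.isPGroup'
      (pRankLE_of_injective (P : Subgroup H).subtype (Subgroup.subtype_injective _) (h q hq hd))
    have := hG.1.of_dvd_nat (hd.trans H.card_subgroup_dvd_card)
    rw [e] at this
    exact absurd this (by decide)
  · have : Subsingleton (P : Subgroup H) := by
      obtain ⟨k, hk⟩ := IsPGroup.iff_card.mp P.isPGroup'
      rcases k with _ | k
      · exact (Nat.card_eq_one_iff_unique.mp (hk.trans (pow_zero q))).1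
      · exact absurd (((dvd_pow_self q k.succ_ne_zero).trans hk.symm.dvd).trans
          (Subgroup.card_subgroup_dvd_card _)) hd
    infer_instance

end Cfsg.Agent.Lib.OddLocal
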