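import Cfsg.Agent.Lib.OddLocal.TauTwo
import Cfsg.Agent.Lib.OddLocal.SigmaComplement
import Cfsg.Agent.Lib.OddLocal.PLengthMinSimple
import Cfsg.Agent.Lib.OddLocal.NilpotentHallFusion

/-!
# The part of `F(M)` outside `σ(M)`
-/

set_option autoImplicit false
set_option linter.unusedSectionVars false

universe u

namespace Cfsg.Agent.Lib.OddLocal

open Cfsg.Agent.Lib

variable {G : Type u} [Group G] [Finite G] (hG : Cfsg.IsMinSimpleOddOrder G)
include hG
variable {M : Subgroup G} (hM : IsCoatom M)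
include hM

theorem no_elementary_in_pCore_of_rank {p k : ℕ} [hp : Fact p.Prime] (hσ : p ∉ Cfsg.sigma M) (hk : 0 < k)
    (hr : Cfsg.PRankLE p k M) {A : Subgroup G} (hA : Cfsg.IsElementaryAbelian p A)
    (hAR : A ≤ (Cfsg.pCore p M).map M.subtype) : ¬ Nat.card A = p ^ k := by
  intro hAc
  set R := (Cfsg.pCore p M).map M.subtype with hR
  obtain ⟨P⟩ : Nonempty (Sylow p M) := inferInstance
  set P₀ := (P : Subgroup M).map M.subtype with hP₀
  have hRP : R ≤ P₀ := Subgroup.map_mono ((Cores.pCore_isPGroup p M).le_sylow_of_normal P)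
  set S : Set G := {z | z ∈ P₀ ∧ (∀ y ∈ P₀, y * z = z * y) ∧ z ^ p = 1} with hS
  have hSR : S ⊆ R := by
    rintro z ⟨hzP, hzc, hzp⟩
    by_contra hzR
    have hB : Cfsg.IsElementaryAbelian p (Subgroup.closure ((A : Set G) ∪ {z})) := by
      have hc : IsMulCommutative (Subgroup.closure ((A : Set G) ∪ {z})) := Subgroup.isMulCommutative_closure (by
        rintro a (ha | rfl) b (hb | rfl)
        · exact congrArg Subtype.val (hA.1.is_comm.comm ⟨a, ha⟩ ⟨b, hb⟩)
        · exact hzc a (hRP (hAR ha))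
        · exact (hzc b (hRP (hAR hb))).symm
        · rfl)
      refine ⟨hc, fun w hw => ?_⟩
      induction hw using Subgroup.closure_induction with
      | mem a ha => rcases ha with ha | rfl
                    · exact hA.2 a ha
                    · exact hzp
      | one => exact one_pow _
      | mul a b ha hb iha ihb =>
        rw [(show Commute a b from congrArg Subtype.val (hc.is_comm.comm ⟨a, ha⟩ ⟨b, hb⟩)).mul_pow,
          iha, ihb, one_mul]
      | inv a _ iha => rw [inv_pow, iha, inv_one]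
    have hBM : Subgroup.closure ((A : Set G) ∪ {z}) ≤ M := by
      rw [Subgroup.closure_le]
      rintro w (hw | rfl)
      · exact Subgroup.map_subtype_le _ (hAR hw)
      · exact Subgroup.map_subtype_le _ hzP
    haveI := hB.1
    have h1 := hr ((Subgroup.closure ((A : Set G) ∪ {z})).subgroupOf M) inferInstance
      (fun w hw => Subtype.ext (hB.2 _ hw))
    rw [Nat.card_congr (Subgroup.subgroupOfEquivOfLe hBM).toEquiv, ← hAc] at h1
    have hAB : A ≤ Subgroup.closure ((A : Set G) ∪ {z}) :=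
      fun a ha => Subgroup.subset_closure (Or.inl ha)
    refine hzR (hAR ?_)
    rw [Subgroup.eq_of_le_of_card_ge hAB h1]
    exact Subgroup.subset_closure (Or.inr rfl)
  have hS1 : ∃ z ∈ S, z ≠ 1 := by
    have hne : (⊤ : Subgroup P₀) ≠ ⊥ := by
      intro h
      have h2 : A = ⊥ := eq_bot_iff.mpr fun a ha => by
        have := Subgroup.mem_bot.mp (h ▸ Subgroup.mem_top (⟨a, hRP (hAR ha)⟩ : P₀))
        exact Subgroup.mem_bot.mpr (congrArg Subtype.val this)
      rw [h2, Subgroup.card_bot] at hAc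
      exact absurd hAc.symm (Nat.one_lt_pow hk.ne' hp.out.one_lt).ne'
    obtain ⟨z, -, hzo, hzc⟩ := PLocal.exists_central_prime_mem (P.2.map M.subtype) hne
    refine ⟨z, ⟨z.2, fun y hy => congrArg Subtype.val (Subgroup.mem_center_iff.mp hzc ⟨y, hy⟩), ?_⟩, ?_⟩
    · have := congrArg Subtype.val (orderOf_dvd_iff_pow_eq_one.mp hzo.dvd)
      simpa using this
    · intro e
      rw [show z = 1 from Subtype.ext e, orderOf_one] at hzo
      exact hp.out.one_lt.ne hzo
  set Z := Subgroup.closure S with hZ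
  have hnorm : ∀ g : G, g ∈ Subgroup.normalizer (P₀ : Set G) → ∀ z ∈ Z, g * z * g⁻¹ ∈ Z := by
    intro g hg z hz
    have hle : Z ≤ Z.comap (MulAut.conj g).toMonoidHom := by
      rw [hZ, Subgroup.closure_le]
      rintro w ⟨hw, hwc, hwp⟩
      refine Subgroup.subset_closure (?_ : g * w * g⁻¹ ∈ S)
      refine ⟨(Subgroup.mem_normalizer_iff.mp hg w).mp hw, fun y hy => ?_, by rw [conj_pow, hwp, mul_one, mul_inv_cancel]⟩
      have h1 : g⁻¹ * y * g ∈ P₀ := by
        have := (Subgroup.mem_normalizer_iff.mp (inv_mem hg) y).mp hy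
        rwa [inv_inv] at this
      calc y * (g * w * g⁻¹) = g * ((g⁻¹ * y * g) * w) * g⁻¹ := by group
        _ = g * (w * (g⁻¹ * y * g)) * g⁻¹ := by rw [hwc _ h1]
        _ = _ := by group
    exact hle hz
  have hZR : Z ≤ R := (Subgroup.closure_le _).mpr hSR
  have hMZ : M ≤ Subgroup.normalizer (Z : Set G) := by
    obtain ⟨K, hKn, hKc, -, hKN, -⟩ := exists_of_pLengthLE_one (pLengthLE_one_of_minSimple hG hM.1) P
    have hcomm : ∀ k ∈ K, ∀ r ∈ Cfsg.pCore p M, k * r = r * k := fun k hk r hr =>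
      Subgroup.commute_of_normal_of_disjoint _ _ hKn inferInstance (disjoint_iff.mpr (Subgroup.inf_eq_bot_of_coprime (by
        obtain ⟨j, hj⟩ := (Cores.pCore_isPGroup p M).exists_card_eq
        rw [hj]; exact hKc.pow_right j))) k r hk hr
    have key : ∀ m : M, ∀ z ∈ Z, (m : G) * z * (m : G)⁻¹ ∈ Z := by
      intro m z hz
      obtain ⟨k, hk, n, hn, hkn⟩ := Subgroup.mem_sup_of_normal_left.mp (hKN ▸ Subgroup.mem_top m)
      have hn' : (n : G) ∈ Subgroup.normalizer (P₀ : Set G) :=
        Subgroup.le_normalizer_map (H := (P : Subgroup M)) M.subtype ⟨n, hn, rfl⟩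
      have h1 := hnorm _ hn' z hz
      obtain ⟨r, hr, hre⟩ := hZR h1
      have h2 : (k : G) * ((n : G) * z * (n : G)⁻¹) * (k : G)⁻¹ = (n : G) * z * (n : G)⁻¹ := by
        have h3 := congrArg Subtype.val (hcomm k hk r hr)
        rw [← hre]
        show (k : G) * (r : G) * (k : G)⁻¹ = (r : G)
        rw [mul_inv_eq_iff_eq_mul]
        exact h3
      rw [← hkn]
      have : ((k * n : M) : G) * z * ((k * n : M) : G)⁻¹ = (k : G) * ((n : G) * z * (n : G)⁻¹) * (k : G)⁻¹ := by
        simp [mul_assoc]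
      rw [this, h2]; exact h1
    intro m hm
    refine Subgroup.mem_normalizer_iff.mpr fun z => ⟨key ⟨m, hm⟩ z, fun h => ?_⟩
    have := key ⟨m, hm⟩⁻¹ _ h
    simpa [mul_assoc] using this
  have hZ1 : Z ≠ ⊥ := by
    obtain ⟨z, hz, hz1⟩ := hS1
    exact fun e => hz1 (Subgroup.mem_bot.mp (e ▸ Subgroup.subset_closure hz))
  have hZp : IsPGroup p Z := ((Cores.pCore_isPGroup p M).map M.subtype).to_le hZR
  have hNZ : Subgroup.normalizer (Z : Set G) = M :=
    (hM.le_iff.mp hMZ).resolve_left (normalizer_ne_top_of_pGroup hG hZp hZ1)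
  refine hσ ⟨hp.out, ?_, P, ?_⟩
  · have h1 : p ∣ Nat.card A := by rw [hAc]; exact dvd_pow_self p hk.ne'
    exact h1.trans (Subgroup.card_dvd_of_le (hAR.trans (Subgroup.map_subtype_le _)))
  · intro g hg
    rw [← hNZ]
    refine Subgroup.mem_normalizer_iff.mpr fun z => ⟨hnorm g hg z, fun h => ?_⟩
    have := hnorm g⁻¹ (inv_mem hg) _ h
    simpa [mul_assoc] using this

theorem pCore_cyclic_of_not_sigma {p : ℕ} [hp : Fact p.Prime] (hσ : p ∉ Cfsg.sigma M)
    (hR1 : Cfsg.pCore p M ≠ ⊥) : p ∈ Cfsg.tau2 M ∧ IsCyclic (Cfsg.pCore p M) := by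
  have hr2 : Cfsg.PRankLE p 2 M := by
    by_contra h
    exact hσ (alpha_subset_sigma hG hM ⟨hp.out, h⟩)
  set R := (Cfsg.pCore p M).map M.subtype with hR
  have hRp : IsPGroup p R := (Cores.pCore_isPGroup p M).map _
  have hr1 : ¬ Cfsg.PRankLE p 1 M := by
    intro h
    have hne : (⊤ : Subgroup R) ≠ ⊥ := by
      intro e
      apply hR1
      rw [eq_bot_iff]
      intro r hr
      have := Subgroup.mem_bot.mp (e ▸ Subgroup.mem_top (⟨r, ⟨r, hr, rfl⟩⟩ : R))
      refine Subgroup.mem_bot.mpr (M.subtype_injective ?_)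
      exact congrArg Subtype.val this
    obtain ⟨a, -, hao, -⟩ := PLocal.exists_central_prime_mem hRp hne
    refine no_elementary_in_pCore_of_rank hG hM hσ Nat.one_pos h (A := Subgroup.zpowers (a : G))
      ⟨inferInstance, fun w hw => ?_⟩ (Subgroup.zpowers_le.mpr a.2) ?_
    · exact orderOf_dvd_iff_pow_eq_one.mp ((orderOf_dvd_of_mem_zpowers hw).trans (by rw [Subgroup.orderOf_coe, hao]))
    · rw [Nat.card_zpowers, Subgroup.orderOf_coe, hao, pow_one]
  refine ⟨⟨hp.out, hσ, hr2, hr1⟩, ?_⟩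
  by_contra hc
  have hc' : ¬ IsCyclic R := fun h => hc ((Subgroup.equivMapOfInjective _ M.subtype M.subtype_injective).isCyclic.mpr h)
  have hp2 : p ≠ 2 := by
    refine prime_ne_two_of_dvd hG ?_
    obtain ⟨j, hj⟩ := hRp.exists_card_eq
    have hj0 : j ≠ 0 := by
      rintro rfl
      rw [pow_zero, Subgroup.card_eq_one] at hj
      exact hc' (by rw [hj]; infer_instance)
    exact (dvd_pow_self p hj0).trans (hj ▸ Subgroup.card_subgroup_dvd_card R)
  obtain ⟨A, hAR, hAe, hAc⟩ := exists_elementary_sq_of_not_cyclic hp2 R hRp hc'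
  exact no_elementary_in_pCore_of_rank hG hM hσ two_pos hr2 hAe hAR hAc

theorem fitting_nonSigma :
    IsCyclic ↥(Cfsg.piCoreOf {q | q.Prime ∧ q ∉ Cfsg.sigma M} (Cfsg.fittingOf M)) ∧
      (∀ p : ℕ, p.Prime → p ∣ Nat.card ↥(Cfsg.piCoreOf {q | q.Prime ∧ q ∉ Cfsg.sigma M} (Cfsg.fittingOf M)) →
        p ∈ Cfsg.tau2 M) ∧
      Cfsg.fittingOf M = Cfsg.fittingOf (Cfsg.sigmaCore M) ⊔
        Cfsg.piCoreOf {q | q.Prime ∧ q ∉ Cfsg.sigma M} (Cfsg.fittingOf M) := by
  set π : Set ℕ := {q | q.Prime ∧ q ∉ Cfsg.sigma M} with hπ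
  set F := Cfsg.fittingOf M with hF
  set Y := Cfsg.piCoreOf π F with hY
  haveI hFn : Group.IsNilpotent F := by
    haveI := Cores.fittingSubgroup_isNilpotent M
    exact Group.nilpotent_of_mulEquiv (Subgroup.equivMapOfInjective _ M.subtype M.subtype_injective)
  have hYF : Y ≤ F := Subgroup.map_subtype_le _
  haveI hYn : Group.IsNilpotent Y :=
    Group.nilpotent_of_mulEquiv (Subgroup.subgroupOfEquivOfLe hYF)
  -- prime-power elements of `F(M)` lie in the cores of `M`
  have hcore : ∀ {q : ℕ}, q.Prime → ∀ w ∈ F, (∃ j, orderOf w = q ^ j) → w ∈ (Cfsg.pCore q M).map M.subtype := by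
    intro q hq w hw ⟨j, hj⟩
    obtain ⟨v, hv, rfl⟩ := hw
    haveI := Fact.mk hq
    have h1 := mem_pCore_of_isNilpotent (G := Cfsg.fittingSubgroup M) (Cores.fittingSubgroup_isNilpotent M) q
      (x := ⟨v, hv⟩) ⟨j, by rw [← Subgroup.orderOf_coe, ← Subgroup.orderOf_coe]; exact hj⟩
    exact ⟨v, Cores.map_subtype_pCore_le _ ⟨_, h1, rfl⟩, rfl⟩
  have hYπ : ∀ {q : ℕ}, q.Prime → q ∣ Nat.card Y → q ∈ π := by
    intro q hq hd
    rw [hY, Cfsg.piCoreOf, Subgroup.card_map_of_injective F.subtype_injective] at hd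
    exact Cores.mem_of_prime_dvd_card_piCore hq hd
  refine ⟨?_, ?_, ?_⟩
  · haveI : IsZGroup Y := by
      refine ⟨fun q hq Q => ?_⟩
      haveI := Fact.mk hq
      by_cases hQ : (Q : Subgroup Y) = ⊥
      · rw [hQ]; infer_instance
      have hle : (Q : Subgroup Y).map Y.subtype ≤ (Cfsg.pCore q M).map M.subtype := fun w hw =>
        hcore hq w (hYF (Subgroup.map_subtype_le _ hw)) (exists_orderOf_of_mem (Q.2.map _) hw)
      have hd : q ∣ Nat.card Y := by
        obtain ⟨j, hj⟩ := Q.2.exists_card_eq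
        have hj0 : j ≠ 0 := fun e => hQ (Subgroup.card_eq_one.mp (by rw [hj, e, pow_zero]))
        exact (dvd_pow_self q hj0).trans (hj ▸ Subgroup.card_subgroup_dvd_card _)
      have hR1 : Cfsg.pCore q M ≠ ⊥ := by
        intro e
        rw [e, Subgroup.map_bot, le_bot_iff, Subgroup.map_eq_bot_iff_of_injective _ Y.subtype_injective] at hle
        exact hQ hle
      haveI := (pCore_cyclic_of_not_sigma hG hM (hYπ hq hd).2 hR1).2
      haveI : IsCyclic ↥((Cfsg.pCore q M).map M.subtype) :=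
        (Subgroup.equivMapOfInjective _ M.subtype M.subtype_injective).isCyclic.mp inferInstance
      haveI := Subgroup.isCyclic_of_le hle
      exact (Subgroup.equivMapOfInjective _ Y.subtype Y.subtype_injective).isCyclic.mpr inferInstance
    infer_instance
  · intro q hq hd
    haveI := Fact.mk hq
    obtain ⟨w, hw⟩ := exists_prime_orderOf_dvd_card' (G := Y) q hd
    rw [← Subgroup.orderOf_coe] at hw
    have h1 := hcore hq _ (hYF w.2) ⟨1, by rw [pow_one]; exact hw⟩
    refine (pCore_cyclic_of_not_sigma hG hM (hYπ hq hd).2 fun e => ?_).1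
    rw [e, Subgroup.map_bot, Subgroup.mem_bot] at h1
    rw [h1, orderOf_one] at hw
    exact hq.one_lt.ne hw
  · refine le_antisymm ?_ (sup_le ?_ hYF)
    · intro w hw
      refine isThreeStep_of_no_normal_sylow.mem_of_primeParts fun q hq hqw => ?_
      haveI := Fact.mk hq
      set v := w ^ (orderOf w / q ^ (orderOf w).factorization q) with hv
      have hvF : v ∈ F := pow_mem hw _
      have hvq : ∃ j, orderOf v = q ^ j := ⟨_, orderOf_pPart q w⟩
      by_cases hσ : q ∈ Cfsg.sigma M
      · refine Subgroup.mem_sup_left ?_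
        set N := Cfsg.sigmaCore M with hN
        have hle : (Cfsg.pCore q M).map M.subtype ≤ N := Subgroup.map_mono
          (Cores.le_piCore inferInstance fun r hr hd => by
            obtain ⟨j, hj⟩ := (Cores.pCore_isPGroup q M).exists_card_eq
            rw [(Nat.prime_dvd_prime_iff_eq hr hq).mp (hr.dvd_of_dvd_pow (hj ▸ hd))]
            exact hσ)
        have hNM : N ≤ M := Subgroup.map_subtype_le _
        have hn : (((Cfsg.pCore q M).map M.subtype).subgroupOf N).Normal := by
          refine Subgroup.normal_subgroupOf_iff_le_normalizer hle |>.mpr (hNM.trans ?_)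
          have := Subgroup.le_normalizer_map (H := Cfsg.pCore q M) M.subtype
          rwa [Subgroup.normalizer_eq_top_iff.mpr inferInstance, ← MonoidHom.range_eq_map, Subgroup.range_subtype] at this
        have hnil : Group.IsNilpotent (((Cfsg.pCore q M).map M.subtype).subgroupOf N) :=
          (((Cores.pCore_isPGroup q M).map M.subtype).comap_of_injective N.subtype N.subtype_injective).isNilpotent
        have h1 : ((Cfsg.pCore q M).map M.subtype).subgroupOf N ≤ Cfsg.fittingSubgroup N :=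
          le_sSup ⟨hn, hnil⟩
        have h2 := hcore hq v hvF hvq
        exact ⟨⟨v, hle h2⟩, h1 h2, rfl⟩
      · refine Subgroup.mem_sup_right ?_
        have hne : Cfsg.pCore q F ≤ Cfsg.piCore π F :=
          Cores.le_piCore inferInstance fun r hr hd => by
            obtain ⟨j, hj⟩ := (Cores.pCore_isPGroup q F).exists_card_eq
            rw [(Nat.prime_dvd_prime_iff_eq hr hq).mp (hr.dvd_of_dvd_pow (hj ▸ hd))]
            exact ⟨hq, hσ⟩
        obtain ⟨j, hj⟩ := hvq
        exact ⟨⟨v, hvF⟩, hne (mem_pCore_of_isNilpotent hFn q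
          (x := ⟨v, hvF⟩) ⟨j, by rw [← Subgroup.orderOf_coe]; exact hj⟩), rfl⟩
    · set N := Cfsg.piCore (Cfsg.sigma M) M with hN
      haveI := Cores.fittingSubgroup_isNilpotent N
      haveI : (Cfsg.fittingSubgroup N).Characteristic := inferInstance
      have h1 : (Cfsg.fittingSubgroup N).map N.subtype ≤ Cfsg.fittingSubgroup M :=
        le_sSup ⟨inferInstance, Group.nilpotent_of_mulEquiv
          (Subgroup.equivMapOfInjective _ N.subtype N.subtype_injective)⟩
      intro w hw
      obtain ⟨v, hv, rfl⟩ := hw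
      let e : N ≃* Cfsg.sigmaCore M := Subgroup.equivMapOfInjective N M.subtype M.subtype_injective
      haveI hn' : ((Cfsg.fittingSubgroup (Cfsg.sigmaCore M)).map e.symm.toMonoidHom).Normal :=
        Subgroup.Normal.map inferInstance _ e.symm.surjective
      have hnil : Group.IsNilpotent ((Cfsg.fittingSubgroup (Cfsg.sigmaCore M)).map e.symm.toMonoidHom) := by
        haveI := Cores.fittingSubgroup_isNilpotent (Cfsg.sigmaCore M)
        exact Group.nilpotent_of_mulEquiv (Subgroup.equivMapOfInjective _ _ e.symm.injective)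
      have h2 : e.symm v ∈ Cfsg.fittingSubgroup N :=
        (le_sSup ⟨hn', hnil⟩ : _ ≤ Cfsg.fittingSubgroup N) ⟨v, hv, rfl⟩
      refine ⟨_, h1 ⟨_, h2, rfl⟩, ?_⟩
      show ((e.symm v : M) : G) = (v : G)
      conv_rhs => rw [← e.apply_symm_apply v]
      rfl

end Cfsg.Agent.Lib.OddLocal
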