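import Cfsg.Agent.Lib.OddLocal.Uniqueness
import Cfsg.Agent.Lib.OddLocal.BenderLocal
import Cfsg.Agent.S1481

/-! Uniqueness from the Fitting subgroup of a maximal subgroup (Bender). -/

set_option autoImplicit false

open scoped commutatorElement

namespace Cfsg.Agent.Lib.OddLocal

universe u

variable {G : Type u} [Group G] [Finite G]

theorem card_pos_prime_dvd {Y : Subgroup G} (hY : Y ≠ ⊥) : ∃ q : ℕ, q.Prime ∧ q ∣ Nat.card Y :=
  Nat.exists_prime_and_dvd (fun h => hY (Subgroup.card_eq_one.mp h))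

/-- A coprime subgroup normalized by `E` is trivial if all its invariant Sylow subgroups are. -/
theorem eq_bot_of_invariant_sylows_trivial {E Y : Subgroup G} (hE : Group.IsNilpotent E)
    (hEY : E ≤ Subgroup.normalizer (Y : Set G)) (hcop : (Nat.card E).Coprime (Nat.card Y))
    (h : ∀ (q : ℕ) [Fact q.Prime], q ∣ Nat.card Y → ∀ Q : Subgroup G, IsPGroup q Q →
      E ≤ Subgroup.normalizer (Q : Set G) → Q = ⊥) : Y = ⊥ := by
  by_contra hY
  obtain ⟨q, hq, hqY⟩ := card_pos_prime_dvd hY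
  have := Fact.mk hq
  have hsol : Group.IsSolvable E := inferInstance
  obtain ⟨T, hT⟩ := Coprime.exists_invariant_sylow hEY hcop (Or.inl hsol) q
  have h0 := h q hqY _ (T.isPGroup'.map _) hT
  have h1 : Nat.card (T : Subgroup Y) = 1 := by
    rw [Nat.card_congr ((T : Subgroup Y).equivMapOfInjective _ (Subgroup.subtype_injective Y)).toEquiv,
      h0, Subgroup.card_bot]
  exact hq.ne_one (Nat.eq_one_of_dvd_one (by
    have h2 := T.dvd_card_of_dvd_card hqY
    rwa [h1] at h2))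

omit [Finite G] in
theorem exists_maxInv_in {R E : Subgroup G} [Finite G] {π : Set ℕ} {Y : Subgroup G}
    (hY : Y ∈ Cfsg.invSubgroups R E π) : ∃ Q ∈ Cfsg.maxInvSubgroups R E π, Y ≤ Q := by
  obtain ⟨Q, hYQ, hQ, hmax⟩ := Set.Finite.exists_le_maximal
    (Set.toFinite {K : Subgroup G | K ∈ Cfsg.invSubgroups R E π}) hY
  exact ⟨Q, ⟨hQ, fun S hS hle => le_antisymm (hmax hS hle) hle⟩, hYQ⟩

variable (hG : Cfsg.IsMinSimpleOddOrder G)
include hG

/-- Solvability of local subgroups in the form used below. -/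
theorem isSolvable_normalizer_of_pGroup {q : ℕ} [Fact q.Prime] {T : Subgroup G} (hT : IsPGroup q T)
    (hT1 : T ≠ ⊥) : Group.IsSolvable (Subgroup.normalizer (T : Set G)) :=
  isSolvable_of_ne_top hG (normalizer_ne_top hG hT1 (ne_top_of_isPGroup hG hT))

variable {M : Subgroup G} (hM : IsCoatom M)
include hM

theorem isLocalSubgroup_of_fitting {p : ℕ} [Fact p.Prime] (hp : p ∣ Nat.card (Cfsg.fittingOf M)) :
    Cfsg.IsLocalSubgroup M :=
  ⟨p, fittingCenterPart p M, Fact.out, (isPGroup_pPartOf p _).to_le inf_le_left,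
    fittingCenterPart_ne_bot hp, (normalizer_eq_of_coatom hG hM
      ((isPGroup_pPartOf p _).to_le inf_le_left) (fittingCenterPart_ne_bot hp)
      (le_normalizer_fittingCenterPart p M)).symm⟩

theorem local_maximal_of_coatom {L : Subgroup G} (hL : Cfsg.IsLocalSubgroup L) (hML : M ≤ L) :
    L = M := by
  obtain ⟨q, T, hq, hT, hT1, rfl⟩ := hL
  have := Fact.mk hq
  exact (hM.le_iff.mp hML).resolve_left (normalizer_ne_top hG hT1 (ne_top_of_isPGroup hG hT))

omit hG hM in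
theorem le_fittingOf_normal_isPGroup {q : ℕ} [Fact q.Prime] {Q : Subgroup G} (hQM : Q ≤ M)
    (hQ : IsPGroup q Q) (hn : M ≤ Subgroup.normalizer (Q : Set G)) : Q ≤ Cfsg.fittingOf M := by
  intro x hx
  refine ⟨⟨x, hQM hx⟩, Cores.le_fittingSubgroup (Subgroup.normal_subgroupOf_of_le_normalizer hn)
    (hQ.of_equiv (Subgroup.subgroupOfEquivOfLe hQM).symm).isNilpotent ?_, rfl⟩
  exact hx

/-- A unique maximal invariant `q`-subgroup for a subgroup of `F(M)` is trivial. -/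
theorem eq_bot_of_unique_inv {E : Subgroup G} (hEF : E ≤ Cfsg.fittingOf M) {q : ℕ} [Fact q.Prime]
    (hq : ¬ q ∣ Nat.card (Cfsg.fittingOf M)) {Q : Subgroup G} (hQ : IsPGroup q Q)
    (hEQ : E ≤ Subgroup.normalizer (Q : Set G))
    (huniq : ∀ Y : Subgroup G, IsPGroup q Y → E ≤ Subgroup.normalizer (Y : Set G) → Y ≤ Q) :
    Q = ⊥ := by
  set F := Cfsg.fittingOf M with hF
  have hfix : ∀ g : G, E ≤ Subgroup.normalizer ((Q.map (MulAut.conj g).toMonoidHom : Subgroup G) : Set G) →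
      g ∈ Subgroup.normalizer (Q : Set G) := fun g hg =>
    Subgroup.mem_normalizer_iff_map_conj_eq.mpr (Subgroup.eq_of_le_of_card_ge
      (huniq _ (hQ.map _) hg) (Subgroup.card_map_of_injective (MulAut.conj g).injective).ge)
  have hconj : ∀ {N : Subgroup G} {g : G}, g ∈ Subgroup.normalizer (N : Set G) →
      N ≤ Subgroup.normalizer (Q : Set G) →
      N ≤ Subgroup.normalizer ((Q.map (MulAut.conj g).toMonoidHom : Subgroup G) : Set G) := by
    intro N g hg hN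
    refine le_normalizer_of_conj_mem' ?_
    rintro b hb _ ⟨z, hz, rfl⟩
    have hb' : g⁻¹ * b * g ∈ N := (Subgroup.mem_normalizer_iff''.mp hg b).mp hb
    refine ⟨(g⁻¹ * b * g) * z * (g⁻¹ * b * g)⁻¹, (Subgroup.mem_normalizer_iff.mp (hN hb') z).mp hz, ?_⟩
    show g * ((g⁻¹ * b * g) * z * (g⁻¹ * b * g)⁻¹) * g⁻¹ = b * (g * z * g⁻¹) * b⁻¹
    group
  have hFn : Group.IsNilpotent F := isNilpotent_fittingOf M
  have hFQ : F ≤ Subgroup.normalizer (Q : Set G) := by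
    set N₀ := (Subgroup.normalizer (Q : Set G)).subgroupOf F with hN₀
    by_contra hne
    have hlt : N₀ < ⊤ := lt_top_iff_ne_top.mpr fun h => hne (Subgroup.subgroupOf_eq_top.mp h)
    obtain ⟨g, hg, hgN⟩ := SetLike.exists_of_lt (Group.normalizerCondition_of_isNilpotent N₀ hlt)
    refine hgN (hfix g ?_)
    have hg' : (g : G) ∈ Subgroup.normalizer ((Subgroup.normalizer (Q : Set G) ⊓ F : Subgroup G) : Set G) := by
      refine Subgroup.mem_normalizer_iff.mpr fun x => ?_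
      constructor
      · rintro ⟨hx, hxF⟩
        exact ⟨(Subgroup.mem_normalizer_iff.mp hg ⟨x, hxF⟩).mp hx,
          F.mul_mem (F.mul_mem g.2 hxF) (F.inv_mem g.2)⟩
      · rintro ⟨hx, hxF⟩
        have hxF' : x ∈ F := by
          simpa [mul_assoc] using F.mul_mem (F.mul_mem (F.inv_mem g.2) hxF) g.2
        exact ⟨(Subgroup.mem_normalizer_iff.mp hg ⟨x, hxF'⟩).mpr hx, hxF'⟩
    exact (le_inf hEQ hEF).trans (hconj hg' inf_le_left)
  have hMQ : M ≤ Subgroup.normalizer (Q : Set G) := fun g hg =>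
    hfix g (hEF.trans (hconj (le_normalizer_fittingOf M hg) hFQ))
  by_contra hQ1
  have hQM : Q ≤ M := ((Subgroup.le_normalizer).trans
    ((hM.le_iff.mp hMQ).resolve_left (normalizer_ne_top hG hQ1 (ne_top_of_isPGroup hG hQ))).le)
  have hQF := le_fittingOf_normal_isPGroup hQM hQ hMQ
  obtain ⟨k, hk⟩ := IsPGroup.iff_card.mp hQ
  rcases k with _ | k
  · exact hQ1 (Subgroup.card_eq_one.mp (by rw [hk, pow_zero]))
  · exact hq ((dvd_pow_self q k.succ_ne_zero).trans (hk ▸ Subgroup.card_dvd_of_le hQF))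

variable {p : ℕ} [Fact p.Prime] {A₀ : Subgroup G} (hA₀ : A₀ ≤ Cfsg.fittingOf M)
  (hA₀e : Cfsg.IsElementaryAbelian p A₀) (hA₀3 : p ^ 3 ≤ Nat.card A₀)

include hA₀ hA₀e hA₀3

/-- The case of a Fitting subgroup of composite order type. -/
theorem inUniqueMaximal_fitting_centralizer
    (hnp : ¬ IsPGroup p (Cfsg.fittingOf M)) :
    Cfsg.InUniqueMaximal (Cfsg.fittingOf M ⊓ Subgroup.centralizer (A₀ : Set G)) := by
  set F := Cfsg.fittingOf M with hF
  set E := F ⊓ Subgroup.centralizer (A₀ : Set G) with hE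
  have hp : p.Prime := Fact.out
  have hA₀E : A₀ ≤ E := le_inf hA₀ (have := hA₀e.1; Subgroup.le_centralizer_iff_isMulCommutative.mpr inferInstance)
  have hA₀p : p ∣ Nat.card A₀ := by
    obtain ⟨k, hk⟩ := IsPGroup.iff_card.mp
      (show IsPGroup p A₀ from fun b => ⟨1, Subtype.ext (by rw [pow_one]; exact hA₀e.2 b b.2)⟩)
    rcases k with _ | k
    · rw [hk, pow_zero] at hA₀3
      exact absurd hA₀3 (not_le.mpr (Nat.one_lt_pow three_ne_zero hp.one_lt))
    · rw [hk]; exact dvd_pow_self p k.succ_ne_zero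
  have hpF : p ∣ Nat.card F := hA₀p.trans (Subgroup.card_dvd_of_le hA₀)
  have hF2 : 2 ≤ (Nat.card F).primeFactors.card := by
    by_contra hlt
    rw [not_le] at hlt
    refine hnp (IsPGroup.of_card (n := _) (Nat.eq_prime_pow_of_unique_prime_dvd Nat.card_pos.ne'
      fun {r} hr hd => ?_))
    exact Finset.card_le_one.mp (Nat.lt_succ_iff.mp hlt) r
      (Nat.mem_primeFactors.mpr ⟨hr, hd, Nat.card_pos.ne'⟩) p
      (Nat.mem_primeFactors.mpr ⟨hp, hpF, Nat.card_pos.ne'⟩)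
  have hMs : Group.IsSolvable M := isSolvable_of_ne_top hG hM.1
  have hCE : F ⊓ Subgroup.centralizer (E : Set G) ≤ E :=
    inf_le_inf_left _ (Subgroup.centralizer_le hA₀E)
  have hZE : F ⊓ Subgroup.centralizer (F : Set G) ≤ E :=
    inf_le_inf_left _ (Subgroup.centralizer_le hA₀)
  have hXE : M ⊓ Subgroup.centralizer (F : Set G) ≤ E :=
    (le_inf (inf_centralizer_fittingOf_le hMs) inf_le_right).trans hZE
  have hloc := isLocalSubgroup_of_fitting hG hM hpF
  have hEn : Group.IsNilpotent E := isNilpotent_of_le inf_le_left (isNilpotent_fittingOf M)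
  suffices hinv : ∀ Y ∈ Cfsg.invSubgroups ⊤ E (Cfsg.primesNotDvd (Nat.card F)), Y = ⊥ from
    ⟨M, ⟨hM, inf_le_left.trans (fittingOf_le M)⟩, fun L hL =>
      eq_of_inv_trivial hG hM hF2 inf_le_left hZE hinv hL.1 hL.2⟩
  intro Y hY
  have hcopY : (Nat.card E).Coprime (Nat.card Y) := Nat.coprime_of_dvd fun r hr h1 h2 =>
    (hY.2.1 r hr h2).2 (h1.trans (Subgroup.card_dvd_of_le inf_le_left))
  refine eq_bot_of_invariant_sylows_trivial hEn hY.2.2 hcopY fun q hqfact hqY Q₀ hQ₀ hEQ₀ => ?_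
  have hq : ¬ q ∣ Nat.card F := (hY.2.1 q Fact.out hqY).2
  have hqp : q ≠ p := fun e => hq (e ▸ hpF)
  -- two invariant subgroups of a solvable invariant subgroup have a common overgroup
  have hjoin : ∀ R : Subgroup G, Group.IsSolvable R → E ≤ Subgroup.normalizer (R : Set G) →
      ∀ Y₁ Y₂ : Subgroup G, Y₁ ≤ R → Y₂ ≤ R → IsPGroup q Y₁ → IsPGroup q Y₂ →
      E ≤ Subgroup.normalizer (Y₁ : Set G) → E ≤ Subgroup.normalizer (Y₂ : Set G) →
      ∃ Q ∈ Cfsg.maxInvSubgroups ⊤ E {q}, Y₁ ≤ Q ∧ Y₂ ≤ Q := by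
    intro R hR hER Y₁ Y₂ h1R h2R h1q h2q h1E h2E
    obtain ⟨Q₁, ⟨hQ₁, hall⟩, huniq⟩ :=
      Cfsg.Agent.S1481.result M hloc (fun L hL hle => local_maximal_of_coatom hG hM hL hle) hF2 E
        inf_le_left hCE R hR hER (hXE.trans hER) q hq
    obtain ⟨R₁, hR₁, hle₁⟩ := exists_maxInv_in (R := R)
      (show Y₁ ∈ Cfsg.invSubgroups R E {q} from
        ⟨h1R, (mem_invSubgroups_singleton_of_isPGroup h1q h1E).2.1, h1E⟩)
    obtain ⟨R₂, hR₂, hle₂⟩ := exists_maxInv_in (R := R)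
      (show Y₂ ∈ Cfsg.invSubgroups R E {q} from
        ⟨h2R, (mem_invSubgroups_singleton_of_isPGroup h2q h2E).2.1, h2E⟩)
    have e₁ := huniq R₁ ⟨hR₁, hall⟩
    have e₂ := huniq R₂ ⟨hR₂, hall⟩
    obtain ⟨Q, hQ, hle⟩ := exists_maxInv_ge' (show Q₁ ∈ Cfsg.invSubgroups ⊤ E {q} from
      ⟨le_top, hQ₁.1.2⟩)
    exact ⟨Q, hQ, (e₁ ▸ hle₁).trans hle, (e₂ ▸ hle₂).trans hle⟩
  have hqg : ∀ {X : Subgroup G}, X ∈ Cfsg.maxInvSubgroups ⊤ E {q} → IsPGroup q X :=
    fun hX => isPGroup_of_mem_inv hX.1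
  have hmeet : ∀ Q₁ ∈ Cfsg.maxInvSubgroups ⊤ E {q}, ∀ Q₂ ∈ Cfsg.maxInvSubgroups ⊤ E {q},
      Q₁ ⊓ Q₂ ≠ ⊥ → Q₁ = Q₂ := by
    by_contra hcon
    push Not at hcon
    obtain ⟨Q₁', hQ₁', Q₂', hQ₂', hd', hne'⟩ := hcon
    obtain ⟨⟨Q₁, Q₂⟩, ⟨hQ₁, hQ₂, hD, hne⟩, hmax⟩ := Set.exists_max_image
      {x : Subgroup G × Subgroup G | x.1 ∈ Cfsg.maxInvSubgroups ⊤ E {q} ∧
        x.2 ∈ Cfsg.maxInvSubgroups ⊤ E {q} ∧ x.1 ⊓ x.2 ≠ ⊥ ∧ x.1 ≠ x.2}
      (fun x => Nat.card ↥(x.1 ⊓ x.2)) (Set.toFinite _) ⟨(Q₁', Q₂'), hQ₁', hQ₂', hd', hne'⟩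
    set D := Q₁ ⊓ Q₂ with hDdef
    set R := Subgroup.normalizer (D : Set G) with hR
    have hED : E ≤ R := le_trans (le_inf hQ₁.1.2.2 hQ₂.1.2.2) Subgroup.inf_normalizer_le_normalizer_inf
    have hDq : IsPGroup q D := (hqg hQ₁).to_le inf_le_left
    obtain ⟨Q₃, hQ₃, h1, h2⟩ := hjoin R (isSolvable_normalizer_of_pGroup hG hDq hD)
      (hED.trans Subgroup.le_normalizer) (R ⊓ Q₁) (R ⊓ Q₂) inf_le_left inf_le_left
      ((hqg hQ₁).to_le inf_le_right) ((hqg hQ₂).to_le inf_le_right)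
      (le_trans (le_inf (hED.trans Subgroup.le_normalizer) hQ₁.1.2.2) Subgroup.inf_normalizer_le_normalizer_inf)
      (le_trans (le_inf (hED.trans Subgroup.le_normalizer) hQ₂.1.2.2) Subgroup.inf_normalizer_le_normalizer_inf)
    have hstep : ∀ Qi ∈ Cfsg.maxInvSubgroups ⊤ E {q}, D < Qi → R ⊓ Qi ≤ Q₃ → Qi = Q₃ := by
      intro Qi hQi hlt hle
      by_contra hi
      have hDlt : D < Qi ⊓ Q₃ := by
        refine lt_of_lt_of_le (lt_of_le_of_ne (le_inf Subgroup.le_normalizer hlt.le) fun h => ?_)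
          (le_inf inf_le_right hle)
        exact exists_mem_normalizer_not_mem (hqg hQi) hlt h.ge
      have h' := hmax (Qi, Q₃) ⟨hQi, hQ₃, fun h => not_lt_bot (h ▸ hDlt), hi⟩
      exact hDlt.ne (Subgroup.eq_of_le_of_card_ge hDlt.le h')
    refine hne ((hstep Q₁ hQ₁ (lt_of_le_of_ne inf_le_left fun h => hne ?_) h1).trans
      (hstep Q₂ hQ₂ (lt_of_le_of_ne inf_le_right fun h => hne ?_) h2).symm)
    · exact (hQ₁.2 Q₂ hQ₂.1 (inf_eq_left.mp h)).symm
    · exact hQ₂.2 Q₁ hQ₁.1 (inf_eq_right.mp h)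
  have hsame : ∀ Q₁ ∈ Cfsg.maxInvSubgroups ⊤ E {q}, ∀ Q₂ ∈ Cfsg.maxInvSubgroups ⊤ E {q}, Q₁ = Q₂ := by
    intro Q₁ hQ₁ Q₂ hQ₂
    by_cases hb₁ : Q₁ = ⊥
    · exact (hQ₁.2 Q₂ hQ₂.1 (hb₁ ▸ bot_le)).symm
    by_cases hb₂ : Q₂ = ⊥
    · exact hQ₂.2 Q₁ hQ₁.1 (hb₂ ▸ bot_le)
    have hA₀q : ∀ {X : Subgroup G}, IsPGroup q X → (Nat.card A₀).Coprime (Nat.card X) := by
      intro X hX
      obtain ⟨i, hi⟩ := IsPGroup.iff_card.mp hX
      obtain ⟨j, hj⟩ := IsPGroup.iff_card.mp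
        (show IsPGroup p A₀ from fun b => ⟨1, Subtype.ext (by rw [pow_one]; exact hA₀e.2 b b.2)⟩)
      rw [hi, hj]
      exact ((Nat.coprime_primes Fact.out Fact.out).mpr (Ne.symm hqp)).pow _ _
    obtain ⟨B₁, hB₁, hc₁, hf₁⟩ := exists_centralizer_corank_one_outside (D := ⊥) hA₀e.1 hA₀e.2
      (fun h => hb₁ (le_bot_iff.mp h)) (hA₀E.trans hQ₁.1.2.2) (hA₀q (hqg hQ₁))
    obtain ⟨B₂, hB₂, hc₂, hf₂⟩ := exists_centralizer_corank_one_outside (D := ⊥) hA₀e.1 hA₀e.2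
      (fun h => hb₂ (le_bot_iff.mp h)) (hA₀E.trans hQ₂.1.2.2) (hA₀q (hqg hQ₂))
    have hB : B₁ ⊓ B₂ ≠ ⊥ := by
      intro h
      have hn : B₂ ≤ Subgroup.normalizer (B₁ : Set G) := fun x hx =>
        Subgroup.centralizer_le_normalizer _ (Subgroup.mem_centralizer_iff.mpr fun y hy =>
          congrArg Subtype.val (hA₀e.1.is_comm.comm ⟨y, hB₁ hy⟩ ⟨x, hB₂ hx⟩))
      have h1 := Coprime.card_sup_mul_card_inf hn
      rw [h, Subgroup.card_bot, mul_one] at h1
      have h2 := Subgroup.card_le_of_le (sup_le hB₁ hB₂)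
      have h3 := Nat.mul_le_mul hc₁ hc₂
      rw [show p * Nat.card B₁ * (p * Nat.card B₂) = p ^ 2 * (Nat.card B₁ * Nat.card B₂) by ring,
        ← h1] at h3
      have h4 : Nat.card A₀ * Nat.card A₀ ≤ p ^ 2 * Nat.card A₀ :=
        h3.trans (Nat.mul_le_mul_left _ h2)
      have h5 := Nat.le_of_mul_le_mul_right h4 Nat.card_pos
      exact absurd (hA₀3.trans h5) (not_le.mpr (Nat.pow_lt_pow_right hp.one_lt (by norm_num)))
    obtain ⟨⟨b, hb⟩, hb1'⟩ := Subgroup.ne_bot_iff_exists_ne_one.mp hB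
    have hb1 : b ≠ 1 := fun e => hb1' (Subtype.ext e)
    set R := Subgroup.centralizer ({b} : Set G) with hR
    have hER : E ≤ R := fun e he => Subgroup.mem_centralizer_singleton_iff.mpr
      (Subgroup.mem_centralizer_iff.mp he.2 b (hB₁ hb.1)).symm
    have hfix : ∀ {B X : Subgroup G}, b ∈ B → X ⊓ Subgroup.centralizer (B : Set G) ≤ X ⊓ R :=
      fun hbB => inf_le_inf_left _ (Subgroup.centralizer_le (Set.singleton_subset_iff.mpr hbB))
    have hnorm : ∀ {X : Subgroup G}, X ∈ Cfsg.maxInvSubgroups ⊤ E {q} →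
        E ≤ Subgroup.normalizer ((X ⊓ R : Subgroup G) : Set G) := fun hX =>
      le_trans (le_inf hX.1.2.2 (hER.trans Subgroup.le_normalizer))
        Subgroup.inf_normalizer_le_normalizer_inf
    obtain ⟨Q₃, hQ₃, h1, h2⟩ := hjoin R
      (isSolvable_of_ne_top hG (centralizer_singleton_ne_top hG hb1))
      (hER.trans Subgroup.le_normalizer) (Q₁ ⊓ R) (Q₂ ⊓ R) inf_le_right inf_le_right
      ((hqg hQ₁).to_le inf_le_left) ((hqg hQ₂).to_le inf_le_left) (hnorm hQ₁) (hnorm hQ₂)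
    refine (hmeet Q₁ hQ₁ Q₃ hQ₃ fun h => hf₁ ?_).trans (hmeet Q₂ hQ₂ Q₃ hQ₃ fun h => hf₂ ?_).symm
    · exact ((hfix hb.1).trans (le_inf inf_le_left h1)).trans h.le
    · exact ((hfix hb.2).trans (le_inf inf_le_left h2)).trans h.le
  obtain ⟨Q, hQ, hle⟩ := exists_maxInv_ge' (mem_invSubgroups_singleton_of_isPGroup hQ₀ hEQ₀)
  refine le_bot_iff.mp (hle.trans (le_of_eq ?_))
  refine eq_bot_of_unique_inv hG hM inf_le_left hq (hqg hQ) hQ.1.2.2 fun Z hZ hEZ => ?_
  obtain ⟨Q', hQ', hle'⟩ := exists_maxInv_ge' (mem_invSubgroups_singleton_of_isPGroup hZ hEZ)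
  exact hle'.trans (hsame Q' hQ' Q hQ).le

omit hA₀e hA₀3 in
/-- The case of a Fitting subgroup of prime power order. -/
theorem sylow_and_scn_of_fitting_pGroup (hA₁ : A₀ ≠ ⊥) (hFp : IsPGroup p (Cfsg.fittingOf M))
    (P : Sylow p M) :
    ¬ p ∣ ((P : Subgroup M).map M.subtype).index ∧
      ∀ A : Subgroup G, Cfsg.IsSCN ((P : Subgroup M).map M.subtype) A → ¬ Cfsg.PRankLE p 2 ↥A →
        A ≤ Cfsg.fittingOf M ∧ Cfsg.InUniqueMaximal A := by
  set F := Cfsg.fittingOf M with hF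
  have hp : p.Prime := Fact.out
  have hpF : p ∣ Nat.card F := by
    obtain ⟨k, hk⟩ := IsPGroup.iff_card.mp (hFp.to_le hA₀)
    rcases k with _ | k
    · exact absurd (Subgroup.card_eq_one.mp (by rw [hk, pow_zero])) hA₁
    · exact (dvd_pow_self p k.succ_ne_zero).trans (hk ▸ Subgroup.card_dvd_of_le hA₀)
  have hMs : Group.IsSolvable M := isSolvable_of_ne_top hG hM.1
  -- the `p'`-core of `M` is trivial
  have hcopF : ∀ {X : Subgroup G}, (Nat.card X).Coprime p → (Nat.card X).Coprime (Nat.card F) := by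
    intro X hX
    obtain ⟨k, hk⟩ := IsPGroup.iff_card.mp hFp
    rw [hk]; exact hX.pow_right k
  have htriv : ∀ {X : Subgroup G}, X ≤ M → X ≤ Subgroup.centralizer (F : Set G) →
      (Nat.card X).Coprime p → X = ⊥ := fun {X} hX hXC hXp => by
    rw [← Coprime.inf_eq_bot_of_coprime_card (hcopF hXp), inf_eq_left.mpr
      ((le_inf hX hXC).trans (inf_centralizer_fittingOf_le hMs))]
  have hX0 : pComplOf p M = ⊥ := by
    refine htriv (pComplOf_le p M) (Subgroup.commutator_eq_bot_iff_le_centralizer.mp (le_bot_iff.mp ?_))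
      (coprime_pComplOf p M)
    rw [← Coprime.inf_eq_bot_of_coprime_card (hcopF (coprime_pComplOf p M))]
    refine le_inf (Coprime.commutator_le_of_le_normalizer ((fittingOf_le M).trans
      (Subgroup.le_normalizer.trans (normalizer_le_normalizer_pComplOf p M)))) ?_
    rw [Subgroup.commutator_comm]
    exact Coprime.commutator_le_of_le_normalizer ((pComplOf_le p M).trans (le_normalizer_fittingOf M))
  set P₀ := (P : Subgroup M).map M.subtype with hP₀
  have hP₀M : P₀ ≤ M := Subgroup.map_subtype_le _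
  have hP₀p : IsPGroup p P₀ := P.isPGroup'.map _
  have hFP : F ≤ P₀ := by
    have hn : (Cfsg.fittingSubgroup M).Normal := Cores.fittingSubgroup_normal _
    have h1 : IsPGroup p (Cfsg.fittingSubgroup M) :=
      hFp.of_equiv ((Cfsg.fittingSubgroup M).equivMapOfInjective _ M.subtype_injective).symm
    have h2 := P.is_maximal' (P.isPGroup'.to_sup_of_normal_right h1) le_sup_left
    exact Subgroup.map_mono (le_sup_right.trans h2.le)
  have hP0 : P₀ ≠ ⊥ := fun h => hA₁ (le_bot_iff.mp (h ▸ hA₀.trans hFP))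
  have hPsyl : IsSylowIn p P₀ M := ⟨hP₀p, hP₀M, fun Q hQ hQM hPQ => by
    have h3 := P.is_maximal' (hQ.of_equiv (Subgroup.subgroupOfEquivOfLe hQM).symm)
      (fun x hx => hPQ ⟨x, hx, rfl⟩)
    rw [hP₀, ← h3, Subgroup.map_subgroupOf_eq_of_le hQM]⟩
  -- `P` is Sylow in `G`
  have hN : Subgroup.normalizer (P₀ : Set G) ≤ M := by
    set W := jZ p P₀ with hW
    have hW0 : W ≠ ⊥ := jZ_ne_bot hP₀p hP0
    have hMW : M ≤ Subgroup.normalizer (W : Set G) := le_of_jZ hMs (odd_card_subgroup hG M) hPsyl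
      (hX0 ▸ bot_le) inf_le_right
    have hne := normalizer_ne_top hG hW0 (ne_top_of_isPGroup hG (hP₀p.to_le (jZ_le P₀)))
    exact (normalizer_le_normalizer_jZ p P₀).trans ((hM.le_iff.mp hMW).resolve_left hne).le
  let S : Sylow p G := ⟨P₀, hP₀p, fun {Q} hQ hPQ => by
    by_contra hne
    refine exists_mem_normalizer_not_mem (q := p) hQ (lt_of_le_of_ne hPQ (Ne.symm hne)) fun x hx => ?_
    have hle : P₀ ≤ Subgroup.normalizer (P₀ : Set G) ⊓ Q := le_inf Subgroup.le_normalizer hPQ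
    exact (hPsyl.2.2 _ (hQ.to_le inf_le_right) (inf_le_left.trans hN) hle).le hx⟩
  refine ⟨S.not_dvd_index, fun A hA hA3 => ?_⟩
  have hAc : IsMulCommutative A := Subgroup.le_centralizer_iff_isMulCommutative.mp
    (hA.2.2.ge.trans inf_le_right)
  have hAp : IsPGroup p A := hP₀p.to_le hA.1
  have hAM : A ≤ M := hA.1.trans hP₀M
  have hAF : A ≤ F := by
    intro x hx
    refine ⟨⟨x, hAM hx⟩, ?_, rfl⟩
    have h := Cfsg.Agent.S1457.result (G := M) (odd_card_subgroup hG M) p P (A.subgroupOf M)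
      (fun y hy => by
        obtain ⟨z, hz, he⟩ := hA.1 hy
        exact (M.subtype_injective he) ▸ hz)
      ⟨⟨fun a b => Subtype.ext (Subtype.ext (congrArg Subtype.val
        (hAc.is_comm.comm ⟨a.1.1, a.2⟩ ⟨b.1.1, b.2⟩) :))⟩⟩
      (fun y hy => le_normalizer_subgroupOf hA.2.1 (show (y : G) ∈ P₀ from ⟨y, hy, rfl⟩))
      (show (⟨x, hAM hx⟩ : M) ∈ A.subgroupOf M from hx)
    refine Cores.pCore_le_fittingSubgroup p ((Cores.le_pCore (inferInstance : ((Cfsg.pCore p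
      (M ⧸ Cfsg.pPrimeCore p M)).comap (QuotientGroup.mk' (Cfsg.pPrimeCore p M))).Normal) ?_) h)
    refine (Cores.pCore_isPGroup p _).comap_of_ker_isPGroup _ ?_
    rw [QuotientGroup.ker_mk', (Subgroup.map_eq_bot_iff_of_injective _ M.subtype_injective).mp hX0]
    exact IsPGroup.of_bot
  have hCA : F ⊓ Subgroup.centralizer (A : Set G) ≤ A :=
    (inf_le_inf_right _ hFP).trans hA.2.2.le
  have hCM : Subgroup.centralizer (A : Set G) ≤ M :=
    (Subgroup.centralizer_le (fittingCenterPart_le_of_selfCentralizing hAF hCA p)).trans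
      (centralizer_fittingCenterPart_le hG hM hpF)
  set D := Cfsg.piCoreOf (Cfsg.primesNotDvd p) (Subgroup.centralizer (A : Set G)) with hD
  have hDcop : (Nat.card D).Coprime p := Nat.coprime_of_dvd fun r hr h1 h2 =>
    (mem_of_prime_dvd_card_piCoreOf hr h1).2 h2
  have hD0 : D = ⊥ := htriv ((piCoreOf_le _ _).trans hCM)
    (le_centralizer_fitting hAF hCA ((piCoreOf_le _ _).trans hCM) (piCoreOf_le _ _) (hcopF hDcop))
    hDcop
  have hp2 : p ≠ 2 := fun h => by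
    have h' := hG.1.of_dvd_nat (hpF.trans (Subgroup.card_subgroup_dvd_card _))
    rw [h] at h'
    exact absurd h' (by decide)
  have hinv : ∀ Y : Subgroup G, (Nat.card Y).Coprime p → A ≤ Subgroup.normalizer (Y : Set G) → Y ≤ M := by
    intro Y hY hAY
    suffices Y = ⊥ from this ▸ bot_le
    refine eq_bot_of_invariant_sylows_trivial hAp.isNilpotent hAY
      (by obtain ⟨k, hk⟩ := IsPGroup.iff_card.mp hAp
          rw [hk]; exact (hY.pow_right k).symm) fun q hqfact hqY Q₀ hQ₀ hAQ₀ => ?_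
    have hqp : q ≠ p := fun e => hp.not_dvd_one (hY ▸ Nat.dvd_gcd (e ▸ hqY) dvd_rfl)
    have htr := transitivity_of_constrained (p := p) (E := A)
      (fun T hT hT1 => Components.isPConstrained_of_solvable
        (isSolvable_normalizer_of_pGroup hG hT hT1))
      (fun h => absurd h hp2) hAp hAc (fun x hx hxp => mem_of_centralizer_of_isSCN S hAc hA hx hxp)
      hA3 hqp
    obtain ⟨Q, hQ, hle⟩ := exists_maxInv_ge' (mem_invSubgroups_singleton_of_isPGroup hQ₀ hAQ₀)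
    refine le_bot_iff.mp (hle.trans (le_of_eq ?_))
    refine eq_bot_of_unique_inv hG hM hAF ?_ (isPGroup_of_mem_inv hQ.1) hQ.1.2.2 fun Z hZ hAZ => ?_
    · obtain ⟨k, hk⟩ := IsPGroup.iff_card.mp hFp
      exact fun h => hqp ((Nat.prime_dvd_prime_iff_eq Fact.out hp).mp
        (Fact.out (p := q.Prime) |>.dvd_of_dvd_pow (hk ▸ h)))
    · obtain ⟨Q', hQ', hle'⟩ := exists_maxInv_ge' (mem_invSubgroups_singleton_of_isPGroup hZ hAZ)
      obtain ⟨k, hk, he⟩ := htr Q hQ Q' hQ'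
      have hk' : k ∈ D := hk
      rw [hD0, Subgroup.mem_bot] at hk'
      rw [hk', map_one] at he
      exact hle'.trans (he.le.trans (Subgroup.map_id Q).le)
  refine ⟨hAF, inUniqueMaximal_of_inv hG hM hAM (fun h => hA3 fun D _ _ => ?_) hinv hAp⟩
  have : Nat.card D ≤ 1 := (Subgroup.card_le_card_group D).trans (by rw [h, Subgroup.card_bot])
  exact this.trans (Nat.one_le_pow _ _ hp.pos)

end Cfsg.Agent.Lib.OddLocal
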