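import Cfsg.Agent.Lib.OddLocal.VandermondeAction
import Cfsg.Agent.Lib.Coprime.External
import Cfsg.Agent.Lib.OddLocal.CriticalAction
import Cfsg.Agent.Lib.Solvable.FixedPointFree

/-!
A Frobenius-type group of operators, the kernel acting without fixed points, on a nilpotent group:
the order of the group is a power of the order of the fixed points of a complement.
-/

set_option autoImplicit false

namespace Cfsg.Agent.Lib.OddLocal

open Cfsg.Agent.Lib
open scoped commutatorElement

universe u v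

/-- The fixed points of an automorphism. -/
def fixPts {M : Type u} [Group M] (σ : MulAut M) : Subgroup M where
  carrier := {m | σ m = m}
  one_mem' := map_one σ
  mul_mem' := fun {a b} ha hb => by
    show σ (a * b) = a * b
    rw [map_mul, ha, hb]
  inv_mem' := fun {a} ha => by
    show σ a⁻¹ = a⁻¹
    rw [map_inv, ha]

theorem mem_fixPts {M : Type u} [Group M] {σ : MulAut M} {m : M} : m ∈ fixPts σ ↔ σ m = m := Iff.rfl

section Hyp

variable {M : Type u} [Group M] {Γ : Type v} [Group Γ]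

/-- `x` of order dividing `n` acts without fixed points on the image of `K`, and `K` without fixed
points on `M`. -/
structure FrobOps (φ : Γ →* MulAut M) (K : Subgroup Γ) (x : Γ) (n : ℕ) : Prop where
  norm : x ∈ Subgroup.normalizer (K : Set Γ)
  pow : x ^ n = 1
  pos : 0 < n
  copn : (Nat.card K).Coprime n
  fpf : ∀ j : ℕ, ¬ n ∣ j → ∀ k ∈ K, φ (x ^ j * k * (x ^ j)⁻¹) = φ k → φ k = 1
  cent : ∀ m : M, (∀ k ∈ K, φ k m = m) → m = 1

theorem FrobOps.powers {φ : Γ →* MulAut M} {K : Subgroup Γ} {x : Γ} {n : ℕ}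
    (h : FrobOps φ K x n) {d : ℕ} (hd : d ∣ n) (hd0 : 0 < d) : FrobOps φ K (x ^ d) (n / d) := by
  obtain ⟨e, rfl⟩ := hd
  rw [Nat.mul_div_cancel_left _ hd0]
  refine ⟨pow_mem h.norm d, by rw [← pow_mul, h.pow], Nat.pos_of_mul_pos_left h.pos,
    h.copn.coprime_dvd_right (dvd_mul_left e d), fun j hj k hk hk' => ?_, h.cent⟩
  refine h.fpf (d * j) (fun hdvd => hj (Nat.dvd_of_mul_dvd_mul_left hd0 hdvd)) k hk ?_
  rwa [pow_mul]

/-- The stabiliser of a subgroup in a group of operators. -/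
def opStab (φ : Γ →* MulAut M) (N : Subgroup M) : Subgroup Γ where
  carrier := {g | ∀ m, φ g m ∈ N ↔ m ∈ N}
  one_mem' := fun m => by rw [map_one]; rfl
  mul_mem' := fun {a b} ha hb m => by rw [map_mul, MulAut.mul_apply]; exact (ha _).trans (hb m)
  inv_mem' := fun {a} ha m => by
    have h1 := ha (φ a⁻¹ m)
    rw [← MulAut.mul_apply, ← map_mul, mul_inv_cancel, map_one, MulAut.one_apply] at h1
    exact h1.symm

theorem mem_opStab [Finite M] (φ : Γ →* MulAut M) (N : Subgroup M) {g : Γ}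
    (h : ∀ m ∈ N, φ g m ∈ N) : g ∈ opStab φ N := by
  intro m
  refine ⟨fun hm => ?_, h m⟩
  have heq : N.map ((φ g : M ≃* M) : M →* M) = N :=
    Subgroup.eq_of_le_of_card_ge (by rintro _ ⟨y, hy, rfl⟩; exact h y hy)
      (Subgroup.card_map_of_injective (φ g).injective).ge
  rw [← heq] at hm
  obtain ⟨y, hy, hym⟩ := hm
  rwa [← (φ g).injective hym]

/-- The action of the stabiliser on the subgroup. -/
def subAct (φ : Γ →* MulAut M) (N : Subgroup M) : opStab φ N →* MulAut N where
  toFun g :=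
    { toFun := fun m => ⟨φ (g : Γ) m, (g.2 m).mpr m.2⟩
      invFun := fun m => ⟨φ (g : Γ)⁻¹ m, ((opStab φ N).inv_mem g.2 m).mpr m.2⟩
      left_inv := fun m => Subtype.ext (by
        show φ _ (φ _ (m : M)) = m
        rw [← MulAut.mul_apply, ← map_mul]
        simp)
      right_inv := fun m => Subtype.ext (by
        show φ _ (φ _ (m : M)) = m
        rw [← MulAut.mul_apply, ← map_mul]
        simp)
      map_mul' := fun a b => Subtype.ext (by simp) }
  map_one' := MulEquiv.ext fun m => Subtype.ext (by simp)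
  map_mul' := fun a b => MulEquiv.ext fun m => Subtype.ext (by simp)

theorem coe_subAct (φ : Γ →* MulAut M) (N : Subgroup M) (g : opStab φ N) (m : N) :
    ((subAct φ N g m : N) : M) = φ (g : Γ) m := rfl

/-- The action of the stabiliser on the quotient. -/
def quotAct [Finite M] (φ : Γ →* MulAut M) (N : Subgroup M) [N.Normal] :
    opStab φ N →* MulAut (M ⧸ N) where
  toFun g := QuotientGroup.congr N N (φ (g : Γ))
    (Subgroup.eq_of_le_of_card_ge (by rintro _ ⟨y, hy, rfl⟩; exact (g.2 y).mpr hy)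
      (Subgroup.card_map_of_injective (φ (g : Γ)).injective).ge)
  map_one' := by
    refine MulEquiv.ext fun q => ?_
    induction q using QuotientGroup.induction_on with
    | _ x => simp
  map_mul' := fun a b => by
    refine MulEquiv.ext fun q => ?_
    induction q using QuotientGroup.induction_on with
    | _ x => simp

theorem quotAct_mk [Finite M] (φ : Γ →* MulAut M) (N : Subgroup M) [N.Normal] (g : opStab φ N) (m : M) :
    quotAct φ N g (QuotientGroup.mk' N m) = QuotientGroup.mk' N (φ (g : Γ) m) := rfl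

/-- The hypothesis passes to a factor of the action. -/
theorem FrobOps.factor [Finite Γ] {φ : Γ →* MulAut M} {K : Subgroup Γ} {x : Γ} {n : ℕ}
    (h : FrobOps φ K x n) (S : Subgroup Γ) (hKS : K ≤ S) (hxS : x ∈ S)
    {M' : Type u} [Group M'] (ψ : S →* MulAut M') (hker : ∀ g : S, φ (g : Γ) = 1 → ψ g = 1)
    (hcent : ∀ m : M', (∀ g : S, (g : Γ) ∈ K → ψ g m = m) → m = 1) :
    FrobOps ψ (K.subgroupOf S) ⟨x, hxS⟩ n := by
  refine ⟨?_, Subtype.ext h.pow, h.pos, ?_, fun j hj k hk hk' => ?_,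
    fun m hm => hcent m fun g hg => hm g hg⟩
  · rw [Subgroup.mem_normalizer_iff]
    intro y
    exact Subgroup.mem_normalizer_iff.mp h.norm _
  · rw [Nat.card_congr (Subgroup.subgroupOfEquivOfLe hKS).toEquiv]
    exact h.copn
  set L := K ⊓ ψ.ker.map S.subtype with hL
  set y : S := ⟨x, hxS⟩ ^ j with hy
  have hyx : (y : Γ) = x ^ j := by rw [hy, SubgroupClass.coe_pow]
  have hyK : (y : Γ) ∈ Subgroup.normalizer (K : Set Γ) := hyx ▸ pow_mem h.norm j
  have hyL : Subgroup.zpowers (y : Γ) ≤ Subgroup.normalizer (L : Set Γ) := by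
    refine Subgroup.zpowers_le.mpr (Subgroup.mem_normalizer_iff.mpr fun z => ?_)
    constructor
    · rintro ⟨hzK, w, hw, rfl⟩
      exact ⟨(Subgroup.mem_normalizer_iff.mp hyK _).mp hzK, y * w * y⁻¹,
        (inferInstance : ψ.ker.Normal).conj_mem w hw y, rfl⟩
    · rintro ⟨hzK, w, hw, hwz⟩
      refine ⟨(Subgroup.mem_normalizer_iff.mp hyK _).mpr hzK, y⁻¹ * w * y, ?_, ?_⟩
      · simpa using (inferInstance : ψ.ker.Normal).conj_mem w hw y⁻¹
      · change (y⁻¹ * w * y : S).1 = z
        change (w : Γ) = y * z * (y : Γ)⁻¹ at hwz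
        rw [Subgroup.coe_mul, Subgroup.coe_mul, InvMemClass.coe_inv, hwz]
        group
  have hcop : (Nat.card (Subgroup.zpowers (y : Γ))).Coprime (Nat.card L) := by
    rw [Nat.card_zpowers]
    refine (h.copn.symm.coprime_dvd_left ?_).coprime_dvd_right (Subgroup.card_dvd_of_le inf_le_left)
    exact orderOf_dvd_of_pow_eq_one (by rw [hyx, ← pow_mul, mul_comm, pow_mul, h.pow, one_pow])
  have hkL : ((k : Γ)) ∈ Subgroup.normalizer (L : Set Γ) := by
    rw [Subgroup.mem_normalizer_iff]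
    intro z
    constructor
    · rintro ⟨hzK, w, hw, rfl⟩
      exact ⟨K.mul_mem (K.mul_mem hk hzK) (K.inv_mem hk), k * w * k⁻¹,
        (inferInstance : ψ.ker.Normal).conj_mem w hw k, rfl⟩
    · rintro ⟨hzK, w, hw, hwz⟩
      have e : (k : Γ)⁻¹ * ((k : Γ) * z * (k : Γ)⁻¹) * k = z := by group
      refine ⟨e ▸ K.mul_mem (K.mul_mem (K.inv_mem hk) hzK) hk, k⁻¹ * w * k, ?_, ?_⟩
      · simpa using (inferInstance : ψ.ker.Normal).conj_mem w hw k⁻¹
      · change (k⁻¹ * w * k : S).1 = z
        change (w : Γ) = k * z * (k : Γ)⁻¹ at hwz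
        rw [Subgroup.coe_mul, Subgroup.coe_mul, InvMemClass.coe_inv, hwz]
        group
  have hc : Commute (ψ y) (ψ k) := by
    have h1 := hk'
    rw [map_mul, map_mul, map_inv] at h1
    exact mul_inv_eq_iff_eq_mul.mp h1
  have hfix : ∀ a ∈ Subgroup.zpowers (y : Γ), a * k * a⁻¹ * (k : Γ)⁻¹ ∈ L := by
    intro a ha
    obtain ⟨i, rfl⟩ := Subgroup.mem_zpowers_iff.mp ha
    refine ⟨K.mul_mem ((Subgroup.mem_normalizer_iff.mp (zpow_mem hyK i) _).mp hk) (K.inv_mem hk),
      y ^ i * k * (y ^ i)⁻¹ * k⁻¹, ?_, by simp⟩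
    rw [SetLike.mem_coe, MonoidHom.mem_ker, map_mul, map_mul, map_mul, map_inv, map_inv, map_zpow,
      (hc.zpow_left i).eq, mul_inv_cancel_right, mul_inv_cancel]
  obtain ⟨l, hl, hlc⟩ := Coprime.exists_mem_centralizer_of_fixed_coset hyL hcop
    (Or.inl (Coprime.isSolvable_zpowers _)) hkL hfix
  obtain ⟨w, hw, rfl⟩ := hl.2
  have h2 := Subgroup.mem_centralizer_iff.mp hlc _ (Subgroup.mem_zpowers (y : Γ))
  have h3 : φ ((k : Γ) * (w : Γ)) = 1 := h.fpf j hj _ (mul_mem hk hl.1) (by
    rw [← hyx]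
    change φ ((y : Γ) * ((k : Γ) * (w : Γ)) * (y : Γ)⁻¹) = _
    change (y : Γ) * ((k : Γ) * (w : Γ)) = (k : Γ) * (w : Γ) * (y : Γ) at h2
    rw [h2, mul_inv_cancel_right])
  have h4 := hker (k * w) h3
  rw [map_mul, MonoidHom.mem_ker.mp hw, mul_one] at h4
  exact h4

end Hyp

section Split

variable {M : Type u} [Group M] [Finite M] {Γ : Type v} [Group Γ] [Finite Γ]
  {φ : Γ →* MulAut M} {K : Subgroup Γ} {x : Γ} {n : ℕ}

theorem FrobOps.sub (h : FrobOps φ K x n) {N : Subgroup M} (hK : ∀ k ∈ K, ∀ m ∈ N, φ k m ∈ N)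
    (hx : ∀ m ∈ N, φ x m ∈ N) :
    FrobOps (subAct φ N) (K.subgroupOf (opStab φ N)) ⟨x, mem_opStab φ N hx⟩ n :=
  h.factor (opStab φ N) (fun k hk => mem_opStab φ N (hK k hk)) (mem_opStab φ N hx) (subAct φ N)
    (fun g hg => MulEquiv.ext fun m => Subtype.ext (by rw [coe_subAct, hg]; rfl))
    (fun m hm => Subtype.ext (h.cent m fun k hk =>
      congrArg Subtype.val (hm ⟨k, mem_opStab φ N (hK k hk)⟩ hk)))

theorem card_fixPts_subAct {N : Subgroup M} (y : opStab φ N) :
    Nat.card (fixPts (subAct φ N y)) = Nat.card ↥(N ⊓ fixPts (φ (y : Γ))) :=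
  Nat.card_congr
    { toFun := fun m => ⟨(m.1 : M), m.1.2, congrArg Subtype.val m.2⟩
      invFun := fun m => ⟨⟨m.1, m.2.1⟩, Subtype.ext m.2.2⟩
      left_inv := fun m => rfl
      right_inv := fun m => rfl }

theorem FrobOps.quot (h : FrobOps φ K x n) (hM : Group.IsNilpotent M)
    (hcop : (Nat.card Γ).Coprime (Nat.card M)) {N : Subgroup M} [N.Normal]
    (hK : ∀ k ∈ K, ∀ m ∈ N, φ k m ∈ N) (hx : ∀ m ∈ N, φ x m ∈ N) :
    FrobOps (quotAct φ N) (K.subgroupOf (opStab φ N)) ⟨x, mem_opStab φ N hx⟩ n := by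
  refine h.factor (opStab φ N) (fun k hk => mem_opStab φ N (hK k hk)) (mem_opStab φ N hx) (quotAct φ N)
    (fun g hg => MulEquiv.ext fun q => ?_) (fun q hq => ?_)
  · obtain ⟨m, rfl⟩ := QuotientGroup.mk'_surjective N q
    rw [quotAct_mk, hg]
    rfl
  · haveI := hM
    obtain ⟨m, rfl⟩ := QuotientGroup.mk'_surjective N q
    obtain ⟨w, hw, hmw⟩ := Coprime.exists_fixed_of_fixed_coset (φ.comp K.subtype)
      (hcop.coprime_dvd_left (Subgroup.card_subgroup_dvd_card K)) (Or.inr inferInstance)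
      (fun a m hm => hK a a.2 m hm) m (fun a => by
        have h1 := hq ⟨a, mem_opStab φ N (hK a a.2)⟩ a.2
        rw [quotAct_mk] at h1
        rw [← QuotientGroup.eq_one_iff, ← QuotientGroup.mk'_apply, map_mul, map_inv]
        exact mul_inv_eq_one.mpr h1)
    have h1 := h.cent (m * w) fun k hk => hmw ⟨k, hk⟩
    rw [QuotientGroup.mk'_apply, QuotientGroup.eq_one_iff, eq_inv_of_mul_eq_one_left h1]
    exact inv_mem hw

/-- The fixed points in the quotient are the images of fixed points. -/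
theorem exists_fixed_preimage (hM : Group.IsNilpotent M) (hcop : (Nat.card Γ).Coprime (Nat.card M))
    {N : Subgroup M} [N.Normal] (y : opStab φ N) :
    ∀ q ∈ fixPts (quotAct φ N y), ∃ m ∈ fixPts (φ (y : Γ)), QuotientGroup.mk' N m = q := by
  intro q hq
  haveI := hM
  obtain ⟨m, rfl⟩ := QuotientGroup.mk'_surjective N q
  have hS : ∀ a : Subgroup.zpowers (y : Γ), (a : Γ) ∈ opStab φ N := fun a => by
    obtain ⟨i, hi⟩ := Subgroup.mem_zpowers_iff.mp a.2
    exact hi ▸ zpow_mem y.2 i
  obtain ⟨w, hw, hmw⟩ := Coprime.exists_fixed_of_fixed_coset (φ.comp (Subgroup.zpowers (y : Γ)).subtype)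
    (hcop.coprime_dvd_left (Subgroup.card_subgroup_dvd_card _)) (Or.inr inferInstance)
    (fun a m hm => (hS a m).mpr hm) m (fun a => by
      obtain ⟨i, hi⟩ := Subgroup.mem_zpowers_iff.mp a.2
      have h1 : ∀ i : ℤ, quotAct φ N (y ^ i) (QuotientGroup.mk' N m) = QuotientGroup.mk' N m := by
        intro i
        rw [map_zpow]
        have hle : Subgroup.zpowers (quotAct φ N y) ≤ MulAction.stabilizer (MulAut (M ⧸ N)) (QuotientGroup.mk' N m) :=
          Subgroup.zpowers_le.mpr hq
        exact hle ⟨i, rfl⟩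
      have h2 := h1 i
      rw [quotAct_mk] at h2
      rw [← QuotientGroup.eq_one_iff, ← QuotientGroup.mk'_apply, map_mul, map_inv]
      refine mul_inv_eq_one.mpr ?_
      show QuotientGroup.mk' N (φ (a : Γ) m) = _
      rwa [← hi, ← SubgroupClass.coe_zpow])
  refine ⟨m * w, hmw ⟨_, Subgroup.mem_zpowers _⟩, ?_⟩
  rw [map_mul, show QuotientGroup.mk' N w = 1 from (QuotientGroup.eq_one_iff w).mpr hw, mul_one]

theorem card_fixPts_split (hM : Group.IsNilpotent M) (hcop : (Nat.card Γ).Coprime (Nat.card M))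
    {N : Subgroup M} [N.Normal] (y : opStab φ N) :
    Nat.card (fixPts (φ (y : Γ))) = Nat.card (fixPts (quotAct φ N y)) * Nat.card ↥(N ⊓ fixPts (φ (y : Γ))) := by
  set C := fixPts (φ (y : Γ)) with hC
  set f : C →* M ⧸ N := (QuotientGroup.mk' N).comp C.subtype with hf
  have h1 : f.range = fixPts (quotAct φ N y) := by
    refine le_antisymm ?_ fun q hq => ?_
    · rintro _ ⟨c, rfl⟩
      rw [mem_fixPts]
      show quotAct φ N y (QuotientGroup.mk' N (c : M)) = QuotientGroup.mk' N (c : M)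
      rw [quotAct_mk, mem_fixPts.mp c.2]
    · obtain ⟨m, hm, rfl⟩ := exists_fixed_preimage hM hcop y q hq
      exact ⟨⟨m, hm⟩, rfl⟩
  have h2 : f.ker = (N ⊓ C).subgroupOf C := by
    ext c
    rw [MonoidHom.mem_ker, Subgroup.mem_subgroupOf, Subgroup.mem_inf]
    show QuotientGroup.mk' N (c : M) = 1 ↔ _
    rw [QuotientGroup.mk'_apply, QuotientGroup.eq_one_iff]
    exact ⟨fun h => ⟨h, c.2⟩, fun h => h.1⟩
  have h3 := Subgroup.card_mul_index f.ker
  rw [Subgroup.index_ker, h1, h2, Nat.card_congr (Subgroup.subgroupOfEquivOfLe inf_le_right).toEquiv] at h3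
  rw [← h3, mul_comm]

end Split

section Core

variable {M : Type u} [CommGroup M] [Finite M] {Γ : Type v} [Group Γ] [Finite Γ]

/-- The irreducible case. -/
theorem frobOps_irreducible [Nontrivial M] {φ : Γ →* MulAut M} {K : Subgroup Γ} {x : Γ} {n : ℕ}
    (h : FrobOps φ K x n) (hn : 1 < n) (hcop : (Nat.card Γ).Coprime (Nat.card M))
    (hirr : ∀ N : Subgroup M, (∀ k ∈ K, ∀ m ∈ N, φ k m ∈ N) → (∀ m ∈ N, φ x m ∈ N) → N ≠ ⊥ → N = ⊤)
    (ih : ∀ U : Subgroup M, U ≠ ⊤ → ∀ (y : Γ) (n' : ℕ), (∀ k ∈ K, ∀ m ∈ U, φ k m ∈ U) →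
      (∀ m ∈ U, φ y m ∈ U) → FrobOps φ K y n' → Nat.card U = Nat.card ↥(U ⊓ fixPts (φ y)) ^ n') :
    Nat.card M = Nat.card (fixPts (φ x)) ^ n ∧
      (n.Prime → IsCyclic (fixPts (φ x)) → ∀ k ∈ K, ∀ l ∈ K, Commute (φ k) (φ l)) := by
  classical
  set KI := K.map φ with hKI
  set σ := φ x with hσ
  have hσn : σ ^ n = 1 := by rw [hσ, ← map_pow, h.pow, map_one]
  have hfpf : ∀ j : ℕ, ¬ n ∣ j → ∀ f ∈ KI, σ ^ j * f * (σ ^ j)⁻¹ = f → f = 1 := by
    rintro j hj _ ⟨k, hk, rfl⟩ hf
    exact h.fpf j hj k hk (by rw [map_mul, map_mul, map_inv, map_pow]; exact hf)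
  have hσK : ∀ (j : ℕ), ∀ f ∈ KI, σ ^ j * f * (σ ^ j)⁻¹ ∈ KI := by
    rintro j _ ⟨k, hk, rfl⟩
    exact ⟨x ^ j * k * (x ^ j)⁻¹, (Subgroup.mem_normalizer_iff.mp (pow_mem h.norm j) k).mp hk,
      by rw [map_mul, map_mul, map_inv, map_pow]⟩
  -- the image of `K` is nilpotent
  haveI hKIn : Group.IsNilpotent KI := by
    obtain ⟨r, hr, hrn⟩ := Nat.exists_prime_and_dvd hn.ne'
    set j := n / r with hj
    have hjr : j * r = n := Nat.div_mul_cancel hrn
    have hnj : ¬ n ∣ j := fun hd => by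
      have := Nat.le_of_dvd (Nat.div_pos (Nat.le_of_dvd (by omega) hrn) hr.pos) hd
      have := Nat.div_lt_self (by omega : 0 < n) hr.one_lt
      omega
    let c : MulAut KI := KI.normalizerMonoidHom ⟨σ ^ j, by
      rw [Subgroup.mem_normalizer_iff_map_conj_eq]
      exact Subgroup.eq_of_le_of_card_ge (by rintro _ ⟨f, hf, rfl⟩; exact hσK j f hf)
        (Subgroup.card_map_of_injective (MulAut.conj _).injective).ge⟩
    refine Solvable.FixedPointFree.isNilpotent_of_fixedPointFree hr c ?_ ?_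
    · show (KI.normalizerMonoidHom _) ^ r = 1
      rw [← map_pow, ← map_one KI.normalizerMonoidHom]
      congr 1
      refine Subtype.ext ?_
      rw [SubgroupClass.coe_pow, ← pow_mul, hjr, hσn]
      rfl
    · intro f hf
      exact Subtype.ext (hfpf j hnj f f.2 (congrArg Subtype.val hf))
  haveI : Nontrivial KI := by
    rw [Subgroup.nontrivial_iff_ne_bot]
    intro h0
    obtain ⟨m, hm⟩ := exists_ne (1 : M)
    refine hm (h.cent m fun k hk => ?_)
    have h1 : φ k ∈ KI := ⟨k, hk, rfl⟩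
    rw [h0, Subgroup.mem_bot] at h1
    rw [h1]; rfl
  obtain ⟨q, hq, hqd⟩ := Nat.exists_prime_and_dvd
    ((Subgroup.one_lt_card_iff_ne_bot (H := Subgroup.center KI)).mpr (Group.IsNilpotent.center_ne_bot KI)).ne'
  haveI := Fact.mk hq
  have hqM : q.Coprime (Nat.card M) := hcop.coprime_dvd_left
    (((hqd.trans (Subgroup.card_subgroup_dvd_card _)).trans (Subgroup.card_map_dvd K φ)).trans
      (Subgroup.card_subgroup_dvd_card K))
  -- a central elementary subgroup
  let A : Subgroup (MulAut M) :=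
    { carrier := {f | f ∈ KI ∧ (∀ g ∈ KI, Commute g f) ∧ f ^ q = 1}
      one_mem' := ⟨one_mem _, fun g _ => Commute.one_right g, one_pow q⟩
      mul_mem' := fun {a b} ha hb => ⟨mul_mem ha.1 hb.1, fun g hg => (ha.2.1 g hg).mul_right (hb.2.1 g hg),
        by rw [(hb.2.1 a ha.1).mul_pow, ha.2.2, hb.2.2, one_mul]⟩
      inv_mem' := fun {a} ha => ⟨inv_mem ha.1, fun g hg => (ha.2.1 g hg).inv_right,
        by rw [inv_pow, ha.2.2, inv_one]⟩ }
  obtain ⟨a₀, ha₀⟩ := exists_prime_orderOf_dvd_card' (G := Subgroup.center KI) q hqd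
  have hA0 : ((a₀ : KI) : MulAut M) ∈ A ∧ ((a₀ : KI) : MulAut M) ≠ 1 := by
    refine ⟨⟨(a₀ : KI).2, fun g hg => congrArg Subtype.val (Subgroup.mem_center_iff.mp a₀.2 ⟨g, hg⟩),
      ?_⟩, fun h1 => ?_⟩
    · rw [← ha₀, ← Subgroup.orderOf_coe, ← Subgroup.orderOf_coe, pow_orderOf_eq_one]
    · rw [← Subgroup.orderOf_coe, ← Subgroup.orderOf_coe, h1, orderOf_one] at ha₀
      exact hq.ne_one ha₀.symm
  have hAK : ∀ f ∈ A, ∀ g ∈ KI, ∀ m, f (g m) = g (f m) := fun f hf g hg m => by
    rw [← MulAut.mul_apply, ← MulAut.mul_apply, (hf.2.1 g hg).eq]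
  have hAσ : ∀ (j : ℕ), ∀ f ∈ A, σ ^ j * f * (σ ^ j)⁻¹ ∈ A := by
    intro j f hf
    refine ⟨hσK j f hf.1, fun g hg => ?_, by rw [conj_pow, hf.2.2, mul_one, mul_inv_cancel]⟩
    have hgj : (σ ^ j)⁻¹ * g * σ ^ j ∈ KI := by
      have hinv : (σ ^ j)⁻¹ = σ ^ ((n - 1) * j) := by
        rw [inv_eq_iff_mul_eq_one, ← pow_add, show j + (n - 1) * j = n * j by
          obtain ⟨e, rfl⟩ : ∃ e, n = e + 1 := ⟨n - 1, by omega⟩
          simp only [Nat.add_sub_cancel]; ring, pow_mul, hσn, one_pow]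
      have := hσK ((n - 1) * j) g hg
      rwa [← hinv, inv_inv] at this
    have h1 := (hf.2.1 _ hgj).eq
    show g * (σ ^ j * f * (σ ^ j)⁻¹) = σ ^ j * f * (σ ^ j)⁻¹ * g
    calc g * (σ ^ j * f * (σ ^ j)⁻¹) = σ ^ j * (((σ ^ j)⁻¹ * g * σ ^ j) * f) * (σ ^ j)⁻¹ := by group
      _ = σ ^ j * (f * ((σ ^ j)⁻¹ * g * σ ^ j)) * (σ ^ j)⁻¹ := by rw [h1]
      _ = σ ^ j * f * (σ ^ j)⁻¹ * g := by group
  let U : Subgroup (MulAut M) → Subgroup M := fun B => ⨅ f ∈ B, fixPts f
  have hU : ∀ {B : Subgroup (MulAut M)} {m : M}, m ∈ U B ↔ ∀ f ∈ B, f m = m := by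
    intro B m
    simp only [U, Subgroup.mem_iInf, mem_fixPts]
  have hUK : ∀ B ≤ A, ∀ g ∈ KI, ∀ m ∈ U B, g m ∈ U B := fun B hB g hg m hm =>
    hU.mpr fun f hf => by rw [hAK f (hB hf) g hg m, hU.mp hm f hf]
  have hconjU : ∀ (B : Subgroup (MulAut M)) (j : ℕ) (m : M),
      (∀ f ∈ B, (σ ^ j)⁻¹ * f * σ ^ j ∈ B) → m ∈ U B → (σ ^ j) m ∈ U B := by
    intro B j m hB hm
    refine hU.mpr fun f hf => ?_
    have h1 := hU.mp hm _ (hB f hf)
    rw [MulAut.mul_apply, MulAut.mul_apply] at h1
    have := congrArg (σ ^ j) h1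
    rwa [← MulAut.mul_apply, mul_inv_cancel, MulAut.one_apply] at this
  -- `A` fixes nothing
  have hUA : U A = ⊥ := by
    by_contra h0
    have htop := hirr (U A) (fun k hk m hm => hUK A le_rfl _ ⟨k, hk, rfl⟩ m hm) (fun m hm => by
      have h1 := hconjU A 1 m (fun f hf => by
        have h2 := hAσ (n - 1) f hf
        have hinv : (σ ^ 1)⁻¹ = σ ^ (n - 1) := by
          rw [inv_eq_iff_mul_eq_one, ← pow_add, show 1 + (n - 1) = n by omega, hσn]
        rw [← hinv, inv_inv] at h2
        exact h2) hm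
      rwa [pow_one] at h1) h0
    exact hA0.2 (MulEquiv.ext fun m => hU.mp (htop ▸ Subgroup.mem_top m) _ hA0.1)
  have hU1 : ∀ {m : M}, (∀ f ∈ A, f m = m) → m = 1 := fun hm =>
    Subgroup.mem_bot.mp (hUA ▸ hU.mpr hm)
  -- a maximal subgroup with fixed points
  obtain ⟨B, ⟨hBA, hBU⟩, hBmax⟩ := Set.Finite.exists_maximal
    (s := {B : Subgroup (MulAut M) | B ≤ A ∧ U B ≠ ⊥}) (Set.toFinite _) ⟨⊥, bot_le, fun h0 => by
      obtain ⟨m, hm⟩ := exists_ne (1 : M)
      refine hm (Subgroup.mem_bot.mp (h0 ▸ hU.mpr fun f hf => ?_))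
      rw [Subgroup.mem_bot.mp hf]; rfl⟩
  have hAc : ∀ f ∈ A, ∀ g ∈ A, Commute f g := fun f hf g hg => hg.2.1 f hf.1
  have hfix1 : ∀ f ∈ A, f ∉ B → ∀ m ∈ U B, f m = m → m = 1 := by
    intro f hfA hfB m hm hfm
    have hsup : U (B ⊔ Subgroup.zpowers f) = ⊥ := by
      by_contra h0
      exact hfB (hBmax ⟨sup_le hBA (Subgroup.zpowers_le.mpr hfA), h0⟩ le_sup_left
        (Subgroup.mem_sup_right (Subgroup.mem_zpowers f)))
    refine Subgroup.mem_bot.mp (hsup ▸ hU.mpr fun g hg => ?_)
    have hle : B ⊔ Subgroup.zpowers f ≤ MulAction.stabilizer (MulAut M) m :=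
      sup_le (fun g hg => hU.mp hm g hg) (Subgroup.zpowers_le.mpr hfm)
    exact hle hg
  have hUB : ∀ f ∈ A, ∀ m ∈ U B, f m ∈ U B := fun f hf m hm => hUK B hBA f hf.1 m hm
  obtain ⟨u₀, hu₀, hu₀1⟩ : ∃ u ∈ U B, u ≠ 1 := by
    by_contra! h0
    exact hBU (eq_bot_iff.mpr fun m hm => Subgroup.mem_bot.mpr (h0 m hm))
  obtain ⟨a, haA, haB⟩ : ∃ a ∈ A, a ∉ B := by
    by_contra! h0
    exact hu₀1 (hU1 fun f hf => hU.mp hu₀ f (h0 f hf))
  -- the quotient `A / B` is cyclic
  have hcyc : A ≤ B ⊔ Subgroup.zpowers a := by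
    intro b hbA
    by_contra hb
    have hbB : b ∉ B := fun h' => hb (Subgroup.mem_sup_left h')
    have hab : ∀ i : ℕ, a * b ^ i ∉ B := by
      intro i hi
      by_cases hqi : q ∣ i
      · obtain ⟨e, rfl⟩ := hqi
        rw [pow_mul, hbA.2.2, one_pow, mul_one] at hi
        exact haB hi
      · obtain ⟨e, he⟩ := pow_mem_of_not_dvd hq hbA.2.2 hqi
        refine hb (?_ : b ∈ B ⊔ Subgroup.zpowers a)
        rw [← he]
        refine pow_mem ?_ e
        have := mul_mem (Subgroup.mem_sup_right (inv_mem (Subgroup.mem_zpowers a)) : a⁻¹ ∈ B ⊔ Subgroup.zpowers a)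
          (Subgroup.mem_sup_left hi)
        rwa [inv_mul_cancel_left] at this
    have hnorm : ∀ f ∈ A, f ∉ B → ∏ t ∈ Finset.range q, (f ^ t) u₀ = 1 := by
      intro f hf hfB
      refine hfix1 f hf hfB _ ((U B).prod_mem fun t _ => hUB _ (pow_mem hf t) u₀ hu₀) ?_
      rw [map_prod]
      have h1 := Finset.prod_range_succ (fun t => (f ^ t) u₀) q
      rw [Finset.prod_range_succ', hf.2.2, pow_zero] at h1
      simp only [← MulAut.mul_apply, ← pow_succ']
      exact mul_right_cancel h1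
    have h1 : ∏ i ∈ Finset.range q, ∏ t ∈ Finset.range q, ((a * b ^ i) ^ t) u₀ = 1 :=
      Finset.prod_eq_one fun i _ => hnorm _ (mul_mem haA (pow_mem hbA i)) (hab i)
    rw [Finset.prod_comm, Finset.prod_eq_single 0] at h1
    · simp only [pow_zero, MulAut.one_apply, Finset.prod_const, Finset.card_range] at h1
      exact hu₀1 (orderOf_eq_one_iff.mp (Nat.eq_one_of_dvd_coprimes hqM
        (orderOf_dvd_of_pow_eq_one h1) (orderOf_dvd_natCard u₀)))
    · intro t ht ht0
      have htq : ¬ q ∣ t := fun hd => by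
        have := Nat.le_of_dvd (Nat.pos_of_ne_zero ht0) hd
        have := Finset.mem_range.mp ht
        omega
      have hbt : b ^ t ∉ B := fun hbt => hbB (by
        obtain ⟨e, he⟩ := pow_mem_of_not_dvd hq hbA.2.2 htq
        exact he ▸ pow_mem hbt e)
      calc ∏ i ∈ Finset.range q, ((a * b ^ i) ^ t) u₀
          = (a ^ t) (∏ i ∈ Finset.range q, ((b ^ t) ^ i) u₀) := by
            rw [map_prod]
            refine Finset.prod_congr rfl fun i _ => ?_
            rw [← MulAut.mul_apply, ((hAc a haA b hbA).pow_right i).mul_pow, ← pow_mul, ← pow_mul,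
              mul_comm i t]
        _ = 1 := by rw [hnorm _ (pow_mem hbA t) hbt, map_one]
    · intro h0
      exact absurd (Finset.mem_range.mpr hq.pos) h0
  have hmax : ∀ B' : Subgroup (MulAut M), B ≤ B' → B' ≤ A → ¬ B' ≤ B → A ≤ B' := by
    intro B' hBB' hB'A hne
    obtain ⟨w, hw, hwB⟩ := SetLike.not_le_iff_exists.mp hne
    obtain ⟨b, hb, e, he, hbe⟩ := Coprime.exists_mul_of_mem_sup (N := B) (H := Subgroup.zpowers a)
      (Subgroup.zpowers_le.mpr (Subgroup.mem_normalizer_iff.mpr fun z => by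
        constructor
        · intro hz; rw [(hAc a haA z (hBA hz)).eq, mul_inv_cancel_right]; exact hz
        · intro hz
          have h2 : z = a⁻¹ * (a * z * a⁻¹) * a := by group
          rw [h2, (hAc _ (inv_mem haA) _ (hBA hz)).eq, inv_mul_cancel_right]; exact hz))
      (hcyc (hB'A hw))
    obtain ⟨i, rfl⟩ := (isOfFinOrder_of_finite a).mem_powers_iff_mem_zpowers.mpr he
    by_cases hqi : q ∣ i
    · obtain ⟨e', rfl⟩ := hqi
      refine absurd (?_ : w ∈ B) hwB
      rw [hbe]
      show b * a ^ (q * e') ∈ B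
      rw [pow_mul, haA.2.2, one_pow, mul_one]
      exact hb
    · obtain ⟨e', he'⟩ := pow_mem_of_not_dvd hq haA.2.2 hqi
      have h2 : a ^ i ∈ B' := by
        have := mul_mem (hBB' (inv_mem hb)) hw
        rwa [hbe, inv_mul_cancel_left] at this
      exact hcyc.trans (sup_le hBB' (Subgroup.zpowers_le.mpr (he' ▸ pow_mem h2 e')))
  -- the period of `B`
  set W := Subgroup.normalizer (B : Set (MulAut M)) with hW
  have hex : ∃ i, 0 < i ∧ σ ^ i ∈ W := ⟨n, h.pos, by rw [hσn]; exact one_mem _⟩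
  set d := Nat.find hex with hd
  obtain ⟨hd0, hdW⟩ : 0 < d ∧ σ ^ d ∈ W := Nat.find_spec hex
  have hdmin : ∀ i < d, 0 < i → σ ^ i ∉ W := fun i hi hi0 hiW => Nat.find_min hex hi ⟨hi0, hiW⟩
  have hddvd : d ∣ n := by
    refine Nat.dvd_of_mod_eq_zero (by_contra fun hne => ?_)
    refine hdmin (n % d) (Nat.mod_lt _ hd0) (Nat.pos_of_ne_zero hne) ?_
    have h1 : σ ^ (n % d) = ((σ ^ d) ^ (n / d))⁻¹ := by
      rw [eq_inv_iff_mul_eq_one, ← pow_mul, ← pow_add, Nat.mod_add_div, hσn]
    rw [h1]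
    exact inv_mem (pow_mem hdW _)
  set V := U B with hV
  have hVd : ∀ m ∈ V, (σ ^ d) m ∈ V := fun m hm => hconjU B d m
    (fun f hf => by
      simpa using (Subgroup.mem_normalizer_iff.mp (inv_mem hdW) f).mp hf) hm
  let PP : (Fin d → V) →* M :=
    { toFun := fun w => ∏ j : Fin d, (σ ^ (j : ℕ)) (w j)
      map_one' := Finset.prod_eq_one fun j _ => by simp
      map_mul' := fun w w' => by
        rw [← Finset.prod_mul_distrib]
        exact Finset.prod_congr rfl fun j _ => by simp }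
  have hPP : ∀ w, PP w = ∏ j : Fin d, (σ ^ (j : ℕ)) (w j) := fun w => rfl
  have hgen : ∀ (j : ℕ), ∀ m ∈ V, (σ ^ j) m ∈ PP.range := by
    intro j m hm
    have hdj : ∀ i, ((σ ^ d) ^ i) m ∈ V := by
      intro i
      induction i with
      | zero => simpa using hm
      | succ i ihi => rw [pow_succ', MulAut.mul_apply]; exact hVd _ ihi
    refine ⟨Pi.mulSingle ⟨j % d, Nat.mod_lt j hd0⟩ ⟨_, hdj (j / d)⟩, ?_⟩
    rw [hPP, Finset.prod_eq_single ⟨j % d, Nat.mod_lt j hd0⟩ (fun i _ hi => by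
      rw [Pi.mulSingle_eq_of_ne hi]; simp) (by simp), Pi.mulSingle_eq_same]
    show (σ ^ (j % d)) (((σ ^ d) ^ (j / d)) m) = _
    rw [← MulAut.mul_apply, ← pow_mul, ← pow_add, Nat.mod_add_div]
  have hrange : PP.range = ⊤ := by
    refine hirr _ (fun k hk => ?_) ?_ ?_
    · rintro _ ⟨w, rfl⟩
      rw [hPP, map_prod]
      refine Subgroup.prod_mem _ fun j _ => ?_
      have hj : (σ ^ (j : ℕ))⁻¹ * φ k * σ ^ (j : ℕ) ∈ KI :=
        ⟨(x ^ (j : ℕ))⁻¹ * k * x ^ (j : ℕ), by
          simpa using (Subgroup.mem_normalizer_iff.mp (inv_mem (pow_mem h.norm (j : ℕ))) k).mp hk,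
          by rw [map_mul, map_mul, map_inv, map_pow]⟩
      have h1 := hgen (j : ℕ) _ (hUK B hBA _ hj (w j) (w j).2)
      rw [← MulAut.mul_apply, show σ ^ (j : ℕ) * ((σ ^ (j : ℕ))⁻¹ * φ k * σ ^ (j : ℕ)) =
        φ k * σ ^ (j : ℕ) by group, MulAut.mul_apply] at h1
      exact h1
    · rintro _ ⟨w, rfl⟩
      rw [hPP, map_prod]
      refine Subgroup.prod_mem _ fun j _ => ?_
      rw [← MulAut.mul_apply, ← pow_succ']
      exact hgen _ _ (w j).2
    · intro h0
      have h1 := hgen 0 u₀ hu₀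
      rw [h0, Subgroup.mem_bot, pow_zero, MulAut.one_apply] at h1
      exact hu₀1 h1
  by_cases hd1 : d = 1
  · -- `B` is trivial and `A` is cyclic
    have hVtop : ∀ m : M, m ∈ V := by
      intro m
      obtain ⟨w, rfl⟩ : m ∈ PP.range := hrange ▸ Subgroup.mem_top m
      rw [hPP]
      refine Subgroup.prod_mem _ fun j _ => ?_
      have : (j : ℕ) = 0 := by have := j.2; omega
      rw [this, pow_zero, MulAut.one_apply]
      exact (w j).2
    have hB1 : B = ⊥ := eq_bot_iff.mpr fun f hf =>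
      Subgroup.mem_bot.mpr (MulEquiv.ext fun m => hU.mp (hVtop m) f hf)
    have hAa : A ≤ Subgroup.zpowers a := by
      intro f hf
      simpa [hB1] using hcyc hf
    have hconj : ∀ j : Fin n, ∃ m : ℕ, a ^ m = σ ^ (j : ℕ) * a * (σ ^ (j : ℕ))⁻¹ := fun j =>
      Submonoid.mem_powers_iff _ _ |>.mp
        ((isOfFinOrder_of_finite a).mem_powers_iff_mem_zpowers.mpr (hAa (hAσ _ a haA)))
    choose mm hmm using hconj
    have ha1 : ∀ m : M, a m = m → m = 1 := fun m hm => hU1 fun f hf => by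
      have hle : Subgroup.zpowers a ≤ MulAction.stabilizer (MulAut M) m := Subgroup.zpowers_le.mpr hm
      exact hle (hAa hf)
    have hane : a ≠ 1 := fun h1 => haB (h1 ▸ one_mem B)
    have hao : orderOf a = q := orderOf_eq_prime haA.2.2 hane
    have hsep : ∀ i j : Fin n, i ≠ j → ∀ w, (a ^ mm i) w = (a ^ mm j) w → w = 1 := by
      intro i j hij w hw
      wlog hji : (j : ℕ) < i generalizing i j with H
      · exact H j i (Ne.symm hij) hw.symm (lt_of_le_of_ne (not_lt.mp hji) fun e => hij (Fin.ext e))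
      have hne : ¬ (q : ℤ) ∣ (mm i : ℤ) - mm j := by
        intro hdvd
        rw [← hao, orderOf_dvd_iff_zpow_eq_one, zpow_sub, mul_inv_eq_one, zpow_natCast, zpow_natCast,
          hmm, hmm] at hdvd
        refine hane (hfpf ((i : ℕ) - j) (fun hd' => ?_) a haA.1 ?_)
        · have := Nat.le_of_dvd (by omega) hd'
          have := i.2
          omega
        · have hs : σ ^ (i : ℕ) = σ ^ (j : ℕ) * σ ^ ((i : ℕ) - j) := by
            rw [← pow_add]; congr 1; omega
          rw [hs] at hdvd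
          have := congrArg (fun t => (σ ^ (j : ℕ))⁻¹ * t * σ ^ (j : ℕ)) hdvd
          simpa [mul_assoc] using this
      obtain ⟨s, t, hst⟩ : IsCoprime ((mm i : ℤ) - mm j) (q : ℤ) :=
        ((Nat.prime_iff_prime_int.mp hq).coprime_iff_not_dvd.mpr hne).symm
      set z : M := (a ^ mm j) w with hz
      have h2 : (a ^ ((mm i : ℤ) - mm j)) z = z := by
        rw [hz, zpow_sub, zpow_natCast, zpow_natCast, ← MulAut.mul_apply, inv_mul_cancel_right, hw]
      have hz1 : z = 1 := by
        refine ha1 z ?_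
        have hle : Subgroup.zpowers (a ^ ((mm i : ℤ) - mm j)) ≤ MulAction.stabilizer (MulAut M) z :=
          Subgroup.zpowers_le.mpr h2
        have hamem : a ∈ Subgroup.zpowers (a ^ ((mm i : ℤ) - mm j)) := ⟨s, by
          show (a ^ ((mm i : ℤ) - mm j)) ^ s = a
          rw [← zpow_mul, show ((mm i : ℤ) - mm j) * s = 1 + (q : ℤ) * (-t) by linear_combination hst,
            zpow_add, zpow_one, zpow_mul, zpow_natCast, haA.2.2, one_zpow, mul_one]⟩
        exact hle hamem
      rw [hz] at hz1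
      exact (a ^ mm j).injective (hz1.trans (map_one _).symm)
    obtain ⟨hvan, hvan'⟩ := vandermonde_action a mm hsep
    have hexch : ∀ (j : Fin n) (i : ℕ), σ ^ (j : ℕ) * a ^ i = a ^ (mm j * i) * σ ^ (j : ℕ) := by
      intro j i
      rw [pow_mul, hmm, conj_pow, inv_mul_cancel_right]
    have hpowfix : ∀ (j : ℕ), ∀ c ∈ fixPts σ, (σ ^ j) c = c := by
      intro j c hc
      induction j with
      | zero => simp
      | succ j ihj => rw [pow_succ, MulAut.mul_apply, mem_fixPts.mp hc, ihj]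
    let Θ : (Fin n → fixPts σ) →* M :=
      { toFun := fun c => ∏ i : Fin n, (a ^ (i : ℕ)) (c i)
        map_one' := Finset.prod_eq_one fun i _ => by simp
        map_mul' := fun c c' => by
          rw [← Finset.prod_mul_distrib]
          exact Finset.prod_congr rfl fun i _ => by simp }
    have hΘ : ∀ c, Θ c = ∏ i : Fin n, (a ^ (i : ℕ)) (c i) := fun c => rfl
    have hΘi : Function.Injective Θ := by
      rw [injective_iff_map_eq_one]
      intro c hc
      rw [hΘ] at hc
      have h1 := hvan (fun i => (c i : M)) fun j => by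
        have h2 := congrArg (σ ^ (j : ℕ)) hc
        rw [map_prod, map_one] at h2
        rw [← h2]
        refine Finset.prod_congr rfl fun i _ => ?_
        rw [← MulAut.mul_apply _ (σ ^ (j : ℕ)), hexch, MulAut.mul_apply, hpowfix _ _ (c i).2]
      funext i
      exact Subtype.ext (congrFun h1 i)
    have hshift : ∀ v : M, σ (∏ j : Fin n, (σ ^ (j : ℕ)) v) = ∏ j : Fin n, (σ ^ (j : ℕ)) v := by
      intro v
      rw [Fin.prod_univ_eq_prod_range (fun j => (σ ^ j) v), map_prod]
      have h1 := Finset.prod_range_succ (fun t => (σ ^ t) v) n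
      rw [Finset.prod_range_succ', hσn, pow_zero] at h1
      simp only [← MulAut.mul_apply, ← pow_succ']
      exact mul_right_cancel h1
    let Θ' : M →* (Fin n → fixPts σ) :=
      { toFun := fun v i => ⟨∏ j : Fin n, (σ ^ (j : ℕ)) ((a ^ (i : ℕ)) v), hshift _⟩
        map_one' := funext fun i => Subtype.ext (by simp)
        map_mul' := fun v w => funext fun i => Subtype.ext (by
          simp only [map_mul, Finset.prod_mul_distrib]
          rfl) }
    have hΘ'i : Function.Injective Θ' := by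
      rw [injective_iff_map_eq_one]
      intro v hv
      have h1 := hvan' (fun j => (σ ^ (j : ℕ)) v) fun i => by
        have h2 : (∏ j : Fin n, (σ ^ (j : ℕ)) ((a ^ (i : ℕ)) v)) = 1 :=
          congrArg (fun f : Fin n → fixPts σ => ((f i : fixPts σ) : M)) hv
        rw [← h2]
        refine Finset.prod_congr rfl fun j _ => ?_
        rw [← MulAut.mul_apply _ (σ ^ (j : ℕ)), hexch, MulAut.mul_apply]
      have h3 := congrFun h1 ⟨0, h.pos⟩
      simpa using h3
    have hcard : Nat.card M = Nat.card (Fin n → fixPts σ) :=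
      le_antisymm (Nat.card_le_card_of_injective _ hΘ'i) (Nat.card_le_card_of_injective _ hΘi)
    refine ⟨by rw [hcard, Nat.card_fun, Nat.card_fin], fun _ hC k hk l hl => ?_⟩
    obtain ⟨g, hg⟩ := hC.exists_generator
    have hsurj : Function.Surjective Θ :=
      ((Nat.bijective_iff_injective_and_card Θ).mpr ⟨hΘi, hcard.symm⟩).2
    have hexp : ∀ v : M, ∃ e : Fin n → ℤ, v = ∏ i : Fin n, (a ^ (i : ℕ)) ((g : M) ^ e i) := by
      intro v
      obtain ⟨c, rfl⟩ := hsurj v
      have := fun i => Subgroup.mem_zpowers_iff.mp (hg (c i))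
      choose e he using this
      refine ⟨e, ?_⟩
      rw [hΘ]
      refine Finset.prod_congr rfl fun i _ => ?_
      rw [← SubgroupClass.coe_zpow, he]
    set kf := φ k with hkf
    set lf := φ l with hlf
    have hka : ∀ (i : ℕ) (m : M), kf ((a ^ i) m) = (a ^ i) (kf m) := fun i m =>
      (hAK _ (pow_mem haA i) kf ⟨k, hk, rfl⟩ m).symm
    have hla : ∀ (i : ℕ) (m : M), lf ((a ^ i) m) = (a ^ i) (lf m) := fun i m =>
      (hAK _ (pow_mem haA i) lf ⟨l, hl, rfl⟩ m).symm
    obtain ⟨e, he⟩ := hexp (kf g)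
    obtain ⟨e', he'⟩ := hexp (lf g)
    have hkl : kf (lf g) = lf (kf g) := by
      rw [he', he, map_prod, map_prod]
      simp only [hka, hla, map_zpow, he, he', ← Finset.prod_zpow, map_prod]
      rw [Finset.prod_comm]
      refine Finset.prod_congr rfl fun i _ => Finset.prod_congr rfl fun j _ => ?_
      rw [← zpow_mul, ← zpow_mul, ← MulAut.mul_apply,
        ← MulAut.mul_apply, ← pow_add, ← pow_add, add_comm, mul_comm]
    refine MulEquiv.ext fun v => ?_
    obtain ⟨ev, rfl⟩ := hexp v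
    show kf (lf _) = lf (kf _)
    rw [map_prod lf, map_prod kf, map_prod kf, map_prod lf]
    refine Finset.prod_congr rfl fun i _ => ?_
    simp only [hka, hla, map_zpow, hkl]
  · -- the translates of `V` are independent
    have hd2 : 1 < d := by omega
    have hBne : B ≠ ⊥ := fun h0 => hdmin 1 hd2 one_pos (by
      rw [hW, h0, Subgroup.normalizer_eq_top]
      trivial)
    haveI := Fintype.ofFinite B
    let NB : M →* M :=
      { toFun := fun m => ∏ f : B, (f : MulAut M) m
        map_one' := Finset.prod_eq_one fun f _ => by simp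
        map_mul' := fun m m' => by
          rw [← Finset.prod_mul_distrib]
          exact Finset.prod_congr rfl fun f _ => by simp }
    have hNBV : ∀ m, NB m ∈ V := fun m => hU.mpr fun f hf => by
      show f (∏ g : B, (g : MulAut M) m) = ∏ g : B, (g : MulAut M) m
      rw [map_prod]
      exact Fintype.prod_equiv (Equiv.mulLeft (⟨f, hf⟩ : B)) _ _ fun g => rfl
    have hNBσ : ∀ e : ℕ, σ ^ e ∉ W → ∀ v ∈ V, NB ((σ ^ e) v) = 1 := by
      intro e he v hv
      set B' := B.map (MulAut.conj (σ ^ e)).toMonoidHom with hB'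
      have hB'A : B' ≤ A := by
        rintro _ ⟨f, hf, rfl⟩
        exact hAσ e f (hBA hf)
      have hnle : ¬ B' ≤ B := fun hle => he (by
        rw [hW, Subgroup.mem_normalizer_iff_map_conj_eq]
        exact Subgroup.eq_of_le_of_card_ge hle (Subgroup.card_map_of_injective (MulAut.conj _).injective).ge)
      have hA' : A ≤ B ⊔ B' := hmax _ le_sup_left (sup_le hBA hB'A)
        fun hle => hnle (le_sup_right.trans hle)
      have hle : B ⊔ B' ≤ MulAction.stabilizer (MulAut M) (NB ((σ ^ e) v)) := by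
        refine sup_le (fun f hf => hU.mp (hNBV _) f hf) ?_
        rintro _ ⟨f, hf, rfl⟩
        show (σ ^ e * f * (σ ^ e)⁻¹) (∏ g : B, (g : MulAut M) ((σ ^ e) v)) = _
        rw [map_prod]
        refine Finset.prod_congr rfl fun g _ => ?_
        rw [← MulAut.mul_apply, (hAc _ (hAσ e f (hBA hf)) _ (hBA g.2)).eq, MulAut.mul_apply,
          ← MulAut.mul_apply _ (σ ^ e * f * (σ ^ e)⁻¹), inv_mul_cancel_right, MulAut.mul_apply,
          hU.mp hv f hf]
      exact hU1 fun f hf => hle (hA' hf)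
    have hNBsame : ∀ v ∈ V, NB v = v ^ Nat.card B := fun v hv => by
      show ∏ f : B, (f : MulAut M) v = _
      rw [Finset.prod_congr rfl fun (f : B) _ => hU.mp hv f f.2, Finset.prod_const, Finset.card_univ,
        Nat.card_eq_fintype_card]
    have hBM : (Nat.card B).Coprime (Nat.card M) := hcop.coprime_dvd_left
      (((Subgroup.card_dvd_of_le (hBA.trans fun f hf => hf.1)).trans (Subgroup.card_map_dvd K φ)).trans
        (Subgroup.card_subgroup_dvd_card K))
    have hpick : ∀ (w : Fin d → V), PP w = 1 → ∀ k : Fin d, (w k : M) = 1 := by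
      intro w hw k
      have hσinv : (σ ^ (k : ℕ))⁻¹ = σ ^ (n - k) := by
        rw [inv_eq_iff_mul_eq_one, ← pow_add, Nat.add_sub_cancel' ?_, hσn]
        exact le_of_lt (lt_of_lt_of_le k.2 (Nat.le_of_dvd h.pos hddvd))
      have h1 := congrArg (fun m => NB ((σ ^ (k : ℕ))⁻¹ m)) hw
      simp only [hPP, map_prod, map_one] at h1
      rw [Finset.prod_eq_single k] at h1
      · rw [← MulAut.mul_apply, inv_mul_cancel, MulAut.one_apply, hNBsame _ (w k).2] at h1
        exact orderOf_eq_one_iff.mp (Nat.eq_one_of_dvd_coprimes hBM (orderOf_dvd_of_pow_eq_one h1)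
          (orderOf_dvd_natCard _))
      · intro j _ hjk
        rw [← MulAut.mul_apply, hσinv, ← pow_add]
        refine hNBσ _ ?_ _ (w j).2
        intro hmem
        rw [pow_add, ← hσinv] at hmem
        apply hjk
        rcases lt_trichotomy (j : ℕ) k with hlt | heq | hlt
        · refine absurd ?_ (hdmin ((k : ℕ) - j) (by have := k.2; omega) (by omega))
          have hs : σ ^ (k : ℕ) = σ ^ (j : ℕ) * σ ^ ((k : ℕ) - j) := by
            rw [← pow_add]; congr 1; omega
          rw [hs, mul_inv_rev, inv_mul_cancel_right] at hmem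
          simpa using inv_mem hmem
        · exact Fin.ext heq
        · refine absurd ?_ (hdmin ((j : ℕ) - k) (by have := j.2; omega) (by omega))
          have hs : σ ^ (j : ℕ) = σ ^ (k : ℕ) * σ ^ ((j : ℕ) - k) := by
            rw [← pow_add]; congr 1; omega
          rwa [hs, inv_mul_cancel_left] at hmem
      · simp
    have hPPi : Function.Injective PP := by
      rw [injective_iff_map_eq_one]
      intro w hw
      funext k
      exact Subtype.ext (hpick w hw k)
    have hPPs : Function.Surjective PP := fun m => by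
      obtain ⟨w, hw⟩ : m ∈ PP.range := hrange ▸ Subgroup.mem_top m
      exact ⟨w, hw⟩
    have hcardM : Nat.card M = Nat.card V ^ d := by
      rw [← Nat.card_eq_of_bijective PP ⟨hPPi, hPPs⟩, Nat.card_fun, Nat.card_fin]
    have hVne : V ≠ ⊤ := fun h0 => hBne (eq_bot_iff.mpr fun f hf => Subgroup.mem_bot.mpr
      (MulEquiv.ext fun m => hU.mp (h0.ge (Subgroup.mem_top m)) f hf))
    have hcV := ih V hVne (x ^ d) (n / d) (fun k hk m hm => hUK B hBA _ ⟨k, hk, rfl⟩ m hm)
      (fun m hm => by rw [map_pow, ← hσ]; exact hVd m hm) (h.powers hddvd hd0)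
    rw [map_pow, ← hσ] at hcV
    set CV := V ⊓ fixPts (σ ^ d) with hCV
    -- both maps between the fixed points
    let S : CV →* fixPts σ :=
      { toFun := fun v => ⟨∏ j : Fin d, (σ ^ (j : ℕ)) (v : M), by
          rw [mem_fixPts, Fin.prod_univ_eq_prod_range (fun j => (σ ^ j) (v : M)), map_prod]
          have h1 := Finset.prod_range_succ (fun t => (σ ^ t) (v : M)) d
          rw [Finset.prod_range_succ', mem_fixPts.mp v.2.2, pow_zero] at h1
          simp only [← MulAut.mul_apply, ← pow_succ']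
          exact mul_right_cancel h1⟩
        map_one' := Subtype.ext (by simp)
        map_mul' := fun v w => Subtype.ext (by
          simp only [Subgroup.coe_mul, map_mul, Finset.prod_mul_distrib]) }
    have hSi : Function.Injective S := by
      rw [injective_iff_map_eq_one]
      intro v hv
      exact Subtype.ext (hpick (fun _ => ⟨v, v.2.1⟩) (congrArg Subtype.val hv) ⟨0, hd0⟩)
    let T : fixPts σ →* CV :=
      { toFun := fun c => ⟨NB c, hNBV _, by
          show (σ ^ d) (NB (c : M)) = NB (c : M)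
          have hc : (σ ^ d) (c : M) = c := by
            have hle : Subgroup.zpowers σ ≤ MulAction.stabilizer (MulAut M) (c : M) :=
              Subgroup.zpowers_le.mpr (mem_fixPts.mp c.2)
            exact hle ⟨(d : ℤ), by simp⟩
          show (σ ^ d) (∏ f : B, (f : MulAut M) c) = ∏ f : B, (f : MulAut M) c
          rw [map_prod]
          refine Fintype.prod_bijective (fun f : B => (⟨σ ^ d * f * (σ ^ d)⁻¹,
            (Subgroup.mem_normalizer_iff.mp hdW f).mp f.2⟩ : B)) ?_ _ _ fun f => ?_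
          · exact Finite.injective_iff_bijective.mp fun f g hfg =>
              Subtype.ext (mul_left_cancel (mul_right_cancel (congrArg Subtype.val hfg)))
          · rw [MulAut.mul_apply, MulAut.mul_apply]
            congr 2
            rw [eq_comm, ← (σ ^ d).injective.eq_iff, ← MulAut.mul_apply, mul_inv_cancel, MulAut.one_apply,
              hc]⟩
        map_one' := Subtype.ext (map_one NB)
        map_mul' := fun c c' => Subtype.ext (map_mul NB _ _) }
    have hTi : Function.Injective T := by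
      rw [injective_iff_map_eq_one]
      intro c hc
      obtain ⟨w, hw⟩ := hPPs (c : M)
      have hall : ∀ k : Fin d, (w k : M) = 1 := by
        intro k
        have hNc : NB (c : M) = 1 := congrArg Subtype.val hc
        have hσinv : (σ ^ (k : ℕ))⁻¹ = σ ^ (n - k) := by
          rw [inv_eq_iff_mul_eq_one, ← pow_add, Nat.add_sub_cancel' ?_, hσn]
          exact le_of_lt (lt_of_lt_of_le k.2 (Nat.le_of_dvd h.pos hddvd))
        have hck : (σ ^ (k : ℕ))⁻¹ (c : M) = c := by
          have hle : Subgroup.zpowers σ ≤ MulAction.stabilizer (MulAut M) (c : M) :=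
            Subgroup.zpowers_le.mpr (mem_fixPts.mp c.2)
          exact hle (inv_mem (pow_mem (Subgroup.mem_zpowers σ) _))
        rw [← hck, ← hw, hPP, map_prod, map_prod] at hNc
        rw [Finset.prod_eq_single k] at hNc
        · rw [← MulAut.mul_apply, inv_mul_cancel, MulAut.one_apply, hNBsame _ (w k).2] at hNc
          exact orderOf_eq_one_iff.mp (Nat.eq_one_of_dvd_coprimes hBM (orderOf_dvd_of_pow_eq_one hNc)
            (orderOf_dvd_natCard _))
        · intro j _ hjk
          rw [← MulAut.mul_apply, hσinv, ← pow_add]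
          refine hNBσ _ ?_ _ (w j).2
          intro hmem
          rw [pow_add, ← hσinv] at hmem
          apply hjk
          rcases lt_trichotomy (j : ℕ) k with hlt | heq | hlt
          · refine absurd ?_ (hdmin ((k : ℕ) - j) (by have := k.2; omega) (by omega))
            have hs : σ ^ (k : ℕ) = σ ^ (j : ℕ) * σ ^ ((k : ℕ) - j) := by
              rw [← pow_add]; congr 1; omega
            rw [hs, mul_inv_rev, inv_mul_cancel_right] at hmem
            simpa using inv_mem hmem
          · exact Fin.ext heq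
          · refine absurd ?_ (hdmin ((j : ℕ) - k) (by have := j.2; omega) (by omega))
            have hs : σ ^ (j : ℕ) = σ ^ (k : ℕ) * σ ^ ((j : ℕ) - k) := by
              rw [← pow_add]; congr 1; omega
            rwa [hs, inv_mul_cancel_left] at hmem
        · simp
      refine Subtype.ext ?_
      rw [← hw, hPP]
      exact Finset.prod_eq_one fun k _ => by rw [hall k, map_one]
    have hCC : Nat.card CV = Nat.card (fixPts σ) :=
      le_antisymm (Nat.card_le_card_of_injective _ hSi) (Nat.card_le_card_of_injective _ hTi)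
    refine ⟨by rw [hcardM, hcV, hCC, ← pow_mul, Nat.div_mul_cancel hddvd], fun hnp hC k hk l hl => ?_⟩
    have hdn : d = n := ((Nat.dvd_prime hnp).mp hddvd).resolve_left hd1
    haveI := hC
    have hVC : V ≤ CV := fun v hv => ⟨hv, by
      show (σ ^ d) v = v
      rw [hdn, hσn]; rfl⟩
    obtain ⟨g, hg⟩ := (isCyclic_of_injective (S.comp (Subgroup.inclusion hVC))
      (hSi.comp (Subgroup.inclusion_injective hVC))).exists_generator (α := V)
    refine MulEquiv.ext fun m => ?_
    obtain ⟨w, rfl⟩ := hPPs m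
    show φ k (φ l _) = φ l (φ k _)
    rw [hPP]
    simp only [map_prod]
    refine Finset.prod_congr rfl fun j _ => ?_
    set v := w j with hv
    have hconjK : ∀ f ∈ KI, (σ ^ (j : ℕ))⁻¹ * f * σ ^ (j : ℕ) ∈ KI := by
      rintro _ ⟨k', hk', rfl⟩
      exact ⟨(x ^ (j : ℕ))⁻¹ * k' * x ^ (j : ℕ), by
        simpa using (Subgroup.mem_normalizer_iff.mp (inv_mem (pow_mem h.norm (j : ℕ))) k').mp hk',
        by rw [map_mul, map_mul, map_inv, map_pow]⟩
    have hcomm : ∀ f₁ ∈ KI, ∀ f₂ ∈ KI, f₁ (f₂ (v : M)) = f₂ (f₁ (v : M)) := by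
      intro f₁ hf₁ f₂ hf₂
      obtain ⟨i, hi⟩ := Subgroup.mem_zpowers_iff.mp (hg v)
      obtain ⟨i₁, hi₁⟩ := Subgroup.mem_zpowers_iff.mp (hg ⟨f₁ g, hUK B hBA f₁ hf₁ g g.2⟩)
      obtain ⟨i₂, hi₂⟩ := Subgroup.mem_zpowers_iff.mp (hg ⟨f₂ g, hUK B hBA f₂ hf₂ g g.2⟩)
      have hi' : (v : M) = (g : M) ^ i := by rw [← SubgroupClass.coe_zpow, hi]
      have h₁ : f₁ (g : M) = (g : M) ^ i₁ := by rw [← SubgroupClass.coe_zpow, hi₁]
      have h₂ : f₂ (g : M) = (g : M) ^ i₂ := by rw [← SubgroupClass.coe_zpow, hi₂]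
      rw [hi', map_zpow, map_zpow, h₂, map_zpow, map_zpow, h₁, map_zpow, map_zpow, h₂]
      simp only [← zpow_mul]
      congr 1
      ring
    have hk1 := hconjK _ ⟨k, hk, rfl⟩
    have hl1 := hconjK _ ⟨l, hl, rfl⟩
    have := congrArg (σ ^ (j : ℕ)) (hcomm _ hk1 _ hl1)
    have e : ∀ (f : MulAut M) (m : M),
        (σ ^ (j : ℕ)) (((σ ^ (j : ℕ))⁻¹ * f * σ ^ (j : ℕ)) m) = f ((σ ^ (j : ℕ)) m) := fun f m => by
      rw [← MulAut.mul_apply, ← MulAut.mul_apply]
      congr 1
      group
    rwa [e, e, e, e] at this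

end Core

/-- The order formula, and commutativity when the fixed points are cyclic. -/
theorem frobOps_main : ∀ (N : ℕ) {M : Type u} [Group M] [Finite M] {Γ : Type v} [Group Γ] [Finite Γ]
    {φ : Γ →* MulAut M} {K : Subgroup Γ} {x : Γ} {n : ℕ}, Nat.card M ≤ N → Group.IsNilpotent M →
      (Nat.card Γ).Coprime (Nat.card M) → FrobOps φ K x n →
      Nat.card M = Nat.card (fixPts (φ x)) ^ n ∧
        (n.Prime → IsCyclic (fixPts (φ x)) → ∀ k ∈ K, ∀ l ∈ K, Commute (φ k) (φ l)) := by
  intro N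
  induction N with
  | zero => intro M _ _ _ _ _ _ _ _ _ hN; exact absurd hN (not_le.mpr Nat.card_pos)
  | succ N ih =>
    intro M _ _ Γ _ _ φ K x n hN hM hcop h
    by_cases hn1 : n = 1
    · refine ⟨?_, fun hp => absurd (hn1 ▸ hp) Nat.not_prime_one⟩
      have hx : x = 1 := by simpa [hn1] using h.pow
      have : fixPts (φ x) = ⊤ := eq_top_iff.mpr fun m _ => by rw [mem_fixPts, hx, map_one]; rfl
      rw [this, Subgroup.card_top, hn1, pow_one]
    have hn : 1 < n := by have := h.pos; omega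
    rcases subsingleton_or_nontrivial M with hs | hnt
    · refine ⟨?_, fun _ _ k _ l _ => MulEquiv.ext fun m => Subsingleton.elim _ _⟩
      haveI := hs
      rw [Nat.card_eq_one_iff_unique.mpr ⟨hs, ⟨1⟩⟩,
        Nat.card_eq_one_iff_unique.mpr ⟨inferInstance, ⟨1⟩⟩, one_pow]
    haveI := hM
    have hsub : ∀ U : Subgroup M, U ≠ ⊤ → ∀ (y : Γ) (n' : ℕ), (hK : ∀ k ∈ K, ∀ m ∈ U, φ k m ∈ U) →
        (hy : ∀ m ∈ U, φ y m ∈ U) → FrobOps φ K y n' →
        Nat.card U = Nat.card ↥(U ⊓ fixPts (φ y)) ^ n' ∧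
          (n'.Prime → IsCyclic ↥(U ⊓ fixPts (φ y)) → ∀ k ∈ K, ∀ l ∈ K, ∀ m ∈ U,
            φ k (φ l m) = φ l (φ k m)) := by
      intro U hU y n' hK hy h'
      have hlt : Nat.card U ≤ N := by
        have h1 : Nat.card U < Nat.card M := lt_of_le_of_ne (Subgroup.card_le_card_group U)
          fun h0 => hU (Subgroup.eq_top_of_card_eq U h0)
        omega
      obtain ⟨h1, h2⟩ := ih hlt inferInstance ((hcop.coprime_dvd_left
        (Subgroup.card_subgroup_dvd_card _)).coprime_dvd_right (Subgroup.card_subgroup_dvd_card U))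
        (h'.sub hK hy)
      rw [card_fixPts_subAct] at h1
      refine ⟨h1, fun hp hcyc k hk l hl m hm => ?_⟩
      haveI := hcyc
      have hc : IsCyclic (fixPts (subAct φ U ⟨y, mem_opStab φ U hy⟩)) :=
        isCyclic_of_injective
          ({ toFun := fun w => ⟨((w : U) : M), (w : U).2, congrArg Subtype.val w.2⟩
             map_one' := rfl
             map_mul' := fun _ _ => rfl } : fixPts (subAct φ U ⟨y, mem_opStab φ U hy⟩) →*
               ↥(U ⊓ fixPts (φ y)))
          (fun a b hab => Subtype.ext (Subtype.ext (congrArg Subtype.val hab : _)))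
      have h3 := h2 hp hc ⟨k, mem_opStab φ U (hK k hk)⟩ hk ⟨l, mem_opStab φ U (hK l hl)⟩ hl
      exact congrArg (fun f : MulAut U => ((f ⟨m, hm⟩ : U) : M)) h3.eq
    have hsplit : ∀ U : Subgroup M, U.Normal → U ≠ ⊥ → U ≠ ⊤ → (∀ k ∈ K, ∀ m ∈ U, φ k m ∈ U) →
        (∀ m ∈ U, φ x m ∈ U) → Nat.card M = Nat.card (fixPts (φ x)) ^ n ∧
          (n.Prime → IsCyclic (fixPts (φ x)) → ∀ k ∈ K, ∀ l ∈ K, Commute (φ k) (φ l)) := by
      intro U hUn hU1 hU2 hK hx
      haveI := hUn
      obtain ⟨h1, h1'⟩ := hsub U hU2 x n hK hx h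
      have hcardQ := Subgroup.card_eq_card_quotient_mul_card_subgroup U
      have hlt : Nat.card (M ⧸ U) ≤ N := by
        have h2 : 2 ≤ Nat.card U := (Subgroup.one_lt_card_iff_ne_bot (H := U)).mpr hU1
        have : 0 < Nat.card (M ⧸ U) := Nat.card_pos
        nlinarith
      obtain ⟨h2, h2'⟩ := ih hlt inferInstance ((hcop.coprime_dvd_left
        (Subgroup.card_subgroup_dvd_card _)).coprime_dvd_right (Subgroup.card_quotient_dvd_card U))
        (h.quot hM hcop hK hx)
      refine ⟨?_, fun hp hcyc k hk l hl => ?_⟩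
      · rw [hcardQ, h1, h2, ← mul_pow,
          ← card_fixPts_split hM hcop ⟨x, mem_opStab φ U hx⟩]
      · haveI := hcyc
        have hcyc1 : IsCyclic ↥(U ⊓ fixPts (φ x)) :=
          isCyclic_of_injective (Subgroup.inclusion inf_le_right) (Subgroup.inclusion_injective inf_le_right)
        have hcyc2 : IsCyclic (fixPts (quotAct φ U ⟨x, mem_opStab φ U hx⟩)) := by
          refine isCyclic_of_surjective
            (((QuotientGroup.mk' U).comp (fixPts (φ x)).subtype).codRestrict _ fun c => ?_) ?_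
          · rw [mem_fixPts]
            show quotAct φ U _ (QuotientGroup.mk' U (c : M)) = QuotientGroup.mk' U (c : M)
            rw [quotAct_mk, mem_fixPts.mp c.2]
          · rintro ⟨q, hq⟩
            obtain ⟨m, hm, rfl⟩ := exists_fixed_preimage hM hcop _ q hq
            exact ⟨⟨m, hm⟩, rfl⟩
        have hc := h2' hp hcyc2 ⟨k, mem_opStab φ U (hK k hk)⟩ hk ⟨l, mem_opStab φ U (hK l hl)⟩ hl
        set g := φ ⁅k, l⁆ with hg
        have hgU : ∀ m ∈ U, g m = m := by
          intro m hm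
          have hk' := hK k⁻¹ (inv_mem hk) _ (hK l⁻¹ (inv_mem hl) m hm)
          rw [hg, commutatorElement_def, map_mul, map_mul, map_mul, MulAut.mul_apply, MulAut.mul_apply,
            MulAut.mul_apply, h1' hp hcyc1 k hk l hl _ hk']
          simp only [← MulAut.mul_apply, ← map_mul, mul_inv_cancel_left, mul_inv_cancel, map_one]
          rfl
        have hgQ : ∀ m, g m * m⁻¹ ∈ U := by
          intro m
          rw [← QuotientGroup.eq_one_iff, ← QuotientGroup.mk'_apply, map_mul, map_inv, mul_inv_eq_one,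
            hg]
          have h3 : quotAct φ U ⁅(⟨k, mem_opStab φ U (hK k hk)⟩ : opStab φ U),
              ⟨l, mem_opStab φ U (hK l hl)⟩⁆ = 1 := by
            rw [map_commutatorElement, commutatorElement_eq_one_iff_commute]; exact hc
          have h4 := DFunLike.congr_fun h3 (QuotientGroup.mk' U m)
          rw [quotAct_mk] at h4
          exact h4
        rw [← commutatorElement_eq_one_iff_commute, ← map_commutatorElement, ← hg]
        refine MulEquiv.ext fun m => ?_
        set u := g m * m⁻¹ with hu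
        have hgu : g u = u := hgU u (hgQ m)
        have hiter : ∀ i : ℕ, (g ^ i) m = u ^ i * m := by
          intro i
          induction i with
          | zero => simp
          | succ i ihi =>
            rw [pow_succ', MulAut.mul_apply, ihi, map_mul, map_pow, hgu, pow_succ, hu]
            group
        have h5 := hiter (orderOf g)
        rw [pow_orderOf_eq_one, MulAut.one_apply] at h5
        have h6 : u = 1 := orderOf_eq_one_iff.mp (Nat.eq_one_of_dvd_coprimes hcop
          ((orderOf_dvd_of_pow_eq_one (mul_eq_right.mp h5.symm)).trans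
            (hg ▸ (orderOf_map_dvd φ _).trans (orderOf_dvd_natCard _)))
          (orderOf_dvd_natCard u))
        rw [hu, mul_inv_eq_one] at h6
        exact h6
    by_cases hred : ∃ U : Subgroup M, U.Normal ∧ U ≠ ⊥ ∧ U ≠ ⊤ ∧ (∀ k ∈ K, ∀ m ∈ U, φ k m ∈ U) ∧
        ∀ m ∈ U, φ x m ∈ U
    · obtain ⟨U, hUn, hU1, hU2, hK, hx⟩ := hred
      exact hsplit U hUn hU1 hU2 hK hx
    push Not at hred
    have hZ : Subgroup.center M = ⊤ := by
      by_contra hZ
      have hinv : ∀ g : Γ, ∀ m ∈ Subgroup.center M, φ g m ∈ Subgroup.center M := by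
        intro g m hm
        rw [Subgroup.mem_center_iff]
        intro w
        obtain ⟨w, rfl⟩ := (φ g).surjective w
        rw [← map_mul, ← map_mul, Subgroup.mem_center_iff.mp hm w]
      obtain ⟨m, hm, hm'⟩ := hred (Subgroup.center M) inferInstance (Group.IsNilpotent.center_ne_bot M) hZ
        (fun k _ => hinv k)
      exact hm' (hinv x m hm)
    letI : CommGroup M := { (inferInstance : Group M) with
      mul_comm := fun a b => Subgroup.mem_center_iff.mp (hZ ▸ Subgroup.mem_top b) a }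
    refine frobOps_irreducible h hn hcop (fun U hK hx hU1 => ?_)
      (fun U hU y n' hK hy h' => (hsub U hU y n' hK hy h').1)
    by_contra hU2
    obtain ⟨m, hm, hm'⟩ := hred U inferInstance hU1 hU2 hK
    exact hm' (hx m hm)

end Cfsg.Agent.Lib.OddLocal
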