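import Cfsg.Agent.Lib.OddLocal.TwoDim
import Cfsg.Agent.Lib.Coprime.Hall
import Mathlib.LinearAlgebra.Matrix.GeneralLinearGroup.Card

/-! Solvable groups of odd order of 2×2 matrices. -/

set_option autoImplicit false

open Subgroup Matrix
open scoped commutatorElement

namespace Cfsg.Agent.Lib.OddLocal

universe u v

variable {F : Type v} [Field F]

/-- If `g` sends `a` to an element commuting with it then, in odd order, `g` commutes with `a`. -/
theorem commute_of_conj_commute {X : Type u} [Group X] [Finite X] (p : ℕ) [hp : Fact p.Prime]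
    [CharP F p] (hp2 : p ≠ 2) (hodd : Odd (Nat.card X)) (f : X →* Matrix (Fin 2) (Fin 2) F)
    (hf : Function.Injective f) {a g : X} (hd : (f a).det = 1) (hm : mdisc (f a) ≠ 0)
    (hc : g * a * g⁻¹ * a = a * (g * a * g⁻¹)) : g * a = a * g := by
  have hinv : f g⁻¹ * f g = 1 := by rw [← map_mul, inv_mul_cancel, map_one]
  have ht : (f (g * a * g⁻¹)).trace = (f a).trace := by
    rw [map_mul, map_mul, Matrix.trace_mul_cycle, hinv, one_mul]
  have hdg : (f (g * a * g⁻¹)).det = (f a).det := by
    have h1 : (f g).det * (f g⁻¹).det = 1 := by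
      rw [← Matrix.det_mul, ← map_mul, mul_inv_cancel, map_one, Matrix.det_one]
    rw [map_mul, map_mul, Matrix.det_mul, Matrix.det_mul, mul_right_comm, h1, one_mul]
  have h2 := eq_or_adjugate_of_commute (two_ne_zero_of_odd_char p hp2) hm
    (by rw [← map_mul, ← map_mul, hc]) ht hdg
  have hadj : (f a).adjugate = f a⁻¹ := by
    have h : f a * (f a).adjugate = 1 := by rw [Matrix.mul_adjugate, hd, one_smul]
    calc (f a).adjugate = (f a⁻¹ * f a) * (f a).adjugate := by
          rw [← map_mul, inv_mul_cancel, map_one, one_mul]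
      _ = f a⁻¹ := by rw [mul_assoc, h, mul_one]
  have hg2 : g ^ 2 ∈ centralizer ({a} : Set X) := by
    have h3 : g ^ 2 * a * (g ^ 2)⁻¹ = a := by
      rw [hadj] at h2
      have e : g ^ 2 * a * (g ^ 2)⁻¹ = g * (g * a * g⁻¹) * g⁻¹ := by rw [pow_two]; group
      rcases h2 with h | h
      · rw [e, hf h, hf h]
      · rw [e, hf h, show g * a⁻¹ * g⁻¹ = (g * a * g⁻¹)⁻¹ by group, hf h, inv_inv]
    rw [mem_centralizer_singleton_iff]
    calc g ^ 2 * a = (g ^ 2 * a * (g ^ 2)⁻¹) * g ^ 2 := by group
      _ = a * g ^ 2 := by rw [h3]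
  obtain ⟨k, hk⟩ := hodd
  have : g = (g ^ 2) ^ (k + 1) := by
    rw [← pow_mul, show 2 * (k + 1) = Nat.card X + 1 by omega, pow_succ, pow_card_eq_one', one_mul]
  refine mem_centralizer_singleton_iff.mp (show g ∈ centralizer ({a} : Set X) from ?_)
  rw [this]; exact pow_mem hg2 _

/-- The commutator subgroup of a solvable group of odd order of 2×2 matrices has exponent `p`. -/
theorem pow_eq_one_of_mem_commutator {X : Type u} [Group X] [Finite X] [Group.IsSolvable X]
    (p : ℕ) [hp : Fact p.Prime] [CharP F p] (hp2 : p ≠ 2) (hodd : Odd (Nat.card X))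
    (f : X →* Matrix (Fin 2) (Fin 2) F) (hf : Function.Injective f) :
    ∀ c ∈ commutator X, c ^ p = 1 := by
  let D : X →* F :=
    { toFun := fun x => (f x).det
      map_one' := by simp
      map_mul' := fun a b => by simp }
  let X₁ : Subgroup X :=
    { carrier := {x | D x = 1}
      one_mem' := map_one D
      mul_mem' := fun {a b} ha hb => by simp_all [map_mul]
      inv_mem' := fun {a} ha => by
        have := map_mul D a⁻¹ a
        rw [inv_mul_cancel, map_one, show D a = 1 from ha, mul_one] at this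
        exact this.symm }
  have hX₁c : ∀ a b : X, ⁅a, b⁆ ∈ X₁ := fun a b => by
    show D ⁅a, b⁆ = 1
    have ha : D a * D a⁻¹ = 1 := by rw [← map_mul, mul_inv_cancel, map_one]
    have hb : D b * D b⁻¹ = 1 := by rw [← map_mul, mul_inv_cancel, map_one]
    rw [commutatorElement_def, map_mul, map_mul, map_mul]
    calc D a * D b * D a⁻¹ * D b⁻¹ = (D a * D a⁻¹) * (D b * D b⁻¹) := by ring
      _ = 1 := by rw [ha, hb, one_mul]
  by_cases hdvd : p ∣ Nat.card X
  · obtain ⟨v, hv, hl⟩ := exists_fixed_line p hp2 hodd f hf hdvd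
    let S : Subgroup X :=
      { carrier := {x | D x = 1 ∧ f x *ᵥ v = v}
        one_mem' := ⟨map_one D, by simp⟩
        mul_mem' := fun {a b} ha hb => ⟨by simp [map_mul, ha.1, hb.1], by
          rw [map_mul, ← Matrix.mulVec_mulVec, hb.2, ha.2]⟩
        inv_mem' := fun {a} ha => ⟨by
          have := map_mul D a⁻¹ a
          rw [inv_mul_cancel, map_one, ha.1, mul_one] at this
          exact this.symm, by
          conv_lhs => rw [← ha.2]
          rw [Matrix.mulVec_mulVec, ← map_mul, inv_mul_cancel, map_one, Matrix.one_mulVec]⟩ }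
    intro c hc
    have hle : commutator X ≤ S := by
      rw [commutator_def]
      refine commutator_le.mpr fun a _ b _ => ⟨hX₁c a b, ?_⟩
      obtain ⟨ca, hca⟩ := hl a; obtain ⟨cb, hcb⟩ := hl b
      obtain ⟨cd, hcd⟩ := hl (b * a)⁻¹
      have e : ⁅a, b⁆ = a * b * (b * a)⁻¹ := by simp [commutatorElement_def, mul_assoc]
      have h1 : f (a * b) *ᵥ v = f (b * a) *ᵥ v := by
        simp only [map_mul, ← Matrix.mulVec_mulVec, hca, hcb, Matrix.mulVec_smul, smul_smul, mul_comm]
      rw [e, map_mul, ← Matrix.mulVec_mulVec, hcd, Matrix.mulVec_smul, h1, ← Matrix.mulVec_smul, ← hcd,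
        Matrix.mulVec_mulVec, ← map_mul, mul_inv_cancel, map_one, Matrix.one_mulVec]
    obtain ⟨hd, hcv⟩ := hle hc
    have hdz : (f c - 1).det = 0 := Matrix.exists_mulVec_eq_zero_iff.mp ⟨v, hv, by
      rw [Matrix.sub_mulVec, Matrix.one_mulVec, hcv, sub_self]⟩
    have hd' : (f c).det = 1 := hd
    have htr : (f c).trace = 2 := by
      rw [Matrix.det_fin_two] at hdz
      simp only [Matrix.sub_apply, Matrix.one_apply_eq, ne_eq, Fin.zero_eq_one_iff, OfNat.ofNat_ne_one,
        not_false_eq_true, Matrix.one_apply_ne, sub_zero, one_ne_zero] at hdz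
      rw [Matrix.det_fin_two] at hd'
      rw [Matrix.trace_fin_two]
      linear_combination hd' - hdz
    exact hf (by rw [map_pow, map_one, pow_eq_one_of_trace_two p hd htr])
  · have hcomm : ∀ a b : X, a * b = b * a := by
      by_cases hX₁ : X₁ = ⊥
      · intro a b
        have h := hX₁c a b
        rwa [hX₁, mem_bot, commutatorElement_eq_one_iff_mul_comm] at h
      haveI : Nontrivial X₁ := (nontrivial_iff_ne_bot _).mpr hX₁
      obtain ⟨q, A, hq, hAn, hA, hAc, -, -⟩ :=
        Cfsg.Agent.Lib.Coprime.exists_normal_isPGroup_isMulCommutative X₁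
      obtain ⟨a, haA, ha1⟩ : ∃ a ∈ A, a ≠ 1 := by
        by_contra! h
        exact hA ((Subgroup.eq_bot_iff_forall _).mpr h)
      let f₁ : X₁ →* Matrix (Fin 2) (Fin 2) F := f.comp X₁.subtype
      have hf₁ : Function.Injective f₁ := hf.comp Subtype.coe_injective
      have hodd₁ : Odd (Nat.card X₁) := hodd.of_dvd_nat (card_subgroup_dvd_card X₁)
      have hm : mdisc (f₁ a) ≠ 0 := by
        refine (pow_eq_one_or_mdisc_ne_zero p hp2 hodd₁ f₁ hf₁ (fun x => x.2) (x := a)).resolve_left
          fun h => ?_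
        refine hdvd ?_
        rw [← orderOf_eq_prime h ha1, ← Subgroup.orderOf_coe]
        exact orderOf_dvd_natCard _
      have h1 : ∀ g : X₁, g * a = a * g := fun g =>
        commute_of_conj_commute p hp2 hodd₁ f₁ hf₁ a.2 hm (congrArg Subtype.val
          (hAc.is_comm.comm ⟨g * a * g⁻¹, hAn.conj_mem a haA g⟩ ⟨a, haA⟩))
      have hX₁n : ∀ g : X, g * (a : X) * g⁻¹ ∈ X₁ := fun g => by
        have := X₁.mul_mem (hX₁c g a) a.2
        simpa [commutatorElement_def] using this
      have h2 : ∀ g : X, g * (a : X) = a * g := fun g =>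
        commute_of_conj_commute p hp2 hodd f hf a.2 hm
          (congrArg Subtype.val (h1 ⟨_, hX₁n g⟩))
      intro x y
      have hv : mvec (f a) ≠ 0 := by
        intro hv
        refine hm ?_
        show mdisc (f (a : X)) = 0
        rw [mdisc_eq, hv]; simp
      obtain ⟨b, hb⟩ := mvec_smul_of_commute hv (by rw [← map_mul, ← map_mul, h2 x] : f a * f x = f x * f a)
      obtain ⟨c, hc⟩ := mvec_smul_of_commute hv (by rw [← map_mul, ← map_mul, h2 y] : f a * f y = f y * f a)
      exact hf (by rw [map_mul, map_mul]; exact commute_of_mvec_smul hb hc)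
    intro c hc
    have hle : commutator X ≤ ⊥ := by
      rw [commutator_def]
      exact commutator_le.mpr fun a _ b _ =>
        mem_bot.mpr (commutatorElement_eq_one_iff_mul_comm.mpr (hcomm a b))
    rw [mem_bot.mp (hle hc), one_pow]

/-- Odd primes dividing the order of a 2×2 matrix group over `ZMod p` are at most `p`. -/
theorem le_of_prime_dvd_card_two {X : Type u} [Group X] [Finite X] (p : ℕ) [hp : Fact p.Prime]
    (f : X →* Matrix (Fin 2) (Fin 2) (ZMod p)) (hf : Function.Injective f) {q : ℕ} (hq : q.Prime)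
    (hq2 : q ≠ 2) (hp2 : p ≠ 2) (hd : q ∣ Nat.card X) : q ≤ p ∧ (q = p ∨ q ∣ p - 1 ∨ q ∣ p + 1) := by
  have h1 : q ∣ Nat.card (GL (Fin 2) (ZMod p)) := by
    let e : X →* GL (Fin 2) (ZMod p) := f.toHomUnits
    have he : Function.Injective e := fun a b h =>
      hf (congrArg (fun u : GL (Fin 2) (ZMod p) => (u : Matrix (Fin 2) (Fin 2) (ZMod p))) h)
    exact hd.trans (Subgroup.card_dvd_of_injective e he)
  rw [Matrix.card_GL_field, Fin.prod_univ_two] at h1
  simp only [ZMod.card, Fin.val_zero, Fin.val_one, pow_zero, pow_one] at h1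
  have hp1 := hp.out.two_le
  have hf1 : p ^ 2 - 1 = (p + 1) * (p - 1) := by
    obtain ⟨k, rfl⟩ : ∃ k, p = k + 1 := ⟨p - 1, by omega⟩
    simp only [Nat.add_sub_cancel]
    rw [show (k + 1) ^ 2 = (k + 1 + 1) * k + 1 by ring]
    omega
  have hf2 : p ^ 2 - p = p * (p - 1) := by
    rw [Nat.mul_sub, mul_one, pow_two]
  rw [hf1, hf2] at h1
  have h3 : q = p ∨ q ∣ p - 1 ∨ q ∣ p + 1 := by
    rcases hq.dvd_mul.mp h1 with h | h <;> rcases hq.dvd_mul.mp h with h | h
    · exact Or.inr (Or.inr h)
    · exact Or.inr (Or.inl h)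
    · exact Or.inl ((Nat.prime_dvd_prime_iff_eq hq hp.out).mp h)
    · exact Or.inr (Or.inl h)
  refine ⟨?_, h3⟩
  rcases h3 with rfl | h | h
  · exact le_rfl
  · exact (Nat.le_of_dvd (by omega) h).trans (Nat.sub_le _ _)
  · by_contra hlt
    have h4 : q = p + 1 := le_antisymm (Nat.le_of_dvd (by omega) h) (by omega)
    have hpo := hp.out.eq_two_or_odd.resolve_left hp2
    have hqo := hq.eq_two_or_odd.resolve_left hq2
    omega

end Cfsg.Agent.Lib.OddLocal
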