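import Cfsg.Prelude.Def_OddOrderLocal
import Cfsg.Agent.Lib.OddLocal.Coprime
import Cfsg.Agent.Lib.Coprime.PxQ

/-!
A `p`-group all whose quotients of exponent `p` have order at most `p ^ 2`, generated by the
commutators with a coprime group of operators, is abelian.
-/

set_option autoImplicit false

open scoped commutatorElement

namespace Cfsg.Agent.Lib.OddLocal

universe u v

variable {p : ℕ} [hp : Fact p.Prime]

theorem comm_of_card_le_sq {R : Type u} [Group R] [Finite R] (hR : IsPGroup p R)
    (h : Nat.card R ≤ p ^ 2) : ∀ x y : R, x * y = y * x := by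
  obtain ⟨k, hk⟩ := IsPGroup.iff_card.mp hR
  have hk2 : k ≤ 2 := (Nat.pow_le_pow_iff_right hp.out.one_lt).mp (hk ▸ h)
  obtain rfl | rfl | rfl : k = 0 ∨ k = 1 ∨ k = 2 := by omega
  · haveI : Subsingleton R := (Nat.card_eq_one_iff_unique.mp (by rw [hk, pow_zero])).1
    exact fun x y => Subsingleton.elim _ _
  · haveI : IsCyclic R := isCyclic_of_prime_card (p := p) (hk.trans (pow_one p))
    intro x y
    obtain ⟨g, hg⟩ := IsCyclic.exists_generator (α := R)
    obtain ⟨j, rfl⟩ := Subgroup.mem_zpowers_iff.mp (hg x)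
    obtain ⟨l, rfl⟩ := Subgroup.mem_zpowers_iff.mp (hg y)
    rw [← zpow_add, ← zpow_add, add_comm]
  · exact IsPGroup.commutative_of_card_eq_prime_sq (p := p) hk

/-- Commutators with the generators of a group generate its commutator subgroup modulo the centre. -/
theorem commutator_le_zpowers_of_generators {R : Type u} [Group R] {W : Subgroup R}
    (hc : ∀ x y z : R, Commute ⁅x, y⁆ z) (hW : W ≤ Subgroup.center R) {y w : R}
    (hgen : W ⊔ Subgroup.zpowers y ⊔ Subgroup.zpowers w = ⊤) :
    commutator R ≤ Subgroup.zpowers ⁅y, w⁆ := by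
  set C := Subgroup.zpowers ⁅y, w⁆ with hC
  haveI : C.Normal := ⟨fun t ht g => by
    obtain ⟨j, rfl⟩ := Subgroup.mem_zpowers_iff.mp ht
    rw [← ((hc y w g).zpow_left j).eq, mul_inv_cancel_right]; exact ⟨j, rfl⟩⟩
  set π := QuotientGroup.mk' C with hπ
  have hyw : Commute (π y) (π w) := by
    rw [← commutatorElement_eq_one_iff_commute, ← map_commutatorElement, hπ, QuotientGroup.mk'_apply,
      QuotientGroup.eq_one_iff]
    exact Subgroup.mem_zpowers _
  have hz : ∀ g, W ≤ (Subgroup.centralizer {π g}).comap π := fun g u hu =>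
    Subgroup.mem_centralizer_singleton_iff.mpr (by
      rw [← map_mul, ← map_mul, Subgroup.mem_center_iff.mp (hW hu) g])
  have h1 : ∀ g : R, π g ∈ Subgroup.centralizer {π y} ⊓ Subgroup.centralizer {π w} := by
    intro g
    have hle : W ⊔ Subgroup.zpowers y ⊔ Subgroup.zpowers w ≤
        (Subgroup.centralizer {π y} ⊓ Subgroup.centralizer {π w}).comap π := by
      rw [Subgroup.comap_inf]
      refine sup_le (sup_le (le_inf (hz y) (hz w)) ?_) ?_ <;>
        refine Subgroup.zpowers_le.mpr (Subgroup.mem_inf.mpr ⟨?_, ?_⟩)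
      · exact Subgroup.mem_centralizer_singleton_iff.mpr rfl
      · exact Subgroup.mem_centralizer_singleton_iff.mpr hyw.eq
      · exact Subgroup.mem_centralizer_singleton_iff.mpr hyw.symm.eq
      · exact Subgroup.mem_centralizer_singleton_iff.mpr rfl
    exact hle (hgen ▸ Subgroup.mem_top g)
  have h2 : ∀ g h : R, π g * π h = π h * π g := by
    intro g h
    have hle : W ⊔ Subgroup.zpowers y ⊔ Subgroup.zpowers w ≤ (Subgroup.centralizer {π h}).comap π := by
      refine sup_le (sup_le (hz h) ?_) ?_ <;> refine Subgroup.zpowers_le.mpr ?_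
      · exact Subgroup.mem_centralizer_singleton_iff.mpr
          (Subgroup.mem_centralizer_singleton_iff.mp (h1 h).1).symm
      · exact Subgroup.mem_centralizer_singleton_iff.mpr
          (Subgroup.mem_centralizer_singleton_iff.mp (h1 h).2).symm
    exact Subgroup.mem_centralizer_singleton_iff.mp (hle (hgen ▸ Subgroup.mem_top g))
  rw [commutator_def]
  refine Subgroup.commutator_le.mpr fun g _ h _ => (QuotientGroup.eq_one_iff _).mp ?_
  rw [← QuotientGroup.mk'_apply, ← hπ, map_commutatorElement]
  exact commutatorElement_eq_one_iff_mul_comm.mpr (h2 g h)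

theorem commute_of_good_operators (hp2 : p ≠ 2) {A : Type v} [Group A] [Finite A]
    (hcop : (Nat.card A).Coprime p) :
    ∀ (n : ℕ) {R : Type u} [Group R] [Finite R], Nat.card R ≤ n → IsPGroup p R →
      ∀ φ : A →* MulAut R,
        (∀ N : Subgroup R, N.Normal → (∀ a, ∀ x ∈ N, φ a x ∈ N) →
          (∀ a r, φ a r * r⁻¹ ∈ N) → N = ⊤) →
        (∀ N : Subgroup R, N.Normal → (∀ x : R, x ^ p ∈ N) → N.index ≤ p ^ 2) →
        ∀ x y : R, x * y = y * x := by
  classical
  intro n
  induction n with
  | zero => intro R _ _ hn; exact absurd hn (not_le.mpr Nat.card_pos)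
  | succ n ih =>
    intro R _ _ hn hR φ hgen hgood
    by_contra hnc
    haveI := hR.isNilpotent
    have hne : commutator R ≠ ⊥ := fun h => hnc fun x y =>
      commutatorElement_eq_one_iff_mul_comm.mp (Subgroup.mem_bot.mp
        (h ▸ Subgroup.commutator_mem_commutator (Subgroup.mem_top x) (Subgroup.mem_top y)))
    -- the commutator subgroup lies in every nontrivial invariant normal subgroup
    have hquot : ∀ N : Subgroup R, N.Normal → (∀ a, ∀ x ∈ N, φ a x ∈ N) → N ≠ ⊥ →
        commutator R ≤ N := by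
      intro N hN hinv hN1
      haveI := hN
      have hmap : ∀ a, N.map ((φ a : R ≃* R) : R →* R) = N := fun a =>
        Subgroup.eq_of_le_of_card_ge (by rintro _ ⟨x, hx, rfl⟩; exact hinv a x hx)
          (Subgroup.card_map_of_injective (φ a).injective).ge
      let φ' : A →* MulAut (R ⧸ N) :=
        { toFun := fun a => QuotientGroup.congr N N (φ a) (hmap a)
          map_one' := by
            refine MulEquiv.ext fun q => ?_
            induction q using QuotientGroup.induction_on with
            | _ x => simp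
          map_mul' := fun a b => by
            refine MulEquiv.ext fun q => ?_
            induction q using QuotientGroup.induction_on with
            | _ x => simp }
      have hφ' : ∀ a (x : R), φ' a (QuotientGroup.mk' N x) = QuotientGroup.mk' N (φ a x) :=
        fun a x => rfl
      have hlt : Nat.card (R ⧸ N) ≤ n := by
        have h := Subgroup.card_eq_card_quotient_mul_card_subgroup N
        have h2 : 2 ≤ Nat.card N := (Subgroup.one_lt_card_iff_ne_bot (H := N)).mpr hN1
        have : 0 < Nat.card (R ⧸ N) := Nat.card_pos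
        nlinarith
      have hcomm := ih hlt (hR.to_quotient N) φ' (by
        intro M hM hMi hMd
        have h1 := hgen (M.comap (QuotientGroup.mk' N)) inferInstance
          (fun a x hx => by
            rw [Subgroup.mem_comap] at hx ⊢
            rw [← hφ']; exact hMi a _ hx)
          (fun a r => by
            rw [Subgroup.mem_comap, map_mul, map_inv, ← hφ']; exact hMd a _)
        rw [← Subgroup.map_comap_eq_self_of_surjective (QuotientGroup.mk'_surjective N) M, h1,
          Subgroup.map_top_of_surjective _ (QuotientGroup.mk'_surjective N)]) (by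
        intro M hM hMp
        rw [← Subgroup.index_comap_of_surjective M (QuotientGroup.mk'_surjective N)]
        exact hgood _ inferInstance fun x => by
          rw [Subgroup.mem_comap, map_pow]; exact hMp _)
      rw [commutator_def]
      refine Subgroup.commutator_le.mpr fun g _ h _ => (QuotientGroup.eq_one_iff _).mp ?_
      rw [← QuotientGroup.mk'_apply, map_commutatorElement]
      exact commutatorElement_eq_one_iff_mul_comm.mpr (hcomm _ _)
    have hcinv : ∀ a, ∀ x ∈ commutator R, φ a x ∈ commutator R := by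
      intro a x hx
      have h := Subgroup.mem_map_of_mem ((φ a : R ≃* R) : R →* R) hx
      rw [commutator_def, Subgroup.map_commutator,
        Subgroup.map_top_of_surjective _ (φ a).surjective] at h
      exact h
    -- the commutator subgroup is central
    have hc : ∀ x y z : R, Commute ⁅x, y⁆ z := by
      have hlt : ⁅commutator R, (⊤ : Subgroup R)⁆ < commutator R :=
        Coprime.commutator_lt_of_isPGroup (hR.to_subgroup _) (hR.to_subgroup ⊤)
          (fun g _ => by rw [Subgroup.normalizer_eq_top]; trivial) hne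
      have h0 : ⁅commutator R, (⊤ : Subgroup R)⁆ = ⊥ := by
        by_contra h
        refine hlt.not_ge (hquot _ inferInstance (fun a x hx => ?_) h)
        have h1 := Subgroup.mem_map_of_mem ((φ a : R ≃* R) : R →* R) hx
        rw [Subgroup.map_commutator, Subgroup.map_top_of_surjective _ (φ a).surjective] at h1
        refine Subgroup.commutator_mono ?_ le_rfl h1
        rintro _ ⟨y, hy, rfl⟩
        exact hcinv a y hy
      intro x y z
      exact commutatorElement_eq_one_iff_commute.mp (Subgroup.mem_bot.mp (h0 ▸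
        Subgroup.commutator_mem_commutator
          (Subgroup.commutator_mem_commutator (Subgroup.mem_top x) (Subgroup.mem_top y))
          (Subgroup.mem_top z)))
    have hcC : commutator R ≤ Subgroup.center R := by
      rw [commutator_def]
      exact Subgroup.commutator_le.mpr fun x _ y _ =>
        Subgroup.mem_center_iff.mpr fun g => (hc x y g).symm.eq
    -- and elementary
    have hcp : ∀ x y : R, ⁅x, y⁆ ^ p = 1 := by
      let U : Subgroup R :=
        { carrier := {t | t ∈ commutator R ∧ t ^ p = 1}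
          one_mem' := ⟨one_mem _, one_pow _⟩
          mul_mem' := fun {s t} hs ht => ⟨mul_mem hs.1 ht.1, by
            rw [(show Commute s t from (Subgroup.mem_center_iff.mp (hcC hs.1) t).symm).mul_pow,
              hs.2, ht.2, one_mul]⟩
          inv_mem' := fun {s} hs => ⟨inv_mem hs.1, by rw [inv_pow, hs.2, inv_one]⟩ }
      have hUn : U.Normal := ⟨fun t ht g => by
        rw [Subgroup.mem_center_iff.mp (hcC ht.1) g, mul_inv_cancel_right]; exact ht⟩
      have hU1 : U ≠ ⊥ := by
        haveI : Nontrivial (commutator R) := (Subgroup.nontrivial_iff_ne_bot _).mpr hne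
        obtain ⟨k, hk0, hk⟩ := (hR.to_subgroup (commutator R)).nontrivial_iff_card.mp ‹_›
        obtain ⟨t, ht⟩ := exists_prime_orderOf_dvd_card' (G := commutator R) p
          (hk ▸ dvd_pow_self p (by omega))
        intro h
        have h1 : (t : R) ∈ U := ⟨t.2, by rw [← ht, ← Subgroup.orderOf_coe, pow_orderOf_eq_one]⟩
        rw [h, Subgroup.mem_bot] at h1
        rw [← Subgroup.orderOf_coe, h1, orderOf_one] at ht
        exact hp.out.ne_one ht.symm
      exact fun x y => (hquot U hUn
        (fun a t ht => ⟨hcinv a t ht.1, by rw [← map_pow, ht.2, map_one]⟩) hU1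
        (Subgroup.commutator_mem_commutator (Subgroup.mem_top x) (Subgroup.mem_top y))).2
    -- powers
    have hpow : ∀ x y : R, (x * y) ^ p = x ^ p * y ^ p := by
      intro x y
      obtain ⟨m, hm⟩ : p ∣ p.choose 2 :=
        hp.out.dvd_choose_self two_ne_zero (lt_of_le_of_ne hp.out.two_le (Ne.symm hp2))
      rw [mul_pow_of_central_commutator (hc y x x).symm (hc y x y).symm
        (show y * x = ⁅y, x⁆ * x * y by rw [commutatorElement_def]; group), hm, pow_mul, hcp,
        one_pow, one_mul]
    have hpowk : ∀ (j : ℕ) (x y : R), (x * y) ^ p ^ j = x ^ p ^ j * y ^ p ^ j := by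
      intro j
      induction j with
      | zero => simp
      | succ j ihj =>
        intro x y
        simp only [pow_succ, pow_mul]
        rw [ihj, hpow]
    let f : ℕ → R →* R := fun j =>
      { toFun := fun x => x ^ p ^ j
        map_one' := one_pow _
        map_mul' := hpowk j }
    have hf : ∀ j x, f j x = x ^ p ^ j := fun j x => rfl
    have hpc : ∀ x : R, x ^ p ∈ Subgroup.center R := by
      intro x
      rw [Subgroup.mem_center_iff]
      intro g
      have h1 : g * x * g⁻¹ = ⁅g, x⁆ * x := by rw [commutatorElement_def]; group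
      have h2 : (g * x * g⁻¹) ^ p = x ^ p := by
        rw [h1, (hc g x x).mul_pow, hcp, one_mul]
      rw [conj_pow, mul_inv_eq_iff_eq_mul] at h2
      exact h2
    set W := (f 1).range with hW
    have hWmem : ∀ x : R, x ^ p ∈ W := fun x => ⟨x, by rw [hf, pow_one]⟩
    have hWc : W ≤ Subgroup.center R := by
      rintro _ ⟨x, rfl⟩
      rw [hf, pow_one]; exact hpc x
    haveI hWn : W.Normal := ⟨fun t ht g => by
      rw [Subgroup.mem_center_iff.mp (hWc ht) g, mul_inv_cancel_right]; exact ht⟩
    have hWinv : ∀ a, ∀ x ∈ W, φ a x ∈ W := by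
      rintro a _ ⟨x, rfl⟩
      exact ⟨φ a x, by rw [hf, hf, map_pow]⟩
    have hW1 : W ≠ ⊥ := by
      intro h
      refine hnc (comm_of_card_le_sq hR ?_)
      rw [← Subgroup.index_bot]
      exact hgood ⊥ inferInstance fun x => h ▸ hWmem x
    have hcW : commutator R ≤ W := hquot W hWn hWinv hW1
    have hWidx : W.index ≤ p ^ 2 := hgood W hWn hWmem
    -- generators
    have hstep : ∀ (Y : Subgroup R) (x : R), x ∉ Y → (Y ⊔ Subgroup.zpowers x).index * p ≤ Y.index := by
      intro Y x hx
      have hle : Y ≤ Y ⊔ Subgroup.zpowers x := le_sup_left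
      rw [← Subgroup.relIndex_mul_index hle, mul_comm _ p]
      refine Nat.mul_le_mul_right _ ?_
      obtain ⟨j, hj⟩ := hR.index Y
      have hd := Subgroup.relIndex_dvd_index_of_le hle
      rw [hj] at hd
      obtain ⟨i, -, hi⟩ := (Nat.dvd_prime_pow hp.out).mp hd
      rcases i with _ | i
      · exact absurd (Subgroup.relIndex_eq_one.mp (by rw [hi, pow_zero])
          (Subgroup.mem_sup_right (Subgroup.mem_zpowers x))) hx
      · rw [hi]; exact Nat.le_of_dvd (pow_pos hp.out.pos _) (dvd_pow_self p (Nat.succ_ne_zero i))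
    have htop : ∀ y w : R, y ∉ W → w ∉ W ⊔ Subgroup.zpowers y →
        W ⊔ Subgroup.zpowers y ⊔ Subgroup.zpowers w = ⊤ := by
      intro y w hy hw
      have h1 := hstep W y hy
      have h2 := hstep _ w hw
      have h3 := Nat.pos_of_ne_zero (Subgroup.index_ne_zero_of_finite
        (H := W ⊔ Subgroup.zpowers y ⊔ Subgroup.zpowers w))
      rw [← Subgroup.index_eq_one]
      have : (W ⊔ Subgroup.zpowers y ⊔ Subgroup.zpowers w).index * (p * p) ≤ 1 * (p * p) := by
        rw [one_mul, ← sq p]
        calc _ = (W ⊔ Subgroup.zpowers y ⊔ Subgroup.zpowers w).index * p * p := by ring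
          _ ≤ (W ⊔ Subgroup.zpowers y).index * p := Nat.mul_le_mul_right _ h2
          _ ≤ W.index := h1
          _ ≤ p ^ 2 := hWidx
      have := Nat.le_of_mul_le_mul_right this (Nat.mul_pos hp.out.pos hp.out.pos)
      omega
    have hWy : ∀ y : R, W ⊔ Subgroup.zpowers y ≠ ⊤ := by
      intro y h
      refine hne (eq_bot_iff.mpr ((commutator_le_zpowers_of_generators hc hWc (y := y) (w := 1)
        (by rw [h, Subgroup.zpowers_one_eq_bot, sup_bot_eq])).trans ?_))
      rw [commutatorElement_one_right, Subgroup.zpowers_one_eq_bot]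
    obtain ⟨y₀, hy₀⟩ : ∃ y₀, y₀ ∉ W := by
      by_contra! h
      exact hWy 1 (eq_top_iff.mpr fun x _ => Subgroup.mem_sup_left (h x))
    obtain ⟨w₀, hw₀⟩ : ∃ w₀, w₀ ∉ W ⊔ Subgroup.zpowers y₀ := by
      by_contra! h
      exact hWy y₀ (eq_top_iff.mpr fun x _ => h x)
    set c := ⁅y₀, w₀⁆ with hc_def
    have hcgen : commutator R ≤ Subgroup.zpowers c :=
      commutator_le_zpowers_of_generators hc hWc (htop _ _ hy₀ hw₀)
    have hcmem : c ∈ commutator R :=
      Subgroup.commutator_mem_commutator (Subgroup.mem_top _) (Subgroup.mem_top _)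
    have hc1 : c ≠ 1 := fun h => hne (eq_bot_iff.mpr (hcgen.trans (by
      rw [h, Subgroup.zpowers_one_eq_bot])))
    have hco : orderOf c = p := orderOf_eq_prime (hcp _ _) hc1
    -- the depth of `c`
    have hex : ∃ j, c ∉ (f j).range := by
      refine ⟨Nat.card R, ?_⟩
      rintro ⟨x, hx⟩
      obtain ⟨i, hi⟩ := IsPGroup.iff_card.mp hR
      have hle : i ≤ Nat.card R := hi ▸ (Nat.lt_pow_self hp.out.one_lt).le
      obtain ⟨d, hd⟩ := Nat.exists_eq_add_of_le hle
      rw [hf, hd, pow_add, pow_mul, ← hi, pow_card_eq_one', one_pow] at hx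
      exact hc1 hx.symm
    obtain ⟨k, hk⟩ : ∃ k, Nat.find hex = k + 1 := by
      refine ⟨Nat.find hex - 1, ?_⟩
      have : Nat.find hex ≠ 0 := fun h0 => by
        have := Nat.find_spec hex
        rw [h0] at this
        exact this ⟨c, by rw [hf, pow_zero, pow_one]⟩
      omega
    obtain ⟨u, hu⟩ : c ∈ (f k).range := not_not.mp (Nat.find_min hex (by omega))
    set K := ((f (k + 1)).range).comap (f k) with hK
    have huK : u ∉ K := fun h => by
      rw [hK, Subgroup.mem_comap, hu] at h
      exact Nat.find_spec hex (hk ▸ h)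
    have hWK : W ≤ K := by
      rintro _ ⟨x, rfl⟩
      refine Subgroup.mem_comap.mpr ⟨x, ?_⟩
      rw [hf, hf, hf, ← pow_mul, pow_one, pow_succ']
    haveI : K.Normal := ⟨fun t ht g => by
      have : g * t * g⁻¹ = ⁅g, t⁆ * t := by rw [commutatorElement_def]; group
      rw [this]
      exact mul_mem (hWK (hcW (Subgroup.commutator_mem_commutator (Subgroup.mem_top g)
        (Subgroup.mem_top t)))) ht⟩
    have hKinv : ∀ a, ∀ x ∈ K, φ a x ∈ K := by
      intro a x hx
      obtain ⟨t, ht⟩ := Subgroup.mem_comap.mp hx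
      refine Subgroup.mem_comap.mpr ⟨φ a t, ?_⟩
      rw [hf, hf, ← map_pow, ← map_pow, ← hf (k + 1) t, ht, hf]
    have huW : u ∉ W := fun h => huK (hWK h)
    -- scalar on `c`
    have hca : ∀ a, ∃ i : ℤ, φ a c = c ^ i ∧ φ a u * (u ^ i)⁻¹ ∈ K ∧ ¬ (p : ℤ) ∣ i := by
      intro a
      obtain ⟨i, hi⟩ := Subgroup.mem_zpowers_iff.mp (hcgen (hcinv a c hcmem))
      refine ⟨i, hi.symm, Subgroup.mem_comap.mpr ⟨1, ?_⟩, fun hd => hc1 ?_⟩
      · rw [map_one, map_mul, map_inv, map_zpow, hu]
        rw [hf, ← map_pow, show u ^ p ^ k = c from hu, ← hi, mul_inv_cancel]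
      · rw [← hco] at hd
        rw [orderOf_dvd_iff_zpow_eq_one.mp hd] at hi
        exact (φ a).injective (hi.symm.trans (map_one _).symm)
    have hdec : ∀ (Y : Subgroup R), W ≤ Y → ∀ x z : R, z ∈ Y ⊔ Subgroup.zpowers x →
        ∃ s : ℤ, z * (x ^ s)⁻¹ ∈ Y := by
      intro Y hY x z hz
      haveI : Y.Normal := ⟨fun t ht g => by
        have : g * t * g⁻¹ = ⁅g, t⁆ * t := by rw [commutatorElement_def]; group
        rw [this]
        exact mul_mem (hY (hcW (Subgroup.commutator_mem_commutator (Subgroup.mem_top g)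
          (Subgroup.mem_top t)))) ht⟩
      obtain ⟨t, ht, e, he, rfl⟩ := Subgroup.mem_sup_of_normal_left.mp hz
      obtain ⟨s, rfl⟩ := Subgroup.mem_zpowers_iff.mp he
      exact ⟨s, by rwa [mul_inv_cancel_right]⟩
    -- bilinearity
    have hlin : ∀ x y z : R, ⁅x * y, z⁆ = ⁅x, z⁆ * ⁅y, z⁆ := fun x y z => by
      have : ⁅x * y, z⁆ = x * ⁅y, z⁆ * x⁻¹ * ⁅x, z⁆ := by
        simp only [commutatorElement_def]; group
      rw [this, ← (hc y z x).eq, mul_inv_cancel_right, (hc y z _).eq]
    have hlin' : ∀ x y z : R, ⁅x, y * z⁆ = ⁅x, y⁆ * ⁅x, z⁆ := fun x y z => by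
      have : ⁅x, y * z⁆ = ⁅x, y⁆ * (y * ⁅x, z⁆ * y⁻¹) := by
        simp only [commutatorElement_def]; group
      rw [this, ← (hc x z y).eq, mul_inv_cancel_right]
    have hzl : ∀ (x z : R) (i : ℤ), ⁅x ^ i, z⁆ = ⁅x, z⁆ ^ i := fun x z i =>
      map_zpow (MonoidHom.mk' (fun t => ⁅t, z⁆) fun s t => hlin s t z) x i
    have hzr : ∀ (x z : R) (i : ℤ), ⁅x, z ^ i⁆ = ⁅x, z⁆ ^ i := fun x z i =>
      map_zpow (MonoidHom.mk' (fun t => ⁅x, t⁆) fun s t => hlin' x s t) z i
    have hWr : ∀ (x : R), ∀ t ∈ W, ⁅x, t⁆ = 1 ∧ ⁅t, x⁆ = 1 := fun x t ht =>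
      ⟨commutatorElement_eq_one_iff_mul_comm.mpr (Subgroup.mem_center_iff.mp (hWc ht) x),
        commutatorElement_eq_one_iff_mul_comm.mpr (Subgroup.mem_center_iff.mp (hWc ht) x).symm⟩
    have key : ∀ y w : R, y ∉ W → w ∉ W ⊔ Subgroup.zpowers y →
        ∀ (a : A) (i s t : ℤ), φ a c = c ^ i → φ a y * (y ^ s)⁻¹ ∈ W →
          φ a w * (w ^ t)⁻¹ ∈ W ⊔ Subgroup.zpowers y → (p : ℤ) ∣ s * t - i := by
      intro y w hy hw a i s t hi hys hwt
      have hgen' := commutator_le_zpowers_of_generators hc hWc (htop _ _ hy hw)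
      set d := ⁅y, w⁆ with hd
      have hd1 : d ≠ 1 := fun h => hne (eq_bot_iff.mpr (hgen'.trans (by
        rw [h, Subgroup.zpowers_one_eq_bot])))
      obtain ⟨l, hl⟩ := Subgroup.mem_zpowers_iff.mp (hcgen
        (Subgroup.commutator_mem_commutator (Subgroup.mem_top y) (Subgroup.mem_top w)))
      have h1 : φ a d = d ^ i := by
        rw [hd, ← hl, map_zpow, hi, ← zpow_mul, ← zpow_mul, mul_comm]
      obtain ⟨r, hr⟩ := hdec W le_rfl y _ hwt
      have hey : φ a y = φ a y * (y ^ s)⁻¹ * y ^ s := by group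
      have hew : φ a w = φ a w * (w ^ t)⁻¹ * (y ^ r)⁻¹ * y ^ r * w ^ t := by group
      have h2 : φ a d = d ^ (s * t) := by
        rw [hd, map_commutatorElement, hey, hew, hlin, (hWr _ _ hys).2, one_mul, hlin', hlin',
          (hWr _ _ hr).1, one_mul, hzl, hzl, hzr, hzr, commutatorElement_self, one_zpow, one_zpow,
          one_mul, ← zpow_mul, mul_comm t s]
      have hdo : orderOf d = p := orderOf_eq_prime (hcp _ _) hd1
      rw [← hdo, orderOf_dvd_iff_zpow_eq_one, zpow_sub, ← h2, ← h1, mul_inv_cancel]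
    by_cases hKW : ∃ v ∈ K, v ∉ W
    · -- an invariant complement modulo `W`, fixed by the operators
      obtain ⟨v, hvK, hvW⟩ := hKW
      have hvle : W ⊔ Subgroup.zpowers v ≤ K := sup_le hWK (Subgroup.zpowers_le.mpr hvK)
      have huv : u ∉ W ⊔ Subgroup.zpowers v := fun h => huK (hvle h)
      have hKeq : K ≤ W ⊔ Subgroup.zpowers v := by
        intro x hx
        by_contra hxn
        refine huK (?_ : u ∈ K)
        exact (sup_le hvle (Subgroup.zpowers_le.mpr hx) : _ ≤ K) ((htop v x hvW hxn).symm ▸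
          Subgroup.mem_top u)
      have hfix : ∀ a, φ a v * v⁻¹ ∈ W := by
        intro a
        obtain ⟨i, hi, hiu, hip⟩ := hca a
        obtain ⟨s, hs⟩ := hdec W le_rfl v _ (hKeq (hKinv a v hvK))
        obtain ⟨e, he⟩ := key v u hvW huv a i s i hi hs (hKeq hiu)
        have h3 : (p : ℤ) ∣ s - 1 := by
          refine ((Nat.prime_iff_prime_int.mp hp.out).dvd_mul.mp ?_).resolve_left hip
          exact ⟨e, by rw [← he]; ring⟩
        obtain ⟨m, hm⟩ := h3
        have e1 : φ a v * v⁻¹ = φ a v * (v ^ s)⁻¹ * ((v ^ p) ^ m) := by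
          rw [← zpow_natCast v p, ← zpow_mul, ← hm]; group
        rw [e1]
        exact mul_mem hs (zpow_mem (hWmem v) m)
      haveI := Fintype.ofFinite A
      letI : CommGroup (R ⧸ W) := { (inferInstance : Group (R ⧸ W)) with
        mul_comm := fun q q' => by
          induction q using QuotientGroup.induction_on with
          | _ x =>
            induction q' using QuotientGroup.induction_on with
            | _ y =>
              refine QuotientGroup.eq.mpr ?_
              have : (x * y)⁻¹ * (y * x) = ⁅y⁻¹, x⁻¹⁆ := by rw [commutatorElement_def]; group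
              rw [this]
              exact hcW (Subgroup.commutator_mem_commutator (Subgroup.mem_top _) (Subgroup.mem_top _)) }
      let N : R →* R ⧸ W :=
        { toFun := fun x => ∏ a : A, ((φ a x : R) : R ⧸ W)
          map_one' := Finset.prod_eq_one fun a _ => by simp
          map_mul' := fun x y => by
            rw [← Finset.prod_mul_distrib]
            exact Finset.prod_congr rfl fun a _ => by rw [map_mul, QuotientGroup.mk_mul] }
      have hNa : ∀ a x, N (φ a x) = N x := fun a x =>
        Fintype.prod_equiv (Equiv.mulRight a) _ _ fun b => by simp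
      have hker : N.ker = ⊤ := by
        refine hgen N.ker inferInstance (fun a x hx => ?_) (fun a r => ?_)
        · rw [MonoidHom.mem_ker, hNa, ← MonoidHom.mem_ker]; exact hx
        · rw [MonoidHom.mem_ker, map_mul, map_inv, hNa, mul_inv_cancel]
      have hNv : N v = 1 := MonoidHom.mem_ker.mp (hker ▸ Subgroup.mem_top v)
      have hva : ∀ a, ((φ a v : R) : R ⧸ W) = v := fun a => by
        have h := (QuotientGroup.eq_one_iff (N := W) _).mpr (hfix a)
        rwa [QuotientGroup.mk_mul, QuotientGroup.mk_inv, mul_inv_eq_one] at h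
      change ∏ a : A, ((φ a v : R) : R ⧸ W) = 1 at hNv
      simp only [hva, Finset.prod_const, Finset.card_univ, ← Nat.card_eq_fintype_card] at hNv
      refine hvW ((QuotientGroup.eq_one_iff v).mp (orderOf_eq_one_iff.mp
        (Nat.eq_one_of_dvd_coprimes hcop (orderOf_dvd_of_pow_eq_one hNv)
          (orderOf_dvd_of_pow_eq_one ?_))))
      rw [← QuotientGroup.mk_pow]
      exact (QuotientGroup.eq_one_iff _).mpr (hWmem v)
    · -- an invariant subgroup modulo which the operators act trivially
      push Not at hKW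
      set Y := W ⊔ Subgroup.zpowers u with hY
      have hYmem : ∀ x ∈ W, x ∈ Y := fun x hx => Subgroup.mem_sup_left hx
      haveI hYn : Y.Normal := ⟨fun t ht g => by
        have : g * t * g⁻¹ = ⁅g, t⁆ * t := by rw [commutatorElement_def]; group
        rw [this]
        exact mul_mem (hYmem _ (hcW (Subgroup.commutator_mem_commutator (Subgroup.mem_top g)
          (Subgroup.mem_top t)))) ht⟩
      obtain ⟨w, hw⟩ : ∃ w, w ∉ Y := by
        by_contra! h
        exact hWy u (eq_top_iff.mpr fun x _ => h x)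
      have hYu : ∀ i : ℤ, u ^ i ∈ Y := fun i =>
        Subgroup.mem_sup_right ⟨i, rfl⟩
      have hYinv : ∀ a, ∀ x ∈ Y, φ a x ∈ Y := by
        intro a x hx
        obtain ⟨i, hi, hiu, -⟩ := hca a
        have hle : Y ≤ Y.comap ((φ a : R ≃* R) : R →* R) := by
          refine sup_le (fun t ht => hYmem _ (hWinv a t ht)) (Subgroup.zpowers_le.mpr ?_)
          show φ a u ∈ Y
          have := mul_mem (hYmem _ (hKW _ hiu)) (hYu i)
          rwa [inv_mul_cancel_right] at this
        exact hle hx
      refine hw ((hgen Y hYn hYinv fun a r => ?_).symm ▸ Subgroup.mem_top w)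
      obtain ⟨i, hi, hiu, hip⟩ := hca a
      have hwa : φ a w * w⁻¹ ∈ Y := by
        obtain ⟨t, ht⟩ := hdec Y le_sup_left w (φ a w) (by
          rw [hY, htop u w huW hw]; exact Subgroup.mem_top _)
        obtain ⟨e, he⟩ := key u w huW hw a i i t hi (hKW _ hiu) ht
        have h3 : (p : ℤ) ∣ t - 1 := by
          refine ((Nat.prime_iff_prime_int.mp hp.out).dvd_mul.mp ?_).resolve_left hip
          exact ⟨e, by rw [← he]; ring⟩
        obtain ⟨m, hm⟩ := h3
        have e1 : φ a w * w⁻¹ = φ a w * (w ^ t)⁻¹ * ((w ^ p) ^ m) := by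
          rw [← zpow_natCast w p, ← zpow_mul, ← hm]; group
        rw [e1]
        exact mul_mem ht (zpow_mem (hYmem _ (hWmem w)) m)
      have hS : (MonoidHom.eqLocus ((QuotientGroup.mk' Y).comp ((φ a : R ≃* R) : R →* R))
          (QuotientGroup.mk' Y)) = ⊤ := by
        rw [eq_top_iff, ← htop u w huW hw]
        have hmemY : ∀ x, φ a x * x⁻¹ ∈ Y → x ∈ MonoidHom.eqLocus
            ((QuotientGroup.mk' Y).comp ((φ a : R ≃* R) : R →* R)) (QuotientGroup.mk' Y) := by
          intro x hx
          have h := (QuotientGroup.eq_one_iff (N := Y) _).mpr hx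
          rw [QuotientGroup.mk_mul, QuotientGroup.mk_inv, mul_inv_eq_one] at h
          exact h
        refine sup_le (sup_le (fun x hx => hmemY x ?_) ?_) ?_
        · exact mul_mem (hYmem _ (hWinv a x hx)) (inv_mem (hYmem _ hx))
        · refine Subgroup.zpowers_le.mpr (hmemY u ?_)
          have hu1 : u ∈ Y := by simpa using hYu 1
          exact mul_mem (hYinv a u hu1) (inv_mem hu1)
        · exact Subgroup.zpowers_le.mpr (hmemY w hwa)
      have h : r ∈ MonoidHom.eqLocus ((QuotientGroup.mk' Y).comp ((φ a : R ≃* R) : R →* R))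
          (QuotientGroup.mk' Y) := hS ▸ Subgroup.mem_top r
      have h2 : ((φ a r : R) : R ⧸ Y) = (r : R ⧸ Y) := h
      rw [← QuotientGroup.eq_one_iff, QuotientGroup.mk_mul, QuotientGroup.mk_inv, h2, mul_inv_cancel]

variable {G : Type u} [Group G] [Finite G]

/-- The same for subgroups. -/
theorem commute_of_good_subgroup (hp2 : p ≠ 2) {T A : Subgroup G} (hT : IsPGroup p T)
    (hA : A ≤ Subgroup.normalizer (T : Set G)) (hcop : (Nat.card A).Coprime p) (hTA : ⁅T, A⁆ = T)
    (hgood : ∀ N : Subgroup T, N.Normal → (∀ x : T, x ^ p ∈ N) → N.index ≤ p ^ 2) :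
    IsMulCommutative T := by
  refine ⟨⟨commute_of_good_operators hp2 hcop (Nat.card T) le_rfl hT
    (T.normalizerMonoidHom.comp (Subgroup.inclusion hA)) (fun N hN hinv hd => ?_) hgood⟩⟩
  have hle : ⁅T, A⁆ ≤ N.map T.subtype := by
    refine Subgroup.commutator_le.mpr fun t ht a ha => ⟨_, inv_mem (hd ⟨a, ha⟩ ⟨t, ht⟩), ?_⟩
    show (a * t * a⁻¹ * t⁻¹)⁻¹ = ⁅t, a⁆
    rw [commutatorElement_def]; group
  rw [hTA] at hle
  rw [eq_top_iff]
  intro t _
  obtain ⟨s, hs, hst⟩ := hle t.2
  rwa [Subtype.ext hst] at hs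

end Cfsg.Agent.Lib.OddLocal
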