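import Cfsg.Agent.Lib.Solvable.ShultGross.Special
import Cfsg.Agent.Lib.Solvable.FPF.Module
import Cfsg.Agent.Lib.Coprime.Action

/-!
The fixed-point-free lemma of Hall and Higman for an element of odd prime order, with its exception.
-/

set_option autoImplicit false

namespace Cfsg.Agent.Lib.OddLocal.Exceptional

open Module Cfsg.Agent.Lib Cfsg.Agent.Lib.Solvable Cfsg.Agent.Lib.Solvable.ShultGross
open scoped commutatorElement

variable {k : Type*} [Field k] [IsAlgClosed k] {W : Type*} [AddCommGroup W] [Module k W]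
  [FiniteDimensional k W] {Γ : Type*} [Group Γ] [Finite Γ]

/-- The class two situation of Hall and Higman: the centre has index `(r - 1)²`. -/
theorem centre_index_of_class_two (ρ : Γ →* End k W) (hρ : Function.Injective ρ) {r : ℕ}
    (hr : r.Prime) (hr2 : r ≠ 2) (hrk : (r : k) ≠ 0) {q : ℕ} (hq : q.Prime)
    (hqk : (q : k) ≠ 0) (s : Γ) (hs : s ^ r = 1) (hfix : ∀ w, ρ s w = w → w = 0)
    (Q : Subgroup Γ) (hQ : IsPGroup q Q) (θ : MulAut Q) (hθv : ∀ x : Q, ((θ x : Q) : Γ) = s * x * s⁻¹)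
    (hθr : θ ^ r = 1) (hcomm : commutator Q ≤ Subgroup.center Q) (hab : Subgroup.center Q ≠ ⊤)
    (hZfix : ∀ z ∈ Subgroup.center Q, θ z = z)
    (hfree : ∀ i : ℕ, ¬ r ∣ i → ∀ x : Q, x⁻¹ * (θ ^ i) x ∈ Subgroup.center Q → x ∈ Subgroup.center Q)
    (hcenR : (∀ H : Subgroup Q, H.Normal → (∀ x ∈ H, θ x ∈ H) → H ≠ ⊤ → H ≤ Subgroup.center Q) ∨
      (Nat.card (Subgroup.center Q)).Prime) :
    ∃ d : ℕ, d + 1 = r ∧ (Subgroup.center Q).index = d ^ 2 := by
  haveI := Fact.mk hr
  haveI := Fact.mk hq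
  set Z := Subgroup.center Q with hZdef
  let E : Q →* End k W := ρ.comp Q.subtype
  have hE : ∀ x, E x = 1 → x = 1 := fun x hx => Subtype.ext (hρ (hx.trans (map_one ρ).symm))
  have hTE : ∀ x, ρ s * E x = E (θ x) * ρ s := fun x => by
    show ρ s * ρ x = ρ ((θ x : Q) : Γ) * ρ s
    rw [hθv, ← map_mul, ← map_mul, inv_mul_cancel_right]
  have hT : ρ s ^ r = 1 := by rw [← map_pow, hs, map_one]
  have hqQ : ∀ H : Subgroup Q, (Nat.card H : k) ≠ 0 := fun H => by
    obtain ⟨c, hc⟩ := IsPGroup.iff_card.mp (hQ.to_subgroup H)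
    rw [hc, Nat.cast_pow]
    exact pow_ne_zero _ hqk
  let cm : Q → Q → Z := fun x y =>
    ⟨⁅x, y⁆, hcomm (Subgroup.commutator_mem_commutator (Subgroup.mem_top x) (Subgroup.mem_top y))⟩
  -- a character of the centre
  obtain ⟨a, b, hab'⟩ : ∃ a b : Q, cm a b ≠ 1 := by
    by_contra h
    push Not at h
    exact hab (eq_top_iff.mpr fun x _ => Subgroup.mem_center_iff.mpr fun g => by
      exact commutatorElement_eq_one_iff_mul_comm.mp (congrArg Subtype.val (h g x)))
  obtain ⟨χ, w0, hw00, hw0, hχ⟩ := FPF.exists_weight E Z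
    (fun x hx y _ => (Subgroup.mem_center_iff.mp hx y).symm) (hqQ Z) (cm a b).2
    (fun e => hab' (Subtype.ext (hE _ e)))
  have hχmul : ∀ y z, χ (y * z) = χ y * χ z := fun y z => by
    refine smul_left_injective k hw00 ?_
    show χ (y * z) • w0 = (χ y * χ z) • w0
    rw [← hw0, Subgroup.coe_mul, map_mul, End.mul_apply, hw0 z, map_smul, hw0 y, smul_smul, mul_comm]
  have hχ1 : χ 1 = 1 := smul_left_injective k hw00
    (show χ 1 • w0 = (1 : k) • w0 by rw [← hw0, OneMemClass.coe_one, map_one, one_smul]; rfl)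
  -- the weight space
  let Inv : Submodule k W → Prop := fun U => U ≠ ⊥ ∧ (∀ x, ∀ w ∈ U, E x w ∈ U) ∧
    (∀ w ∈ U, ρ s w ∈ U) ∧ ∀ (z : Z), ∀ w ∈ U, E (z : Q) w = χ z • w
  let V : Submodule k W := ⨅ z : Z, End.eigenspace (E (z : Q)) (χ z)
  have hVmem : ∀ {w}, w ∈ V ↔ ∀ z : Z, E (z : Q) w = χ z • w := by
    simp [V, Submodule.mem_iInf, End.mem_eigenspace_iff]
  have hInv : Inv V := by
    refine ⟨(Submodule.ne_bot_iff _).mpr ⟨w0, hVmem.mpr hw0, hw00⟩, fun x w hw => ?_, fun w hw => ?_,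
      fun z w hw => hVmem.mp hw z⟩
    · refine hVmem.mpr fun z => ?_
      rw [← End.mul_apply, ← map_mul, ← Subgroup.mem_center_iff.mp z.2 x, map_mul, End.mul_apply,
        hVmem.mp hw z, map_smul]
    · refine hVmem.mpr fun z => ?_
      have h1 := congrArg (fun e : End k W => e w) (hTE (z : Q))
      simp only [End.mul_apply, hVmem.mp hw, map_smul, hZfix _ z.2] at h1
      exact h1.symm
  classical
  have hex : ∃ d, ∃ U, Inv U ∧ finrank k U = d := ⟨_, V, hInv, rfl⟩
  obtain ⟨U, ⟨hU0, hUE, hUT, hUZ⟩, hUd⟩ := Nat.find_spec hex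
  have hUmin : ∀ U', Inv U' → U' ≤ U → U' = U := fun U' h' hle =>
    Submodule.eq_of_le_of_finrank_le hle (hUd ▸ Nat.find_le ⟨U', h', rfl⟩)
  haveI : Nontrivial U := Submodule.nontrivial_iff_ne_bot.mpr hU0
  have hmodd : Odd r := hr.odd_of_ne_two hr2
  let EU : Q →* End k U :=
    { toFun := fun x => (E x).restrict (hUE x)
      map_one' := LinearMap.ext fun w => Subtype.ext (by simp)
      map_mul' := fun x y => LinearMap.ext fun w => Subtype.ext (by simp) }
  let TU : End k U := (ρ s).restrict hUT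
  have hTU : ∀ i (w : U), (((TU ^ i) w : U) : W) = (ρ s ^ i) w := by
    intro i
    induction i with
    | zero => intro w; simp
    | succ i ih => intro w; rw [pow_succ, End.mul_apply, ih, pow_succ, End.mul_apply]; rfl
  let D : Data k U Q :=
    { E := EU, T := TU, φ := θ, m := r, β := fun x y => χ (cm x y)
      hm := hmodd
      hT := LinearMap.ext fun w => Subtype.ext (by rw [hTU, hT]; rfl)
      hφ := hθr
      hTE := fun x => LinearMap.ext fun w => Subtype.ext (by
        show ρ s (E x w) = E (θ x) (ρ s w)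
        rw [← End.mul_apply, hTE]; rfl)
      hβ := fun x y => LinearMap.ext fun w => Subtype.ext (by
        show E x (E y w) = χ (cm x y) • E y (E x w)
        rw [← hUZ (cm x y) _ (hUE y _ (hUE x _ w.2)), ← End.mul_apply, ← End.mul_apply, ← End.mul_apply,
          ← map_mul, ← map_mul, ← map_mul]
        congr 2
        simp only [cm, commutatorElement_def, mul_assoc, inv_mul_cancel_left, inv_mul_cancel, mul_one]) }
  letI : Fintype Q := Fintype.ofFinite Q
  have hQk : (Fintype.card Q : k) ≠ 0 := by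
    rw [← Nat.card_eq_fintype_card, ← Subgroup.card_top]
    exact hqQ ⊤
  have hRne : D.R ≠ ⊤ := fun h => hχ ((h ▸ Subgroup.mem_top a : a ∈ D.R) b)
  have hRinv : ∀ x ∈ D.R, θ x ∈ D.R := fun x hx y => by
    rw [show y = θ (θ⁻¹ y) from (by simp)]
    exact (D.β_map x _).trans (hx _)
  have hRZ : D.R ≤ Z := by
    rcases hcenR with hcen | hZp
    · exact hcen _ inferInstance hRinv hRne
    · intro x hx
      rw [hZdef, Subgroup.mem_center_iff]
      intro y
      have h1 : χ (cm x y) = 1 := hx y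
      by_contra hxy
      have hne : cm x y ≠ 1 := fun e => hxy
        (commutatorElement_eq_one_iff_mul_comm.mp (congrArg Subtype.val e)).symm
      have hall : ∀ z : Z, χ z = 1 := by
        intro z
        haveI := Fact.mk hZp
        obtain ⟨i, hi⟩ : z ∈ Submonoid.powers (cm x y) := by
          rw [(isOfFinOrder_of_finite (cm x y)).mem_powers_iff_mem_zpowers]
          exact (zpowers_eq_top_of_prime_card rfl hne).symm ▸ Subgroup.mem_top z
        rw [← hi]
        clear hi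
        induction i with
        | zero => simpa using hχ1
        | succ i ih =>
          show χ (cm x y ^ (i + 1)) = 1
          rw [pow_succ, hχmul]
          change χ (cm x y ^ i) = 1 at ih
          rw [ih, h1, one_mul]
      exact hχ (hall _)
  have hZR : Z ≤ D.R := fun z hz y => by
    show χ (cm z y) = 1
    rw [show cm z y = 1 from Subtype.ext
      (commutatorElement_eq_one_iff_mul_comm.mpr (Subgroup.mem_center_iff.mp hz y).symm)]
    exact hχ1
  have hfree' : D.Free := fun i x hi hx => hZR (hfree i hi x (hRZ hx))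
  have hscal : D.RadScalar := fun z hz => ⟨χ ⟨z, hRZ hz⟩, LinearMap.ext fun w => Subtype.ext
    (hUZ ⟨z, hRZ hz⟩ _ w.2)⟩
  have hfixU : ∀ w, D.T w = w → w = 0 := fun w hw =>
    Subtype.ext (hfix _ (congrArg Subtype.val hw))
  have hminU : ∀ U' : Submodule k U, (∀ x, ∀ w ∈ U', D.E x w ∈ U') → (∀ w ∈ U', D.T w ∈ U') →
      U' = ⊥ ∨ U' = ⊤ := by
    intro U' hE' hT'
    by_cases h : U' = ⊥
    · exact Or.inl h
    refine Or.inr ?_
    have h' : U'.map U.subtype = U := hUmin _ ⟨fun h0 => h ?_, ?_, ?_, ?_⟩ (U.map_subtype_le U')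
    · refine Submodule.map_injective_of_injective U.injective_subtype ?_
      rw [h', Submodule.map_subtype_top]
    · refine Submodule.map_injective_of_injective U.injective_subtype ?_
      rw [h0, Submodule.map_bot]
    · rintro x _ ⟨w, hw, rfl⟩
      exact ⟨_, hE' x w hw, rfl⟩
    · rintro _ ⟨w, hw, rfl⟩
      exact ⟨_, hT' w hw, rfl⟩
    · rintro z _ ⟨w, -, rfl⟩
      exact hUZ z _ w.2
  obtain ⟨hdim, hidx⟩ := D.exceptional hQk hrk hscal hRne hfree' hfixU hminU
  change finrank k U + 1 = r at hdim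
  refine ⟨finrank k U, hdim, ?_⟩
  rw [← hidx]
  exact congrArg Subgroup.index (le_antisymm hZR hRZ)

theorem commute_of_fixedPointFree_linear (ρ : Γ →* End k W) (hρ : Function.Injective ρ) {r : ℕ}
    (hr : r.Prime) (hr2 : r ≠ 2) (hrk : (r : k) ≠ 0) {q : ℕ} (hq : q.Prime) 
        (hqk : (q : k) ≠ 0) (hqr : q ≠ r) (s : Γ) (hs : s ^ r = 1)
    (hfix : ∀ w, ρ s w = w → w = 0) :
    ∀ (N : ℕ) (Q : Subgroup Γ), Nat.card Q = N → IsPGroup q Q →
      s ∈ Subgroup.normalizer (Q : Set Γ) → (∀ x ∈ Q, Commute s x) ∨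
      (∃ Q₀ : Subgroup Γ, Q₀ ≤ Q ∧ ¬ IsMulCommutative Q₀ ∧ q = 2 ∧ ∃ n : ℕ, r = 2 ^ n + 1) := by
  intro N
  induction N using Nat.strongRecOn with
  | ind N IH =>
  intro Q hN hQ hsQ
  haveI := Fact.mk hr
  haveI := Fact.mk hq
  by_contra hcon
  push Not at hcon
  obtain ⟨hne0, hnoexc⟩ := hcon
  have hne : ¬ ∀ x ∈ Q, Commute s x := fun h => hne0.elim fun x hx => hx.2 (h x hx.1)
  set A := Subgroup.zpowers s with hA
  have hAQ : A ≤ Subgroup.normalizer (Q : Set Γ) := Subgroup.zpowers_le.mpr hsQ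
  have hcop : (Nat.card A).Coprime (Nat.card Q) := by
    obtain ⟨c, hc⟩ := IsPGroup.iff_card.mp hQ
    rw [hc, hA, Nat.card_zpowers]
    exact Nat.Coprime.coprime_dvd_left (orderOf_dvd_of_pow_eq_one hs)
      (((Nat.coprime_primes hr hq).mpr (Ne.symm hqr)).pow_right c)
  have hcA : ∀ {H : Subgroup Γ}, (∀ x ∈ H, Commute s x) → H ≤ Subgroup.centralizer (A : Set Γ) := by
    intro H h x hx
    rw [Subgroup.mem_centralizer_iff]
    rintro _ ⟨i, rfl⟩
    exact ((h x hx).zpow_left i).eq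
  have hsmall : ∀ H : Subgroup Γ, H < Q → s ∈ Subgroup.normalizer (H : Set Γ) →
      ∀ x ∈ H, Commute s x := by
    intro H hH hsH
    rcases IH _ (hN ▸ lt_of_not_ge fun h => hH.ne (Subgroup.eq_of_le_of_card_ge hH.le h)) H rfl
      (hQ.to_le hH.le) hsH with h | ⟨Q₀, h0, hna, hq2, n, hn⟩
    · exact h
    · exact absurd hn (hnoexc Q₀ (h0.trans hH.le) hna hq2 n)
  have hQ1 : ⁅Q, A⁆ = Q := by
    by_contra h
    have hlt : ⁅Q, A⁆ < Q := lt_of_le_of_ne (Coprime.commutator_le_of_le_normalizer hAQ) h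
    have hs1 : s ∈ Subgroup.normalizer ((⁅Q, A⁆ : Subgroup Γ) : Set Γ) :=
      Subgroup.normalizer_commutator_ge_right Q A (Subgroup.mem_zpowers s)
    have h2 : ⁅⁅Q, A⁆, A⁆ = ⊥ := by
      rw [Subgroup.commutator_eq_bot_iff_le_centralizer]
      exact hcA (hsmall _ hlt hs1)
    rw [Coprime.commutator_commutator_eq hAQ hcop (Or.inl (Coprime.isSolvable_zpowers _)),
      Subgroup.commutator_eq_bot_iff_le_centralizer] at h2
    exact hne fun x hx => Subgroup.mem_centralizer_iff.mp (h2 hx) s (Subgroup.mem_zpowers s)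
  have hcentral : ∀ H : Subgroup Γ, H < Q → s ∈ Subgroup.normalizer (H : Set Γ) →
      Q ≤ Subgroup.normalizer (H : Set Γ) → ∀ h ∈ H, ∀ x ∈ Q, x * h = h * x := by
    intro H hH hsH hQH h hh x hx
    have h1 : ⁅⁅A, H⁆, Q⁆ = ⊥ := by
      rw [Subgroup.commutator_comm A H, (Subgroup.commutator_eq_bot_iff_le_centralizer).mpr
        (hcA (hsmall H hH hsH)), Subgroup.commutator_bot_left]
    have h2 : ⁅⁅H, Q⁆, A⁆ = ⊥ := by
      rw [Subgroup.commutator_eq_bot_iff_le_centralizer]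
      exact (Subgroup.le_normalizer_iff_commutator_le_left.mp hQH).trans (hcA (hsmall H hH hsH))
    have h3 := Subgroup.commutator_commutator_eq_bot_of_rotate h1 h2
    rw [hQ1, Subgroup.commutator_eq_bot_iff_le_centralizer] at h3
    exact (Subgroup.mem_centralizer_iff.mp (h3 hx) h hh).symm
  -- move to the group `Q`
  let θ : MulAut Q := Q.normalizerMonoidHom ⟨s, hsQ⟩
  have hθv : ∀ (i : ℕ) (x : Q), (((θ ^ i) x : Q) : Γ) = s ^ i * x * (s ^ i)⁻¹ := by
    intro i
    induction i with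
    | zero => intro x; simp
    | succ i ih =>
      intro x
      rw [pow_succ, MulAut.mul_apply, ih, pow_succ, mul_inv_rev]
      show s ^ i * (s * x * s⁻¹) * (s ^ i)⁻¹ = _
      group
  have hθr : θ ^ r = 1 := MulEquiv.ext fun x => Subtype.ext (by rw [hθv, hs]; simp)
  have hθ1 : ∀ x : Q, θ x = x ↔ Commute s (x : Γ) := fun x => by
    rw [Subtype.ext_iff]
    show s * x * s⁻¹ = x ↔ _
    rw [mul_inv_eq_iff_eq_mul]
    rfl
  obtain ⟨x₀, hx₀⟩ : ∃ x : Q, θ x ≠ x := by
    by_contra h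
    push Not at h
    exact hne fun x hx => (hθ1 ⟨x, hx⟩).mp (h _)
  have hmap : ∀ H : Subgroup Q, (∀ x ∈ H, θ x ∈ H) →
      s ∈ Subgroup.normalizer ((H.map Q.subtype : Subgroup Γ) : Set Γ) := by
    intro H hH
    rw [Subgroup.mem_normalizer_iff_map_conj_eq]
    refine Subgroup.eq_of_le_of_card_ge ?_ (Subgroup.card_map_of_injective (MulAut.conj s).injective).ge
    rintro _ ⟨_, ⟨x, hx, rfl⟩, rfl⟩
    exact ⟨θ x, hH x hx, rfl⟩
  have hmapn : ∀ H : Subgroup Q, H.Normal →
      Q ≤ Subgroup.normalizer ((H.map Q.subtype : Subgroup Γ) : Set Γ) := by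
    intro H hH
    rw [Subgroup.le_normalizer_iff]
    rintro x hx _ ⟨h, hh, rfl⟩
    exact ⟨_, hH.conj_mem h hh ⟨x, hx⟩, rfl⟩
  have hltQ : ∀ H : Subgroup Q, H ≠ ⊤ → H.map Q.subtype < Q := fun H hH => by
    refine lt_of_le_of_ne (Subgroup.map_subtype_le _) fun e => hH ?_
    refine eq_top_iff.mpr fun x _ => ?_
    obtain ⟨y, hy, hyx⟩ := e.ge x.2
    exact (Subtype.ext hyx : y = x) ▸ hy
  set Z := Subgroup.center Q with hZdef
  have hcen : ∀ H : Subgroup Q, H.Normal → (∀ x ∈ H, θ x ∈ H) → H ≠ ⊤ → H ≤ Z :=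
    fun H hn' hinv hH h hh => Subgroup.mem_center_iff.mpr fun x => Subtype.ext
      (hcentral _ (hltQ H hH) (hmap H hinv) (hmapn H hn') h ⟨h, hh, rfl⟩ x x.2)
  have hfixed : ∀ H : Subgroup Q, (∀ x ∈ H, θ x ∈ H) → H ≠ ⊤ → ∀ h ∈ H, θ h = h :=
    fun H hinv hH h hh => (hθ1 h).mpr (hsmall _ (hltQ H hH) (hmap H hinv) h ⟨h, hh, rfl⟩)
  have hθchar : ∀ H : Subgroup Q, H.Characteristic → ∀ x ∈ H, θ x ∈ H := fun H hH x hx =>
    (Subgroup.characteristic_iff_map_le.mp hH θ) ⟨x, hx, rfl⟩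
  haveI : Nontrivial Q := ⟨⟨θ x₀, x₀, hx₀⟩⟩
  haveI : Group.IsNilpotent Q := hQ.isNilpotent
  have hcomm : commutator Q ≤ Z :=
    hcen _ inferInstance (hθchar _ inferInstance) (Group.IsSolvable.commutator_lt_top_of_nontrivial (G := Q)).ne
  let E : Q →* End k W := ρ.comp Q.subtype
  have hE : ∀ x, E x = 1 → x = 1 := fun x hx => Subtype.ext (hρ (hx.trans (map_one ρ).symm))
  have hTE : ∀ x, ρ s * E x = E (θ x) * ρ s := fun x => by
    show ρ s * ρ x = ρ (s * x * s⁻¹) * ρ s
    rw [← map_mul, ← map_mul, inv_mul_cancel_right]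
  have hT : ρ s ^ r = 1 := by rw [← map_pow, hs, map_one]
  have hqQ : ∀ H : Subgroup Q, (Nat.card H : k) ≠ 0 := fun H => by
    obtain ⟨c, hc⟩ := IsPGroup.iff_card.mp (hQ.to_subgroup H)
    rw [hc, Nat.cast_pow]
    exact pow_ne_zero _ hqk
  by_cases hab : Z = ⊤
  · set w := θ x₀ * x₀⁻¹ with hw
    obtain ⟨χ, v, hv0, hv, hχ⟩ := FPF.exists_weight E ⊤
      (fun a _ b _ => (Subgroup.mem_center_iff.mp (hab ▸ Subgroup.mem_top b : b ∈ Z) a)) (hqQ ⊤)
      (Subgroup.mem_top w) (fun e => hx₀ (mul_inv_eq_one.mp (hE _ e)))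
    let χ' : Q → k := fun y => χ ⟨y, Subgroup.mem_top y⟩
    have hv' : ∀ y, E y v = χ' y • v := fun y => hv ⟨y, Subgroup.mem_top y⟩
    obtain ⟨M, hM, hMd, hMfix, hMmin⟩ := exists_period θ χ' hr.pos hθr
    rcases (Nat.dvd_prime hr).mp hMd with rfl | rfl
    · apply hχ
      have hmul : ∀ y z, χ' (y * z) = χ' y * χ' z := fun y z => by
        refine smul_left_injective k hv0 ?_
        show χ' (y * z) • v = (χ' y * χ' z) • v
        rw [← hv', map_mul, End.mul_apply, hv', map_smul, hv', smul_smul, mul_comm]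
      have h1 : χ' w * χ' x₀ = χ' (θ x₀) := by rw [← hmul, hw, inv_mul_cancel_right]
      have h3 := hMfix x₀
      rw [pow_one] at h3
      rw [h3] at h1
      refine (mul_eq_right₀ fun e => hv0 ?_).mp h1
      have h2 := congrArg (E x₀⁻¹) ((hv' x₀).trans (by rw [e, zero_smul]))
      rwa [map_zero, ← End.mul_apply, ← map_mul, inv_mul_cancel, map_one, End.one_apply] at h2
    · obtain ⟨u, -, hu0, hu⟩ := orbit_sum (fun y => E y) (ρ s) θ hTE χ' v hv0 hv' _ hM hMmin
        (by rw [hT]; rfl) ⊤ trivial fun _ _ => trivial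
      exact hu0 (hfix u hu)
  · -- class two, with the centre fixed
    have hZfix : ∀ z ∈ Z, θ z = z := hfixed _ (hθchar _ inferInstance) hab
    have hZfixi : ∀ (i : ℕ), ∀ z ∈ Z, (θ ^ i) z = z := by
      intro i
      induction i with
      | zero => intro z _; rfl
      | succ i ih => intro z hz; rw [pow_succ, MulAut.mul_apply, hZfix z hz, ih z hz]
    have hfree : ∀ i : ℕ, ¬ r ∣ i → ∀ x : Q, x⁻¹ * (θ ^ i) x ∈ Z → x ∈ Z := by
      intro i hi
      let H : Subgroup Q :=
        { carrier := {x | x⁻¹ * (θ ^ i) x ∈ Z}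
          one_mem' := by simp
          mul_mem' := fun {a b} ha hb => by
            simp only [Set.mem_ofPred_eq] at ha hb ⊢
            have e : (a * b)⁻¹ * (θ ^ i) (a * b) = (a⁻¹ * (θ ^ i) a) * (b⁻¹ * (θ ^ i) b) := by
              rw [map_mul]
              calc (a * b)⁻¹ * ((θ ^ i) a * (θ ^ i) b) = b⁻¹ * (a⁻¹ * (θ ^ i) a) * (θ ^ i) b := by group
                _ = (a⁻¹ * (θ ^ i) a) * b⁻¹ * (θ ^ i) b := by rw [Subgroup.mem_center_iff.mp ha b⁻¹]
                _ = _ := by group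
            rw [e]
            exact mul_mem ha hb
          inv_mem' := fun {a} ha => by
            simp only [Set.mem_ofPred_eq] at ha ⊢
            have e : a⁻¹⁻¹ * (θ ^ i) a⁻¹ = (a⁻¹ * (θ ^ i) a)⁻¹ := by
              rw [map_inv, inv_inv]
              have h := Subgroup.mem_center_iff.mp (inv_mem ha) a
              calc a * ((θ ^ i) a)⁻¹ = a * ((a⁻¹ * (θ ^ i) a)⁻¹) * a⁻¹ := by group
                _ = _ := by rw [h]; group
            rw [e]
            exact inv_mem ha }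
      have hHn : H.Normal := Subgroup.Normal.of_commutator_le Q (hcomm.trans fun z hz => by
        show z⁻¹ * (θ ^ i) z ∈ Z
        rw [hZfixi i z hz, inv_mul_cancel]; exact one_mem _)
      have hHinv : ∀ x ∈ H, θ x ∈ H := fun x hx => by
        show (θ x)⁻¹ * (θ ^ i) (θ x) ∈ Z
        have e : (θ ^ i) (θ x) = θ ((θ ^ i) x) := by
          rw [← MulAut.mul_apply, ← MulAut.mul_apply, ← pow_succ, ← pow_succ']
        rw [e, ← map_inv, ← map_mul, hZfix _ hx]
        exact hx
      intro x hx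
      refine hcen H hHn hHinv (fun hH => ?_) hx
      -- otherwise `θ` is trivial modulo the centre
      have hall : ∀ (a : ℕ) (y : Q), y⁻¹ * (θ ^ (i * a)) y ∈ Z := by
        intro a
        induction a with
        | zero => intro y; simp
        | succ a ih =>
          intro y
          have h2 : ((θ ^ (i * a)) y) ∈ H := hH ▸ Subgroup.mem_top _
          have := mul_mem (ih y) (show ((θ ^ (i * a)) y)⁻¹ * (θ ^ i) ((θ ^ (i * a)) y) ∈ Z from h2)
          rw [mul_assoc, mul_inv_cancel_left, ← MulAut.mul_apply, ← pow_add] at this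
          rwa [Nat.mul_succ, add_comm]
      obtain ⟨a, ha⟩ : ∃ a, i * a % r = 1 := by
        obtain ⟨a, -, ha⟩ := Nat.exists_mul_mod_eq_gcd (n := i) (k := r) (by
          rw [show i.gcd r = 1 from ((hr.coprime_iff_not_dvd.mpr hi).symm)]; exact hr.one_lt)
        exact ⟨a, ha.trans ((hr.coprime_iff_not_dvd.mpr hi).symm)⟩
      have hθZ : ∀ y : Q, y⁻¹ * θ y ∈ Z := fun y => by
        have h := hall a y
        rwa [← Nat.div_add_mod (i * a) r, ha, pow_add, pow_mul, hθr, one_pow, one_mul, pow_one] at h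
      apply hab
      have h1 : ⁅Q, A⁆ ≤ Z.map Q.subtype := by
        rw [Subgroup.commutator_le]
        intro y hy g hg
        obtain ⟨j, hj⟩ := (isOfFinOrder_of_finite s).mem_powers_iff_mem_zpowers.mpr hg
        change s ^ j = g at hj
        subst hj
        have h2 : ∀ y : Q, y⁻¹ * (θ ^ j) y ∈ Z := by
          intro y
          clear hg
          induction j generalizing y with
          | zero => simp
          | succ j ih =>
            rw [pow_succ', MulAut.mul_apply]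
            have := mul_mem (ih y) (hθZ ((θ ^ j) y))
            simpa [mul_assoc] using this
        refine ⟨_, h2 (⟨y, hy⟩⁻¹), ?_⟩
        simp only [map_inv, Subgroup.coe_subtype, Subgroup.coe_mul, inv_inv,
          InvMemClass.coe_inv, hθv, commutatorElement_def]
        group
      rw [hQ1] at h1
      exact eq_top_iff.mpr fun y _ => by
        obtain ⟨z, hz, hzy⟩ := h1 y.2
        exact (Subtype.ext hzy : z = y) ▸ hz
    obtain ⟨d, hd, hidx⟩ := centre_index_of_class_two ρ hρ hr hr2 hrk hq hqk s hs hfix Q hQ θ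
      (fun x => rfl) hθr hcomm hab hZfix hfree (Or.inl hcen)
    obtain ⟨c, hc⟩ := IsPGroup.iff_card.mp hQ
    have hdvd : d ^ 2 ∣ q ^ c := hc ▸ hidx ▸ Subgroup.index_dvd_card _
    have hmodd : Odd r := hr.odd_of_ne_two hr2
    have hdeven : Even d := by
      rw [← hd, Nat.odd_add] at hmodd
      by_contra h
      exact absurd (hmodd.mp (Nat.not_even_iff_odd.mp h)) (by decide)
    by_cases hq2 : q = 2
    · subst hq2
      obtain ⟨n, -, hn⟩ := (Nat.dvd_prime_pow Nat.prime_two).mp ((dvd_pow_self d two_ne_zero).trans hdvd)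
      exact hnoexc Q le_rfl (fun h => hab (eq_top_iff.mpr fun x _ => Subgroup.mem_center_iff.mpr
        fun y => h.is_comm.comm y x)) rfl n (by omega)
    · have := ((Nat.prime_two.coprime_iff_not_dvd).mpr fun h =>
        hq2 ((Nat.prime_dvd_prime_iff_eq Nat.prime_two hq).mp h).symm).pow_right c
      exact absurd (Nat.eq_one_of_dvd_coprimes this dvd_rfl
        ((even_iff_two_dvd.mp hdeven).trans ((dvd_pow_self d two_ne_zero).trans hdvd))) (by decide)

section Groups

variable {G : Type*} [Group G] [Finite G]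

/-- A faithful linear representation of a group of operators, fixed-point-free at `x`. -/
theorem exists_rep {U Γ₀ : Subgroup G} {x : G} {p r : ℕ} [Fact p.Prime] (hr : r.Prime) (hrp : r ≠ p)
    (hUc : ∀ u ∈ U, ∀ v ∈ U, u * v = v * u) (hUp : ∀ u ∈ U, u ^ p = 1)
    (hΓ : Γ₀ ≤ Subgroup.normalizer (U : Set G)) (hfaith : Γ₀ ⊓ Subgroup.centralizer (U : Set G) = ⊥)
    (hx : x ∈ Γ₀) (hxr : x ^ r = 1) (hfpf : ∀ u ∈ U, x * u * x⁻¹ = u → u = 1) :
    ∃ d : ℕ, ∃ ρ : Γ₀ →* End (AlgebraicClosure (ZMod p)) (Fin d → AlgebraicClosure (ZMod p)),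
      Function.Injective ρ ∧ ∀ w, ρ ⟨x, hx⟩ w = w → w = 0 := by
  letI : CommGroup U := { (inferInstance : Group U) with
    mul_comm := fun u v => Subtype.ext (hUc u u.2 v v.2) }
  obtain ⟨ρ, hρ, hnorm⟩ := FPF.exists_representation (V := U) (s := p) (fun u => Subtype.ext (hUp u u.2))
  let ψ : Γ₀ →* MulAut U := U.normalizerMonoidHom.comp (Subgroup.inclusion hΓ)
  have hψ : Function.Injective ψ := by
    rw [injective_iff_map_eq_one]
    intro g hg
    have h : (g : G) ∈ (⊥ : Subgroup G) := hfaith ▸ ⟨g.2, by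
      refine Subgroup.mem_centralizer_iff.mpr fun u hu => ?_
      have h2 := congrArg (fun f : MulAut U => ((f ⟨u, hu⟩ : U) : G)) hg
      change (g : G) * u * (g : G)⁻¹ = u at h2
      exact (mul_inv_eq_iff_eq_mul.mp h2).symm⟩
    exact Subtype.ext (Subgroup.mem_bot.mp h)
  refine ⟨_, ρ.comp ψ, hρ.comp hψ, fun w hw => ?_⟩
  set σ : MulAut U := ψ ⟨x, hx⟩ with hσdef
  have hσ : σ ^ r = 1 := by
    rw [hσdef, ← map_pow, show (⟨x, hx⟩ : Γ₀) ^ r = 1 from Subtype.ext hxr, map_one]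
  have hsum := hnorm (n := r) (m := 0) (fun i => σ ^ (i : ℕ)) Fin.elim0 fun v => by
    rw [Fin.prod_univ_eq_prod_range (fun i => (σ ^ i) v), Finset.univ_eq_empty, Finset.prod_empty]
    refine Subtype.ext (hfpf _ (SetLike.coe_mem _) ?_)
    refine congrArg (Subtype.val : U → G) (show σ _ = _ from ?_)
    rw [map_prod]
    have h1 := Finset.prod_range_succ (fun i => (σ ^ i) v) r
    rw [Finset.prod_range_succ', hσ, pow_zero] at h1
    simp only [← MulAut.mul_apply, ← pow_succ']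
    exact mul_right_cancel h1
  have hwi : ∀ i : ℕ, ρ (σ ^ i) w = w := by
    intro i
    induction i with
    | zero => simp
    | succ i ih =>
      rw [pow_succ, map_mul, End.mul_apply, show ρ σ w = w from hw, ih]
  have h1 := congrArg (fun f : End _ _ => f w) hsum
  simp only [LinearMap.sum_apply, hwi, Finset.sum_const, Finset.card_univ, Fintype.card_fin,
    LinearMap.zero_apply, Finset.univ_eq_empty, Finset.sum_empty,
    ← Nat.cast_smul_eq_nsmul (AlgebraicClosure (ZMod p))] at h1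
  refine (smul_eq_zero.mp h1).resolve_left fun h => hrp ?_
  exact ((Nat.prime_dvd_prime_iff_eq Fact.out hr).mp
    ((CharP.cast_eq_zero_iff (AlgebraicClosure (ZMod p)) p r).mp h)).symm

theorem natCast_ne_zero_of_prime {p m : ℕ} [Fact p.Prime] (hm : m.Prime) (h : m ≠ p) :
    (m : AlgebraicClosure (ZMod p)) ≠ 0 := fun e =>
  h ((Nat.prime_dvd_prime_iff_eq Fact.out hm).mp
    ((CharP.cast_eq_zero_iff (AlgebraicClosure (ZMod p)) p m).mp e)).symm

omit [Finite G] in
/-- A fixed-point-free involution commutes with all operators of an abelian group. -/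
theorem commute_of_fixedPointFree_two {U Γ₀ : Subgroup G} {x : G}
    (hUc : ∀ u ∈ U, ∀ v ∈ U, u * v = v * u) (hΓ : Γ₀ ≤ Subgroup.normalizer (U : Set G))
    (hfaith : Γ₀ ⊓ Subgroup.centralizer (U : Set G) = ⊥) (hx : x ∈ Γ₀) (hxr : x ^ 2 = 1)
    (hfpf : ∀ u ∈ U, x * u * x⁻¹ = u → u = 1) : ∀ y ∈ Γ₀, Commute x y := by
  have hinv : ∀ u ∈ U, x * u * x⁻¹ = u⁻¹ := by
    intro u hu
    have hxu : x * u * x⁻¹ ∈ U := (Subgroup.mem_normalizer_iff.mp (hΓ hx) u).mp hu
    have h2 : x * x = 1 := by rw [← pow_two, hxr]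
    have h3 : x⁻¹ = x := inv_eq_of_mul_eq_one_right h2
    have h4 : x * (x * u * x⁻¹) * x⁻¹ = u := by
      rw [h3, show x * (x * u * x) * x = (x * x) * u * (x * x) by group, h2, one_mul, mul_one]
    have h5 : u * (x * u * x⁻¹) = 1 := hfpf _ (U.mul_mem hu hxu) (by
      rw [show x * (u * (x * u * x⁻¹)) * x⁻¹ = (x * u * x⁻¹) * (x * (x * u * x⁻¹) * x⁻¹) by group, h4]
      exact hUc _ hxu u hu)
    exact (inv_eq_of_mul_eq_one_right h5).symm
  intro y hy
  have hmem : ⁅x, y⁆ ∈ Γ₀ ⊓ Subgroup.centralizer (U : Set G) := by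
    refine ⟨?_, Subgroup.mem_centralizer_iff.mpr fun u hu => ?_⟩
    · rw [commutatorElement_def]
      exact Γ₀.mul_mem (Γ₀.mul_mem (Γ₀.mul_mem hx hy) (Γ₀.inv_mem hx)) (Γ₀.inv_mem hy)
    · have hyu : ∀ v ∈ U, y⁻¹ * v * y ∈ U := fun v hv =>
        (Subgroup.mem_normalizer_iff''.mp (hΓ hy) v).mp hv
      have hxi : ∀ v ∈ U, x⁻¹ * v * x = v⁻¹ := fun v hv => by
        have := hinv v hv
        have h2 : x * x = 1 := by rw [← pow_two, hxr]
        have h3 : x⁻¹ = x := inv_eq_of_mul_eq_one_right h2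
        rw [h3] at this ⊢
        exact this
      have e1 : y⁻¹ * u * y ∈ U := hyu u hu
      have e2 : x * (y⁻¹ * u * y) * x⁻¹ = (y⁻¹ * u * y)⁻¹ := hinv _ e1
      have e3 : ⁅x, y⁆ * u * ⁅x, y⁆⁻¹ = x * (y * (x⁻¹ * (y⁻¹ * u * y) * x) * y⁻¹) * x⁻¹ := by
        rw [commutatorElement_def]; group
      have e4 : ⁅x, y⁆ * u * ⁅x, y⁆⁻¹ = u := by
        rw [e3, hxi _ e1, show y * (y⁻¹ * u * y)⁻¹ * y⁻¹ = u⁻¹ by group, hinv _ (U.inv_mem hu), inv_inv]
      exact (mul_inv_eq_iff_eq_mul.mp e4).symm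
  rw [hfaith, Subgroup.mem_bot] at hmem
  exact commutatorElement_eq_one_iff_commute.mp hmem

end Groups

end Cfsg.Agent.Lib.OddLocal.Exceptional
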