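import Cfsg.Agent.Lib.OddLocal.FittingUniqueness
import Cfsg.Agent.Lib.Coprime.Hall

/-! Invariant Hall subgroups and commuting invariant `q`- and `r`-subgroups. -/

set_option autoImplicit false

open scoped commutatorElement Pointwise

namespace Cfsg.Agent.Lib.OddLocal

universe u

variable {G : Type u} [Group G] [Finite G]

/-- An invariant Hall subgroup inside a solvable subgroup with a coprime action. -/
theorem exists_invariant_hall {A Y : Subgroup G} (hAY : A ≤ Subgroup.normalizer (Y : Set G))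
    (hcop : (Nat.card A).Coprime (Nat.card Y)) (hY : Group.IsSolvable Y) (π : ℕ → Prop) :
    ∃ T : Subgroup G, T ≤ Y ∧ A ≤ Subgroup.normalizer (T : Set G) ∧
      (∀ r, r.Prime → r ∣ Nat.card T → π r) ∧ ∀ r, r.Prime → r ∣ T.relIndex Y → ¬ π r := by
  let act : MulAction G (Subgroup G) := Coprime.conjActionSubgroup G
  obtain ⟨H, hH1, hH2⟩ := Coprime.exists_hall_of_solvable (G := Y) π
  have hHcop : (Nat.card H).Coprime H.index :=
    Nat.coprime_of_dvd fun r hr h1 h2 => hH2 r hr h2 (hH1 r hr h1)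
  set T₀ := H.map Y.subtype with hT₀
  have hcard : Nat.card T₀ = Nat.card H := Subgroup.card_map_of_injective Y.subtype_injective
  have h : ∀ a ∈ A, ∃ k ∈ Y, a • T₀ = k • T₀ := by
    intro a ha
    have hle : MulAut.conj a • T₀ ≤ Y := fun x hx => by
      rw [Coprime.mem_conj_smul] at hx
      obtain ⟨y, -, hy⟩ := hx
      exact (Subgroup.mem_normalizer_iff''.mp (hAY ha) x).mpr (by rw [← hy]; exact y.2)
    obtain ⟨k, hk⟩ := Coprime.exists_conj_eq_of_solvable hHcop
      (K := (MulAut.conj a • T₀).subgroupOf Y) (by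
        rw [Nat.card_congr (Subgroup.subgroupOfEquivOfLe hle).toEquiv, Coprime.card_conj_smul, hcard])
    refine ⟨k, k.2, ?_⟩
    show MulAut.conj a • T₀ = MulAut.conj (k : G) • T₀
    refine (Subgroup.eq_of_le_of_card_ge ?_ (by rw [Coprime.card_conj_smul, Coprime.card_conj_smul])).symm
    intro x hx
    rw [Coprime.mem_conj_smul] at hx
    obtain ⟨y, hy, hyx⟩ := hx
    have h1 : k * y * k⁻¹ ∈ (MulAut.conj a • T₀).subgroupOf Y := by
      rw [← hk, Coprime.mem_conj_smul]
      simpa [mul_assoc] using hy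
    have hxe : ((k * y * k⁻¹ : Y) : G) = x := by
      simp only [Subgroup.coe_mul, InvMemClass.coe_inv]
      rw [show ((y : Y) : G) = (k : G)⁻¹ * x * k from hyx]
      group
    exact hxe ▸ Subgroup.mem_subgroupOf.mp h1
  obtain ⟨k, hk, hfix⟩ := Coprime.exists_fixed_smul hAY hcop (Or.inr hY) T₀ h
  set T := MulAut.conj k • T₀ with hT
  have hTY : T ≤ Y := fun x hx => by
    rw [hT, Coprime.mem_conj_smul] at hx
    obtain ⟨y, -, hy⟩ := hx
    have : x = k * (y : G) * k⁻¹ := by
      rw [show (y : G) = k⁻¹ * x * k from hy]; group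
    rw [this]
    exact Y.mul_mem (Y.mul_mem hk y.2) (Y.inv_mem hk)
  refine ⟨T, hTY, fun a ha => ?_, fun r hr hd => hH1 r hr ?_, fun r hr hd => hH2 r hr ?_⟩
  · refine Subgroup.mem_normalizer_iff''.mpr fun x => ?_
    have h1 : MulAut.conj a • T = T := hfix a ha
    conv_lhs => rw [← h1]
    exact Coprime.mem_conj_smul
  · rwa [hT, Coprime.card_conj_smul, hcard] at hd
  · have h1 : T.relIndex Y = H.index := by
      refine Nat.eq_of_mul_eq_mul_left (Nat.card_pos (α := H)) ?_
      rw [H.card_mul_index, ← Coprime.relIndex_mul_card hTY, hT, Coprime.card_conj_smul, hcard]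
    rwa [← h1]

/-- An invariant `q`-subgroup of `Y` moves into an invariant Hall subgroup by a fixed element. -/
theorem exists_centralizer_conj_le_hall {A Y T W : Subgroup G}
    (hAY : A ≤ Subgroup.normalizer (Y : Set G)) (hcop : (Nat.card A).Coprime (Nat.card Y))
    (hY : Group.IsSolvable Y) (hTY : T ≤ Y) (hAT : A ≤ Subgroup.normalizer (T : Set G))
    {q : ℕ} [Fact q.Prime] (hq : ¬ q ∣ T.relIndex Y) (hWY : W ≤ Y) (hW : IsPGroup q W)
    (hAW : A ≤ Subgroup.normalizer (W : Set G)) :
    ∃ c ∈ Y, c ∈ Subgroup.centralizer (A : Set G) ∧ W.map (MulAut.conj c).toMonoidHom ≤ T := by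
  have hTs : Group.IsSolvable T :=
    Coprime.isSolvable_of_injective (f := Subgroup.inclusion hTY) (Subgroup.inclusion_injective hTY) hY
  obtain ⟨PT, hPT⟩ := Coprime.exists_invariant_sylow hAT
    (hcop.coprime_dvd_right (Subgroup.card_dvd_of_le hTY)) (Or.inr hTs) q
  obtain ⟨PW, hWP, hPW⟩ :=
    Coprime.exists_invariant_sylow_ge hAY hcop (Or.inr hY) q W hWY hW hAW
  set P₀ := (PT : Subgroup T).map (Subgroup.inclusion hTY) with hP₀
  have hP₀q : IsPGroup q P₀ := PT.isPGroup'.map _
  have hidx : ¬ q ∣ P₀.index := by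
    intro hd
    have h1 : P₀.index = (PT : Subgroup T).index * T.relIndex Y := by
      refine Nat.eq_of_mul_eq_mul_left (Nat.card_pos (α := P₀)) ?_
      rw [P₀.card_mul_index, hP₀, Subgroup.card_map_of_injective (Subgroup.inclusion_injective hTY),
        ← mul_assoc, (PT : Subgroup T).card_mul_index, Coprime.relIndex_mul_card hTY]
    rw [h1] at hd
    rcases (Fact.out : q.Prime).dvd_mul.mp hd with h | h
    · exact PT.not_dvd_index h
    · exact hq h
  set PY : Sylow q Y := hP₀q.toSylow hidx with hPY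
  have hPYmap : (PY : Subgroup Y).map Y.subtype = (PT : Subgroup T).map T.subtype := by
    show P₀.map Y.subtype = _
    rw [hP₀, Subgroup.map_map]
    rfl
  obtain ⟨c, hc, hcP⟩ := Coprime.exists_centralizer_conj_sylow hAY hcop (Or.inr hY) PW PY hPW
    (by rw [hPYmap]; exact hPT)
  refine ⟨c, c.2, hc, ?_⟩
  rintro _ ⟨w, hw, rfl⟩
  have h1 : MulAut.conj (c : G) w ∈ (PY : Subgroup Y).map Y.subtype := by
    rw [← hcP, Coprime.sylow_map_conj_smul, Coprime.mem_conj_smul]
    rw [MulAut.conj_apply]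
    simpa [mul_assoc] using hWP hw
  rw [hPYmap] at h1
  obtain ⟨y, -, hy⟩ := h1
  exact hy ▸ y.2

/-- Coprime subgroups of a derived subgroup lying in the Fitting subgroup centralize each other. -/
theorem le_centralizer_of_commutator_fitting {X W V : Subgroup G}
    (hc : commutator X ≤ Cfsg.fittingSubgroup X) (hW : W ≤ ⁅X, X⁆) (hV : V ≤ ⁅X, X⁆)
    (hcop : (Nat.card W).Coprime (Nat.card V)) : W ≤ Subgroup.centralizer (V : Set G) := by
  have hle : ⁅X, X⁆ ≤ Cfsg.fittingOf X := by
    have h1 : (commutator X).map X.subtype = ⁅X, X⁆ := by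
      rw [commutator_def, Subgroup.map_commutator, ← MonoidHom.range_eq_map, Subgroup.range_subtype]
    rw [← h1]
    exact Subgroup.map_mono hc
  intro w hw
  rw [Subgroup.mem_centralizer_iff]
  intro v hv
  exact (commute_of_mem_nilpotent (isNilpotent_fittingOf X) (hle (hW hw)) (hle (hV hv))
    (((hcop.coprime_dvd_left (Subgroup.orderOf_dvd_natCard _ hw))).coprime_dvd_right
      (Subgroup.orderOf_dvd_natCard _ hv))).symm

/-- Moving invariant `q`- and `r`-subgroups commute after conjugation by fixed elements, when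
invariant `q`- and `r`-subgroups have rank at most two. -/
theorem exists_conj_commuting {A Ω Y W V : Subgroup G} {p q r : ℕ} [Fact p.Prime] [Fact q.Prime]
    [Fact r.Prime] (hodd : Odd (Nat.card G)) (hΩA : Ω ≤ A) (hAc : IsMulCommutative A)
    (hAp : IsPGroup p A) (hqr : q ≠ r)
    (hAY : A ≤ Subgroup.normalizer (Y : Set G)) (hYp : (Nat.card Y).Coprime p)
    (hY : Group.IsSolvable Y)
    (hrank : ∀ t : ℕ, (t = q ∨ t = r) → ∀ U : Subgroup G, U ≤ Y → IsPGroup t U →
      A ≤ Subgroup.normalizer (U : Set G) → Cfsg.PRankLE t 2 U)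
    (hWY : W ≤ Y) (hW : IsPGroup q W) (hAW : A ≤ Subgroup.normalizer (W : Set G)) (hWΩ : ⁅W, Ω⁆ = W)
    (hVY : V ≤ Y) (hV : IsPGroup r V) (hAV : A ≤ Subgroup.normalizer (V : Set G)) (hVΩ : ⁅V, Ω⁆ = V) :
    ∃ c ∈ Subgroup.centralizer (A : Set G), ∃ d ∈ Subgroup.centralizer (A : Set G),
      W.map (MulAut.conj c).toMonoidHom ≤
        Subgroup.centralizer (V.map (MulAut.conj d).toMonoidHom : Set G) := by
  have hp : p.Prime := Fact.out
  have hcop : (Nat.card A).Coprime (Nat.card Y) := by
    obtain ⟨k, hk⟩ := IsPGroup.iff_card.mp hAp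
    rw [hk]; exact (hYp.pow_right k).symm
  obtain ⟨T, hTY, hAT, hT1, hT2⟩ := exists_invariant_hall hAY hcop hY (fun t => t = q ∨ t = r)
  obtain ⟨c, -, hcA, hcW⟩ := exists_centralizer_conj_le_hall hAY hcop hY hTY hAT
    (fun h => hT2 q Fact.out h (Or.inl rfl)) hWY hW hAW
  obtain ⟨d, -, hdA, hdV⟩ := exists_centralizer_conj_le_hall hAY hcop hY hTY hAT
    (fun h => hT2 r Fact.out h (Or.inr rfl)) hVY hV hAV
  refine ⟨c, hcA, d, hdA, ?_⟩
  have hΩT : Ω ≤ Subgroup.normalizer (T : Set G) := hΩA.trans hAT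
  set X := T ⊔ Ω with hX
  have hTX : T ≤ X := le_sup_left
  have hΩX : Ω ≤ X := le_sup_right
  have hTp : (Nat.card T).Coprime p := hYp.coprime_dvd_left (Subgroup.card_dvd_of_le hTY)
  have hΩp : IsPGroup p Ω := hAp.to_le hΩA
  have hTΩ : (Nat.card T).Coprime (Nat.card Ω) := by
    obtain ⟨k, hk⟩ := IsPGroup.iff_card.mp hΩp
    rw [hk]; exact hTp.pow_right k
  have hcardX : Nat.card X = Nat.card T * Nat.card Ω := Coprime.card_sup_of_coprime hΩT hTΩ
  have hAX : A ≤ Subgroup.normalizer (X : Set G) := by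
    refine le_normalizer_of_conj_mem' fun a ha x hx => ?_
    obtain ⟨t, ht, w, hw, rfl⟩ := Coprime.exists_mul_of_mem_sup hΩT hx
    have e : a * (t * w) * a⁻¹ = (a * t * a⁻¹) * w := by
      have h := congrArg Subtype.val (hAc.is_comm.comm ⟨a, ha⟩ ⟨w, hΩA hw⟩)
      calc a * (t * w) * a⁻¹ = (a * t * a⁻¹) * ((a * w) * a⁻¹) := by group
        _ = (a * t * a⁻¹) * ((w * a) * a⁻¹) := by rw [show a * w = w * a from h]
        _ = (a * t * a⁻¹) * w := by group
    rw [e]
    exact mul_mem (hTX ((Subgroup.mem_normalizer_iff.mp (hAT ha) t).mp ht)) (hΩX hw)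
  set T' := T.subgroupOf X with hT'
  have hT'n : T'.Normal :=
    Subgroup.normal_subgroupOf_of_le_normalizer (sup_le Subgroup.le_normalizer hΩT)
  have hT'c : Nat.card T' = Nat.card T := Nat.card_congr (Subgroup.subgroupOfEquivOfLe hTX).toEquiv
  have hT'i : T'.index = Nat.card Ω := by
    refine Nat.eq_of_mul_eq_mul_left (Nat.card_pos (α := T')) ?_
    rw [T'.card_mul_index, hT'c, hcardX]
  have hcopT : ∀ z : X, (orderOf z).Coprime p → z ∈ T' := by
    intro z hz
    rw [← QuotientGroup.eq_one_iff, ← QuotientGroup.mk'_apply, ← orderOf_eq_one_iff]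
    obtain ⟨k, hk⟩ := IsPGroup.iff_card.mp hΩp
    refine Nat.eq_one_of_dvd_coprimes (hz.pow_right k) (orderOf_map_dvd _ z) ?_
    rw [← hk, ← hT'i, Subgroup.index_eq_card]
    exact orderOf_dvd_natCard _
  have hXodd : Odd (Nat.card X) := hodd.of_dvd_nat (Subgroup.card_subgroup_dvd_card X)
  haveI : Group.IsSolvable T' := by
    refine Coprime.isSolvable_of_injective (f := (Subgroup.inclusion hTY).comp
      (Subgroup.subgroupOfEquivOfLe hTX).toMonoidHom) ?_ hY
    exact (Subgroup.inclusion_injective hTY).comp (Subgroup.subgroupOfEquivOfLe hTX).injective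
  haveI : Group.IsSolvable (X ⧸ T') := by
    have : IsPGroup p (X ⧸ T') := by
      obtain ⟨k, hk⟩ := IsPGroup.iff_card.mp hΩp
      exact IsPGroup.of_card (n := k) (by rw [← Subgroup.index_eq_card, hT'i, hk])
    have := this.isNilpotent
    infer_instance
  haveI : Group.IsSolvable X := (Group.isSolvable_iff_subgroup_quotient T').mpr ⟨inferInstance, inferInstance⟩
  have hfit : commutator X ≤ Cfsg.fittingSubgroup X := by
    refine commutator_le_fitting_of_centralizes fun t ht z hz hzc => ?_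
    have := Fact.mk ht
    by_cases htp : t = p
    · subst htp
      rw [Subgroup.mem_centralizer_iff]
      intro w hw
      have h1 : ⁅w, z⁆ ∈ Cfsg.pCore t X ⊓ T' := by
        refine ⟨?_, ?_⟩
        · have h2 := mul_mem hw ((inferInstance : (Cfsg.pCore t X).Normal).conj_mem _ (inv_mem hw) z)
          simpa [commutatorElement_def, mul_assoc] using h2
        · exact T'.mul_mem (hT'n.conj_mem z (hcopT z hzc) w) (T'.inv_mem (hcopT z hzc))
      obtain ⟨k, hk⟩ := IsPGroup.iff_card.mp (Cores.pCore_isPGroup t X)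
      rw [Coprime.inf_eq_bot_of_coprime_card (hk ▸ (hT'c.symm ▸ hTp).symm.pow_left k),
        Subgroup.mem_bot, commutatorElement_eq_one_iff_mul_comm] at h1
      exact h1
    · have hle : pPartOf t X ≤ Y := by
        rintro _ ⟨x, hx, rfl⟩
        obtain ⟨k, hk⟩ := IsPGroup.iff_card.mp (Cores.pCore_isPGroup t X)
        refine hTY (Subgroup.mem_subgroupOf.mp (hcopT x ?_))
        refine Nat.Coprime.coprime_dvd_left (hk ▸ Subgroup.orderOf_dvd_natCard _ hx) ?_
        exact ((Nat.coprime_primes ht hp).mpr htp).pow_left k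
      by_cases htX : t = q ∨ t = r
      · have h := hrank t htX _ hle (isPGroup_pPartOf t X)
          (hAX.trans (normalizer_le_normalizer_pPartOf t X))
        have h' : Cfsg.PRankLE t 2 (Cfsg.pCore t X) := pRankLE_of_injective
          ((Cfsg.pCore t X).equivMapOfInjective _ X.subtype_injective).toMonoidHom
          ((Cfsg.pCore t X).equivMapOfInjective _ X.subtype_injective).injective h
        exact (centralizes_of_rank_two hXodd t (Cfsg.pCore t X) (Cores.pCore_isPGroup t X) h').1 z hz hzc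
      · have h0 : Cfsg.pCore t X = ⊥ := by
          obtain ⟨k, hk⟩ := IsPGroup.iff_card.mp (Cores.pCore_isPGroup t X)
          rcases k with _ | k
          · exact Subgroup.card_eq_one.mp (by rw [hk, pow_zero])
          · exfalso
            have h1 : t ∣ Nat.card X :=
              ((dvd_pow_self t k.succ_ne_zero).trans hk.symm.dvd).trans (Subgroup.card_subgroup_dvd_card _)
            rw [hcardX] at h1
            obtain ⟨i, hi⟩ := IsPGroup.iff_card.mp hΩp
            rcases ht.dvd_mul.mp h1 with h | h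
            · exact htX (hT1 t ht h)
            · exact htp ((Nat.prime_dvd_prime_iff_eq ht hp).mp (ht.dvd_of_dvd_pow (hi ▸ h)))
        rw [h0, Subgroup.mem_centralizer_iff]
        intro w hw
        rw [Subgroup.mem_bot.mp hw, one_mul, mul_one]
  have hder : ∀ {U : Subgroup G} {e : G}, e ∈ Subgroup.centralizer (A : Set G) → ⁅U, Ω⁆ = U →
      U.map (MulAut.conj e).toMonoidHom ≤ T → U.map (MulAut.conj e).toMonoidHom ≤ ⁅X, X⁆ := by
    intro U e he hU hle
    have hΩe : Ω.map (MulAut.conj e).toMonoidHom ≤ Ω := by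
      rintro _ ⟨w, hw, rfl⟩
      show e * w * e⁻¹ ∈ Ω
      rw [← Subgroup.mem_centralizer_iff.mp he w (hΩA hw), mul_inv_cancel_right]
      exact hw
    calc U.map (MulAut.conj e).toMonoidHom
        = ⁅U.map (MulAut.conj e).toMonoidHom, Ω.map (MulAut.conj e).toMonoidHom⁆ := by
          rw [← Subgroup.map_commutator, hU]
      _ ≤ ⁅X, X⁆ := Subgroup.commutator_mono (hle.trans hTX) (hΩe.trans hΩX)
  refine le_centralizer_of_commutator_fitting hfit (hder hcA hWΩ hcW) (hder hdA hVΩ hdV) ?_
  rw [Subgroup.card_map_of_injective (MulAut.conj c).injective,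
    Subgroup.card_map_of_injective (MulAut.conj d).injective]
  obtain ⟨i, hi⟩ := IsPGroup.iff_card.mp hW
  obtain ⟨j, hj⟩ := IsPGroup.iff_card.mp hV
  rw [hi, hj]
  exact ((Nat.coprime_primes Fact.out Fact.out).mpr hqr).pow i j

end Cfsg.Agent.Lib.OddLocal
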