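import Cfsg.Agent.Lib.OddLocal.PStable
import Cfsg.Agent.Lib.OddLocal.NilpotentParts
import Cfsg.Agent.Lib.Coprime.PxQ
import Cfsg.Agent.Lib.Cores.PCore
import Cfsg.Agent.Lib.Transfer.Basic

/-! `p'`-subgroups invariant under a self-centralizing normal subgroup of a Sylow `p`-subgroup. -/

set_option autoImplicit false

open scoped commutatorElement

namespace Cfsg.Agent.Lib.OddLocal

universe u

theorem conj_mem_centralizer_of_normalizes {G : Type u} [Group G] {Y : Subgroup G} {g c : G}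
    (hg : g ∈ Subgroup.normalizer (Y : Set G)) (hc : c ∈ Subgroup.centralizer (Y : Set G)) :
    g * c * g⁻¹ ∈ Subgroup.centralizer (Y : Set G) := by
  rw [Subgroup.mem_centralizer_iff]
  intro y hy
  have h1 := Subgroup.mem_centralizer_iff.mp hc (g⁻¹ * y * g) ((Subgroup.mem_normalizer_iff''.mp hg y).mp hy)
  calc y * (g * c * g⁻¹) = g * (g⁻¹ * y * g * c) * g⁻¹ := by group
    _ = g * (c * (g⁻¹ * y * g)) * g⁻¹ := by rw [h1]
    _ = g * c * g⁻¹ * y := by group

/-- A `p'`-group acts trivially on a `p`-group when a normalizing group forces it to. -/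
theorem le_centralizer_of_commutator_centralized {G : Type u} [Group G] [Finite G] {p : ℕ} [Fact p.Prime]
    {R Y : Subgroup G} (hY : (Nat.card Y).Coprime p) (hRY : R ≤ Subgroup.normalizer (Y : Set G)) :
    ∀ (n : ℕ) (V : Subgroup G), Nat.card V ≤ n → IsPGroup p V →
      R ≤ Subgroup.normalizer (V : Set G) → Y ≤ Subgroup.normalizer (V : Set G) →
      (∀ v ∈ V, ∀ r ∈ R, ⁅v, r⁆ ∈ Subgroup.centralizer (Y : Set G)) →
      V ⊓ Subgroup.centralizer (R : Set G) ≤ Subgroup.centralizer (Y : Set G) →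
      Y ≤ Subgroup.centralizer (V : Set G) := by
  intro n
  induction n with
  | zero => intro V h; exact absurd h (not_le.mpr Nat.card_pos)
  | succ n ih =>
    intro U hn hUp hRU hYU hcm hC
    by_cases hU0 : U = ⊥
    · subst hU0
      intro y _
      exact Subgroup.mem_centralizer_iff.mpr fun x hx => by rw [Subgroup.mem_bot.mp hx, one_mul, mul_one]
    have hcopU : (Nat.card Y).Coprime (Nat.card U) := by
      obtain ⟨k, hk⟩ := IsPGroup.iff_card.mp hUp
      rw [hk]; exact hY.pow_right k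
    have hlt : ∀ {W : Subgroup G}, W < U → Nat.card W ≤ n := fun {W} h => by
      have : Nat.card W < Nat.card U := lt_of_le_of_ne (Subgroup.card_le_of_le h.le)
        fun e => h.ne (Subgroup.eq_of_le_of_card_ge h.le e.ge)
      omega
    have hsub : ∀ {W : Subgroup G}, W < U → R ≤ Subgroup.normalizer (W : Set G) →
        Y ≤ Subgroup.normalizer (W : Set G) → Y ≤ Subgroup.centralizer (W : Set G) := fun {W} h h1 h2 =>
      ih W (hlt h) (hUp.to_le h.le) h1 h2 (fun v hv => hcm v (h.le hv))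
        (le_trans (inf_le_inf_right _ h.le) hC)
    have hYY : Y ≤ Subgroup.normalizer (Y : Set G) := Subgroup.le_normalizer
    have hcomm : ∀ {X : Subgroup G}, X ≤ Subgroup.normalizer (U : Set G) →
        X ≤ Subgroup.normalizer (Y : Set G) → X ≤ Subgroup.normalizer (⁅U, Y⁆ : Subgroup G) := by
      intro X h1 h2 x hx
      refine Subgroup.mem_normalizer_iff_map_conj_eq.mpr ?_
      rw [Subgroup.map_commutator, Subgroup.mem_normalizer_iff_map_conj_eq.mp (h1 hx),
        Subgroup.mem_normalizer_iff_map_conj_eq.mp (h2 hx)]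
    by_cases hUY : ⁅U, Y⁆ < U
    · have h := hsub hUY (hcomm hRU hRY) (hcomm hYU hYY)
      exact Coprime.le_centralizer_of_commutator_commutator_eq_bot hYU hcopU
        (Subgroup.commutator_comm Y ⁅U, Y⁆ ▸ Subgroup.commutator_eq_bot_iff_le_centralizer.mpr h)
    have hUYeq : ⁅U, Y⁆ = U := by
      by_contra h
      exact hUY (lt_of_le_of_ne (Coprime.commutator_le_of_le_normalizer hYU) h)
    have hder : ⁅U, U⁆ < U := Coprime.commutator_lt_of_isPGroup hUp hUp Subgroup.le_normalizer hU0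
    have hnder : ∀ {X : Subgroup G}, X ≤ Subgroup.normalizer (U : Set G) →
        X ≤ Subgroup.normalizer (⁅U, U⁆ : Subgroup G) := by
      intro X h1 x hx
      refine Subgroup.mem_normalizer_iff_map_conj_eq.mpr ?_
      rw [Subgroup.map_commutator, Subgroup.mem_normalizer_iff_map_conj_eq.mp (h1 hx)]
    have hU' : Y ≤ Subgroup.centralizer (⁅U, U⁆ : Subgroup G) := hsub hder (hnder hRU) (hnder hYU)
    set U₀ := U ⊓ Subgroup.centralizer (Y : Set G) with hU₀
    have hU'le : ⁅U, U⁆ ≤ U₀ := le_inf hder.le (Subgroup.le_centralizer_iff.mp hU')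
    have hconjU : ∀ {g : G}, g ∈ Subgroup.normalizer (U : Set G) → g ∈ Subgroup.normalizer (Y : Set G) →
        ∀ a ∈ U₀, g * a * g⁻¹ ∈ U₀ := fun hg hgY a ha =>
      ⟨(Subgroup.mem_normalizer_iff.mp hg a).mp ha.1, conj_mem_centralizer_of_normalizes hgY ha.2⟩
    have hUconj : ∀ u ∈ U, ∀ a ∈ U₀, u * a * u⁻¹ ∈ U₀ := fun u hu a ha => by
      have e : u * a * u⁻¹ = ⁅u, a⁆ * a := by rw [commutatorElement_def]; group
      rw [e]
      exact mul_mem (hU'le (Subgroup.commutator_mem_commutator hu ha.1)) ha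
    have hUN₀ : U ≤ Subgroup.normalizer (U₀ : Set G) := fun u hu =>
      Subgroup.mem_normalizer_iff.mpr fun a => ⟨hUconj u hu a, fun h => by
        have := hUconj u⁻¹ (inv_mem hu) _ h
        simpa [mul_assoc] using this⟩
    have hrU : ∀ u ∈ U, ∀ r ∈ R, r * u * r⁻¹ * u⁻¹ ∈ U₀ := fun u hu r hr => by
      have h : r * u * r⁻¹ * u⁻¹ = ⁅u, r⁆⁻¹ := by rw [commutatorElement_def]; group
      refine ⟨U.mul_mem ((Subgroup.mem_normalizer_iff.mp (hRU hr) u).mp hu) (U.inv_mem hu), ?_⟩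
      rw [h]; exact (Subgroup.centralizer (Y : Set G)).inv_mem (hcm u hu r hr)
    let S : Subgroup G :=
      { carrier := {g | g ∈ Subgroup.normalizer (U : Set G) ∧ g ∈ Subgroup.normalizer (Y : Set G) ∧
          ∀ u ∈ U, g * u * g⁻¹ * u⁻¹ ∈ U₀}
        one_mem' := ⟨one_mem _, one_mem _, fun u _ => by simp⟩
        mul_mem' := fun {a b} ha hb => ⟨mul_mem ha.1 hb.1, mul_mem ha.2.1 hb.2.1, fun u hu => by
          have e : a * b * u * (a * b)⁻¹ * u⁻¹ =
              a * (b * u * b⁻¹ * u⁻¹) * a⁻¹ * (a * u * a⁻¹ * u⁻¹) := by group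
          rw [e]
          exact mul_mem (hconjU ha.1 ha.2.1 _ (hb.2.2 u hu)) (ha.2.2 u hu)⟩
        inv_mem' := fun {a} ha => ⟨(Subgroup.normalizer (U : Set G)).inv_mem ha.1, (Subgroup.normalizer (Y : Set G)).inv_mem ha.2.1, fun u hu => by
          have h1 := ha.2.2 (a⁻¹ * u * a) ((Subgroup.mem_normalizer_iff''.mp ha.1 u).mp hu)
          have e : a⁻¹ * u * a⁻¹⁻¹ * u⁻¹ =
              (a * (a⁻¹ * u * a) * a⁻¹ * (a⁻¹ * u * a)⁻¹)⁻¹ := by group
          rw [e]; exact U₀.inv_mem h1⟩ }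
    have hRS : R ≤ S := fun r hr => ⟨hRU hr, hRY hr, fun u hu => hrU u hu r hr⟩
    have hRYS : ⁅R, Y⁆ ≤ S := Subgroup.commutator_le.mpr fun r hr y hy => by
      have e : ⁅r, y⁆ = r * (y * r⁻¹ * y⁻¹) := by rw [commutatorElement_def]; group
      rw [e]
      refine mul_mem (hRS hr) ⟨mul_mem (mul_mem (hYU hy) (inv_mem (hRU hr))) (inv_mem (hYU hy)),
        mul_mem (mul_mem (hYY hy) (inv_mem (hRY hr))) (inv_mem (hYY hy)), fun u hu => ?_⟩
      have h1 := hrU (y⁻¹ * u * y) ((Subgroup.mem_normalizer_iff''.mp (hYU hy) u).mp hu) r⁻¹ (inv_mem hr)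
      have e : y * r⁻¹ * y⁻¹ * u * (y * r⁻¹ * y⁻¹)⁻¹ * u⁻¹ =
          y * (r⁻¹ * (y⁻¹ * u * y) * r⁻¹⁻¹ * (y⁻¹ * u * y)⁻¹) * y⁻¹ := by group
      rw [e]
      exact hconjU (hYU hy) (hYY hy) _ h1
    have hRYY : ⁅R, Y⁆ ≤ Y := by
      rw [Subgroup.commutator_comm]; exact Coprime.commutator_le_of_le_normalizer hRY
    have hRYc : ⁅R, Y⁆ ≤ Subgroup.centralizer (U : Set G) := by
      refine Coprime.le_centralizer_of_stabilizes (fun g hg => ?_) hUN₀
        ((hcopU.coprime_dvd_right (Subgroup.card_dvd_of_le inf_le_left)).coprime_dvd_left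
          (Subgroup.card_dvd_of_le hRYY)) (fun a ha u hu => (hRYS ha).2.2 u hu)
        (fun g hg => Subgroup.mem_centralizer_iff.mpr fun a ha =>
          (Subgroup.mem_centralizer_iff.mp ha.2 g (hRYY hg)).symm)
      exact Subgroup.mem_normalizer_iff.mpr fun a => ⟨hconjU (hYU (hRYY hg)) (hYY (hRYY hg)) a, fun h => by
        have := hconjU (inv_mem (hYU (hRYY hg))) (inv_mem (hYY (hRYY hg))) _ h
        simpa [mul_assoc] using this⟩
    have h1 : ⁅⁅U, R⁆, Y⁆ = ⊥ := by
      rw [Subgroup.commutator_eq_bot_iff_le_centralizer]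
      exact Subgroup.commutator_le.mpr fun u hu r hr => hcm u hu r hr
    have h2 : ⁅⁅R, Y⁆, U⁆ = ⊥ := Subgroup.commutator_eq_bot_iff_le_centralizer.mpr hRYc
    have h3 := Subgroup.commutator_commutator_eq_bot_of_rotate h1 h2
    rw [Subgroup.commutator_comm Y U, hUYeq, Subgroup.commutator_eq_bot_iff_le_centralizer] at h3
    exact Subgroup.le_centralizer_iff.mp fun u hu => hC ⟨hu, h3 hu⟩

/-- In a solvable group, `p'`-subgroups invariant under `R ⊴ P`, `C_P(R) ≤ R`, lie in `O_{p'}`. -/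
theorem le_pPrimeCore_of_normal_in_sylow {G : Type u} [Group G] [Finite G] [Group.IsSolvable G]
    {p : ℕ} [Fact p.Prime] (P : Sylow p G) {R Y : Subgroup G} (hRP : R ≤ P)
    (hPR : (P : Subgroup G) ≤ Subgroup.normalizer (R : Set G))
    (hC : (P : Subgroup G) ⊓ Subgroup.centralizer (R : Set G) ≤ R)
    (hY : (Nat.card Y).Coprime p) (hRY : R ≤ Subgroup.normalizer (Y : Set G)) :
    Y ≤ Cfsg.pPrimeCore p G := by
  set N := Cfsg.pPrimeCore p G with hN
  set π := QuotientGroup.mk' N with hπ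
  have hπs : Function.Surjective π := QuotientGroup.mk'_surjective N
  haveI : Group.IsSolvable (G ⧸ N) := Group.isSolvable_of_surjective hπs
  set V := Cfsg.pCore p (G ⧸ N) with hV
  have hVp : IsPGroup p V := Cores.pCore_isPGroup p _
  have hVP : V ≤ (P : Subgroup G).map π := Cores.pCore_le_sylow (P.mapSurjective hπs)
  have hYbar : (Nat.card (Y.map π)).Coprime p := hY.coprime_dvd_left (Subgroup.card_map_dvd _ _)
  have hRYbar : R.map π ≤ Subgroup.normalizer (Y.map π : Set (G ⧸ N)) :=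
    (Subgroup.map_mono hRY).trans (Subgroup.le_normalizer_map π)
  have hnorm : ∀ X : Subgroup (G ⧸ N), X ≤ Subgroup.normalizer (V : Set (G ⧸ N)) := fun X g _ => by
    rw [Subgroup.normalizer_eq_top]; trivial
  have hVR : ∀ d ∈ V, d ∈ R.map π → d ∈ Subgroup.centralizer ((Y.map π : Subgroup (G ⧸ N)) : Set (G ⧸ N)) := by
    intro d hd hdR
    rw [Subgroup.mem_centralizer_iff]
    intro y hy
    rw [← commutatorElement_eq_one_iff_mul_comm]
    have h1 : ⁅y, d⁆ ∈ V := mul_mem ((inferInstance : V.Normal).conj_mem d hd y) (inv_mem hd)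
    have h2 : ⁅y, d⁆ ∈ Y.map π := by
      rw [commutatorElement_def, mul_assoc, mul_assoc]
      refine mul_mem hy ?_
      have := (Subgroup.mem_normalizer_iff.mp (hRYbar hdR) y⁻¹).mp (inv_mem hy)
      simpa [mul_assoc] using this
    exact Transfer.eq_one_of_isPGroup_of_coprime hVp h1 (Transfer.coprime_orderOf_of_mem hYbar h2)
  have hPN : ∀ x ∈ (P : Subgroup G), x ∈ N → x = 1 := fun x hx hxN =>
    Transfer.eq_one_of_isPGroup_of_coprime P.isPGroup' hx
      (Transfer.coprime_orderOf_of_mem (Cores.pPrimeCore_coprime p G) hxN)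
  have key := le_centralizer_of_commutator_centralized hYbar hRYbar _ V le_rfl hVp (hnorm _) (hnorm _)
    (fun v hv r hr => hVR _ (by
      have e : ⁅v, r⁆ = v * (r * v⁻¹ * r⁻¹) := by rw [commutatorElement_def]; group
      rw [e]
      exact mul_mem hv ((inferInstance : V.Normal).conj_mem _ (inv_mem hv) r)) (by
      obtain ⟨s, hs, rfl⟩ := hVP hv
      obtain ⟨t, ht, rfl⟩ := hr
      rw [← map_commutatorElement]
      exact Subgroup.mem_map_of_mem π (mul_mem ((Subgroup.mem_normalizer_iff.mp (hPR hs) t).mp ht) (inv_mem ht))))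
    (fun v hv => hVR v hv.1 (by
      obtain ⟨s, hs, rfl⟩ := hVP hv.1
      refine Subgroup.mem_map_of_mem π (hC ⟨hs, Subgroup.mem_centralizer_iff.mpr fun t ht => ?_⟩)
      rw [← commutatorElement_eq_one_iff_mul_comm]
      refine hPN _ ?_ ((QuotientGroup.eq_one_iff _).mp ?_)
      · exact mul_mem (mul_mem (mul_mem (hRP ht) hs) (inv_mem (hRP ht))) (inv_mem hs)
      · show π ⁅t, s⁆ = 1
        rw [map_commutatorElement, commutatorElement_eq_one_iff_mul_comm]
        exact Subgroup.mem_centralizer_iff.mp hv.2 _ (Subgroup.mem_map_of_mem π ht)))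
  have h2 : Y.map π ≤ V := key.trans (centralizer_pCore_le (Cores.pPrimeCore_quotient_pPrimeCore p G))
  intro y hy
  refine (QuotientGroup.eq_one_iff y).mp (show π y = 1 from ?_)
  exact Transfer.eq_one_of_isPGroup_of_coprime hVp (h2 (Subgroup.mem_map_of_mem π hy))
    (Transfer.coprime_orderOf_of_mem hYbar (Subgroup.mem_map_of_mem π hy))

/-- `P` is a Sylow `p`-subgroup of the subgroup `M`. -/
def IsSylowIn {G : Type u} [Group G] (p : ℕ) (P M : Subgroup G) : Prop :=
  IsPGroup p P ∧ P ≤ M ∧ ∀ Q : Subgroup G, IsPGroup p Q → Q ≤ M → P ≤ Q → Q = P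

/-- The Sylow subgroup of `M` given by `IsSylowIn`. -/
theorem exists_sylow_of_isSylowIn {G : Type u} [Group G] {p : ℕ} {P M : Subgroup G} (h : IsSylowIn p P M) :
    ∃ S : Sylow p M, (S : Subgroup M) = P.subgroupOf M := by
  obtain ⟨hP, hPM, hmax⟩ := h
  refine ⟨⟨P.subgroupOf M, hP.comap_of_injective M.subtype M.subtype_injective, fun {Q} hQ hle => ?_⟩, rfl⟩
  have h1 := hmax (Q.map M.subtype) (hQ.map M.subtype) (Subgroup.map_subtype_le Q) (fun x hx =>
    ⟨⟨x, hPM hx⟩, hle hx, rfl⟩)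
  rw [← h1, Subgroup.subgroupOf, Subgroup.comap_map_eq_self_of_injective M.subtype_injective]

theorem le_normalizer_subgroupOf {G : Type u} [Group G] {M X Y : Subgroup G}
    (h : X ≤ Subgroup.normalizer (Y : Set G)) :
    X.subgroupOf M ≤ Subgroup.normalizer (Y.subgroupOf M : Set M) := fun x hx =>
  Subgroup.mem_normalizer_iff.mpr fun y => by
    simpa [Subgroup.mem_subgroupOf] using Subgroup.mem_normalizer_iff.mp (h hx) (y : G)

/-- The subgroup form of `le_pPrimeCore_of_normal_in_sylow`. -/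
theorem le_pComplOf_of_normal_in_sylow {G : Type u} [Group G] [Finite G] {p : ℕ} [Fact p.Prime]
    {M P R Y : Subgroup G} (hMs : Group.IsSolvable M) (hP : IsSylowIn p P M) (hRP : R ≤ P)
    (hPR : P ≤ Subgroup.normalizer (R : Set G)) (hC : P ⊓ Subgroup.centralizer (R : Set G) ≤ R)
    (hYM : Y ≤ M) (hY : (Nat.card Y).Coprime p) (hRY : R ≤ Subgroup.normalizer (Y : Set G)) :
    Y ≤ pComplOf p M := by
  obtain ⟨S, hS⟩ := exists_sylow_of_isSylowIn hP
  have hRM : R ≤ M := hRP.trans hP.2.1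
  have h := le_pPrimeCore_of_normal_in_sylow S (R := R.subgroupOf M) (Y := Y.subgroupOf M)
    (hS ▸ fun x hx => hRP hx) (hS ▸ le_normalizer_subgroupOf hPR) ?_
    (by rwa [Nat.card_congr (Subgroup.subgroupOfEquivOfLe hYM).toEquiv]) (le_normalizer_subgroupOf hRY)
  · exact fun y hy => ⟨⟨y, hYM hy⟩, h hy, rfl⟩
  · rintro ⟨x, hxM⟩ ⟨hx1, hx2⟩
    rw [hS] at hx1
    refine hC ⟨hx1, Subgroup.mem_centralizer_iff.mpr fun r hr => ?_⟩
    exact congrArg Subtype.val (Subgroup.mem_centralizer_iff.mp hx2 ⟨r, hRM hr⟩ hr)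

end Cfsg.Agent.Lib.OddLocal
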