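import Cfsg.Agent.Lib.Solvable.ShultGross.Special
import Cfsg.Agent.Lib.Solvable.FPF.Module
import Cfsg.Agent.Lib.Coprime.Action

/-!
An element of odd prime order normalising a `q`-group of operators, `q` odd, commutes with it
unless it fixes a nonzero vector.
-/

set_option autoImplicit false

namespace Cfsg.Agent.Lib.OddLocal

open Module Cfsg.Agent.Lib Cfsg.Agent.Lib.Solvable Cfsg.Agent.Lib.Solvable.ShultGross
open scoped commutatorElement

variable {k : Type*} [Field k] [IsAlgClosed k] {W : Type*} [AddCommGroup W] [Module k W]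
  [FiniteDimensional k W] {Γ : Type*} [Group Γ] [Finite Γ]

/-- The linear form. -/
theorem commute_of_fixedPointFree_linear (ρ : Γ →* End k W) (hρ : Function.Injective ρ) {r : ℕ}
    (hr : r.Prime) (hr2 : r ≠ 2) (hrk : (r : k) ≠ 0) {q : ℕ} (hq : q.Prime) (hq2 : q ≠ 2)
    (hqk : (q : k) ≠ 0) (hqr : q ≠ r) (s : Γ) (hs : s ^ r = 1)
    (hfix : ∀ w, ρ s w = w → w = 0) :
    ∀ (N : ℕ) (Q : Subgroup Γ), Nat.card Q = N → IsPGroup q Q →
      s ∈ Subgroup.normalizer (Q : Set Γ) → ∀ x ∈ Q, Commute s x := by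
  intro N
  induction N using Nat.strongRecOn with
  | ind N IH =>
  intro Q hN hQ hsQ
  haveI := Fact.mk hr
  haveI := Fact.mk hq
  by_contra hne
  set A := Subgroup.zpowers s with hA
  have hAQ : A ≤ Subgroup.normalizer (Q : Set Γ) := Subgroup.zpowers_le.mpr hsQ
  have hcop : (Nat.card A).Coprime (Nat.card Q) := by
    obtain ⟨c, hc⟩ := IsPGroup.iff_card.mp hQ
    rw [hc, hA, Nat.card_zpowers]
    exact Nat.Coprime.coprime_dvd_left (orderOf_dvd_of_pow_eq_one hs)
      (((Nat.coprime_primes hr hq).mpr (Ne.symm hqr)).pow_right c)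
  have hcA : ∀ {H : Subgroup Γ}, (∀ x ∈ H, Commute s x) → H ≤ Subgroup.centralizer (A : Set Γ) := by
    intro H h x hx
    rw [Subgroup.mem_centralizer_iff]
    rintro _ ⟨i, rfl⟩
    exact ((h x hx).zpow_left i).eq
  have hsmall : ∀ H : Subgroup Γ, H < Q → s ∈ Subgroup.normalizer (H : Set Γ) →
      ∀ x ∈ H, Commute s x := by
    intro H hH hsH
    refine IH _ ?_ H rfl (hQ.to_le hH.le) hsH
    rw [← hN]
    exact lt_of_not_ge fun h => hH.ne (Subgroup.eq_of_le_of_card_ge hH.le h)
  have hQ1 : ⁅Q, A⁆ = Q := by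
    by_contra h
    have hlt : ⁅Q, A⁆ < Q := lt_of_le_of_ne (Coprime.commutator_le_of_le_normalizer hAQ) h
    have hs1 : s ∈ Subgroup.normalizer ((⁅Q, A⁆ : Subgroup Γ) : Set Γ) :=
      Subgroup.normalizer_commutator_ge_right Q A (Subgroup.mem_zpowers s)
    have h2 : ⁅⁅Q, A⁆, A⁆ = ⊥ := by
      rw [Subgroup.commutator_eq_bot_iff_le_centralizer]
      exact hcA (hsmall _ hlt hs1)
    rw [Coprime.commutator_commutator_eq hAQ hcop (Or.inl (Coprime.isSolvable_zpowers _)),
      Subgroup.commutator_eq_bot_iff_le_centralizer] at h2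
    exact hne fun x hx => Subgroup.mem_centralizer_iff.mp (h2 hx) s (Subgroup.mem_zpowers s)
  have hcentral : ∀ H : Subgroup Γ, H < Q → s ∈ Subgroup.normalizer (H : Set Γ) →
      Q ≤ Subgroup.normalizer (H : Set Γ) → ∀ h ∈ H, ∀ x ∈ Q, x * h = h * x := by
    intro H hH hsH hQH h hh x hx
    have h1 : ⁅⁅A, H⁆, Q⁆ = ⊥ := by
      rw [Subgroup.commutator_comm A H, (Subgroup.commutator_eq_bot_iff_le_centralizer).mpr
        (hcA (hsmall H hH hsH)), Subgroup.commutator_bot_left]
    have h2 : ⁅⁅H, Q⁆, A⁆ = ⊥ := by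
      rw [Subgroup.commutator_eq_bot_iff_le_centralizer]
      exact (Subgroup.le_normalizer_iff_commutator_le_left.mp hQH).trans (hcA (hsmall H hH hsH))
    have h3 := Subgroup.commutator_commutator_eq_bot_of_rotate h1 h2
    rw [hQ1, Subgroup.commutator_eq_bot_iff_le_centralizer] at h3
    exact (Subgroup.mem_centralizer_iff.mp (h3 hx) h hh).symm
  -- move to the group `Q`
  let θ : MulAut Q := Q.normalizerMonoidHom ⟨s, hsQ⟩
  have hθv : ∀ (i : ℕ) (x : Q), (((θ ^ i) x : Q) : Γ) = s ^ i * x * (s ^ i)⁻¹ := by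
    intro i
    induction i with
    | zero => intro x; simp
    | succ i ih =>
      intro x
      rw [pow_succ, MulAut.mul_apply, ih, pow_succ, mul_inv_rev]
      show s ^ i * (s * x * s⁻¹) * (s ^ i)⁻¹ = _
      group
  have hθr : θ ^ r = 1 := MulEquiv.ext fun x => Subtype.ext (by rw [hθv, hs]; simp)
  have hθ1 : ∀ x : Q, θ x = x ↔ Commute s (x : Γ) := fun x => by
    rw [Subtype.ext_iff]
    show s * x * s⁻¹ = x ↔ _
    rw [mul_inv_eq_iff_eq_mul]
    rfl
  obtain ⟨x₀, hx₀⟩ : ∃ x : Q, θ x ≠ x := by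
    by_contra h
    push Not at h
    exact hne fun x hx => (hθ1 ⟨x, hx⟩).mp (h _)
  have hmap : ∀ H : Subgroup Q, (∀ x ∈ H, θ x ∈ H) →
      s ∈ Subgroup.normalizer ((H.map Q.subtype : Subgroup Γ) : Set Γ) := by
    intro H hH
    rw [Subgroup.mem_normalizer_iff_map_conj_eq]
    refine Subgroup.eq_of_le_of_card_ge ?_ (Subgroup.card_map_of_injective (MulAut.conj s).injective).ge
    rintro _ ⟨_, ⟨x, hx, rfl⟩, rfl⟩
    exact ⟨θ x, hH x hx, rfl⟩
  have hmapn : ∀ H : Subgroup Q, H.Normal →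
      Q ≤ Subgroup.normalizer ((H.map Q.subtype : Subgroup Γ) : Set Γ) := by
    intro H hH
    rw [Subgroup.le_normalizer_iff]
    rintro x hx _ ⟨h, hh, rfl⟩
    exact ⟨_, hH.conj_mem h hh ⟨x, hx⟩, rfl⟩
  have hltQ : ∀ H : Subgroup Q, H ≠ ⊤ → H.map Q.subtype < Q := fun H hH => by
    refine lt_of_le_of_ne (Subgroup.map_subtype_le _) fun e => hH ?_
    refine eq_top_iff.mpr fun x _ => ?_
    obtain ⟨y, hy, hyx⟩ := e.ge x.2
    exact (Subtype.ext hyx : y = x) ▸ hy
  set Z := Subgroup.center Q with hZdef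
  have hcen : ∀ H : Subgroup Q, H.Normal → (∀ x ∈ H, θ x ∈ H) → H ≠ ⊤ → H ≤ Z :=
    fun H hn' hinv hH h hh => Subgroup.mem_center_iff.mpr fun x => Subtype.ext
      (hcentral _ (hltQ H hH) (hmap H hinv) (hmapn H hn') h ⟨h, hh, rfl⟩ x x.2)
  have hfixed : ∀ H : Subgroup Q, (∀ x ∈ H, θ x ∈ H) → H ≠ ⊤ → ∀ h ∈ H, θ h = h :=
    fun H hinv hH h hh => (hθ1 h).mpr (hsmall _ (hltQ H hH) (hmap H hinv) h ⟨h, hh, rfl⟩)
  have hθchar : ∀ H : Subgroup Q, H.Characteristic → ∀ x ∈ H, θ x ∈ H := fun H hH x hx =>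
    (Subgroup.characteristic_iff_map_le.mp hH θ) ⟨x, hx, rfl⟩
  haveI : Nontrivial Q := ⟨⟨θ x₀, x₀, hx₀⟩⟩
  haveI : Group.IsNilpotent Q := hQ.isNilpotent
  have hcomm : commutator Q ≤ Z :=
    hcen _ inferInstance (hθchar _ inferInstance) (Group.IsSolvable.commutator_lt_top_of_nontrivial (G := Q)).ne
  let E : Q →* End k W := ρ.comp Q.subtype
  have hE : ∀ x, E x = 1 → x = 1 := fun x hx => Subtype.ext (hρ (hx.trans (map_one ρ).symm))
  have hTE : ∀ x, ρ s * E x = E (θ x) * ρ s := fun x => by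
    show ρ s * ρ x = ρ (s * x * s⁻¹) * ρ s
    rw [← map_mul, ← map_mul, inv_mul_cancel_right]
  have hT : ρ s ^ r = 1 := by rw [← map_pow, hs, map_one]
  have hqQ : ∀ H : Subgroup Q, (Nat.card H : k) ≠ 0 := fun H => by
    obtain ⟨c, hc⟩ := IsPGroup.iff_card.mp (hQ.to_subgroup H)
    rw [hc, Nat.cast_pow]
    exact pow_ne_zero _ hqk
  by_cases hab : Z = ⊤
  · set w := θ x₀ * x₀⁻¹ with hw
    obtain ⟨χ, v, hv0, hv, hχ⟩ := FPF.exists_weight E ⊤
      (fun a _ b _ => (Subgroup.mem_center_iff.mp (hab ▸ Subgroup.mem_top b : b ∈ Z) a)) (hqQ ⊤)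
      (Subgroup.mem_top w) (fun e => hx₀ (mul_inv_eq_one.mp (hE _ e)))
    let χ' : Q → k := fun y => χ ⟨y, Subgroup.mem_top y⟩
    have hv' : ∀ y, E y v = χ' y • v := fun y => hv ⟨y, Subgroup.mem_top y⟩
    obtain ⟨M, hM, hMd, hMfix, hMmin⟩ := exists_period θ χ' hr.pos hθr
    rcases (Nat.dvd_prime hr).mp hMd with rfl | rfl
    · apply hχ
      have hmul : ∀ y z, χ' (y * z) = χ' y * χ' z := fun y z => by
        refine smul_left_injective k hv0 ?_
        show χ' (y * z) • v = (χ' y * χ' z) • v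
        rw [← hv', map_mul, End.mul_apply, hv', map_smul, hv', smul_smul, mul_comm]
      have h1 : χ' w * χ' x₀ = χ' (θ x₀) := by rw [← hmul, hw, inv_mul_cancel_right]
      have h3 := hMfix x₀
      rw [pow_one] at h3
      rw [h3] at h1
      refine (mul_eq_right₀ fun e => hv0 ?_).mp h1
      have h2 := congrArg (E x₀⁻¹) ((hv' x₀).trans (by rw [e, zero_smul]))
      rwa [map_zero, ← End.mul_apply, ← map_mul, inv_mul_cancel, map_one, End.one_apply] at h2
    · obtain ⟨u, -, hu0, hu⟩ := orbit_sum (fun y => E y) (ρ s) θ hTE χ' v hv0 hv' _ hM hMmin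
        (by rw [hT]; rfl) ⊤ trivial fun _ _ => trivial
      exact hu0 (hfix u hu)
  · -- class two, with the centre fixed
    have hZfix : ∀ z ∈ Z, θ z = z := hfixed _ (hθchar _ inferInstance) hab
    have hZfixi : ∀ (i : ℕ), ∀ z ∈ Z, (θ ^ i) z = z := by
      intro i
      induction i with
      | zero => intro z _; rfl
      | succ i ih => intro z hz; rw [pow_succ, MulAut.mul_apply, hZfix z hz, ih z hz]
    let cm : Q → Q → Z := fun x y =>
      ⟨⁅x, y⁆, hcomm (Subgroup.commutator_mem_commutator (Subgroup.mem_top x) (Subgroup.mem_top y))⟩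
    have hfree : ∀ i : ℕ, ¬ r ∣ i → ∀ x : Q, x⁻¹ * (θ ^ i) x ∈ Z → x ∈ Z := by
      intro i hi
      let H : Subgroup Q :=
        { carrier := {x | x⁻¹ * (θ ^ i) x ∈ Z}
          one_mem' := by simp
          mul_mem' := fun {a b} ha hb => by
            simp only [Set.mem_ofPred_eq] at ha hb ⊢
            have e : (a * b)⁻¹ * (θ ^ i) (a * b) = (a⁻¹ * (θ ^ i) a) * (b⁻¹ * (θ ^ i) b) := by
              rw [map_mul]
              calc (a * b)⁻¹ * ((θ ^ i) a * (θ ^ i) b) = b⁻¹ * (a⁻¹ * (θ ^ i) a) * (θ ^ i) b := by group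
                _ = (a⁻¹ * (θ ^ i) a) * b⁻¹ * (θ ^ i) b := by rw [Subgroup.mem_center_iff.mp ha b⁻¹]
                _ = _ := by group
            rw [e]
            exact mul_mem ha hb
          inv_mem' := fun {a} ha => by
            simp only [Set.mem_ofPred_eq] at ha ⊢
            have e : a⁻¹⁻¹ * (θ ^ i) a⁻¹ = (a⁻¹ * (θ ^ i) a)⁻¹ := by
              rw [map_inv, inv_inv]
              have h := Subgroup.mem_center_iff.mp (inv_mem ha) a
              calc a * ((θ ^ i) a)⁻¹ = a * ((a⁻¹ * (θ ^ i) a)⁻¹) * a⁻¹ := by group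
                _ = _ := by rw [h]; group
            rw [e]
            exact inv_mem ha }
      have hHn : H.Normal := Subgroup.Normal.of_commutator_le Q (hcomm.trans fun z hz => by
        show z⁻¹ * (θ ^ i) z ∈ Z
        rw [hZfixi i z hz, inv_mul_cancel]; exact one_mem _)
      have hHinv : ∀ x ∈ H, θ x ∈ H := fun x hx => by
        show (θ x)⁻¹ * (θ ^ i) (θ x) ∈ Z
        have e : (θ ^ i) (θ x) = θ ((θ ^ i) x) := by
          rw [← MulAut.mul_apply, ← MulAut.mul_apply, ← pow_succ, ← pow_succ']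
        rw [e, ← map_inv, ← map_mul, hZfix _ hx]
        exact hx
      intro x hx
      refine hcen H hHn hHinv (fun hH => ?_) hx
      -- otherwise `θ` is trivial modulo the centre
      have hall : ∀ (a : ℕ) (y : Q), y⁻¹ * (θ ^ (i * a)) y ∈ Z := by
        intro a
        induction a with
        | zero => intro y; simp
        | succ a ih =>
          intro y
          have h2 : ((θ ^ (i * a)) y) ∈ H := hH ▸ Subgroup.mem_top _
          have := mul_mem (ih y) (show ((θ ^ (i * a)) y)⁻¹ * (θ ^ i) ((θ ^ (i * a)) y) ∈ Z from h2)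
          rw [mul_assoc, mul_inv_cancel_left, ← MulAut.mul_apply, ← pow_add] at this
          rwa [Nat.mul_succ, add_comm]
      obtain ⟨a, ha⟩ : ∃ a, i * a % r = 1 := by
        obtain ⟨a, -, ha⟩ := Nat.exists_mul_mod_eq_gcd (n := i) (k := r) (by
          rw [show i.gcd r = 1 from ((hr.coprime_iff_not_dvd.mpr hi).symm)]; exact hr.one_lt)
        exact ⟨a, ha.trans ((hr.coprime_iff_not_dvd.mpr hi).symm)⟩
      have hθZ : ∀ y : Q, y⁻¹ * θ y ∈ Z := fun y => by
        have h := hall a y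
        rwa [← Nat.div_add_mod (i * a) r, ha, pow_add, pow_mul, hθr, one_pow, one_mul, pow_one] at h
      apply hab
      have h1 : ⁅Q, A⁆ ≤ Z.map Q.subtype := by
        rw [Subgroup.commutator_le]
        intro y hy g hg
        obtain ⟨j, hj⟩ := (isOfFinOrder_of_finite s).mem_powers_iff_mem_zpowers.mpr hg
        change s ^ j = g at hj
        subst hj
        have h2 : ∀ y : Q, y⁻¹ * (θ ^ j) y ∈ Z := by
          intro y
          clear hg
          induction j generalizing y with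
          | zero => simp
          | succ j ih =>
            rw [pow_succ', MulAut.mul_apply]
            have := mul_mem (ih y) (hθZ ((θ ^ j) y))
            simpa [mul_assoc] using this
        refine ⟨_, h2 (⟨y, hy⟩⁻¹), ?_⟩
        simp only [map_inv, Subgroup.coe_subtype, Subgroup.coe_mul, inv_inv,
          InvMemClass.coe_inv, hθv, commutatorElement_def]
        group
      rw [hQ1] at h1
      exact eq_top_iff.mpr fun y _ => by
        obtain ⟨z, hz, hzy⟩ := h1 y.2
        exact (Subtype.ext hzy : z = y) ▸ hz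
    -- a character of the centre
    obtain ⟨a, b, hab'⟩ : ∃ a b : Q, cm a b ≠ 1 := by
      by_contra h
      push Not at h
      exact hab (eq_top_iff.mpr fun x _ => Subgroup.mem_center_iff.mpr fun g => by
        exact commutatorElement_eq_one_iff_mul_comm.mp (congrArg Subtype.val (h g x)))
    obtain ⟨χ, w0, hw00, hw0, hχ⟩ := FPF.exists_weight E Z
      (fun x hx y _ => (Subgroup.mem_center_iff.mp hx y).symm) (hqQ Z) (cm a b).2
      (fun e => hab' (Subtype.ext (hE _ e)))
    have hχmul : ∀ y z, χ (y * z) = χ y * χ z := fun y z => by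
      refine smul_left_injective k hw00 ?_
      show χ (y * z) • w0 = (χ y * χ z) • w0
      rw [← hw0, Subgroup.coe_mul, map_mul, End.mul_apply, hw0 z, map_smul, hw0 y, smul_smul, mul_comm]
    have hχ1 : χ 1 = 1 := smul_left_injective k hw00
      (show χ 1 • w0 = (1 : k) • w0 by rw [← hw0, OneMemClass.coe_one, map_one, one_smul]; rfl)
    -- the weight space
    let Inv : Submodule k W → Prop := fun U => U ≠ ⊥ ∧ (∀ x, ∀ w ∈ U, E x w ∈ U) ∧
      (∀ w ∈ U, ρ s w ∈ U) ∧ ∀ (z : Z), ∀ w ∈ U, E (z : Q) w = χ z • w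
    let V : Submodule k W := ⨅ z : Z, End.eigenspace (E (z : Q)) (χ z)
    have hVmem : ∀ {w}, w ∈ V ↔ ∀ z : Z, E (z : Q) w = χ z • w := by
      simp [V, Submodule.mem_iInf, End.mem_eigenspace_iff]
    have hInv : Inv V := by
      refine ⟨(Submodule.ne_bot_iff _).mpr ⟨w0, hVmem.mpr hw0, hw00⟩, fun x w hw => ?_, fun w hw => ?_,
        fun z w hw => hVmem.mp hw z⟩
      · refine hVmem.mpr fun z => ?_
        rw [← End.mul_apply, ← map_mul, ← Subgroup.mem_center_iff.mp z.2 x, map_mul, End.mul_apply,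
          hVmem.mp hw z, map_smul]
      · refine hVmem.mpr fun z => ?_
        have h1 := congrArg (fun e : End k W => e w) (hTE (z : Q))
        simp only [End.mul_apply, hVmem.mp hw, map_smul, hZfix _ z.2] at h1
        exact h1.symm
    classical
    have hex : ∃ d, ∃ U, Inv U ∧ finrank k U = d := ⟨_, V, hInv, rfl⟩
    obtain ⟨U, ⟨hU0, hUE, hUT, hUZ⟩, hUd⟩ := Nat.find_spec hex
    have hUmin : ∀ U', Inv U' → U' ≤ U → U' = U := fun U' h' hle =>
      Submodule.eq_of_le_of_finrank_le hle (hUd ▸ Nat.find_le ⟨U', h', rfl⟩)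
    haveI : Nontrivial U := Submodule.nontrivial_iff_ne_bot.mpr hU0
    have hmodd : Odd r := hr.odd_of_ne_two hr2
    let EU : Q →* End k U :=
      { toFun := fun x => (E x).restrict (hUE x)
        map_one' := LinearMap.ext fun w => Subtype.ext (by simp)
        map_mul' := fun x y => LinearMap.ext fun w => Subtype.ext (by simp) }
    let TU : End k U := (ρ s).restrict hUT
    have hTU : ∀ i (w : U), (((TU ^ i) w : U) : W) = (ρ s ^ i) w := by
      intro i
      induction i with
      | zero => intro w; simp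
      | succ i ih => intro w; rw [pow_succ, End.mul_apply, ih, pow_succ, End.mul_apply]; rfl
    let D : Data k U Q :=
      { E := EU, T := TU, φ := θ, m := r, β := fun x y => χ (cm x y)
        hm := hmodd
        hT := LinearMap.ext fun w => Subtype.ext (by rw [hTU, hT]; rfl)
        hφ := hθr
        hTE := fun x => LinearMap.ext fun w => Subtype.ext (by
          show ρ s (E x w) = E (θ x) (ρ s w)
          rw [← End.mul_apply, hTE]; rfl)
        hβ := fun x y => LinearMap.ext fun w => Subtype.ext (by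
          show E x (E y w) = χ (cm x y) • E y (E x w)
          rw [← hUZ (cm x y) _ (hUE y _ (hUE x _ w.2)), ← End.mul_apply, ← End.mul_apply, ← End.mul_apply,
            ← map_mul, ← map_mul, ← map_mul]
          congr 2
          simp only [cm, commutatorElement_def, mul_assoc, inv_mul_cancel_left, inv_mul_cancel, mul_one]) }
    letI : Fintype Q := Fintype.ofFinite Q
    have hQk : (Fintype.card Q : k) ≠ 0 := by
      rw [← Nat.card_eq_fintype_card, ← Subgroup.card_top]
      exact hqQ ⊤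
    have hRne : D.R ≠ ⊤ := fun h => hχ ((h ▸ Subgroup.mem_top a : a ∈ D.R) b)
    have hRinv : ∀ x ∈ D.R, θ x ∈ D.R := fun x hx y => by
      rw [show y = θ (θ⁻¹ y) from (by simp)]
      exact (D.β_map x _).trans (hx _)
    have hRZ : D.R ≤ Z := hcen _ inferInstance hRinv hRne
    have hZR : Z ≤ D.R := fun z hz y => by
      show χ (cm z y) = 1
      rw [show cm z y = 1 from Subtype.ext
        (commutatorElement_eq_one_iff_mul_comm.mpr (Subgroup.mem_center_iff.mp hz y).symm)]
      exact hχ1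
    have hfree' : D.Free := fun i x hi hx => hZR (hfree i hi x (hRZ hx))
    have hscal : D.RadScalar := fun z hz => ⟨χ ⟨z, hRZ hz⟩, LinearMap.ext fun w => Subtype.ext
      (hUZ ⟨z, hRZ hz⟩ _ w.2)⟩
    have hfixU : ∀ w, D.T w = w → w = 0 := fun w hw =>
      Subtype.ext (hfix _ (congrArg Subtype.val hw))
    have hminU : ∀ U' : Submodule k U, (∀ x, ∀ w ∈ U', D.E x w ∈ U') → (∀ w ∈ U', D.T w ∈ U') →
        U' = ⊥ ∨ U' = ⊤ := by
      intro U' hE' hT'
      by_cases h : U' = ⊥
      · exact Or.inl h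
      refine Or.inr ?_
      have h' : U'.map U.subtype = U := hUmin _ ⟨fun h0 => h ?_, ?_, ?_, ?_⟩ (U.map_subtype_le U')
      · refine Submodule.map_injective_of_injective U.injective_subtype ?_
        rw [h', Submodule.map_subtype_top]
      · refine Submodule.map_injective_of_injective U.injective_subtype ?_
        rw [h0, Submodule.map_bot]
      · rintro x _ ⟨w, hw, rfl⟩
        exact ⟨_, hE' x w hw, rfl⟩
      · rintro _ ⟨w, hw, rfl⟩
        exact ⟨_, hT' w hw, rfl⟩
      · rintro z _ ⟨w, -, rfl⟩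
        exact hUZ z _ w.2
    obtain ⟨hdim, hidx⟩ := D.exceptional hQk hrk hscal hRne hfree' hfixU hminU
    change finrank k U + 1 = r at hdim
    obtain ⟨c, hc⟩ := IsPGroup.iff_card.mp hQ
    have hodd : Odd (finrank k U ^ 2) := by
      rw [← hidx]
      exact (Odd.of_dvd_nat (by rw [hc]; exact (hq.odd_of_ne_two hq2).pow) D.R.index_dvd_card)
    rw [← hdim, Nat.odd_add] at hmodd
    exact absurd (hmodd.mp ((Nat.odd_pow_iff two_ne_zero).mp hodd)) (by decide)

/-- The action on an elementary abelian group. -/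
theorem commute_of_fixedPointFree_mulAut {V : Type*} [CommGroup V] [Finite V] {p : ℕ} [Fact p.Prime]
    (hV : ∀ v : V, v ^ p = 1) {r q : ℕ} (hr : r.Prime) (hr2 : r ≠ 2) (hrp : r ≠ p) (hq : q.Prime)
    (hq2 : q ≠ 2) (hqp : q ≠ p) (hqr : q ≠ r) (σ : MulAut V) (hσ : σ ^ r = 1)
    (hfpf : ∀ v, σ v = v → v = 1) (Q : Subgroup (MulAut V)) (hQ : IsPGroup q Q)
    (hσQ : σ ∈ Subgroup.normalizer (Q : Set (MulAut V))) : ∀ x ∈ Q, Commute σ x := by
  obtain ⟨ρ, hρ, hnorm⟩ := FPF.exists_representation (s := p) hV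
  have hk : ∀ m : ℕ, m.Prime → m ≠ p → (m : AlgebraicClosure (ZMod p)) ≠ 0 := fun m hm hne h =>
    hne (((Nat.prime_dvd_prime_iff_eq Fact.out hm).mp
      ((CharP.cast_eq_zero_iff (AlgebraicClosure (ZMod p)) p m).mp h)).symm)
  refine commute_of_fixedPointFree_linear ρ hρ hr hr2 (hk r hr hrp) hq hq2 (hk q hq hqp) hqr σ hσ
    (fun w hw => ?_) _ Q rfl hQ hσQ
  have hsum := hnorm (n := r) (m := 0) (fun i => σ ^ (i : ℕ)) Fin.elim0 fun v => by
    rw [Fin.prod_univ_eq_prod_range (fun i => (σ ^ i) v), Finset.univ_eq_empty, Finset.prod_empty]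
    refine hfpf _ ?_
    rw [map_prod]
    have h1 := Finset.prod_range_succ (fun i => (σ ^ i) v) r
    rw [Finset.prod_range_succ', hσ, pow_zero] at h1
    simp only [← MulAut.mul_apply, ← pow_succ']
    exact mul_right_cancel h1
  have hwi : ∀ i : ℕ, ρ (σ ^ i) w = w := by
    intro i
    induction i with
    | zero => simp
    | succ i ih => rw [pow_succ, map_mul, End.mul_apply, hw, ih]
  have h1 := congrArg (fun f : End _ _ => f w) hsum
  simp only [LinearMap.sum_apply, hwi, Finset.sum_const, Finset.card_univ, Fintype.card_fin,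
    LinearMap.zero_apply, Finset.univ_eq_empty, Finset.sum_empty,
    ← Nat.cast_smul_eq_nsmul (AlgebraicClosure (ZMod p))] at h1
  exact (smul_eq_zero.mp h1).resolve_left (hk r hr hrp)

end Cfsg.Agent.Lib.OddLocal
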