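import Cfsg.Prelude.Def_OddOrderLocal
import Cfsg.Agent.Lib.OddLocal.GoodGroups
import Cfsg.Agent.Lib.OddLocal.RankTwo
import Cfsg.Agent.Lib.OddLocal.GLTwo
import Cfsg.Agent.Lib.OddLocal.RankTwoFitting
import Cfsg.Agent.Lib.OddLocal.OmegaExtend
import Cfsg.Agent.Lib.PLocal.SmallClass
import Cfsg.Agent.Lib.Frobenius.UniqueSubgroup

/-!
`p`-groups of rank at most two generated by the commutators with a coprime group of odd order.
-/

set_option autoImplicit false

open scoped commutatorElement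

namespace Cfsg.Agent.Lib.OddLocal

universe u

variable {p : ℕ} [hp : Fact p.Prime]

theorem commute_commutator_of_card_le_cube {Q : Type u} [Group Q] [Finite Q] (hQ : IsPGroup p Q)
    (h : Nat.card Q ≤ p ^ 3) : ∀ x y z : Q, Commute ⁅x, y⁆ z := by
  intro x y z
  rcases subsingleton_or_nontrivial Q with hs | hn
  · exact Subsingleton.elim _ _
  obtain ⟨c, -, hco, hcc⟩ := PLocal.exists_central_prime_mem hQ (top_ne_bot : (⊤ : Subgroup Q) ≠ ⊥)
  haveI hN : (Subgroup.zpowers c).Normal := ⟨fun t ht g => by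
    rw [Subgroup.mem_center_iff.mp (Subgroup.zpowers_le.mpr hcc ht) g, mul_inv_cancel_right]; exact ht⟩
  have hle : Nat.card (Q ⧸ Subgroup.zpowers c) ≤ p ^ 2 := by
    have h1 := Subgroup.card_eq_card_quotient_mul_card_subgroup (Subgroup.zpowers c)
    rw [Nat.card_zpowers, hco] at h1
    refine Nat.le_of_mul_le_mul_right ?_ hp.out.pos
    rw [← h1, ← pow_succ]; exact h
  have h2 : ⁅x, y⁆ ∈ Subgroup.zpowers c := (QuotientGroup.eq_one_iff _).mp (by
    rw [← QuotientGroup.mk'_apply, map_commutatorElement]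
    exact commutatorElement_eq_one_iff_mul_comm.mpr (comm_of_card_le_sq (hQ.to_quotient _) hle _ _))
  exact (Subgroup.mem_center_iff.mp (Subgroup.zpowers_le.mpr hcc h2) z).symm

theorem commutator_eq_center_of_cube {G : Type u} [Group G] [Finite G] {E : Subgroup G}
    (hE : Nat.card E = p ^ 3) (hnc : ¬ IsMulCommutative E) :
    ⁅E, E⁆ = E ⊓ Subgroup.centralizer (E : Set G) ∧ Nat.card ↥⁅E, E⁆ = p := by
  have hEp : IsPGroup p E := IsPGroup.of_card hE
  have h2 := commute_commutator_of_card_le_cube hEp hE.le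
  have hle : ⁅E, E⁆ ≤ E ⊓ Subgroup.centralizer (E : Set G) := Subgroup.commutator_le.mpr fun a ha b hb =>
    ⟨E.mul_mem (E.mul_mem (E.mul_mem ha hb) (E.inv_mem ha)) (E.inv_mem hb), Subgroup.mem_centralizer_iff.mpr
      fun e he => congrArg Subtype.val (h2 ⟨a, ha⟩ ⟨b, hb⟩ ⟨e, he⟩).symm.eq⟩
  have hne : ⁅E, E⁆ ≠ ⊥ := fun h => hnc ⟨⟨fun a b => Subtype.ext
    (commutatorElement_eq_one_iff_mul_comm.mp (Subgroup.mem_bot.mp
      (h ▸ Subgroup.commutator_mem_commutator a.2 b.2)))⟩⟩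
  have hZp : Nat.card ↥(E ⊓ Subgroup.centralizer (E : Set G)) ≤ p := by
    have hcl : (E ⊓ Subgroup.centralizer (E : Set G)).subgroupOf E = Subgroup.center E := by
      ext x
      rw [Subgroup.mem_subgroupOf, Subgroup.mem_inf, Subgroup.mem_center_iff]
      constructor
      · intro h y
        exact Subtype.ext (Subgroup.mem_centralizer_iff.mp h.2 y y.2)
      · intro h
        exact ⟨x.2, Subgroup.mem_centralizer_iff.mpr fun y hy => congrArg Subtype.val (h ⟨y, hy⟩)⟩
    rw [← Nat.card_congr (Subgroup.subgroupOfEquivOfLe (inf_le_left)).toEquiv, hcl]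
    obtain ⟨i, hi, hZi⟩ := (Nat.dvd_prime_pow hp.out).mp (hE ▸ Subgroup.card_subgroup_dvd_card (Subgroup.center E))
    rw [hZi]
    by_contra h
    have hi2 : 2 ≤ i := by
      by_contra h2'
      exact h ((Nat.pow_le_pow_right hp.out.pos (show i ≤ 1 by omega)).trans (pow_one p).le)
    have h1 := Subgroup.card_mul_index (Subgroup.center E)
    rw [hE, hZi] at h1
    have hidx : (Subgroup.center E).index ∣ p ^ 1 := by
      refine Nat.dvd_of_mul_dvd_mul_left (pow_pos hp.out.pos i) ?_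
      rw [h1, ← pow_add]; exact pow_dvd_pow p (by omega)
    haveI : IsCyclic (E ⧸ Subgroup.center E) := by
      rcases (Nat.dvd_prime hp.out).mp (by simpa using hidx) with h' | h'
      · haveI : Subsingleton (E ⧸ Subgroup.center E) := (Nat.card_eq_one_iff_unique.mp h').1
        infer_instance
      · exact isCyclic_of_prime_card (p := p) h'
    exact hnc ⟨⟨commutative_of_cyclic_center_quotient (QuotientGroup.mk' (Subgroup.center E))
      (by rw [QuotientGroup.ker_mk'])⟩⟩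
  obtain ⟨i, -, hi⟩ := (Nat.dvd_prime_pow hp.out).mp
    (hE ▸ Subgroup.card_dvd_of_le (hle.trans inf_le_left) : Nat.card ↥⁅E, E⁆ ∣ p ^ 3)
  have hi1 : i ≠ 0 := fun h => hne (Subgroup.card_eq_one.mp (by rw [hi, h, pow_zero]))
  have hge : p ≤ Nat.card ↥⁅E, E⁆ := hi ▸ Nat.le_of_dvd (pow_pos hp.out.pos _) (dvd_pow_self p hi1)
  have heq := Subgroup.eq_of_le_of_card_ge hle (hZp.trans hge)
  exact ⟨heq, le_antisymm (by rw [heq]; exact hZp) hge⟩

/-- A group of exponent `p` and rank at most two has order at most `p ^ 3`. -/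
theorem card_le_cube_of_exponent {H : Type u} [Group H] [Finite H] (hexp : ∀ x : H, x ^ p = 1)
    (hr : Cfsg.PRankLE p 2 H) : Nat.card H ≤ p ^ 3 := by
  have hH : IsPGroup p H := fun x => ⟨1, by rw [pow_one]; exact hexp x⟩
  by_contra hbig
  rw [not_le] at hbig
  haveI hH1 : Nontrivial H := Finite.one_lt_card_iff_nontrivial.mp
    (lt_of_le_of_lt (Nat.one_le_pow _ _ hp.out.pos) hbig)
  obtain ⟨z, -, hzo, hzc⟩ := PLocal.exists_central_prime_mem hH (top_ne_bot : (⊤ : Subgroup H) ≠ ⊥)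
  haveI : (Subgroup.zpowers z).Normal := ⟨fun t ht g => by
    rw [Subgroup.mem_center_iff.mp (Subgroup.zpowers_le.mpr hzc ht) g, mul_inv_cancel_right]; exact ht⟩
  set π := QuotientGroup.mk' (Subgroup.zpowers z) with hπ
  haveI : Nontrivial (H ⧸ Subgroup.zpowers z) := Finite.one_lt_card_iff_nontrivial.mp (by
    have h1 := Subgroup.card_eq_card_quotient_mul_card_subgroup (Subgroup.zpowers z)
    rw [Nat.card_zpowers, hzo] at h1
    by_contra h
    have h2 : Nat.card H ≤ 1 * p := h1 ▸ Nat.mul_le_mul_right p (not_lt.mp h)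
    have h3 : p ≤ p ^ 3 := Nat.le_self_pow (by norm_num) p
    omega)
  obtain ⟨wb, -, hwo, hwc⟩ := PLocal.exists_central_prime_mem (hH.to_quotient (Subgroup.zpowers z))
    (top_ne_bot : (⊤ : Subgroup (H ⧸ Subgroup.zpowers z)) ≠ ⊥)
  haveI : (Subgroup.zpowers wb).Normal := ⟨fun t ht g => by
    rw [Subgroup.mem_center_iff.mp (Subgroup.zpowers_le.mpr hwc ht) g, mul_inv_cancel_right]; exact ht⟩
  set N := (Subgroup.zpowers wb).comap π with hN
  have hNc : Nat.card N = p ^ 2 := by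
    rw [hN, Coprime.card_comap_mk', Nat.card_zpowers, Nat.card_zpowers, hzo, hwo, sq]
  have hi : (Subgroup.centralizer (N : Set H)).index ≤ p := index_centralizer_le hH N hNc
  have hNcomm : ∀ a b : N, a * b = b * a := comm_of_card_le_sq (hH.to_subgroup N) hNc.le
  have hCN : Subgroup.centralizer (N : Set H) ≤ N := by
    intro x hx
    by_contra hxN
    have hel : Cfsg.IsElementaryAbelian p (N ⊔ Subgroup.zpowers x) :=
      isElementary_sup_zpowers_exp ⟨⟨⟨hNcomm⟩⟩, fun a _ => hexp a⟩ hx (hexp x)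
    have h1 := hr _ hel.1 hel.2
    exact hxN ((Subgroup.eq_of_le_of_card_ge le_sup_left (hNc ▸ h1)).symm ▸
      Subgroup.mem_sup_right (Subgroup.mem_zpowers x))
  have h1 : Nat.card H ≤ p ^ 2 * p := by
    rw [← Subgroup.card_mul_index (Subgroup.centralizer (N : Set H))]
    exact Nat.mul_le_mul (hNc ▸ Subgroup.card_le_of_le hCN) hi
  rw [← pow_succ, show 2 + 1 = 3 from rfl] at h1
  omega
where
  isElementary_sup_zpowers_exp {H : Type u} [Group H] {E : Subgroup H}
      (hE : Cfsg.IsElementaryAbelian p E) {x : H} (hx : x ∈ Subgroup.centralizer (E : Set H))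
      (hxp : x ^ p = 1) : Cfsg.IsElementaryAbelian p (E ⊔ Subgroup.zpowers x) := by
    have hBeq : E ⊔ Subgroup.zpowers x = Subgroup.closure ((E : Set H) ∪ {x}) := by
      rw [Subgroup.closure_union, Subgroup.closure_eq, ← Subgroup.zpowers_eq_closure]
    have hcomm : IsMulCommutative (Subgroup.closure ((E : Set H) ∪ {x})) :=
      Subgroup.isMulCommutative_closure (by
        rintro a (ha | rfl) b (hb | rfl)
        · exact congrArg Subtype.val (hE.1.is_comm.comm ⟨a, ha⟩ ⟨b, hb⟩)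
        · exact hx a ha
        · exact (hx b hb).symm
        · rfl)
    rw [hBeq]
    refine ⟨hcomm, fun b hb => ?_⟩
    induction hb using Subgroup.closure_induction with
    | mem a ha => rcases ha with ha | rfl
                  · exact hE.2 a ha
                  · exact hxp
    | one => exact one_pow _
    | mul a b ha hb iha ihb =>
      rw [(show Commute a b from congrArg Subtype.val (hcomm.is_comm.comm ⟨a, ha⟩ ⟨b, hb⟩)).mul_pow,
        iha, ihb, one_mul]
    | inv a _ iha => rw [inv_pow, iha, inv_one]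

theorem smallClass_of_card_le_four (h3 : 3 < p) {H : Type u} [Group H] [Finite H] (hH : IsPGroup p H)
    (h : Nat.card H ≤ p ^ 4) : PLocal.SmallClass p H := by
  refine Or.inr ⟨h3, ?_⟩
  rcases subsingleton_or_nontrivial H with hs | hn
  · exact Subgroup.eq_bot_of_subsingleton _
  obtain ⟨z, -, hzo, hzc⟩ := PLocal.exists_central_prime_mem hH (top_ne_bot : (⊤ : Subgroup H) ≠ ⊥)
  haveI : (Subgroup.zpowers z).Normal := ⟨fun t ht g => by
    rw [Subgroup.mem_center_iff.mp (Subgroup.zpowers_le.mpr hzc ht) g, mul_inv_cancel_right]; exact ht⟩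
  have hle : Nat.card (H ⧸ Subgroup.zpowers z) ≤ p ^ 3 := by
    have h1 := Subgroup.card_eq_card_quotient_mul_card_subgroup (Subgroup.zpowers z)
    rw [Nat.card_zpowers, hzo] at h1
    refine Nat.le_of_mul_le_mul_right ?_ hp.out.pos
    rw [← h1, ← pow_succ]; exact h
  have h2 := commute_commutator_of_card_le_cube (hH.to_quotient (Subgroup.zpowers z)) hle
  have hmem : ⁅commutator H, (⊤ : Subgroup H)⁆ ≤ Subgroup.zpowers z := by
    rw [← QuotientGroup.ker_mk' (Subgroup.zpowers z), ← Subgroup.map_eq_bot_iff, commutator_def,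
      Subgroup.map_commutator, Subgroup.map_commutator,
      Subgroup.map_top_of_surjective _ (QuotientGroup.mk'_surjective _),
      Subgroup.commutator_eq_bot_iff_le_centralizer]
    refine Subgroup.commutator_le.mpr fun a _ b _ => Subgroup.mem_centralizer_iff.mpr fun c _ => ?_
    exact (h2 a b c).symm.eq
  rw [Subgroup.commutator_eq_bot_iff_le_centralizer]
  refine hmem.trans ((Subgroup.zpowers_le.mpr hzc).trans ?_)
  exact Subgroup.center_le_centralizer _

/-- All subgroups of exponent `p` have order at most `p ^ 2`: then so do quotients of exponent `p`. -/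
theorem index_le_sq_of_small_exp (h3 : 3 < p) : ∀ (n : ℕ) {R : Type u} [Group R] [Finite R],
    Nat.card R ≤ n → IsPGroup p R →
      (∀ H : Subgroup R, (∀ x ∈ H, x ^ p = 1) → Nat.card H ≤ p ^ 2) →
      ∀ N : Subgroup R, N.Normal → (∀ x : R, x ^ p ∈ N) → N.index ≤ p ^ 2 := by
  intro n
  induction n with
  | zero => intro R _ _ hn; exact absurd hn (not_le.mpr Nat.card_pos)
  | succ n ih =>
    intro R _ _ hn hR hsmall N hN hNp
    haveI := hN
    by_cases hN1 : N = ⊥
    · have h := hsmall ⊤ fun x _ => by simpa [hN1] using hNp x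
      rw [Subgroup.card_top] at h
      rwa [hN1, Subgroup.index_bot]
    obtain ⟨z, hzN, hzo, hzc⟩ := PLocal.exists_central_prime_mem hR hN1
    set Z := Subgroup.zpowers z with hZ
    haveI hZn : Z.Normal := ⟨fun t ht g => by
      rw [Subgroup.mem_center_iff.mp (Subgroup.zpowers_le.mpr hzc ht) g, mul_inv_cancel_right]; exact ht⟩
    have hZN : Z ≤ N := Subgroup.zpowers_le.mpr hzN
    set π := QuotientGroup.mk' Z with hπ
    have hcard := Subgroup.card_eq_card_quotient_mul_card_subgroup Z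
    rw [Nat.card_zpowers, hzo] at hcard
    have hlt : Nat.card (R ⧸ Z) ≤ n := by
      have h2 : 2 ≤ p := hp.out.two_le
      have : 0 < Nat.card (R ⧸ Z) := Nat.card_pos
      nlinarith
    have key : ∀ H : Subgroup (R ⧸ Z), (∀ x ∈ H, x ^ p = 1) → Nat.card H ≤ p ^ 2 := by
      intro H hH
      by_contra hbig
      rw [not_le] at hbig
      obtain ⟨i, hi⟩ := IsPGroup.iff_card.mp ((hR.to_quotient Z).to_subgroup H)
      have hi3 : 3 ≤ i := by
        by_contra h
        exact absurd hbig (not_lt.mpr (hi ▸ Nat.pow_le_pow_right hp.out.pos (by omega)))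
      obtain ⟨K, hK⟩ := Sylow.exists_subgroup_card_pow_prime p
        (show p ^ 3 ∣ Nat.card H from hi ▸ pow_dvd_pow p hi3)
      set H' := (K.map H.subtype).comap π with hH'
      have hH'c : Nat.card H' = p ^ 4 := by
        rw [hH', Coprime.card_comap_mk', Subgroup.card_map_of_injective H.subtype_injective, hK,
          Nat.card_zpowers, hzo]
        ring
      have hxp : ∀ x : H', (x : R) ^ p ∈ Z := by
        rintro ⟨x, hx⟩
        obtain ⟨k, hk, hkx⟩ := Subgroup.mem_comap.mp hx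
        rw [← QuotientGroup.eq_one_iff, ← QuotientGroup.mk'_apply, map_pow, ← hπ, ← hkx]
        exact hH _ k.2
      have hs : PLocal.SmallClass p H' := smallClass_of_card_le_four h3 (hR.to_subgroup H') hH'c.le
      have hpc : ∀ (x g : H'), Commute (x ^ p) g := fun x g => Subtype.ext
        (Subgroup.mem_center_iff.mp (Subgroup.zpowers_le.mpr hzc (hxp x)) (g : R)).symm
      have hder : commutator H' ≤ Subgroup.closure {x : H' | x ^ p = 1} := by
        rw [commutator_def]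
        refine Subgroup.commutator_le.mpr fun a _ b _ => ?_
        obtain ⟨c, d, e, h1, h2, -, -, hdc, -, -, -⟩ := PLocal.smallClass_formula hs b⁻¹ a⁻¹
        have hk := PLocal.mul_pow_eq h1 h2 hdc p
        have hdp : d ^ p = 1 := by
          have := hk.1
          rw [← (hpc b⁻¹ c).eq] at this
          exact mul_eq_left.mp this.symm
        have hcp : c ^ p = 1 := by
          have h4 := hk.2
          obtain ⟨m, hm⟩ := hp.out.dvd_choose_self (k := 2) (by omega) (by omega)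
          rw [hm, pow_mul, hdp, one_pow, mul_one, ← (hpc b⁻¹ a⁻¹).eq] at h4
          exact mul_eq_left.mp h4.symm
        have hc : c = ⁅a, b⁆ := by
          have : c = (b⁻¹ * a⁻¹)⁻¹ * (a⁻¹ * b⁻¹) := by rw [h1]; group
          rw [this, commutatorElement_def]; group
        exact Subgroup.subset_closure (hc ▸ hcp)
      let f : H' →* Z :=
        { toFun := fun x => ⟨(x : R) ^ p, hxp x⟩
          map_one' := Subtype.ext (by simp)
          map_mul' := fun x y => Subtype.ext (by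
            simpa using congrArg Subtype.val (PLocal.smallClass_mul_pow hs hder x y)) }
      have hker : Nat.card f.ker * f.ker.index = Nat.card H' := Subgroup.card_mul_index _
      rw [Subgroup.index_ker, hH'c] at hker
      have hr : Nat.card f.range ≤ p := by
        refine (Subgroup.card_le_card_group _).trans ?_
        rw [Nat.card_zpowers, hzo]
      have h5 := hsmall (f.ker.map H'.subtype) (by
        rintro _ ⟨x, hx, rfl⟩
        exact congrArg Subtype.val (MonoidHom.mem_ker.mp hx))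
      rw [Subgroup.card_map_of_injective H'.subtype_injective] at h5
      have h6 : p ^ 4 ≤ p ^ 2 * p := hker ▸ Nat.mul_le_mul h5 hr
      rw [← pow_succ] at h6
      exact absurd h6 (not_le.mpr (Nat.pow_lt_pow_right hp.out.one_lt (by norm_num)))
    have h := ih hlt (hR.to_quotient Z) key (N.map π) (hN.map π (QuotientGroup.mk'_surjective Z))
      (fun q => by
        obtain ⟨x, rfl⟩ := QuotientGroup.mk'_surjective Z q
        exact ⟨x ^ p, hNp x, map_pow π x p⟩)
    rwa [Subgroup.index_map_eq N (QuotientGroup.mk'_surjective Z) (by rw [QuotientGroup.ker_mk']; exact hZN)] at h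

variable {G : Type u} [Group G] [Finite G]

theorem three_lt_of_odd_operators (hp2 : p ≠ 2) {R A : Subgroup G} (hR : IsPGroup p R) (hR1 : R ≠ ⊥)
    (hr : Cfsg.PRankLE p 2 R) (hA : A ≤ Subgroup.normalizer (R : Set G))
    (hcop : (Nat.card A).Coprime p) (hodd : Odd (Nat.card A)) (hRA : ⁅R, A⁆ = R) : 3 < p := by
  obtain ⟨ψ, hψ⟩ := exists_twoDim hp2 hR hr hA
  by_contra h
  have h2 := hp.out.two_le
  have hp3 : p = 3 := by omega
  refine hR1 ?_
  rw [← hRA, Subgroup.commutator_eq_bot_iff_le_centralizer, Subgroup.le_centralizer_iff]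
  set ψ' := ψ.toHomUnits with hψ'
  have hone : Nat.card ψ'.range = 1 := by
    rw [Nat.eq_one_iff_not_exists_prime_dvd]
    intro q hq hqd
    have hdA : q ∣ Nat.card A := hqd.trans (Subgroup.card_range_dvd ψ')
    have hq2 : q ≠ 2 := fun h => by
      rw [h] at hdA
      exact Nat.not_even_iff_odd.mpr hodd (even_iff_two_dvd.mpr hdA)
    have hqp : q ≠ p := fun h => by
      rw [h] at hdA
      exact hp.out.ne_one (Nat.Coprime.eq_one_of_dvd hcop.symm hdA)
    have h4 := (le_of_prime_dvd_card_two p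
      ((Units.coeHom (Matrix (Fin 2) (Fin 2) (ZMod p))).comp ψ'.range.subtype)
      (fun a b hab => Subtype.ext (Units.ext hab)) hq hq2 hp2 hqd).1
    have := hq.two_le
    omega
  intro a ha
  refine hψ ⟨a, ha⟩ ?_ ?_
  · have h1 : ψ' ⟨a, ha⟩ ∈ ψ'.range := ⟨_, rfl⟩
    rw [Subgroup.card_eq_one.mp hone, Subgroup.mem_bot] at h1
    exact congrArg Units.val h1
  · exact hcop.coprime_dvd_left (Subgroup.orderOf_coe (⟨a, ha⟩ : A) ▸ orderOf_dvd_natCard _)

/-- The structure of such groups. -/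
theorem odd_operators_structure (hp2 : p ≠ 2) {R A : Subgroup G} (hR : IsPGroup p R) (h3 : 3 < p)
    (hr : Cfsg.PRankLE p 2 R) (hA : A ≤ Subgroup.normalizer (R : Set G))
    (hcop : (Nat.card A).Coprime p) (hodd : Odd (Nat.card A)) (hRA : ⁅R, A⁆ = R)
    (hnab : ¬ IsMulCommutative R) :
    ∃ R₁ R₂ : Subgroup G, R₁ ⊔ R₂ = R ∧ (∀ a ∈ R₁, ∀ b ∈ R₂, a * b = b * a) ∧
        ¬ IsMulCommutative R₁ ∧ Nat.card R₁ = p ^ 3 ∧ Monoid.exponent R₁ = p ∧ IsCyclic R₂ ∧
        Subgroup.closure {x : G | x ∈ R₂ ∧ x ^ p = 1} = ⁅R₁, R₁⁆ := by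
  -- a subgroup of exponent `p` and order `p ^ 3`
  obtain ⟨E, hER, hEexp, hEc⟩ : ∃ E : Subgroup G, E ≤ R ∧ (∀ x ∈ E, x ^ p = 1) ∧ Nat.card E = p ^ 3 := by
    by_contra hno
    push Not at hno
    refine hnab (commute_of_good_subgroup hp2 hR hA hcop hRA fun N hN hNp =>
      index_le_sq_of_small_exp h3 (Nat.card R) le_rfl hR (fun H hH => ?_) N hN hNp)
    by_contra hbig
    rw [not_le] at hbig
    obtain ⟨i, hi⟩ := IsPGroup.iff_card.mp (hR.to_subgroup H)
    have hi3 : 3 ≤ i := by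
      by_contra h
      exact absurd hbig (not_lt.mpr (hi ▸ Nat.pow_le_pow_right hp.out.pos (by omega)))
    obtain ⟨K, hK⟩ := Sylow.exists_subgroup_card_pow_prime p
      (show p ^ 3 ∣ Nat.card H from hi ▸ pow_dvd_pow p hi3)
    refine hno ((K.map H.subtype).map R.subtype) (Subgroup.map_subtype_le _) ?_ ?_
    · rintro _ ⟨_, ⟨k, -, rfl⟩, rfl⟩
      exact congrArg Subtype.val (hH k k.2)
    · rw [Subgroup.card_map_of_injective R.subtype_injective,
        Subgroup.card_map_of_injective H.subtype_injective, hK]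
  have hrS : ∀ S : Subgroup G, S ≤ R → Cfsg.PRankLE p 2 S := fun S hS =>
    pRankLE_of_injective (Subgroup.inclusion hS) (Subgroup.inclusion_injective hS) hr
  have hEnab : ¬ IsMulCommutative E := fun h => by
    have h1 := hrS E hER ⊤ ⟨⟨fun a b => Subtype.ext (h.is_comm.comm (a : E) (b : E))⟩⟩
      fun a _ => Subtype.ext (hEexp a a.2)
    rw [Subgroup.card_top, hEc] at h1
    exact absurd h1 (not_le.mpr (Nat.pow_lt_pow_right hp.out.one_lt (by norm_num)))
  obtain ⟨hEE, hEEc⟩ := commutator_eq_center_of_cube hEc hEnab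
  have hin : ∀ x ∈ R, x ^ p = 1 → x ∈ Subgroup.normalizer (E : Set G) → x ∈ E := by
    intro x hx hxp hxn
    by_contra hxE
    set H := E ⊔ Subgroup.zpowers x with hH
    have hHR : H ≤ R := sup_le hER (Subgroup.zpowers_le.mpr hx)
    have hxo : orderOf x = p := orderOf_eq_prime hxp fun h => hxE (h ▸ one_mem E)
    have hcard : Nat.card H = p ^ 4 := by
      have h1 := Coprime.card_sup_mul_card_inf (N := E) (H := Subgroup.zpowers x)
        (Subgroup.zpowers_le.mpr hxn)
      rw [Nat.card_zpowers, hxo, hEc] at h1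
      have hinf : Nat.card ↥(E ⊓ Subgroup.zpowers x) = 1 := by
        rcases (Nat.dvd_prime hp.out).mp (hxo ▸ Nat.card_zpowers x ▸
          Subgroup.card_dvd_of_le (inf_le_right : E ⊓ Subgroup.zpowers x ≤ _)) with h | h
        · exact h
        · exact absurd ((Subgroup.eq_of_le_of_card_ge (inf_le_right : E ⊓ Subgroup.zpowers x ≤ _)
            (by rw [h, Nat.card_zpowers, hxo])).symm ▸ Subgroup.mem_zpowers x :
              x ∈ E ⊓ Subgroup.zpowers x).1 hxE
      rw [hinf, mul_one, ← pow_succ] at h1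
      exact h1
    have hHexp : ∀ y : H, y ^ p = 1 := by
      intro y
      refine PLocal.smallClass_closure_pow (smallClass_of_card_le_four h3 (hR.to_le hHR) hcard.le) ?_
      have hle : H ≤ (Subgroup.closure {y : H | y ^ p = 1}).map H.subtype := by
        refine sup_le (fun e he => ?_) (Subgroup.zpowers_le.mpr ?_)
        · exact ⟨⟨e, Subgroup.mem_sup_left he⟩,
            Subgroup.subset_closure (Subtype.ext (hEexp e he)), rfl⟩
        · exact ⟨⟨x, Subgroup.mem_sup_right (Subgroup.mem_zpowers x)⟩,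
            Subgroup.subset_closure (Subtype.ext hxp), rfl⟩
      obtain ⟨y', hy', hyy⟩ := hle y.2
      rwa [← Subtype.ext hyy]
    have h4 := card_le_cube_of_exponent hHexp (hrS H hHR)
    rw [hcard] at h4
    exact absurd h4 (not_le.mpr (Nat.pow_lt_pow_right hp.out.one_lt (by norm_num)))
  -- `E` is generated by all elements of order `p`
  have hEn : R ≤ Subgroup.normalizer (E : Set G) := by
    set N := R ⊓ Subgroup.normalizer (E : Set G) with hN
    haveI := hR.isNilpotent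
    rw [← inf_eq_left]
    refine eq_of_normalizer_inf_le ‹_› (C := N) inf_le_left ?_
    rintro g ⟨hg, hgR⟩
    refine ⟨?_, ?_⟩
    · first | exact hg | exact hgR
    have hgN : g ∈ Subgroup.normalizer (N : Set G) := by first | exact hgR | exact hg
    have hgR' : g ∈ R := by first | exact hg | exact hgR
    show g ∈ Subgroup.normalizer (E : Set G)
    rw [Subgroup.mem_normalizer_iff_map_conj_eq]
    refine Subgroup.eq_of_le_of_card_ge ?_ (Subgroup.card_map_of_injective (MulAut.conj g).injective).ge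
    rintro _ ⟨e, he, rfl⟩
    show g * e * g⁻¹ ∈ E
    have heN : e ∈ N := ⟨hER he, Subgroup.le_normalizer he⟩
    have h1 := (Subgroup.mem_normalizer_iff.mp hgN e).mp heN
    exact hin _ h1.1 (by rw [conj_pow, hEexp e he, mul_one, mul_inv_cancel]) h1.2
  have hall : ∀ x ∈ R, x ^ p = 1 → x ∈ E := fun x hx hxp => hin x hx hxp (hEn hx)
  have hAE : A ≤ Subgroup.normalizer (E : Set G) := by
    intro a ha
    rw [Subgroup.mem_normalizer_iff_map_conj_eq]
    refine Subgroup.eq_of_le_of_card_ge ?_ (Subgroup.card_map_of_injective (MulAut.conj a).injective).ge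
    rintro _ ⟨e, he, rfl⟩
    exact hall _ ((Subgroup.mem_normalizer_iff.mp (hA ha) e).mp (hER he))
      (by show (a * e * a⁻¹) ^ p = 1; rw [conj_pow, hEexp e he, mul_one, mul_inv_cancel])
  set Z := ⁅E, E⁆ with hZdef
  have hZE : Z ≤ E := hEE ▸ inf_le_left
  have hZcE : ∀ z ∈ Z, ∀ e ∈ E, e * z = z * e := fun z hz e he => by
    rw [hEE] at hz; exact Subgroup.mem_centralizer_iff.mp hz.2 e he
  -- the centralizer of `E`
  set C := R ⊓ Subgroup.centralizer (E : Set G) with hC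
  have hZC : Z ≤ C := le_inf (hZE.trans hER) (hEE ▸ inf_le_right)
  have hCp : ∀ x ∈ C, x ^ p = 1 → x ∈ Z := fun x hx hxp => by
    rw [hEE]; exact ⟨hall x hx.1 hxp, hx.2⟩
  haveI hCcyc : IsCyclic C := by
    refine Frobenius.isCyclic_of_unique_odd hp2 (hR.to_le inf_le_left) fun a b ha hb => ?_
    have hb' : (b : G) ∈ Z := hCp _ b.2 (by rw [← hb, ← Subgroup.orderOf_coe, pow_orderOf_eq_one])
    have ha' : (a : G) ∈ Z := hCp _ a.2 (by rw [← ha, ← Subgroup.orderOf_coe, pow_orderOf_eq_one])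
    have hbZ : Subgroup.zpowers (b : G) = Z := Subgroup.eq_of_le_of_card_ge
      (Subgroup.zpowers_le.mpr hb') (by rw [hEEc, Nat.card_zpowers, Subgroup.orderOf_coe, hb])
    rw [← hbZ] at ha'
    obtain ⟨j, hj⟩ := Subgroup.mem_zpowers_iff.mp ha'
    exact ⟨j, Subtype.ext (by simpa using hj)⟩
  have hCn : ∀ K : Subgroup G, K ≤ Subgroup.normalizer (R : Set G) → K ≤ Subgroup.normalizer (E : Set G) →
      K ≤ Subgroup.normalizer (C : Set G) := by
    intro K hK hKE g hg
    rw [Subgroup.mem_normalizer_iff_map_conj_eq]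
    refine Subgroup.eq_of_le_of_card_ge ?_ (Subgroup.card_map_of_injective (MulAut.conj g).injective).ge
    rintro _ ⟨c, ⟨hc1, hc2⟩, rfl⟩
    refine ⟨(Subgroup.mem_normalizer_iff.mp (hK hg) c).mp hc1, Subgroup.mem_centralizer_iff.mpr fun e he => ?_⟩
    have h := Subgroup.mem_centralizer_iff.mp hc2 (g⁻¹ * e * g) (by
      simpa using (Subgroup.mem_normalizer_iff.mp (inv_mem (hKE hg)) e).mp he)
    show e * (g * c * g⁻¹) = g * c * g⁻¹ * e
    calc e * (g * c * g⁻¹) = g * (g⁻¹ * e * g * c) * g⁻¹ := by group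
      _ = g * (c * (g⁻¹ * e * g)) * g⁻¹ := by rw [h]
      _ = g * c * g⁻¹ * e := by group
  have hRC : R ≤ Subgroup.normalizer (C : Set G) := hCn R Subgroup.le_normalizer hEn
  have hAC : A ≤ Subgroup.normalizer (C : Set G) := hCn A hA hAE
  have hCz : R ≤ Subgroup.centralizer (C : Set G) := by
    have key : ∀ f g : MulAut C, f * g = g * f := fun f g => by
      refine MulEquiv.ext fun x => ?_
      obtain ⟨g0, hg0⟩ := IsCyclic.exists_generator (α := C)
      obtain ⟨i, hi⟩ := Subgroup.mem_zpowers_iff.mp (hg0 (f g0))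
      obtain ⟨j, hj⟩ := Subgroup.mem_zpowers_iff.mp (hg0 (g g0))
      obtain ⟨l, rfl⟩ := Subgroup.mem_zpowers_iff.mp (hg0 x)
      simp only [MulAut.mul_apply, map_zpow]
      rw [← hi, ← hj]
      simp only [map_zpow]
      rw [← hi, ← hj]
      simp only [← zpow_mul]
      congr 1
      ring
    intro r hr0
    rw [← hRA] at hr0
    refine (?_ : ⁅R, A⁆ ≤ Subgroup.centralizer (C : Set G)) hr0
    refine Subgroup.commutator_le.mpr fun r hr1 a ha => Subgroup.mem_centralizer_iff.mpr fun c hc => ?_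
    have h1 : C.normalizerMonoidHom ⁅(⟨r, hRC hr1⟩ : Subgroup.normalizer (C : Set G)), ⟨a, hAC ha⟩⁆ = 1 := by
      rw [map_commutatorElement, commutatorElement_eq_one_iff_mul_comm]
      exact key _ _
    have h2 := congrArg (fun f : MulAut C => ((f ⟨c, hc⟩ : C) : G)) h1
    change ⁅r, a⁆ * c * ⁅r, a⁆⁻¹ = c at h2
    exact (mul_inv_eq_iff_eq_mul.mp h2).symm
  have hcent : ∀ c ∈ C, ∀ r ∈ R, c * r = r * c := fun c hc r hr =>
    Subgroup.mem_centralizer_iff.mp (hCz hr) c hc
  have hΩC : Subgroup.closure {x : G | x ∈ C ∧ x ^ p = 1} = Z := by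
    refine le_antisymm ((Subgroup.closure_le _).mpr fun x hx => hCp x hx.1 hx.2) fun z hz => ?_
    exact Subgroup.subset_closure ⟨hZC hz, hEexp z (hZE hz)⟩
  have hexpE : Monoid.exponent E = p := by
    haveI : Nontrivial E := Finite.one_lt_card_iff_nontrivial.mp (by
      rw [hEc]; exact Nat.one_lt_pow (by norm_num) hp.out.one_lt)
    rcases (Nat.dvd_prime hp.out).mp (Monoid.exponent_dvd_of_forall_pow_eq_one
      fun x : E => Subtype.ext (hEexp x x.2)) with h | h
    · exact absurd (Monoid.exp_eq_one_iff.mp h) (not_subsingleton E)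
    · exact h
  have hfac : ∀ r ∈ R, (∀ e ∈ E, ⁅e, r⁆ ∈ Z) → r ∈ E ⊔ C := by
    intro r hr hrZ
    -- correct `r` by an element of `E` so that it centralises `E`
    obtain ⟨a, ha, b, hb, hab⟩ : ∃ a ∈ E, ∃ b ∈ E, a * b ≠ b * a := by
      by_contra! h
      exact hEnab ⟨⟨fun a b => Subtype.ext (h a a.2 b b.2)⟩⟩
    set c := ⁅a, b⁆ with hc
    have hcZ : c ∈ Z := Subgroup.commutator_mem_commutator ha hb
    have hc1 : c ≠ 1 := fun h => hab (commutatorElement_eq_one_iff_mul_comm.mp h)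
    have hcgen : Subgroup.zpowers c = Z := Subgroup.eq_of_le_of_card_ge (Subgroup.zpowers_le.mpr hcZ)
      (by rw [hEEc, Nat.card_zpowers, orderOf_eq_prime (hEexp c (hZE hcZ)) hc1])
    have hconj : ∀ e ∈ E, ∃ m : ℤ, r * e * r⁻¹ = c ^ m * e := fun e he => by
      have h1 : (⁅e, r⁆ : G)⁻¹ ∈ Z := inv_mem (hrZ e he)
      rw [← hcgen] at h1
      obtain ⟨m, hm⟩ := Subgroup.mem_zpowers_iff.mp h1
      exact ⟨m, by rw [hm, commutatorElement_def]; group⟩
    obtain ⟨m, hm⟩ := hconj a ha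
    obtain ⟨n, hn⟩ := hconj b hb
    have hcc : ∀ e ∈ E, Commute c e := fun e he => (hZcE c hcZ e he).symm
    have hab' : a * b * a⁻¹ = c * b := by rw [hc, commutatorElement_def]; group
    have hba : b * a * b⁻¹ = c⁻¹ * a := by rw [hc, commutatorElement_def]; group
    have hpw : ∀ (x y d : G), Commute d x → x * y * x⁻¹ = d * y → ∀ i : ℤ,
        x ^ i * y * (x ^ i)⁻¹ = d ^ i * y := by
      intro x y d hdx hxy i
      induction i using Int.induction_on with
      | zero => simp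
      | succ i ih =>
        rw [zpow_add_one, zpow_add_one]
        calc x ^ (i : ℤ) * x * y * (x ^ (i : ℤ) * x)⁻¹
            = x ^ (i : ℤ) * (x * y * x⁻¹) * (x ^ (i : ℤ))⁻¹ := by group
          _ = (x ^ (i : ℤ) * d) * y * (x ^ (i : ℤ))⁻¹ := by rw [hxy]; group
          _ = d * (x ^ (i : ℤ) * y * (x ^ (i : ℤ))⁻¹) := by
              rw [← ((hdx.zpow_right _)).eq]; group
          _ = _ := by rw [ih, ← mul_assoc, (Commute.self_zpow d _).eq]
      | pred i ih =>
        have hy : x⁻¹ * y * x = d⁻¹ * y := by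
          have h1 : x⁻¹ * (d * y) * x = y := by rw [← hxy]; group
          calc x⁻¹ * y * x = (d⁻¹ * (d * x⁻¹)) * y * x := by group
            _ = d⁻¹ * (x⁻¹ * d) * y * x := by rw [hdx.inv_right.eq]
            _ = d⁻¹ * (x⁻¹ * (d * y) * x) := by group
            _ = _ := by rw [h1]
        rw [zpow_sub_one, zpow_sub_one]
        calc x ^ (-(i : ℤ)) * x⁻¹ * y * (x ^ (-(i : ℤ)) * x⁻¹)⁻¹
            = x ^ (-(i : ℤ)) * (x⁻¹ * y * x) * (x ^ (-(i : ℤ)))⁻¹ := by group
          _ = (x ^ (-(i : ℤ)) * d⁻¹) * y * (x ^ (-(i : ℤ)))⁻¹ := by rw [hy]; group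
          _ = d⁻¹ * (x ^ (-(i : ℤ)) * y * (x ^ (-(i : ℤ)))⁻¹) := by
              rw [← ((hdx.inv_left.zpow_right _)).eq]; group
          _ = _ := by rw [ih, ← mul_assoc, ((Commute.self_zpow d _).inv_left).eq]
    set e := b ^ m * a ^ (-n) with he
    have heE : e ∈ E := mul_mem (zpow_mem hb _) (zpow_mem ha _)
    have hea : e * a * e⁻¹ = c ^ (-m) * a := by
      calc e * a * e⁻¹ = b ^ m * a * (b ^ m)⁻¹ := by rw [he]; group
        _ = _ := by rw [hpw b a c⁻¹ (hcc b hb).inv_left hba m, inv_zpow']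
    have heb : e * b * e⁻¹ = c ^ (-n) * b := by
      calc e * b * e⁻¹ = b ^ m * (a ^ (-n) * b * (a ^ (-n))⁻¹) * (b ^ m)⁻¹ := by rw [he]; group
        _ = (b ^ m * c ^ (-n)) * b * (b ^ m)⁻¹ := by rw [hpw a b c (hcc a ha) hab']; group
        _ = c ^ (-n) * b := by
            rw [← ((hcc _ (zpow_mem hb m)).zpow_left (-n)).eq]; group
    set s := r * e with hs
    have hsR : s ∈ R := mul_mem hr (hER heE)
    have hfix : ∀ (y : G) (k : ℤ), e * y * e⁻¹ = c ^ (-k) * y → r * y * r⁻¹ = c ^ k * y →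
        Commute r c → s * y = y * s := by
      intro y k h1 h2 hrc
      have h5 : s * y * s⁻¹ = y := by
        calc s * y * s⁻¹ = r * (e * y * e⁻¹) * r⁻¹ := by rw [hs]; group
          _ = (r * c ^ (-k)) * y * r⁻¹ := by rw [h1]; group
          _ = c ^ (-k) * (r * y * r⁻¹) := by rw [(hrc.zpow_right _).eq]; group
          _ = y := by rw [h2, ← mul_assoc, ← zpow_add, neg_add_cancel, zpow_zero, one_mul]
      exact mul_inv_eq_iff_eq_mul.mp h5
    have hrc : Commute r c := (hcent c (hZC hcZ) r hr).symm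
    have hgen : E ≤ Subgroup.centralizer ({s} : Set G) := by
      set F := Z ⊔ Subgroup.zpowers a ⊔ Subgroup.zpowers b with hF
      have hFE : F ≤ E := sup_le (sup_le hZE (Subgroup.zpowers_le.mpr ha)) (Subgroup.zpowers_le.mpr hb)
      obtain ⟨i, hi, hFi⟩ := (Nat.dvd_prime_pow hp.out).mp (hEc ▸ Subgroup.card_dvd_of_le hFE)
      have hFnc : ¬ ∀ x y : F, x * y = y * x := fun h => hab (congrArg Subtype.val
        (h ⟨a, Subgroup.mem_sup_left (Subgroup.mem_sup_right (Subgroup.mem_zpowers a))⟩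
          ⟨b, Subgroup.mem_sup_right (Subgroup.mem_zpowers b)⟩))
      have hi3 : i = 3 := by
        by_contra h
        exact hFnc (comm_of_card_le_sq (IsPGroup.of_card hFi)
          (hFi ▸ Nat.pow_le_pow_right hp.out.pos (by omega)))
      rw [← Subgroup.eq_of_le_of_card_ge hFE (by rw [hFi, hi3, hEc])]
      refine sup_le (sup_le (fun x hx => ?_) ?_) ?_
      · exact Subgroup.mem_centralizer_singleton_iff.mpr (hcent x (hZC hx) s hsR)
      · exact Subgroup.zpowers_le.mpr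
          (Subgroup.mem_centralizer_singleton_iff.mpr (hfix a m hea hm hrc).symm)
      · exact Subgroup.zpowers_le.mpr
          (Subgroup.mem_centralizer_singleton_iff.mpr (hfix b n heb hn hrc).symm)
    have hsC : s ∈ C := ⟨hsR, Subgroup.mem_centralizer_iff.mpr fun y hy =>
      Subgroup.mem_centralizer_singleton_iff.mp (hgen hy)⟩
    have : r = s * e⁻¹ := by rw [hs]; group
    rw [this]
    exact mul_mem (Subgroup.mem_sup_right hsC) (Subgroup.mem_sup_left (inv_mem heE))
  by_cases hdone : R ≤ E ⊔ C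
  · exact ⟨E, C, le_antisymm (sup_le hER inf_le_left) hdone,
      fun a ha b hb => (hcent b hb a (hER ha)).symm, hEnab, hEc, hexpE, hCcyc, hΩC⟩
  exfalso
  -- the invariant subgroup of order `p ^ 2`
  set L := ⁅E, R⁆ with hL
  have hE1 : E ≠ ⊥ := fun h => by
    rw [h, Subgroup.card_bot] at hEc
    exact absurd hEc.symm (Nat.one_lt_pow (by norm_num) hp.out.one_lt).ne'
  have hLlt : L < E := Coprime.commutator_lt_of_isPGroup (hR.to_le hER) hR hEn hE1
  have hZL : Z ≤ L := Subgroup.commutator_mono le_rfl hER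
  obtain ⟨z, hz⟩ := (isCyclic_of_prime_card (α := Z) hEEc).exists_generator
  have hzZ : ∀ x ∈ Z, ∃ i : ℤ, (z : G) ^ i = x := fun x hx => by
    obtain ⟨i, hi⟩ := Subgroup.mem_zpowers_iff.mp (hz ⟨x, hx⟩)
    exact ⟨i, by simpa using congrArg Subtype.val hi⟩
  have hz1 : (z : G) ≠ 1 := fun h => by
    have : Z = ⊥ := eq_bot_iff.mpr fun x hx => by
      obtain ⟨i, rfl⟩ := hzZ x hx
      rw [h, one_zpow]; exact one_mem _
    rw [this, Subgroup.card_bot] at hEEc
    exact hp.out.ne_one hEEc.symm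
  obtain ⟨hLnle, hLc⟩ : ¬ L ≤ Z ∧ Nat.card L = p ^ 2 := by
    have hnle : ¬ L ≤ Z := fun hLZ =>
      hdone fun r hr => hfac r hr fun e he => hLZ (Subgroup.commutator_mem_commutator he hr)
    refine ⟨hnle, ?_⟩
    obtain ⟨i, hi, hLi⟩ := (Nat.dvd_prime_pow hp.out).mp (hEc ▸ Subgroup.card_dvd_of_le hLlt.le)
    have h1 : Nat.card Z < Nat.card L := lt_of_le_of_ne (Subgroup.card_le_of_le hZL)
      fun h => hnle (Subgroup.eq_of_le_of_card_ge hZL h.ge).ge
    have h2 : Nat.card L < Nat.card E := lt_of_le_of_ne (Subgroup.card_le_of_le hLlt.le)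
      fun h => hLlt.ne (Subgroup.eq_of_le_of_card_ge hLlt.le h.ge)
    rw [hEEc, hLi] at h1
    rw [hLi, hEc] at h2
    have hi2 : 1 < i := (Nat.pow_lt_pow_iff_right hp.out.one_lt).mp (by rwa [pow_one])
    have hi3 : i < 3 := (Nat.pow_lt_pow_iff_right hp.out.one_lt).mp h2
    rw [hLi, show i = 2 by omega]
  have hLE : L ≤ E := hLlt.le
  have hLexp : ∀ x ∈ L, x ^ p = 1 := fun x hx => hEexp x (hLE hx)
  have hLc' : ∀ x ∈ L, ∀ y ∈ L, x * y = y * x := fun x hx y hy => congrArg Subtype.val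
    (comm_of_card_le_sq (IsPGroup.of_card hLc) hLc.le ⟨x, hx⟩ ⟨y, hy⟩)
  have hRL : R ≤ Subgroup.normalizer (L : Set G) := Subgroup.normalizer_commutator_ge_right E R
  have hAL : A ≤ Subgroup.normalizer (L : Set G) := by
    intro a ha
    exact Coprime.mem_normalizer_of_conj_smul_eq (by
      rw [Coprime.conj_smul_commutator, Coprime.conj_smul_eq_of_mem_normalizer (hAE ha),
        Coprime.conj_smul_eq_of_mem_normalizer (hA ha)])
  set M := R ⊓ Subgroup.centralizer (L : Set G) with hM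
  have hMn : ∀ K : Subgroup G, K ≤ Subgroup.normalizer (R : Set G) → K ≤ Subgroup.normalizer (L : Set G) →
      K ≤ Subgroup.normalizer (M : Set G) := by
    intro K hK hKE g hg
    rw [Subgroup.mem_normalizer_iff_map_conj_eq]
    refine Subgroup.eq_of_le_of_card_ge ?_ (Subgroup.card_map_of_injective (MulAut.conj g).injective).ge
    rintro _ ⟨c, ⟨hc1, hc2⟩, rfl⟩
    refine ⟨(Subgroup.mem_normalizer_iff.mp (hK hg) c).mp hc1, Subgroup.mem_centralizer_iff.mpr fun e he => ?_⟩
    have h := Subgroup.mem_centralizer_iff.mp hc2 (g⁻¹ * e * g) (by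
      simpa using (Subgroup.mem_normalizer_iff.mp (inv_mem (hKE hg)) e).mp he)
    show e * (g * c * g⁻¹) = g * c * g⁻¹ * e
    calc e * (g * c * g⁻¹) = g * (g⁻¹ * e * g * c) * g⁻¹ := by group
      _ = g * (c * (g⁻¹ * e * g)) * g⁻¹ := by rw [h]
      _ = g * c * g⁻¹ * e := by group
  have hRM : R ≤ Subgroup.normalizer (M : Set G) := hMn R Subgroup.le_normalizer hRL
  have hAM : A ≤ Subgroup.normalizer (M : Set G) := hMn A hA hAL
  have hLM : L ≤ M := le_inf (hLE.trans hER)
    fun x hx => Subgroup.mem_centralizer_iff.mpr fun y hy => hLc' y hy x hx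
  -- `E` is not inside `M`, and `M` has index `p`
  obtain ⟨b, hb, hbM⟩ : ∃ b ∈ E, b ∉ M := by
    by_contra! h
    refine hLnle (le_trans (fun x hx => ?_) hEE.ge)
    exact ⟨hLE hx, Subgroup.mem_centralizer_iff.mpr fun y hy =>
      (Subgroup.mem_centralizer_iff.mp (h y hy).2 x hx).symm⟩
  have hbL : b ∉ L := fun h => hbM (hLM h)
  have hEb : L ⊔ Subgroup.zpowers b = E := by
    refine Subgroup.eq_of_le_of_card_ge (sup_le hLE (Subgroup.zpowers_le.mpr hb)) ?_
    obtain ⟨i, -, hi⟩ := (Nat.dvd_prime_pow hp.out).mp (hEc ▸ Subgroup.card_dvd_of_le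
      (sup_le hLE (Subgroup.zpowers_le.mpr hb) : L ⊔ Subgroup.zpowers b ≤ E))
    have h1 : Nat.card L < Nat.card ↥(L ⊔ Subgroup.zpowers b) :=
      lt_of_le_of_ne (Subgroup.card_le_of_le le_sup_left) fun h => hbL
        ((Subgroup.eq_of_le_of_card_ge le_sup_left h.ge).symm ▸
          Subgroup.mem_sup_right (Subgroup.mem_zpowers b))
    rw [hLc, hi] at h1
    rw [hEc, hi]
    exact Nat.pow_le_pow_right hp.out.pos ((Nat.pow_lt_pow_iff_right hp.out.one_lt).mp h1)
  have hEM : E ⊔ M = R := by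
    have hMR : M ≤ R := inf_le_left
    haveI : (L.subgroupOf R).Normal := Subgroup.normal_subgroupOf_of_le_normalizer hRL
    have h1 : (Subgroup.centralizer ((L.subgroupOf R : Subgroup R) : Set R)).index ≤ p :=
      index_centralizer_le hR (L.subgroupOf R) (by
        rw [Nat.card_congr (Subgroup.subgroupOfEquivOfLe (hLE.trans hER)).toEquiv, hLc])
    have hle1 : Subgroup.centralizer ((L.subgroupOf R : Subgroup R) : Set R) ≤ M.subgroupOf R := by
      intro x hx
      exact ⟨x.2, Subgroup.mem_centralizer_iff.mpr fun y hy => congrArg Subtype.val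
        (Subgroup.mem_centralizer_iff.mp hx ⟨y, (hLE.trans hER) hy⟩ hy)⟩
    have h2 : M.relIndex R ≤ p :=
      (Nat.le_of_dvd (Nat.pos_of_ne_zero Subgroup.index_ne_zero_of_finite)
        (Subgroup.index_dvd_of_le hle1)).trans h1
    have h3 := Coprime.relIndex_mul_card (sup_le hER hMR : E ⊔ M ≤ R)
    have h4 := Subgroup.relIndex_mul_relIndex M (E ⊔ M) R le_sup_right (sup_le hER hMR)
    obtain ⟨i, hi⟩ := (hR.to_le (sup_le hER hMR : E ⊔ M ≤ R)).index (M.subgroupOf (E ⊔ M))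
    have hi' : M.relIndex (E ⊔ M) = p ^ i := hi
    have hi1 : i ≠ 0 := fun h => hbM (Subgroup.relIndex_eq_one.mp (by rw [hi', h, pow_zero])
      (Subgroup.mem_sup_left hb))
    have h5 : p ≤ M.relIndex (E ⊔ M) := hi' ▸ Nat.le_of_dvd (pow_pos hp.out.pos _) (dvd_pow_self p hi1)
    have h6 : (E ⊔ M).relIndex R ≤ 1 := by
      by_contra h
      rw [not_le] at h
      have : p * 2 ≤ M.relIndex R := h4 ▸ Nat.mul_le_mul h5 h
      have := hp.out.pos
      omega
    have h7 : (E ⊔ M).relIndex R ≠ 0 := fun h => by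
      rw [h, mul_zero] at h3; exact (Nat.card_pos (α := R)).ne h3
    exact le_antisymm (sup_le hER hMR) (Subgroup.relIndex_eq_one.mp (by omega))
  obtain ⟨r, hrM, hrEC⟩ : ∃ r ∈ M, r ∉ E ⊔ C := by
    by_contra! h
    exact hdone (hEM.symm.le.trans (sup_le le_sup_left h))
  have hrR : r ∈ R := hrM.1
  have hrL : ∀ x ∈ L, Commute r x := fun x hx => (Subgroup.mem_centralizer_iff.mp hrM.2 x hx).symm
  -- commutator with `b`
  set l₁ := r * b * r⁻¹ * b⁻¹ with hl₁
  have hl₁L : l₁ ∈ L := by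
    have := inv_mem (Subgroup.commutator_mem_commutator hb hrR : ⁅b, r⁆ ∈ L)
    rw [hl₁]
    rwa [commutatorElement_def, show (b * r * b⁻¹ * r⁻¹)⁻¹ = r * b * r⁻¹ * b⁻¹ by group] at this
  have hrb : r * b * r⁻¹ = l₁ * b := by rw [hl₁]; group
  have hrp : r ^ p ∈ C := by
    refine ⟨pow_mem hrR p, Subgroup.mem_centralizer_iff.mpr fun y hy => ?_⟩
    have hfix : r ^ p * b * (r ^ p)⁻¹ = b := by
      have hk : ∀ k : ℕ, r ^ k * b * (r ^ k)⁻¹ = l₁ ^ k * b := by
        intro k
        induction k with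
        | zero => simp
        | succ k ih =>
          calc r ^ (k + 1) * b * (r ^ (k + 1))⁻¹ = r * (r ^ k * b * (r ^ k)⁻¹) * r⁻¹ := by
                rw [pow_succ']; group
            _ = (r * l₁ ^ k) * b * r⁻¹ := by rw [ih]; group
            _ = l₁ ^ k * (r * b * r⁻¹) := by rw [((hrL l₁ hl₁L).pow_right k).eq]; group
            _ = _ := by rw [hrb, pow_succ]; group
      rw [hk, hLexp l₁ hl₁L, one_mul]
    have hle : E ≤ Subgroup.centralizer ({r ^ p} : Set G) := by
      rw [← hEb]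
      refine sup_le (fun x hx => Subgroup.mem_centralizer_singleton_iff.mpr
        ((hrL x hx).pow_left p).eq.symm) (Subgroup.zpowers_le.mpr ?_)
      exact Subgroup.mem_centralizer_singleton_iff.mpr (mul_inv_eq_iff_eq_mul.mp hfix).symm
    exact Subgroup.mem_centralizer_singleton_iff.mp (hle hy)
  obtain ⟨g₀, hg₀⟩ := hCcyc.exists_generator
  have hgenC : ∀ c ∈ C, ∃ i : ℤ, (r ^ p) ^ i = c := by
    obtain ⟨i, hi⟩ := Subgroup.mem_zpowers_iff.mp (hg₀ ⟨r ^ p, hrp⟩)
    have hi' : ¬ (p : ℤ) ∣ i := by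
      rintro ⟨m, hm⟩
      refine hrEC (?_ : r ∈ E ⊔ C)
      have hc : (g₀ : G) ^ (m : ℤ) ∈ C := zpow_mem g₀.2 _
      have h1 : (r * ((g₀ : G) ^ m)⁻¹) ^ p = 1 := by
        have h2 : (r : G) ^ p = ((g₀ : G) ^ m) ^ p := by
          have := congrArg Subtype.val hi
          simp only [SubgroupClass.coe_zpow] at this
          rw [← this, hm, mul_comm, zpow_mul, zpow_natCast]
        rw [(show Commute r ((g₀ : G) ^ m) from (hcent _ hc r hrR).symm).inv_right.mul_pow, h2, inv_pow, mul_inv_cancel]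
      have h3 := mul_mem (Subgroup.mem_sup_left (hall _ (mul_mem hrR (inv_mem hc.1)) h1) :
        r * ((g₀ : G) ^ m)⁻¹ ∈ E ⊔ C) (Subgroup.mem_sup_right hc)
      rwa [inv_mul_cancel_right] at h3
    obtain ⟨k, hk⟩ := IsPGroup.iff_card.mp (hR.to_le (inf_le_left : C ≤ R))
    obtain ⟨s, t, hst⟩ : IsCoprime i ((p ^ k : ℕ) : ℤ) := by
      push_cast
      exact (((Nat.prime_iff_prime_int.mp hp.out).coprime_iff_not_dvd.mpr hi').pow_left (m := k)).symm
    intro c hc
    obtain ⟨j, hj⟩ := Subgroup.mem_zpowers_iff.mp (hg₀ ⟨c, hc⟩)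
    refine ⟨s * j, ?_⟩
    have h1 : (g₀ : C) ^ ((p ^ k : ℕ) : ℤ) = 1 := by rw [zpow_natCast, ← hk, pow_card_eq_one']
    have h2 : ((g₀ : C) ^ i) ^ (s * j) = g₀ ^ j := by
      rw [← zpow_mul, show i * (s * j) = j + ((p ^ k : ℕ) : ℤ) * (-(t * j)) by linear_combination j * hst,
        zpow_add, zpow_mul, h1, one_zpow, mul_one]
    rw [hi, hj] at h2
    simpa using congrArg Subtype.val h2
  -- `M` is `L` extended by `r`
  have hcrit : ∀ m ∈ M, m * b * m⁻¹ * b⁻¹ ∈ Z → m ∈ E ⊔ C := by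
    intro m hm hmb
    set d := m * b * m⁻¹ * b⁻¹ with hd
    have hmb' : m * b * m⁻¹ = d * b := by rw [hd]; group
    refine hfac m hm.1 fun x hx => ?_
    rw [← hEb] at hx
    obtain ⟨l, hl', e, he, rfl⟩ := Coprime.exists_mul_of_mem_sup (N := L) (H := Subgroup.zpowers b)
      (Subgroup.zpowers_le.mpr (hRL (hER hb))) hx
    obtain ⟨i, rfl⟩ := Subgroup.mem_zpowers_iff.mp he
    have hcl : Commute d b := (hZcE _ hmb b hb).symm
    have hml : m * l * m⁻¹ = l := by
      rw [← Subgroup.mem_centralizer_iff.mp hm.2 l hl', mul_inv_cancel_right]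
    have hi : m * b ^ i * m⁻¹ = d ^ i * b ^ i := by
      rw [← conj_zpow, hmb', hcl.mul_zpow]
    have e1 : ⁅l * b ^ i, m⁆ = l * b ^ i * (m * b ^ i * m⁻¹)⁻¹ * (m * l * m⁻¹)⁻¹ := by
      rw [commutatorElement_def]; group
    have e2 : ⁅l * b ^ i, m⁆ = l * (d ^ i)⁻¹ * l⁻¹ := by
      rw [e1, hi, hml]
      group
    rw [e2, (hZcE _ (inv_mem (zpow_mem hmb i)) l (hLE hl')), mul_inv_cancel_right]
    exact inv_mem (zpow_mem hmb i)
  have hl₁Z : l₁ ∉ Z := fun h => hrEC (hcrit r hrM h)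
  have hLgen : Z ⊔ Subgroup.zpowers l₁ = L := by
    refine Subgroup.eq_of_le_of_card_ge (sup_le hZL (Subgroup.zpowers_le.mpr hl₁L)) ?_
    obtain ⟨i, -, hi⟩ := (Nat.dvd_prime_pow hp.out).mp (hLc ▸ Subgroup.card_dvd_of_le
      (sup_le hZL (Subgroup.zpowers_le.mpr hl₁L) : Z ⊔ Subgroup.zpowers l₁ ≤ L))
    have h1 : Nat.card Z < Nat.card ↥(Z ⊔ Subgroup.zpowers l₁) :=
      lt_of_le_of_ne (Subgroup.card_le_of_le le_sup_left) fun h => hl₁Z
        ((Subgroup.eq_of_le_of_card_ge le_sup_left h.ge).symm ▸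
          Subgroup.mem_sup_right (Subgroup.mem_zpowers l₁))
    rw [hEEc, hi] at h1
    rw [hLc, hi]
    exact Nat.pow_le_pow_right hp.out.pos ((Nat.pow_lt_pow_iff_right hp.out.one_lt).mp (by rwa [pow_one]))
  have hrbk : ∀ i : ℤ, r ^ i * b * (r ^ i)⁻¹ = l₁ ^ i * b := by
    intro i
    induction i using Int.induction_on with
    | zero => simp
    | succ i ih =>
      calc r ^ ((i : ℤ) + 1) * b * (r ^ ((i : ℤ) + 1))⁻¹ = r * (r ^ (i : ℤ) * b * (r ^ (i : ℤ))⁻¹) * r⁻¹ := by
            group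
        _ = (r * l₁ ^ (i : ℤ)) * b * r⁻¹ := by rw [ih]; group
        _ = l₁ ^ (i : ℤ) * (r * b * r⁻¹) := by rw [((hrL l₁ hl₁L).zpow_right _).eq]; group
        _ = _ := by rw [hrb, zpow_add_one]; group
    | pred i ih =>
      have hb' : r⁻¹ * b * r = l₁⁻¹ * b := by
        calc r⁻¹ * b * r = r⁻¹ * (l₁⁻¹ * (r * b * r⁻¹)) * r := by rw [hrb]; group
          _ = (r⁻¹ * l₁⁻¹) * r * b := by group
          _ = l₁⁻¹ * b := by rw [((hrL l₁ hl₁L).inv_left.inv_right).eq]; group
      calc r ^ (-(i : ℤ) - 1) * b * (r ^ (-(i : ℤ) - 1))⁻¹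
          = r⁻¹ * (r ^ (-(i : ℤ)) * b * (r ^ (-(i : ℤ)))⁻¹) * r := by group
        _ = (r⁻¹ * l₁ ^ (-(i : ℤ))) * b * r := by rw [ih]; group
        _ = l₁ ^ (-(i : ℤ)) * (r⁻¹ * b * r) := by
            rw [((hrL l₁ hl₁L).inv_left.zpow_right _).eq]; group
        _ = _ := by rw [hb', zpow_sub_one]; group
  have hMLr : ∀ m ∈ M, ∃ l ∈ L, ∃ i : ℤ, m = l * r ^ i := by
    intro m hm
    have hmb : m * b * m⁻¹ * b⁻¹ ∈ L := by
      have := inv_mem (Subgroup.commutator_mem_commutator hb hm.1 : ⁅b, m⁆ ∈ L)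
      rwa [commutatorElement_def, show (b * m * b⁻¹ * m⁻¹)⁻¹ = m * b * m⁻¹ * b⁻¹ by group] at this
    rw [← hLgen] at hmb
    obtain ⟨z', hz', e, he, hze⟩ := Coprime.exists_mul_of_mem_sup (N := Z) (H := Subgroup.zpowers l₁)
      (Subgroup.zpowers_le.mpr (Subgroup.mem_normalizer_iff.mpr fun n => by
        constructor
        · intro hn; rw [hZcE n hn l₁ (hLE hl₁L), mul_inv_cancel_right]; exact hn
        · intro hn
          have h2 := hZcE _ hn l₁⁻¹ (inv_mem (hLE hl₁L))
          have e : n = l₁⁻¹ * (l₁ * n * l₁⁻¹) * l₁ := by group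
          rw [e, h2, inv_mul_cancel_right]; exact hn)) hmb
    obtain ⟨i, rfl⟩ := Subgroup.mem_zpowers_iff.mp he
    set m' := m * r ^ (-i) with hm'
    have hm'M : m' ∈ M := mul_mem hm (zpow_mem hrM _)
    have hm'b : m' * b * m'⁻¹ * b⁻¹ ∈ Z := by
      have hml : Commute m (l₁ ^ i) :=
        (Subgroup.mem_centralizer_iff.mp hm.2 _ (zpow_mem hl₁L i)).symm
      have : m' * b * m'⁻¹ * b⁻¹ = z' := by
        calc m' * b * m'⁻¹ * b⁻¹ = m * (r ^ (-i) * b * (r ^ (-i))⁻¹) * m⁻¹ * b⁻¹ := by rw [hm']; group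
          _ = (m * (l₁ ^ i)⁻¹) * b * m⁻¹ * b⁻¹ := by rw [hrbk, zpow_neg]; group
          _ = (l₁ ^ i)⁻¹ * (m * b * m⁻¹ * b⁻¹) := by rw [hml.inv_right.eq]; group
          _ = (l₁ ^ i)⁻¹ * (z' * l₁ ^ i) := by rw [← hze]
          _ = z' := by
              rw [← hZcE z' hz' _ (hLE (zpow_mem hl₁L i)), inv_mul_cancel_left]
      rw [this]; exact hz'
    obtain ⟨e, he, c, hc, hec⟩ := Coprime.exists_mul_of_mem_sup (N := E) (H := C)
      (inf_le_left.trans hEn) (hcrit m' hm'M hm'b)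
    have hcM : c ∈ M := ⟨hc.1, Subgroup.centralizer_le (show (L : Set G) ⊆ E from hLE) hc.2⟩
    have heL : e ∈ L := by
      by_contra heL
      have heM : e ∈ M := by
        have : e = m' * c⁻¹ := by rw [hec, mul_inv_cancel_right]
        rw [this]; exact mul_mem hm'M (inv_mem hcM)
      have hle : L ⊔ Subgroup.zpowers e ≤ E := sup_le hLE (Subgroup.zpowers_le.mpr he)
      have h1 : Nat.card L < Nat.card ↥(L ⊔ Subgroup.zpowers e) :=
        lt_of_le_of_ne (Subgroup.card_le_of_le le_sup_left) fun h => heL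
          ((Subgroup.eq_of_le_of_card_ge le_sup_left h.ge).symm ▸
            Subgroup.mem_sup_right (Subgroup.mem_zpowers e))
      obtain ⟨j, -, hj⟩ := (Nat.dvd_prime_pow hp.out).mp (hEc ▸ Subgroup.card_dvd_of_le hle)
      rw [hLc, hj] at h1
      have heq := Subgroup.eq_of_le_of_card_ge hle (by
        rw [hEc, hj]
        exact Nat.pow_le_pow_right hp.out.pos ((Nat.pow_lt_pow_iff_right hp.out.one_lt).mp h1))
      exact hbM ((sup_le hLM (Subgroup.zpowers_le.mpr heM) : L ⊔ Subgroup.zpowers e ≤ M) (heq.symm ▸ hb))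
    obtain ⟨j, rfl⟩ := hgenC c hc
    refine ⟨e, heL, (p : ℤ) * j + i, ?_⟩
    calc m = m' * r ^ i := by rw [hm']; group
      _ = _ := by rw [hec, zpow_add, zpow_mul, zpow_natCast, mul_assoc]
  -- the abelianisation of `E`
  let q : E →* Abelianization E := Abelianization.of
  have hker : ∀ x : E, q x = 1 → (x : G) ∈ Z := by
    intro x hx
    have h : x ∈ commutator E := (QuotientGroup.eq_one_iff x).mp hx
    rw [hZdef, ← Subgroup.map_subtype_commutator]
    exact ⟨x, h, rfl⟩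
  have hqL : ∀ (x : E) (y : E), (y : G) ∈ L → q x = q y → (x : G) ∈ L := by
    intro x y hy hxy
    have h := hZL (hker (x * y⁻¹) (by rw [map_mul, map_inv, hxy, mul_inv_cancel]))
    simpa using mul_mem h hy
  have hconjE : ∀ g ∈ Subgroup.normalizer (E : Set G), ∀ e ∈ E, g * e * g⁻¹ ∈ E :=
    fun g hg e he => (Subgroup.mem_normalizer_iff.mp hg e).mp he
  -- weights of the operators
  have hfix : ∀ a ∈ A, ∀ x ∈ E, a * x * a⁻¹ * x⁻¹ ∈ L := by
    intro a ha
    obtain ⟨l, hl, e, hae⟩ := hMLr _ ((Subgroup.mem_normalizer_iff.mp (hAM ha) r).mp hrM)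
    obtain ⟨l', hl', t, ht, hab⟩ := Coprime.exists_mul_of_mem_sup (N := L) (H := Subgroup.zpowers b)
      (Subgroup.zpowers_le.mpr (hRL (hER hb))) (hEb.symm ▸ hconjE a (hAE ha) b hb)
    obtain ⟨m, rfl⟩ := Subgroup.mem_zpowers_iff.mp ht
    have hCe : ∀ x ∈ C, a * x * a⁻¹ = x ^ e := by
      intro x hx
      obtain ⟨i, rfl⟩ := hgenC x hx
      rw [← conj_zpow, ← conj_pow, hae]
      rw [((hrL l hl).symm.zpow_right e).mul_pow, hLexp l hl, one_mul, ← zpow_natCast (r ^ e),
        ← zpow_natCast r, ← zpow_mul, ← zpow_mul, ← zpow_mul, ← zpow_mul]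
      congr 1
      ring
    -- the action on `l₁` modulo `Z`
    have hl₁a : a * l₁ * a⁻¹ ∈ E := hconjE a (hAE ha) l₁ (hLE hl₁L)
    have hqa : q ⟨a * l₁ * a⁻¹, hl₁a⟩ = q ⟨l₁, hLE hl₁L⟩ ^ (e * m) := by
      have hrE : r ^ e ∈ Subgroup.normalizer (E : Set G) := zpow_mem (hEn hrR) e
      have h1 : (⟨a * l₁ * a⁻¹, hl₁a⟩ : E) =
          ⟨l, hLE hl⟩ * ⟨l', hLE hl'⟩ *
            (⟨l₁, hLE hl₁L⟩ ^ e * ⟨b, hb⟩) ^ m * (⟨l, hLE hl⟩)⁻¹ * (⟨l', hLE hl'⟩ * ⟨b, hb⟩ ^ m)⁻¹ := by
        apply Subtype.ext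
        simp only [Subgroup.coe_mul, InvMemClass.coe_inv, SubgroupClass.coe_zpow]
        rw [← hrbk, conj_zpow]
        calc a * l₁ * a⁻¹ = (a * r * a⁻¹) * (a * b * a⁻¹) * (a * r * a⁻¹)⁻¹ * (a * b * a⁻¹)⁻¹ := by
              rw [hl₁]; group
          _ = l * (r ^ e * l') * b ^ m * (r ^ e)⁻¹ * l⁻¹ * (l' * b ^ m)⁻¹ := by rw [hae, hab]; group
          _ = _ := by rw [((hrL l' hl').zpow_left e).eq]; group
      rw [h1]
      simp only [map_mul, map_zpow, map_inv, mul_zpow, ← zpow_mul]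
      generalize q ⟨l, hLE hl⟩ = A1
      generalize q ⟨l', hLE hl'⟩ = A2
      generalize q ⟨b, hb⟩ ^ m = A3
      generalize q ⟨l₁, hLE hl₁L⟩ ^ (e * m) = A4
      rw [mul_inv_rev]
      calc A1 * A2 * (A4 * A3) * A1⁻¹ * (A3⁻¹ * A2⁻¹)
          = A4 * (A1 * A1⁻¹) * (A2 * A2⁻¹) * (A3 * A3⁻¹) := by
            simp only [mul_comm, mul_assoc, mul_left_comm]
        _ = A4 := by simp
    obtain ⟨z', hz', hza⟩ : ∃ z' ∈ Z, a * l₁ * a⁻¹ = z' * l₁ ^ (e * m) := by
      refine ⟨_, hker (⟨a * l₁ * a⁻¹, hl₁a⟩ * (⟨l₁, hLE hl₁L⟩ ^ (e * m))⁻¹) (by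
        rw [map_mul, map_inv, map_zpow, hqa, mul_inv_cancel]), ?_⟩
      simp
    -- the action on the centre
    have h2E := commute_commutator_of_card_le_cube (hR.to_le hER) hEc.le
    have hlin : ∀ x y w : E, ⁅x * y, w⁆ = ⁅x, w⁆ * ⁅y, w⁆ := fun x y w => by
      have : ⁅x * y, w⁆ = x * ⁅y, w⁆ * x⁻¹ * ⁅x, w⁆ := by
        simp only [commutatorElement_def]; group
      rw [this, ← (h2E y w x).eq, mul_inv_cancel_right, (h2E y w _).eq]
    have hlin' : ∀ x y w : E, ⁅x, y * w⁆ = ⁅x, y⁆ * ⁅x, w⁆ := fun x y w => by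
      have : ⁅x, y * w⁆ = ⁅x, y⁆ * (y * ⁅x, w⁆ * y⁻¹) := by
        simp only [commutatorElement_def]; group
      rw [this, ← (h2E x w y).eq, mul_inv_cancel_right]
    set B : E := ⟨b, hb⟩ with hB
    set L1 : E := ⟨l₁, hLE hl₁L⟩ with hL1
    set d := ⁅B, L1⁆ with hd
    have hdl : ∀ x : E, (x : G) ∈ L → ⁅x, L1⁆ = 1 := fun x hx =>
      commutatorElement_eq_one_iff_mul_comm.mpr (Subtype.ext (hLc' _ hx _ hl₁L))
    have hd1 : d ≠ 1 := by
      intro h
      have hbl : b * l₁ = l₁ * b :=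
        congrArg Subtype.val (commutatorElement_eq_one_iff_mul_comm.mp h)
      apply hl₁Z
      rw [hEE]
      refine ⟨hLE hl₁L, Subgroup.mem_centralizer_iff.mpr fun y hy => ?_⟩
      have hle : L ⊔ Subgroup.zpowers b ≤ Subgroup.centralizer ({l₁} : Set G) :=
        sup_le (fun x hx => Subgroup.mem_centralizer_singleton_iff.mpr (hLc' x hx l₁ hl₁L))
          (Subgroup.zpowers_le.mpr (Subgroup.mem_centralizer_singleton_iff.mpr hbl))
      exact (Subgroup.mem_centralizer_singleton_iff.mp (hle (hEb.symm ▸ hy)))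
    have hdZ : (d : G) ∈ Z := Subgroup.commutator_mem_commutator hb (hLE hl₁L)
    have hdo : orderOf d = p := orderOf_eq_prime (Subtype.ext (hEexp _ d.2)) hd1
    have hde : d ^ (m * (e * m)) = d ^ e := by
      apply Subtype.ext
      rw [SubgroupClass.coe_zpow, SubgroupClass.coe_zpow, ← hCe _ (hZC hdZ)]
      have hz'1 : ∀ x : E, ⁅x, (⟨z', hZE hz'⟩ : E)⁆ = 1 := fun x =>
        commutatorElement_eq_one_iff_mul_comm.mpr (Subtype.ext (hZcE z' hz' x x.2))
      have h := congrArg Subtype.val (show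
          ⁅(⟨l', hLE hl'⟩ : E) * B ^ m, (⟨z', hZE hz'⟩ : E) * L1 ^ (e * m)⁆ = d ^ (m * (e * m)) by
        rw [hlin', hz'1, one_mul, hlin,
          show ∀ (x w : E) (i : ℤ), ⁅x, w ^ i⁆ = ⁅x, w⁆ ^ i from fun x w i =>
            map_zpow (MonoidHom.mk' (fun t => ⁅x, t⁆) fun s t => hlin' x s t) w i,
          hdl _ hl', one_zpow, one_mul,
          show ∀ (x w : E) (i : ℤ), ⁅x, w ^ i⁆ = ⁅x, w⁆ ^ i from fun x w i =>
            map_zpow (MonoidHom.mk' (fun t => ⁅x, t⁆) fun s t => hlin' x s t) w i,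
          show ⁅B ^ m, L1⁆ = d ^ m from
            map_zpow (MonoidHom.mk' (fun t => ⁅t, L1⁆) fun s t => hlin s t L1) B m, ← zpow_mul])
      simp only [commutatorElement_def, hd, Subgroup.coe_mul, InvMemClass.coe_inv,
        SubgroupClass.coe_zpow, hB, hL1] at h ⊢
      rw [← h, ← hab, ← hza]
      group
    have he0 : (e : ZMod p) ≠ 0 := by
      intro h0
      rw [ZMod.intCast_zmod_eq_zero_iff_dvd] at h0
      have h1 : (d : G) ^ e = 1 := by
        rw [← orderOf_dvd_iff_zpow_eq_one, Subgroup.orderOf_coe, hdo]; exact h0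
      rw [← hCe _ (hZC hdZ)] at h1
      exact hd1 (Subtype.ext (by simpa using mul_eq_one_iff_eq_inv.mp h1))
    have hm2 : (m : ZMod p) ^ 2 = 1 := by
      have h1 : (p : ℤ) ∣ m * (e * m) - e := by
        rw [← hdo, orderOf_dvd_iff_zpow_eq_one, zpow_sub, hde, mul_inv_cancel]
      rw [← ZMod.intCast_zmod_eq_zero_iff_dvd] at h1
      push_cast at h1
      refine mul_left_cancel₀ he0 ?_
      linear_combination h1
    -- odd order forces `m = 1`
    have hbk : ∀ k : ℕ, a ^ k * b * (a ^ k)⁻¹ * (b ^ (m ^ k))⁻¹ ∈ L := by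
      intro k
      induction k with
      | zero => simp
      | succ k ih =>
        set u := a ^ k * b * (a ^ k)⁻¹ * (b ^ (m ^ k))⁻¹ with hu
        have h1 : a ^ (k + 1) * b * (a ^ (k + 1))⁻¹ = (a * u * a⁻¹) * (l' * b ^ m) ^ (m ^ k) := by
          rw [← hab, conj_zpow, hu, pow_succ']; group
        have huL : a * u * a⁻¹ ∈ L := (Subgroup.mem_normalizer_iff.mp (hAL ha) u).mp ih
        have h2 := hqL ((⟨l', hLE hl'⟩ * B ^ m) ^ (m ^ k) * (B ^ (m ^ (k + 1)))⁻¹)
          ((⟨l', hLE hl'⟩ : E) ^ (m ^ k)) (zpow_mem hl' _) (by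
            simp only [map_mul, map_zpow, map_inv, mul_zpow, ← zpow_mul, pow_succ']
            rw [mul_inv_cancel_right])
        simp only [hB, Subgroup.coe_mul, InvMemClass.coe_inv, SubgroupClass.coe_zpow] at h2
        rw [h1, mul_assoc]
        exact mul_mem huL h2
    have hm1 : (m : ZMod p) = 1 := by
      obtain ⟨k, hk⟩ := hodd
      have h1 := hbk (Nat.card A)
      have han : a ^ Nat.card A = 1 := by
        rw [← orderOf_dvd_iff_pow_eq_one]
        exact Subgroup.orderOf_coe (⟨a, ha⟩ : A) ▸ orderOf_dvd_natCard _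
      rw [han, one_mul, inv_one, mul_one] at h1
      have h2 : (p : ℤ) ∣ 1 - m ^ Nat.card A := by
        by_contra hnd
        apply hbL
        have hbo : orderOf b = p := orderOf_eq_prime (hEexp b hb) fun h => hbL (h ▸ one_mem L)
        have h3 : b ^ (1 - m ^ Nat.card A : ℤ) ∈ L := by rwa [zpow_sub, zpow_one]
        obtain ⟨s, t, hst⟩ : IsCoprime (1 - m ^ Nat.card A : ℤ) (p : ℤ) :=
          ((Nat.prime_iff_prime_int.mp hp.out).coprime_iff_not_dvd.mpr hnd).symm
        have h4 := mul_mem (zpow_mem h3 s) (one_mem L)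
        rw [mul_one, ← zpow_mul, show (1 - m ^ Nat.card A) * s = 1 + (p : ℤ) * (-t) by
          linear_combination hst, zpow_add, zpow_one, zpow_mul, zpow_natCast,
          hEexp b hb, one_zpow, mul_one] at h4
        exact h4
      rw [← ZMod.intCast_zmod_eq_zero_iff_dvd] at h2
      push_cast at h2
      rw [hk, pow_succ, pow_mul, hm2, one_pow, one_mul, sub_eq_zero] at h2
      exact h2.symm
    -- so `a` fixes `E` modulo `L`
    have hab1 : a * b * a⁻¹ * b⁻¹ ∈ L := by
      obtain ⟨k, hk⟩ : (p : ℤ) ∣ m - 1 := by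
        rw [← ZMod.intCast_zmod_eq_zero_iff_dvd]; push_cast; rw [hm1, sub_self]
      rw [hab, mul_assoc, ← zpow_sub_one, hk, zpow_mul, zpow_natCast, hEexp b hb, one_zpow, mul_one]
      exact hl'
    intro x hx
    rw [← hEb] at hx
    obtain ⟨l₂, hl₂, t, ht, rfl⟩ := Coprime.exists_mul_of_mem_sup (N := L) (H := Subgroup.zpowers b)
      (Subgroup.zpowers_le.mpr (hRL (hER hb))) hx
    obtain ⟨i, rfl⟩ := Subgroup.mem_zpowers_iff.mp ht
    set l₃ := a * b * a⁻¹ * b⁻¹ with hl₃
    have h1 : a * (l₂ * b ^ i) * a⁻¹ * (l₂ * b ^ i)⁻¹ =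
        (a * l₂ * a⁻¹) * ((l₃ * b) ^ i * (b ^ i)⁻¹) * l₂⁻¹ := by
      rw [show l₃ * b = a * b * a⁻¹ by rw [hl₃]; group, conj_zpow]; group
    have h2 := hqL ((⟨l₃, hLE hab1⟩ * B) ^ i * (B ^ i)⁻¹) ((⟨l₃, hLE hab1⟩ : E) ^ i) (zpow_mem hab1 i) (by
      simp only [map_mul, map_zpow, map_inv, mul_zpow]
      rw [mul_inv_cancel_right])
    simp only [hB, Subgroup.coe_mul, InvMemClass.coe_inv, SubgroupClass.coe_zpow] at h2
    rw [h1]
    exact mul_mem (mul_mem ((Subgroup.mem_normalizer_iff.mp (hAL ha) l₂).mp hl₂) h2) (inv_mem hl₂)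
  -- hence `[R, A] ≤ M`
  refine hbM ((?_ : R ≤ M) (hER hb))
  conv_lhs => rw [← hRA]
  refine Subgroup.commutator_le.mpr fun g hg a ha => ?_
  rw [← hEM, sup_comm] at hg
  obtain ⟨m0, hm0, x, hx, rfl⟩ := Coprime.exists_mul_of_mem_sup (N := M) (H := E) (hER.trans hRM) hg
  have h1 : ⁅m0 * x, a⁆ = m0 * (a * x * a⁻¹ * x⁻¹)⁻¹ * (a * m0⁻¹ * a⁻¹) := by
    rw [commutatorElement_def]; group
  rw [h1]
  exact mul_mem (mul_mem hm0 (inv_mem (hLM (hfix a ha x hx))))
    ((Subgroup.mem_normalizer_iff.mp (hAM ha) _).mp (inv_mem hm0))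

end Cfsg.Agent.Lib.OddLocal
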