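import Cfsg.Agent.Lib.OddLocal.OmegaExtend

/-! `p`-groups of rank two all whose elements of order `p` are central, without invariant lines. -/

set_option autoImplicit false

open scoped commutatorElement

namespace Cfsg.Agent.Lib.OddLocal

universe u v

variable {p : ℕ} [hp : Fact p.Prime]

/-- Such a group with operators fixing no subgroup of order `p` is abelian. -/
theorem commute_of_pCentral_noLine (hp2 : p ≠ 2) : ∀ (n : ℕ) {R : Type u} [Group R] [Finite R],
    Nat.card R ≤ n → IsPGroup p R → (∀ x : R, x ^ p = 1 → x ∈ Subgroup.center R) →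
      Nat.card {x : R // x ^ p = 1} ≤ p ^ 2 →
      ∀ {X : Type v} (ρ : X → R ≃* R),
        (∀ L : Subgroup R, Nat.card L = p → ¬ ∀ a, ∀ x ∈ L, ρ a x ∈ L) →
        ∀ x y : R, x * y = y * x := by
  intro n
  induction n with
  | zero => intro R _ _ hn; exact absurd hn (not_le.mpr Nat.card_pos)
  | succ n ih =>
    intro R _ _ hn hR hc hle X ρ hline
    let U : Subgroup R :=
      { carrier := {x | x ^ p = 1}
        one_mem' := one_pow _
        mul_mem' := fun {a b} ha hb => by
          show (a * b) ^ p = 1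
          rw [(show Commute a b from (Subgroup.mem_center_iff.mp (hc a ha) b).symm).mul_pow, ha, hb, one_mul]
        inv_mem' := fun {a} ha => by
          show a⁻¹ ^ p = 1
          rw [inv_pow, ha, inv_one] }
    have hUn : U.Normal := ⟨fun t ht g => by
      rw [Subgroup.mem_center_iff.mp (hc t ht) g, mul_inv_cancel_right]; exact ht⟩
    have hUle : Nat.card U ≤ p ^ 2 := hle
    by_cases hR1 : Subsingleton R
    · exact fun x y => Subsingleton.elim _ _
    rw [not_subsingleton_iff_nontrivial] at hR1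
    obtain ⟨z, -, hzo, -⟩ := PLocal.exists_central_prime_mem hR (top_ne_bot : (⊤ : Subgroup R) ≠ ⊥)
    have hz : z ∈ U := show z ^ p = 1 by rw [← hzo, pow_orderOf_eq_one]
    have hU2 : Nat.card U = p ^ 2 := by
      refine le_antisymm hUle ?_
      obtain ⟨k, hk⟩ := IsPGroup.iff_card.mp (hR.to_subgroup U)
      rw [hk]
      refine Nat.pow_le_pow_right hp.out.pos ?_
      by_contra h
      have h1 : Nat.card (Subgroup.zpowers z) = p := by rw [Nat.card_zpowers, hzo]
      have h2 : Subgroup.zpowers z = U := Subgroup.eq_of_le_of_card_ge (Subgroup.zpowers_le.mpr hz)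
        (by rw [h1, hk]; exact (Nat.pow_le_pow_right hp.out.pos (show k ≤ 1 by omega)).trans (by rw [pow_one]))
      refine hline U (h2 ▸ h1) fun a x hx => ?_
      show ρ a x ^ p = 1
      rw [← map_pow, show x ^ p = 1 from hx, map_one]
    have hroot : ∀ u v : R, u ^ p = v ^ p → u⁻¹ * v ∈ U := fun u v h =>
      pow_eq_one_of_mul_pow_eq hp2 _ hR ⊤ inferInstance le_rfl (fun t _ => hc t) u (u⁻¹ * v) trivial
        (by rw [mul_inv_cancel_left, h])
    have hclaim : ∀ u : R, u ^ p ∈ U → ∀ h : R, ⁅h, u⁆ ∈ U := by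
      intro u hu h
      have h1 : u⁻¹ * (h * u * h⁻¹) ∈ U := hroot _ _ (by
        rw [conj_pow, Subgroup.mem_center_iff.mp (hc _ hu) h, mul_inv_cancel_right])
      have e : ⁅h, u⁆ = u * (u⁻¹ * (h * u * h⁻¹)) * u⁻¹ := by rw [commutatorElement_def]; group
      rw [e]
      exact hUn.conj_mem _ h1 u
    have hcardQ : Nat.card R = Nat.card (R ⧸ U) * Nat.card U :=
      Subgroup.card_eq_card_quotient_mul_card_subgroup U
    have hQ : Nat.card (R ⧸ U) ≤ n := by
      have : 2 ≤ p ^ 2 := hp.out.two_le.trans (Nat.le_self_pow two_ne_zero p)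
      have : 0 < Nat.card (R ⧸ U) := Nat.card_pos
      rw [hU2] at hcardQ
      nlinarith
    have hcQ : ∀ q : R ⧸ U, q ^ p = 1 → q ∈ Subgroup.center (R ⧸ U) := by
      intro q hq
      obtain ⟨u, rfl⟩ := QuotientGroup.mk'_surjective U q
      rw [← map_pow, QuotientGroup.mk'_apply, QuotientGroup.eq_one_iff] at hq
      rw [Subgroup.mem_center_iff]
      intro q'
      obtain ⟨h, rfl⟩ := QuotientGroup.mk'_surjective U q'
      rw [← commutatorElement_eq_one_iff_mul_comm, ← map_commutatorElement, QuotientGroup.mk'_apply,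
        QuotientGroup.eq_one_iff]
      exact hclaim u hq h
    have hleQ : Nat.card {q : R ⧸ U // q ^ p = 1} ≤ p ^ 2 := by
      rw [← hU2]
      have hmem : ∀ q : {q : R ⧸ U // q ^ p = 1}, q.1.out ^ p ∈ U := fun q => by
        rw [← QuotientGroup.eq_one_iff, QuotientGroup.mk_pow, QuotientGroup.out_eq']
        exact q.2
      refine Nat.card_le_card_of_injective (fun q => (⟨_, hmem q⟩ : U)) fun q q' h => Subtype.ext ?_
      rw [← QuotientGroup.out_eq' q.1, ← QuotientGroup.out_eq' q'.1, QuotientGroup.eq]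
      exact hroot _ _ (congrArg Subtype.val h)
    have hUinv : ∀ a, U.map (ρ a).toMonoidHom = U := fun a =>
      Subgroup.eq_of_le_of_card_ge (by
        rintro _ ⟨x, hx, rfl⟩
        show ρ a x ^ p = 1
        rw [← map_pow, show x ^ p = 1 from hx, map_one])
        (le_of_eq (Subgroup.card_map_of_injective (f := (ρ a).toMonoidHom) (K := U) (ρ a).injective).symm)
    let ρ' : X → (R ⧸ U) ≃* (R ⧸ U) := fun a => QuotientGroup.congr U U (ρ a) (hUinv a)
    have habQ := ih hQ (hR.to_quotient U) hcQ hleQ ρ' fun L hL hinv => by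
      haveI : IsCyclic L := isCyclic_of_prime_card hL
      obtain ⟨⟨g, hg⟩, hgen⟩ := isCyclic_iff_exists_zpowers_eq_top.mp (inferInstance : IsCyclic L)
      obtain ⟨y, rfl⟩ := QuotientGroup.mk'_surjective U g
      have hy : y ^ p ∈ U := by
        rw [← QuotientGroup.eq_one_iff, ← QuotientGroup.mk'_apply, map_pow]
        have h := pow_card_eq_one' (x := (⟨_, hg⟩ : L))
        rw [hL] at h
        exact congrArg Subtype.val h
      have hy1 : y ^ p ≠ 1 := fun h => by
        have h1 : (⟨QuotientGroup.mk' U y, hg⟩ : L) = 1 := Subtype.ext ((QuotientGroup.eq_one_iff y).mpr h)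
        rw [h1, Subgroup.zpowers_one_eq_bot] at hgen
        have h2 : Nat.card (⊥ : Subgroup L) = Nat.card (⊤ : Subgroup L) := by rw [hgen]
        rw [Subgroup.card_bot, Subgroup.card_top, hL] at h2
        exact hp.out.ne_one h2.symm
      refine hline (Subgroup.zpowers (y ^ p)) ?_ fun a x hx => ?_
      · rw [Nat.card_zpowers, orderOf_eq_prime hy hy1]
      · obtain ⟨k, hk⟩ : ∃ k : ℤ, (⟨QuotientGroup.mk' U y, hg⟩ : L) ^ k =
            ⟨_, hinv a _ hg⟩ := Subgroup.mem_zpowers_iff.mp (hgen.symm ▸ trivial)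
        have hk' : (y ^ k)⁻¹ * ρ a y ∈ U := by
          rw [← QuotientGroup.eq]
          exact (congrArg Subtype.val hk :)
        have h2 : ρ a (y ^ p) = (y ^ p) ^ k := by
          rw [map_pow, show ρ a y = y ^ k * ((y ^ k)⁻¹ * ρ a y) by rw [mul_inv_cancel_left],
            (show Commute (y ^ k) ((y ^ k)⁻¹ * ρ a y) from
              Subgroup.mem_center_iff.mp (hc _ hk') _).mul_pow, show ((y ^ k)⁻¹ * ρ a y) ^ p = 1 from hk',
            mul_one, ← zpow_natCast, ← zpow_natCast, ← zpow_mul, ← zpow_mul, mul_comm]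
        obtain ⟨m, rfl⟩ := Subgroup.mem_zpowers_iff.mp hx
        rw [map_zpow, h2]
        exact zpow_mem (zpow_mem (Subgroup.mem_zpowers _) _) _
    have hcm : ∀ x y : R, ⁅x, y⁆ ∈ U := fun x y => by
      rw [← QuotientGroup.eq_one_iff, ← QuotientGroup.mk'_apply, map_commutatorElement,
        commutatorElement_eq_one_iff_mul_comm]
      exact habQ _ _
    have hcen : ∀ x y g : R, Commute g ⁅x, y⁆ := fun x y g =>
      Subgroup.mem_center_iff.mp (hc _ (hcm x y)) g
    obtain ⟨j, hj⟩ : p ∣ p.choose 2 :=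
      hp.out.dvd_choose_self two_ne_zero (lt_of_le_of_ne hp.out.two_le (Ne.symm hp2))
    let f : R →* R :=
      { toFun := fun x => x ^ p
        map_one' := one_pow _
        map_mul' := fun a b => by
          rw [mul_pow_of_central_commutator (hcen b a a) (hcen b a b) (by rw [commutatorElement_def]; group),
            hj, pow_mul, show ⁅b, a⁆ ^ p = 1 from hcm b a, one_pow, one_mul] }
    set P := f.range with hP
    have hfker : f.ker = U := rfl
    have hPidx : P.index = p ^ 2 := by
      have h1 := f.ker.card_mul_index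
      rw [Subgroup.index_ker, hfker, hU2, ← P.card_mul_index, mul_comm, ← hP] at h1
      exact (Nat.eq_of_mul_eq_mul_left Nat.card_pos h1).symm
    have hPc : ∀ t ∈ P, t ∈ Subgroup.center R := by
      rintro _ ⟨u, rfl⟩
      rw [Subgroup.mem_center_iff]
      intro g
      show g * u ^ p = u ^ p * g
      have h2 : g * u * g⁻¹ = ⁅g, u⁆ * u := by rw [commutatorElement_def]; group
      have h3 : (g * u * g⁻¹) ^ p = u ^ p := by
        rw [h2, (hcen g u u).symm.mul_pow, show ⁅g, u⁆ ^ p = 1 from hcm g u, one_mul]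
      rw [conj_pow] at h3
      exact mul_inv_eq_iff_eq_mul.mp h3
    have hPn : P.Normal := ⟨fun t ht g => by
      rw [Subgroup.mem_center_iff.mp (hPc t ht) g, mul_inv_cancel_right]; exact ht⟩
    have hQP : ∀ x y : R, ⁅x, y⁆ ∈ P := fun x y => by
      have h := (IsPGroup.isMulCommutative_of_card_eq_prime_sq (G := R ⧸ P)
        (by rw [← Subgroup.index_eq_card, hPidx])).is_comm.comm (QuotientGroup.mk' P x) (QuotientGroup.mk' P y)
      rw [← QuotientGroup.eq_one_iff, ← QuotientGroup.mk'_apply, map_commutatorElement,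
        commutatorElement_eq_one_iff_mul_comm]
      exact h
    obtain ⟨x, hx⟩ : ∃ x, x ∉ P := by
      by_contra! h
      rw [show P = ⊤ from eq_top_iff.mpr fun g _ => h g, Subgroup.index_top] at hPidx
      exact absurd hPidx.symm (Nat.one_lt_pow two_ne_zero hp.out.one_lt).ne'
    let M : Subgroup R := P ⊔ Subgroup.zpowers x
    have hMlt : M.index < p ^ 2 := by
      rw [← hPidx]
      refine lt_of_le_of_ne (Nat.le_of_dvd (Nat.pos_of_ne_zero P.index_ne_zero_of_finite)
        (Subgroup.index_dvd_of_le le_sup_left)) fun h => hx ?_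
      have h1 := Subgroup.relIndex_mul_index (le_sup_left : P ≤ M)
      rw [← h] at h1
      have h2 : P.relIndex M = 1 := Nat.eq_of_mul_eq_mul_right (Nat.pos_of_ne_zero M.index_ne_zero_of_finite)
        (h1.trans (one_mul _).symm)
      exact Subgroup.relIndex_eq_one.mp h2 (Subgroup.mem_sup_right (Subgroup.mem_zpowers x))
    obtain ⟨y, hgen⟩ : ∃ y, M ⊔ Subgroup.zpowers y = ⊤ := by
      by_cases hM : M = ⊤
      · exact ⟨1, by rw [hM]; exact top_sup_eq _⟩
      obtain ⟨y, hy⟩ : ∃ y, y ∉ M := by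
        by_contra! h
        exact hM (eq_top_iff.mpr fun g _ => h g)
      refine ⟨y, Subgroup.index_eq_one.mp ?_⟩
      obtain ⟨k, hk⟩ := hR.index M
      have hk1 : k = 1 := by
        have h0 : k ≠ 0 := fun h => by rw [h, pow_zero, Subgroup.index_eq_one] at hk; exact hM hk
        rw [hk] at hMlt
        have := (Nat.pow_lt_pow_iff_right hp.out.one_lt).mp hMlt
        omega
      rw [hk1, pow_one] at hk
      have hd := Subgroup.index_dvd_of_le (le_sup_left : M ≤ M ⊔ Subgroup.zpowers y)
      rw [hk] at hd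
      refine (hp.out.eq_one_or_self_of_dvd _ hd).resolve_right fun h => hy ?_
      have h1 := Subgroup.relIndex_mul_index (le_sup_left : M ≤ M ⊔ Subgroup.zpowers y)
      rw [h, hk] at h1
      have h2 : M.relIndex (M ⊔ Subgroup.zpowers y) = 1 :=
        Nat.eq_of_mul_eq_mul_right hp.out.pos (h1.trans (one_mul _).symm)
      exact Subgroup.relIndex_eq_one.mp h2 (Subgroup.mem_sup_right (Subgroup.mem_zpowers y))
    set K := Subgroup.zpowers ⁅x, y⁆ with hK
    let S : R → Subgroup R := fun h =>
      { carrier := {g | ⁅h, g⁆ ∈ K}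
        one_mem' := by show ⁅h, (1 : R)⁆ ∈ K; simp
        mul_mem' := fun {a b} ha hb => by
          show ⁅h, a * b⁆ ∈ K
          have e : ⁅h, a * b⁆ = ⁅h, a⁆ * (a * ⁅h, b⁆ * a⁻¹) := by
            simp only [commutatorElement_def]; group
          rw [e, (hcen h b a).eq, mul_inv_cancel_right]
          exact mul_mem ha hb
        inv_mem' := fun {a} ha => by
          show ⁅h, a⁻¹⁆ ∈ K
          have e : ⁅h, a⁻¹⁆ = a⁻¹ * ⁅h, a⁆⁻¹ * a := by simp only [commutatorElement_def]; group
          rw [e, ((hcen h a a⁻¹).inv_right).eq, inv_mul_cancel_right]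
          exact inv_mem ha }
    have hS : ∀ h, x ∈ S h → y ∈ S h → S h = ⊤ := fun h h1 h2 => top_le_iff.mp (hgen ▸
      sup_le (sup_le (fun t ht => show ⁅h, t⁆ ∈ K by
        rw [commutatorElement_eq_one_iff_mul_comm.mpr (Subgroup.mem_center_iff.mp (hPc t ht) h)]
        exact one_mem _) (Subgroup.zpowers_le.mpr h1)) (Subgroup.zpowers_le.mpr h2))
    have hyx : ⁅y, x⁆ ∈ K := by
      rw [← commutatorElement_inv]; exact inv_mem (Subgroup.mem_zpowers _)
    have hSx : S x = ⊤ := hS x (show ⁅x, x⁆ ∈ K by simp) (Subgroup.mem_zpowers _)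
    have hSy : S y = ⊤ := hS y hyx (show ⁅y, y⁆ ∈ K by simp)
    have hall : ∀ g h, ⁅g, h⁆ ∈ K := fun g h => by
      have hx' : x ∈ S g := show ⁅g, x⁆ ∈ K by
        rw [← commutatorElement_inv]; exact inv_mem (hSx ▸ Subgroup.mem_top g : g ∈ S x)
      have hy' : y ∈ S g := show ⁅g, y⁆ ∈ K by
        rw [← commutatorElement_inv]; exact inv_mem (hSy ▸ Subgroup.mem_top g : g ∈ S y)
      exact (hS g hx' hy' ▸ Subgroup.mem_top h : h ∈ S g)
    intro g h
    by_contra hgh
    have hK1 : ⁅x, y⁆ ≠ 1 := fun h1 => hgh (by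
      have := hall g h
      rwa [hK, h1, Subgroup.zpowers_one_eq_bot, Subgroup.mem_bot, commutatorElement_eq_one_iff_mul_comm] at this)
    refine hline K (by rw [hK, Nat.card_zpowers, orderOf_eq_prime (hcm x y) hK1]) fun a t ht => ?_
    obtain ⟨m, rfl⟩ := Subgroup.mem_zpowers_iff.mp ht
    rw [map_zpow, map_commutatorElement]
    exact zpow_mem (hall _ _) _

end Cfsg.Agent.Lib.OddLocal
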