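import Cfsg.Agent.Lib.OddLocal.PSLTwoLine
import Cfsg.Agent.Lib.Classical.LinearCard

/-!
Recognition of `PGL(2, q)` from coordinates on the permuted points: translations, all multiplications and
`x ↦ -1/x`, with the right order.
-/

set_option autoImplicit false

namespace Cfsg.Agent.Lib.OddLocal

open scoped LinearAlgebra.Projectivization
open MulAction Matrix

variable {G : Type*} [Group G] [Finite G] {Ω : Type*} [MulAction G Ω] [FaithfulSMul G Ω]
variable {K : Type} [Field K] [Fintype K]

theorem pgl_smul_linePt {A : GL (Fin 2) K} {o o' : Option K} {c : K}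
    (h : c • lineVec o' = A.1.mulVec (lineVec o)) :
    (ProjGenLinGroup.mk A : ProjGenLinGroup (Fin 2) K) • linePt o = linePt o' := by
  rw [linePt, linePt, Projectivization.PGL.mk_smul_mk]
  exact (Projectivization.mk_eq_mk_iff' _ _ _ _ _).2 ⟨c, h⟩

theorem pgl_faithful {x : ProjGenLinGroup (Fin 2) K}
    (h : ∀ p : ℙ K (Fin 2 → K), x • p = p) : x = 1 := by
  induction x using ProjGenLinGroup.induction_on with
  | mk A =>
    have hA : ∀ o : Option K, ∃ c : K, c • lineVec o = A.1.mulVec (lineVec o) := fun o => by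
      have h1 := h (linePt o)
      rw [linePt, Projectivization.PGL.mk_smul_mk] at h1
      exact (Projectivization.mk_eq_mk_iff' _ _ _ _ _).1 h1
    obtain ⟨c, hc⟩ := hA none
    obtain ⟨d, hd⟩ := hA (some 0)
    obtain ⟨m, hm⟩ := hA (some 1)
    have c0 : c = A.1 0 0 := by
      have := congrFun hc 0
      simpa [lineVec, Matrix.mulVec, dotProduct] using this
    have c1 : A.1 1 0 = 0 := by
      have := congrFun hc 1
      simpa [lineVec, Matrix.mulVec, dotProduct] using this.symm
    have d0 : A.1 0 1 = 0 := by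
      have := congrFun hd 0
      simpa [lineVec, Matrix.mulVec, dotProduct] using this.symm
    have m0 := congrFun hm 0
    have m1 := congrFun hm 1
    simp [lineVec, Matrix.mulVec, dotProduct, c1, d0] at m0 m1
    have hne : c ≠ 0 := by
      intro e
      have h2 := A.det_ne_zero
      rw [Matrix.det_fin_two, ← c0, e, d0] at h2
      simp at h2
    refine ProjGenLinGroup.mk_eq_one.mpr ?_
    rw [GeneralLinearGroup.center_eq_range_scalar]
    refine ⟨Units.mk0 c hne, Units.ext ?_⟩
    ext i j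
    fin_cases i <;> fin_cases j <;> simp [c1, d0, c0, ← m1, m0]

/-- `G` is `PGL(2, K)` if it contains the generating transformations of the line and has the same order. -/
theorem iso_PGL2_of_line
    (pt : Option K → Ω) (hpt : Function.Bijective pt)
    (htr : ∀ c : K, ∃ g : G, g • pt none = pt none ∧ ∀ x, g • pt (some x) = pt (some (x + c)))
    (hdil : ∀ k : K, k ≠ 0 → ∃ g : G, g • pt none = pt none ∧ ∀ x, g • pt (some x) = pt (some (k * x)))
    (hinv : ∃ g : G, g • pt none = pt (some 0) ∧ g • pt (some 0) = pt none ∧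
      ∀ x, x ≠ 0 → g • pt (some x) = pt (some (-x⁻¹)))
    (hcard : Nat.card G = Fintype.card K * (Fintype.card K ^ 2 - 1)) :
    Nonempty (G ≃* ProjGenLinGroup (Fin 2) K) := by
  classical
  set e : Ω ≃ ℙ K (Fin 2 → K) :=
    (Equiv.ofBijective pt hpt).symm.trans (Equiv.ofBijective linePt linePt_bijective) with he
  have hept : ∀ o, e (pt o) = linePt o := fun o => by simp [he, Equiv.ofBijective_symm_apply_apply]
  let φ : G →* Equiv.Perm (ℙ K (Fin 2 → K)) :=
    e.permCongrHom.toMonoidHom.comp (MulAction.toPermHom G Ω)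
  have hφ : ∀ g o, φ g (linePt o) = e (g • pt o) := fun g o => by
    rw [← hept]
    simp [φ, Equiv.permCongr_apply]
  have hφinj : Function.Injective φ :=
    e.permCongrHom.injective.comp (fun g h hgh => FaithfulSMul.eq_of_smul_eq_smul (α := Ω) fun x =>
      congrArg (fun σ : Equiv.Perm Ω => σ x) hgh)
  let ψ := MulAction.toPermHom (ProjGenLinGroup (Fin 2) K) (ℙ K (Fin 2 → K))
  have hψinj : Function.Injective ψ := (injective_iff_map_eq_one _).2 fun x hx =>
    pgl_faithful fun p => congrArg (fun σ : Equiv.Perm (ℙ K (Fin 2 → K)) => σ p) hx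
  have hmem : ∀ (A : GL (Fin 2) K) (g : G),
      (∀ o, ∃ (o' : Option K) (c : K), g • pt o = pt o' ∧ c • lineVec o' = A.1.mulVec (lineVec o)) →
      ψ (ProjGenLinGroup.mk A) ∈ φ.range := by
    intro A g h
    refine ⟨g, Equiv.ext fun p => ?_⟩
    obtain ⟨o, rfl⟩ := linePt_bijective.2 p
    obtain ⟨o', c, ho', hc⟩ := h o
    rw [hφ, ho', hept]
    exact (pgl_smul_linePt hc).symm
  let R : Subgroup (GL (Fin 2) K) := φ.range.comap (ψ.comp ProjGenLinGroup.mk)
  have hT : ∀ c : K, (GeneralLinearGroup.mkOfDetNeZero !![1, c; 0, 1] (by simp [Matrix.det_fin_two]) :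
      GL (Fin 2) K) ∈ R := by
    intro c
    obtain ⟨g, hg0, hg⟩ := htr c
    refine hmem _ g fun o => ?_
    cases o with
    | none =>
      exact ⟨none, 1, hg0, by ext i; fin_cases i <;> simp [lineVec, GeneralLinearGroup.mkOfDetNeZero]⟩
    | some x =>
      exact ⟨some (x + c), 1, hg x, by ext i; fin_cases i <;> simp [lineVec, GeneralLinearGroup.mkOfDetNeZero]⟩
  have hD : ∀ r s : K, (hr : r ≠ 0) → (hs : s ≠ 0) →
      (GeneralLinearGroup.mkOfDetNeZero !![r, 0; 0, s] (by simp [Matrix.det_fin_two, hr, hs]) :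
        GL (Fin 2) K) ∈ R := by
    intro r s hr hs
    obtain ⟨g, hg0, hg⟩ := hdil (r / s) (div_ne_zero hr hs)
    refine hmem _ g fun o => ?_
    cases o with
    | none => exact ⟨none, r, hg0, by ext i; fin_cases i <;> simp [lineVec, GeneralLinearGroup.mkOfDetNeZero]⟩
    | some x =>
      refine ⟨some (r / s * x), s, hg x, ?_⟩
      ext i; fin_cases i <;> simp [lineVec, GeneralLinearGroup.mkOfDetNeZero]
      field_simp
  have hW : (GeneralLinearGroup.mkOfDetNeZero !![0, -1; 1, 0] (by simp [Matrix.det_fin_two]) :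
      GL (Fin 2) K) ∈ R := by
    obtain ⟨g, hg0, hg1, hg⟩ := hinv
    refine hmem _ g fun o => ?_
    cases o with
    | none => exact ⟨some 0, 1, hg0, by ext i; fin_cases i <;> simp [lineVec, GeneralLinearGroup.mkOfDetNeZero]⟩
    | some x =>
      by_cases hx : x = 0
      · subst hx
        exact ⟨none, -1, hg1, by ext i; fin_cases i <;> simp [lineVec, GeneralLinearGroup.mkOfDetNeZero]⟩
      · refine ⟨some (-x⁻¹), x, hg x hx, ?_⟩
        ext i; fin_cases i <;> simp [lineVec, hx, GeneralLinearGroup.mkOfDetNeZero]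
  have hR : ∀ A : GL (Fin 2) K, A ∈ R := by
    intro A
    have hdet : A.1 0 0 * A.1 1 1 - A.1 0 1 * A.1 1 0 ≠ 0 := by
      rw [← Matrix.det_fin_two]; exact A.det_ne_zero
    by_cases hc : A.1 1 0 = 0
    · rw [hc, mul_zero, sub_zero] at hdet
      have ha : A.1 0 0 ≠ 0 := left_ne_zero_of_mul hdet
      have h := mul_mem (hD (A.1 0 0) (A.1 1 1) ha (right_ne_zero_of_mul hdet)) (hT (A.1 0 1 / A.1 0 0))
      refine (congrArg (· ∈ R) (Units.ext ?_)).mpr h
      show A.1 = !![A.1 0 0, 0; 0, A.1 1 1] * !![1, A.1 0 1 / A.1 0 0; 0, 1]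
      rw [Matrix.mul_fin_two]
      ext i j
      fin_cases i <;> fin_cases j <;> simp [hc]
      field_simp
    · have hs : (A.1 0 0 * A.1 1 1 - A.1 0 1 * A.1 1 0) / A.1 1 0 ≠ 0 := div_ne_zero hdet hc
      have h := mul_mem (mul_mem (mul_mem (hT (A.1 0 0 / A.1 1 0)) hW)
        (hD (A.1 1 0) _ hc hs)) (hT (A.1 1 1 / A.1 1 0))
      refine (congrArg (· ∈ R) (Units.ext ?_)).mpr h
      show A.1 = !![1, A.1 0 0 / A.1 1 0; 0, 1] * !![0, -1; 1, 0] *
        !![A.1 1 0, 0; 0, (A.1 0 0 * A.1 1 1 - A.1 0 1 * A.1 1 0) / A.1 1 0] *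
        !![1, A.1 1 1 / A.1 1 0; 0, 1]
      rw [Matrix.mul_fin_two, Matrix.mul_fin_two, Matrix.mul_fin_two]
      ext i j
      fin_cases i <;> fin_cases j <;> simp
      all_goals field_simp
      ring
  have hle : ψ.range ≤ φ.range := by
    rintro _ ⟨x, rfl⟩
    induction x using ProjGenLinGroup.induction_on with
    | mk A => exact hR A
  have heq : ψ.range = φ.range := by
    refine Subgroup.eq_of_le_of_card_ge hle ?_
    rw [← Nat.card_congr (MonoidHom.ofInjective hφinj).toEquiv,
      ← Nat.card_congr (MonoidHom.ofInjective hψinj).toEquiv, Classical.card_PGL, Classical.card_SL2, hcard]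
  exact ⟨((MonoidHom.ofInjective hφinj).trans (MulEquiv.subgroupCongr heq.symm)).trans
    (MonoidHom.ofInjective hψinj).symm⟩

end Cfsg.Agent.Lib.OddLocal
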