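import Cfsg.Agent.Lib.OddLocal.Critical
import Cfsg.Agent.Lib.OddLocal.NilpotentParts
import Cfsg.Agent.Lib.OddLocal.PStable
import Cfsg.Agent.Lib.OddLocal.InvariantHall
import Cfsg.Agent.Lib.PLength.Basic
import Cfsg.Agent.Lib.Coprime.PxQ

/-!
`p`-length one for normal subgroups in which a coprime element of prime order has a Z-group of
fixed points.
-/

set_option autoImplicit false

universe u

namespace Cfsg.Agent.Lib.OddLocal

open Cfsg.Agent.Lib
open scoped commutatorElement Pointwise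

theorem exists_pow_eq_of_isCyclic {G : Type*} [Group G] [Finite G] {C : Subgroup G} (hC : IsCyclic C)
    {q : ℕ} (hq : q.Prime) {y z : G} (hy : y ∈ C) (hz : z ∈ C) (hyq : y ^ q = 1) (hzq : z ^ q = 1)
    (hy1 : y ≠ 1) : ∃ m : ℕ, y ^ m = z := by
  obtain ⟨g, hg⟩ := hC.exists_monoid_generator
  obtain ⟨a, ha⟩ := hg ⟨y, hy⟩
  obtain ⟨b, hb⟩ := hg ⟨z, hz⟩
  have ha' : (g : G) ^ a = y := congrArg Subtype.val ha
  have hb' : (g : G) ^ b = z := congrArg Subtype.val hb
  have h1 : orderOf (g : G) ∣ a * q := orderOf_dvd_of_pow_eq_one (by rw [pow_mul, ha', hyq])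
  have h2 : orderOf (g : G) ∣ b * q := orderOf_dvd_of_pow_eq_one (by rw [pow_mul, hb', hzq])
  obtain ⟨n, hn⟩ : q ∣ orderOf (g : G) := by
    by_contra h
    have hcop := (hq.coprime_iff_not_dvd.mpr h).symm
    exact hy1 (by rw [← ha', orderOf_dvd_iff_pow_eq_one.mp (hcop.dvd_of_dvd_mul_right h1)])
  rw [hn, mul_comm q n] at h1 h2
  obtain ⟨a', rfl⟩ := Nat.dvd_of_mul_dvd_mul_right hq.pos h1
  obtain ⟨b', rfl⟩ := Nat.dvd_of_mul_dvd_mul_right hq.pos h2
  have hgn : ((g : G) ^ n) ^ q = 1 := by rw [← pow_mul, mul_comm, ← hn, pow_orderOf_eq_one]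
  have hqa : ¬ q ∣ a' := fun ⟨c, hc⟩ => hy1 (by
    rw [← ha', hc, pow_mul, pow_mul, hgn, one_pow])
  obtain ⟨c, hc⟩ := pow_mem_of_not_dvd hq hgn hqa
  refine ⟨c * b', ?_⟩
  rw [← ha', ← hb', pow_mul, pow_mul, pow_mul, hc]

/-- `p`-length of a subgroup. -/
theorem pLengthLE_of_subgroup {G : Type*} [Group G] [Finite G] {p : ℕ} [Fact p.Prime] {k : ℕ}
    (h : Cfsg.PLengthLE p k G) (H : Subgroup G) : Cfsg.PLengthLE p k H := by
  have hA := PLength.isSeries_term h
  refine PLength.pLengthLE_of_series (A := fun j => (PLength.term p G j).subgroupOf H) ⟨?_, ?_, ?_, ?_, ?_⟩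
  · rw [hA.zero, Subgroup.bot_subgroupOf]
  · rw [hA.last, Subgroup.top_subgroupOf]
  · exact fun j hj => Subgroup.comap_mono (hA.le j hj)
  · exact fun j hj => (hA.normal j hj).comap H.subtype
  · intro j hj
    refine (hA.ok j hj).of_dvd ?_
    haveI := hA.normal j (le_of_lt hj)
    rw [Subgroup.subgroupOf, Subgroup.subgroupOf, Subgroup.relIndex_comap, Subgroup.map_comap_eq,
      Subgroup.range_subtype]
    exact PLength.relIndex_dvd_of_le _ (hA.le j hj) inf_le_right

theorem pLengthLE_quotient_subgroupOf {G : Type*} [Group G] [Finite G] {p : ℕ} [Fact p.Prime] {k : ℕ}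
    (N H : Subgroup G) [N.Normal] (h : Cfsg.PLengthLE p k ↥(H.map (QuotientGroup.mk' N))) :
    Cfsg.PLengthLE p k (H ⧸ N.subgroupOf H) := by
  set f := (QuotientGroup.mk' N).subgroupMap H with hf
  have hker : f.ker = N.subgroupOf H := by
    ext v
    rw [MonoidHom.mem_ker, Subgroup.mem_subgroupOf, Subtype.ext_iff]
    exact QuotientGroup.eq_one_iff (v : G)
  let e := QuotientGroup.quotientKerEquivOfSurjective f
    (MonoidHom.subgroupMap_surjective (QuotientGroup.mk' N) H)
  exact PLength.of_surjective ((QuotientGroup.quotientMulEquivOfEq hker).toMonoidHom.comp e.symm.toMonoidHom)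
    ((QuotientGroup.quotientMulEquivOfEq hker).surjective.comp e.symm.surjective) h

set_option maxHeartbeats 1000000 in
theorem pLengthLE_one_aux : ∀ (n : ℕ) {G : Type u} [Group G] [Finite G] [Group.IsSolvable G],
    Nat.card G = n → Odd (Nat.card G) → ∀ {p : ℕ} [Fact p.Prime] (H : Subgroup G) [H.Normal],
    H ≤ commutator G → ∀ {r : ℕ}, r.Prime → ∀ x : G, orderOf x = r → ¬ r ∣ Nat.card H →
    IsZGroup ↥(H ⊓ Subgroup.centralizer ({x} : Set G)) → Cfsg.PLengthLE p 1 H := by
  intro n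
  induction n using Nat.strong_induction_on with
  | _ n IH =>
  intro G _ _ _ hn hodd p _ H _ hHG r hr x hx hrH hZ
  classical
  haveI := Fact.mk hr
  haveI := hZ
  have hp : p.Prime := Fact.out
  have hxr : x ^ r = 1 := hx ▸ pow_orderOf_eq_one x
  set X := Subgroup.zpowers x with hXdef
  have hXn : ∀ A : Subgroup G, A.Normal → X ≤ Subgroup.normalizer (A : Set G) := fun A hA => by
    haveI := hA
    rw [Subgroup.normalizer_eq_top]; exact le_top
  have hcopX : ∀ A : Subgroup G, A ≤ H → (Nat.card X).Coprime (Nat.card A) := fun A hA => by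
    rw [hXdef, Nat.card_zpowers, hx]
    exact (hr.coprime_iff_not_dvd.mpr fun h => hrH (h.trans (Subgroup.card_dvd_of_le hA)))
  -- quotients
  have hquot : ∀ (N : Subgroup G) [N.Normal], N ≤ H → N ≠ ⊥ →
      Cfsg.PLengthLE p 1 ↥(H.map (QuotientGroup.mk' N)) := by
    intro N _ hN hN1
    have hxN : x ∉ N := fun h => hrH (hx ▸ Subgroup.orderOf_dvd_natCard H (hN h))
    have hord : orderOf (QuotientGroup.mk' N x) = r :=
      orderOf_eq_prime (by rw [← map_pow, hxr, map_one]) fun h => hxN ((QuotientGroup.eq_one_iff x).mp h)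
    haveI : Group.IsSolvable (G ⧸ N) := Group.isSolvable_of_surjective (QuotientGroup.mk'_surjective N)
    haveI : (H.map (QuotientGroup.mk' N)).Normal := (inferInstance : H.Normal).map _ (QuotientGroup.mk'_surjective N)
    have hlt : Nat.card (G ⧸ N) < n := by
      rw [← hn, ← Subgroup.index, ← Subgroup.index_mul_card N]
      exact lt_mul_of_one_lt_right (Nat.pos_of_ne_zero Subgroup.index_ne_zero_of_finite)
        ((Subgroup.one_lt_card_iff_ne_bot N).mpr hN1)
    refine IH _ hlt rfl (hodd.of_dvd_nat (Subgroup.card_quotient_dvd_card N)) _ ?_ hr _ hord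
      (fun h => hrH (h.trans (Subgroup.card_map_dvd _ _))) ?_
    · rw [commutator_def, ← Subgroup.map_top_of_surjective (QuotientGroup.mk' N) (QuotientGroup.mk'_surjective N),
        ← Subgroup.map_commutator, ← commutator_def]
      exact Subgroup.map_mono hHG
    · set C := H ⊓ Subgroup.centralizer ({x} : Set G) with hC
      set Cb := H.map (QuotientGroup.mk' N) ⊓ Subgroup.centralizer ({QuotientGroup.mk' N x} : Set (G ⧸ N))
      have hmem : ∀ c ∈ C, QuotientGroup.mk' N c ∈ Cb := fun c hc =>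
        ⟨Subgroup.mem_map_of_mem _ hc.1, Subgroup.mem_centralizer_singleton_iff.mpr (by
          rw [← map_mul, ← map_mul, Subgroup.mem_centralizer_singleton_iff.mp hc.2])⟩
      let g : C →* Cb := ((QuotientGroup.mk' N).comp C.subtype).codRestrict Cb fun c => hmem c c.2
      refine IsZGroup.of_surjective (f := g) ?_
      rintro ⟨w, hw1, hw2⟩
      obtain ⟨h, hh, rfl⟩ := hw1
      obtain ⟨m, hm, hc⟩ := Coprime.exists_mem_centralizer_of_fixed_coset (A := X) (N := N)
        (hXn N inferInstance) (hcopX N hN) (Or.inl (Coprime.isSolvable_zpowers x))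
        (k := h) (by rw [Subgroup.normalizer_eq_top]; trivial) (fun a ha => by
          have h1 : Commute (QuotientGroup.mk' N a) (QuotientGroup.mk' N h) := by
            obtain ⟨j, rfl⟩ := Subgroup.mem_zpowers_iff.mp ha
            rw [map_zpow]
            exact (show Commute _ _ from (Subgroup.mem_centralizer_singleton_iff.mp hw2).symm).zpow_left j
          rw [← QuotientGroup.eq_one_iff]
          show QuotientGroup.mk' N (a * h * a⁻¹ * h⁻¹) = 1
          rw [map_mul, map_mul, map_mul, h1.eq, map_inv, mul_inv_cancel_right, map_inv, mul_inv_cancel])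
      refine ⟨⟨h * m, mul_mem hh (hN hm), Subgroup.mem_centralizer_singleton_iff.mpr
        (Subgroup.mem_centralizer_iff.mp hc x (Subgroup.mem_zpowers x)).symm⟩, Subtype.ext ?_⟩
      show QuotientGroup.mk' N (h * m) = QuotientGroup.mk' N h
      rw [map_mul, show QuotientGroup.mk' N m = 1 from (QuotientGroup.eq_one_iff m).mpr hm, mul_one]
  by_cases hH1 : H = ⊥
  · subst hH1
    exact PLength.of_coprime (by rw [Subgroup.card_bot]; exact Nat.coprime_one_left p) 1
  -- no normal `p'`-subgroup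
  by_cases hA : ∃ N : Subgroup G, N.Normal ∧ N ≤ H ∧ N ≠ ⊥ ∧ (Nat.card N).Coprime p
  · obtain ⟨N, hNn, hN, hN1, hNp⟩ := hA
    haveI := hNn
    refine PLength.of_quotient_coprime (N.subgroupOf H) ?_ (pLengthLE_quotient_subgroupOf N H (hquot N hN hN1))
    rwa [Nat.card_congr (Subgroup.subgroupOfEquivOfLe hN).toEquiv]
  push Not at hA
  have hpH : p ∣ Nat.card H := by
    by_contra h
    exact hA H inferInstance le_rfl hH1 ((hp.coprime_iff_not_dvd.mpr h).symm)
  have hrp : r ≠ p := fun e => hrH (e ▸ hpH)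
  have hp2 : p ≠ 2 := fun e => by
    have := hodd.of_dvd_nat (hpH.trans (Subgroup.card_subgroup_dvd_card H))
    rw [e] at this
    exact absurd this (by decide)
  have hr2 : r ≠ 2 := fun e => by
    have := hodd.of_dvd_nat (hx ▸ orderOf_dvd_natCard x : r ∣ Nat.card G)
    rw [e] at this
    exact absurd this (by decide)
  -- a minimal normal subgroup
  obtain ⟨V, ⟨hVn, hVH, hV1⟩, hVmin⟩ : ∃ V : Subgroup G, (V.Normal ∧ V ≤ H ∧ V ≠ ⊥) ∧
      ∀ M : Subgroup G, M.Normal → M ≤ V → M = ⊥ ∨ M = V := by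
    have hex : ∃ c, ∃ V : Subgroup G, (V.Normal ∧ V ≤ H ∧ V ≠ ⊥) ∧ Nat.card V = c :=
      ⟨_, H, ⟨inferInstance, le_rfl, hH1⟩, rfl⟩
    obtain ⟨V, hV, hc⟩ := Nat.find_spec hex
    refine ⟨V, hV, fun M hM hle => or_iff_not_imp_left.mpr fun hM1 => ?_⟩
    exact Subgroup.eq_of_le_of_card_ge hle (hc ▸ Nat.find_le ⟨M, ⟨hM, hle.trans hV.2.1, hM1⟩, rfl⟩)
  haveI := hVn
  have hVc : ∀ u ∈ V, ∀ v ∈ V, u * v = v * u := by
    rcases hVmin ⁅V, V⁆ inferInstance (Subgroup.commutator_le_left V V) with h | h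
    · rw [Subgroup.commutator_eq_bot_iff_le_centralizer] at h
      exact fun u hu v hv => (Subgroup.mem_centralizer_iff.mp (h hu) v hv).symm
    · exfalso
      haveI : Nontrivial V := (Subgroup.nontrivial_iff_ne_bot V).mpr hV1
      refine (Group.IsSolvable.commutator_lt_top_of_nontrivial (G := V)).ne ?_
      refine Subgroup.map_injective (f := V.subtype) Subtype.val_injective ?_
      rw [Subgroup.map_subtype_commutator, h, ← MonoidHom.range_eq_map, Subgroup.range_subtype]
  have hVp : ∀ v ∈ V, v ^ p = 1 := by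
    let Ω : Subgroup G :=
      { carrier := {v | v ∈ V ∧ v ^ p = 1}
        one_mem' := ⟨one_mem _, one_pow p⟩
        mul_mem' := fun {a b} ha hb => ⟨mul_mem ha.1 hb.1, by
          rw [(show Commute a b from hVc a ha.1 b hb.1).mul_pow, ha.2, hb.2, one_mul]⟩
        inv_mem' := fun {a} ha => ⟨inv_mem ha.1, by rw [inv_pow, ha.2, inv_one]⟩ }
    have hΩn : Ω.Normal := ⟨fun v hv g => ⟨hVn.conj_mem v hv.1 g, by
      rw [conj_pow, hv.2, mul_one, mul_inv_cancel]⟩⟩
    have hpV : p ∣ Nat.card V := by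
      by_contra h
      exact hA V hVn hVH hV1 ((hp.coprime_iff_not_dvd.mpr h).symm)
    obtain ⟨v, hv⟩ := exists_prime_orderOf_dvd_card' p hpV
    rcases hVmin Ω hΩn (fun v hv => hv.1) with h | h
    · exfalso
      have h1 : (v : G) ∈ Ω := ⟨v.2, by
        rw [← Subgroup.coe_pow, ← hv, pow_orderOf_eq_one, Subgroup.coe_one]⟩
      rw [h, Subgroup.mem_bot, ← orderOf_eq_one_iff, Subgroup.orderOf_coe, hv] at h1
      exact hp.ne_one h1
    · intro u hu
      exact (h.symm ▸ hu : u ∈ Ω).2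
  have hV : Cfsg.IsElementaryAbelian p V :=
    ⟨⟨⟨fun a b => Subtype.ext (hVc a a.2 b b.2)⟩⟩, hVp⟩
  have hVpg : IsPGroup p V := fun u => ⟨1, Subtype.ext (by simpa using hVp u u.2)⟩
  have hcardV : ∃ i, Nat.card V = p ^ i := hVpg.exists_card_eq
  -- uniqueness
  by_cases huni : ∃ M : Subgroup G, M.Normal ∧ M ≤ H ∧ M ≠ ⊥ ∧ ¬ V ≤ M
  · obtain ⟨M, hMn, hMH, hM1, hVM⟩ := huni
    haveI := hMn
    refine PLength.of_inf_eq_bot (V.subgroupOf H) (M.subgroupOf H) ?_
      (pLengthLE_quotient_subgroupOf V H (hquot V hVH hV1))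
      (pLengthLE_quotient_subgroupOf M H (hquot M hMH hM1))
    rcases hVmin (V ⊓ M) inferInstance inf_le_left with h | h
    · rw [Subgroup.subgroupOf, Subgroup.subgroupOf, ← Subgroup.comap_inf, h, MonoidHom.comap_bot,
        Subgroup.ker_subtype]
    · exact absurd (inf_eq_left.mp h) hVM
  push Not at huni
  -- the `p'`-core modulo `V`
  set f := QuotientGroup.mk' V with hfdef
  have hf : Function.Surjective f := QuotientGroup.mk'_surjective V
  have hkerf : f.ker = V := QuotientGroup.ker_mk' V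
  set Hb := H.map f with hHb
  haveI : Hb.Normal := (inferInstance : H.Normal).map _ hf
  have hHb1 : Cfsg.PLengthLE p 1 Hb := hquot V hVH hV1
  set Kb := (Cfsg.pPrimeCore p Hb).map Hb.subtype with hKb
  haveI hKbn : Kb.Normal := Cores.normal_map_subtype_of_char Hb _
  have hKbp : (Nat.card Kb).Coprime p :=
    (Cores.pPrimeCore_coprime p Hb).coprime_dvd_left (Subgroup.card_map_dvd _ _)
  by_cases hK0 : Cfsg.pPrimeCore p Hb = ⊥
  · -- the Sylow subgroup is normal
    set g := f.subgroupMap H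
    set P' := (Cfsg.pCore p Hb).comap g with hP'
    have hg : Function.Surjective g := MonoidHom.subgroupMap_surjective f H
    have hP'p : IsPGroup p P' := (Cores.pCore_isPGroup p Hb).comap_of_ker_isPGroup g (by
      intro v
      refine ⟨1, Subtype.ext (Subtype.ext ?_)⟩
      have h1 : f ((v : H) : G) = 1 := congrArg Subtype.val v.2
      have h2 : ((v : H) : G) ∈ V := (QuotientGroup.eq_one_iff _).mp h1
      simpa using hVp _ h2)
    haveI : P'.Normal := Subgroup.Normal.comap inferInstance g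
    refine PLength.of_quotient_isPGroup (k := 0) P' hP'p (PLength.of_coprime ?_ 0)
    have h0 := PLength.coprime_of_pLengthLE_zero (PLength.quotient_pCore hK0 (k := 0) hHb1)
    rw [← Subgroup.index, hP', Subgroup.index_comap_of_surjective _ hg]
    exact h0
  set K := Kb.comap f with hK
  have hKH : K ≤ H := by
    refine (Subgroup.comap_mono (Subgroup.map_subtype_le _)).trans ?_
    rw [hHb, Subgroup.comap_map_eq, hkerf]
    exact sup_le le_rfl hVH
  have hVK : V ≤ K := fun v hv => by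
    rw [hK, Subgroup.mem_comap, hfdef, QuotientGroup.mk'_apply, (QuotientGroup.eq_one_iff v).mpr hv]
    exact one_mem _
  haveI hKn : K.Normal := hKbn.comap f
  have hKcard : Nat.card K = Nat.card V * Nat.card Kb := by
    have := Cores.card_comap_mk' V Kb
    rw [hK, hfdef]
    linarith [this, mul_comm (Nat.card V) (Nat.card Kb)]
  obtain ⟨T, hTK, hXT, hT1, hT2⟩ := exists_invariant_hall (A := X) (Y := K) (hXn K hKn) (hcopX K hKH)
    inferInstance (fun s => s ≠ p)
  have hTp : (Nat.card T).Coprime p := by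
    refine (Nat.Prime.coprime_iff_not_dvd hp).mpr (fun h => hT1 p hp h rfl) |>.symm
  have hcardT : Nat.card T = Nat.card Kb := by
    have h1 := Coprime.relIndex_mul_card hTK
    rw [hKcard] at h1
    obtain ⟨i, hi⟩ := hcardV
    have hrel : ∃ j, T.relIndex K = p ^ j := by
      refine ⟨_, Nat.eq_prime_pow_of_unique_prime_dvd (fun h0 => ?_) fun {d} hd hdd => ?_⟩
      · rw [h0, mul_zero] at h1
        exact (Nat.mul_ne_zero Nat.card_pos.ne' Nat.card_pos.ne') h1.symm
      · by_contra hne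
        exact hT2 d hd hdd hne
    obtain ⟨j, hj⟩ := hrel
    rw [hj, hi] at h1
    exact Nat.dvd_antisymm ((hTp.pow_right i).dvd_of_dvd_mul_left (Dvd.intro _ h1))
      ((hKbp.pow_right j).dvd_of_dvd_mul_right (Dvd.intro_left _ h1.symm))
  have hcopVT : (Nat.card V).Coprime (Nat.card T) := by
    obtain ⟨i, hi⟩ := hcardV
    rw [hi]; exact hTp.symm.pow_left i
  have hTVn : T ≤ Subgroup.normalizer (V : Set G) := by rw [Subgroup.normalizer_eq_top]; exact le_top
  have hVT : V ⊔ T = K := by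
    refine Subgroup.eq_of_le_of_card_ge (sup_le hVK hTK) ?_
    rw [Coprime.card_sup_of_coprime hTVn hcopVT, hcardT, hKcard]
  set NG := Subgroup.normalizer (T : Set G) with hNG
  have hTNG : T ≤ NG := Subgroup.le_normalizer
  have hxNG : x ∈ NG := hXT (Subgroup.mem_zpowers x)
  have hVNG : V ⊔ NG = ⊤ := by
    refine eq_top_iff.mpr fun g _ => ?_
    obtain ⟨v, hv, hvg⟩ := Coprime.exists_conj_eq_of_le_sup (N := V) (H := T) (K := MulAut.conj g • T) hTVn hcopVT
      (Or.inl inferInstance) (Coprime.card_conj_smul g T) (by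
        rw [hVT]; intro w hw
        rw [Coprime.mem_conj_smul] at hw
        have := hKn.conj_mem _ (hTK hw) g
        simpa [mul_assoc] using this)
    have h1 : v⁻¹ * g ∈ NG := Coprime.mem_normalizer_of_conj_smul_eq (by
      rw [Coprime.conj_mul_smul, ← hvg, ← Coprime.conj_mul_smul, inv_mul_cancel, Coprime.conj_one_smul])
    simpa using mul_mem (Subgroup.mem_sup_left hv : v ∈ V ⊔ NG) (Subgroup.mem_sup_right h1)
  -- normality criterion
  have hnormal : ∀ D : Subgroup G, V ≤ Subgroup.normalizer (D : Set G) →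
      NG ≤ Subgroup.normalizer (D : Set G) → D.Normal := fun D h1 h2 =>
    Subgroup.normalizer_eq_top_iff.mp (top_le_iff.mp (hVNG ▸ sup_le h1 h2))
  have hnorm_conj : ∀ (D : Subgroup G) (A : Subgroup G), (∀ g ∈ A, ∀ d ∈ D, g * d * g⁻¹ ∈ D) →
      A ≤ Subgroup.normalizer (D : Set G) := fun D A h g hg => by
    rw [Subgroup.mem_normalizer_iff]
    exact fun d => ⟨h g hg d, fun hd => by simpa [mul_assoc] using h g⁻¹ (inv_mem hg) _ hd⟩
  have hCVT : V ⊓ Subgroup.centralizer (T : Set G) = ⊥ := by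
    have hn' : (V ⊓ Subgroup.centralizer (T : Set G)).Normal := by
      refine hnormal _ (hnorm_conj _ _ fun g hg d hd => ?_) (hnorm_conj _ _ fun g hg d hd => ?_)
      · rw [hVc g hg d hd.1, mul_inv_cancel_right]; exact hd
      · refine ⟨hVn.conj_mem d hd.1 g, Subgroup.mem_centralizer_iff.mpr fun t ht => ?_⟩
        have h1 := Subgroup.mem_centralizer_iff.mp hd.2 _ ((Subgroup.mem_normalizer_iff''.mp hg t).mp ht)
        calc t * (g * d * g⁻¹) = g * ((g⁻¹ * t * g) * d) * g⁻¹ := by group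
          _ = g * (d * (g⁻¹ * t * g)) * g⁻¹ := by rw [h1]
          _ = _ := by group
    rcases hVmin _ hn' inf_le_left with h | h
    · exact h
    exfalso
    have hTn : T.Normal := hnormal T (hnorm_conj _ _ fun g hg d hd => by
      have := Subgroup.mem_centralizer_iff.mp (inf_eq_left.mp h hg) d hd
      rw [← this, mul_inv_cancel_right]; exact hd) le_rfl
    refine hA T hTn (hTK.trans hKH) ?_ hTp
    intro hT0
    apply hK0
    rw [hT0, Subgroup.card_bot, eq_comm, Subgroup.card_eq_one] at hcardT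
    exact Subgroup.map_injective Hb.subtype_injective (by rw [Subgroup.map_bot]; exact hcardT)
  have hVN : V ⊓ NG = ⊥ := by
    rw [eq_bot_iff]
    rintro v ⟨hv, hvN⟩
    refine hCVT.le ⟨hv, Subgroup.mem_centralizer_iff.mpr fun t ht => ?_⟩
    have h1 : v * t * v⁻¹ * t⁻¹ ∈ T := mul_mem ((Subgroup.mem_normalizer_iff.mp hvN t).mp ht) (inv_mem ht)
    have h2 : v * t * v⁻¹ * t⁻¹ ∈ V := by
      have := mul_mem hv (hVn.conj_mem v⁻¹ (inv_mem hv) t)
      simpa [mul_assoc] using this
    have h3 := Coprime.eq_one_of_mem_of_mem hcopVT h2 h1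
    rw [mul_inv_eq_one, mul_inv_eq_iff_eq_mul] at h3
    exact h3.symm
  set L := H ⊓ NG with hL
  have hLn : NG ≤ Subgroup.normalizer (L : Set G) := hnorm_conj _ _ fun g hg d hd =>
    Subgroup.mem_inf.mpr ⟨(inferInstance : H.Normal).conj_mem d hd.1 g, mul_mem (mul_mem hg hd.2) (inv_mem hg)⟩
  have hVL : V ⊓ L = ⊥ := eq_bot_iff.mpr ((inf_le_inf_left V inf_le_right).trans hVN.le)
  by_cases hpL : ¬ p ∣ Nat.card L
  · refine PLength.of_quotient_isPGroup (k := 0) (V.subgroupOf H)
      (hVpg.comap_of_injective H.subtype Subtype.val_injective) ?_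
    refine pLengthLE_quotient_subgroupOf V H (PLength.of_coprime ?_ 0)
    refine Nat.Coprime.coprime_dvd_left ?_ ((hp.coprime_iff_not_dvd.mpr hpL).symm)
    have : H.map f = L.map f := by
      refine le_antisymm ?_ (Subgroup.map_mono inf_le_left)
      rintro _ ⟨h, hh, rfl⟩
      obtain ⟨v, hv, m, hm, rfl⟩ := Coprime.exists_mul_of_mem_sup (N := V) (H := NG)
        (by rw [Subgroup.normalizer_eq_top]; exact le_top) (hVNG ▸ Subgroup.mem_top h)
      refine ⟨m, ⟨(Subgroup.mul_mem_cancel_left H (hVH hv)).mp hh, hm⟩, ?_⟩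
      rw [map_mul, show f v = 1 from (QuotientGroup.eq_one_iff v).mpr hv, one_mul]
    rw [← hfdef, this]
    exact Subgroup.card_map_dvd _ _
  rw [not_not] at hpL
  exfalso
  -- `L` lies in the derived group of `NG`
  have hLD : L ≤ ⁅NG, NG⁆ := by
    have h1 : (commutator G).map f = ⁅NG, NG⁆.map f := by
      rw [commutator_def, Subgroup.map_commutator, Subgroup.map_commutator, ← hVNG, Subgroup.map_sup,
        (Subgroup.map_eq_bot_iff V).mpr hkerf.ge, bot_sup_eq]
    intro l hl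
    obtain ⟨d, hd, hdl⟩ := (h1 ▸ Subgroup.mem_map_of_mem f (hHG hl.1) : f l ∈ ⁅NG, NG⁆.map f)
    have hdN : d ∈ NG := Coprime.commutator_le_of_le_normalizer Subgroup.le_normalizer hd
    have h2 : d⁻¹ * l ∈ V ⊓ NG := Subgroup.mem_inf.mpr ⟨by
      rw [← hkerf, MonoidHom.mem_ker, map_mul, map_inv, hdl, inv_mul_cancel], mul_mem (inv_mem hdN) hl.2⟩
    rw [hVN, Subgroup.mem_bot, inv_mul_eq_one] at h2
    exact h2 ▸ hd
  have hCLV : L ⊓ Subgroup.centralizer (V : Set G) = ⊥ := by
    by_contra hne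
    have hDn : (L ⊓ Subgroup.centralizer (V : Set G)).Normal := by
      refine hnormal _ (hnorm_conj _ _ fun g hg d hd => ?_) (hnorm_conj _ _ fun g hg d hd => ?_)
      · rw [Subgroup.mem_centralizer_iff.mp hd.2 g hg, mul_inv_cancel_right]; exact hd
      · refine ⟨(Subgroup.mem_normalizer_iff.mp (hLn hg) d).mp hd.1, Subgroup.mem_centralizer_iff.mpr fun v hv => ?_⟩
        have h1 := Subgroup.mem_centralizer_iff.mp hd.2 _ (by simpa using hVn.conj_mem v hv g⁻¹ : g⁻¹ * v * g ∈ (V : Set G))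
        calc v * (g * d * g⁻¹) = g * ((g⁻¹ * v * g) * d) * g⁻¹ := by group
          _ = g * (d * (g⁻¹ * v * g)) * g⁻¹ := by rw [h1]
          _ = _ := by group
    exact hV1 (eq_bot_iff.mpr ((le_inf le_rfl ((huni _ hDn (inf_le_left.trans inf_le_left) hne).trans inf_le_left)).trans hVL.le))
  -- the Fitting subgroup
  set F := Cfsg.fittingOf L with hFdef
  have hFn : Group.IsNilpotent F := isNilpotent_fittingOf L
  have hFL : F ≤ L := fittingOf_le L
  have hsolvL : Group.IsSolvable L := inferInstance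
  have hCF : L ⊓ Subgroup.centralizer (F : Set G) ≤ F := inf_centralizer_fittingOf_le hsolvL
  have hNF : NG ≤ Subgroup.normalizer (F : Set G) :=
    hLn.trans (Cores.normalizer_le_normalizer_map_subtype L _)
  have hNparts : ∀ q : ℕ, NG ≤ Subgroup.normalizer (pPartOf q F : Set G) := fun q =>
    hNF.trans (normalizer_le_normalizer_pPartOf q F)
  have hFp : pPartOf p F = ⊥ := by
    set Pp := pPartOf p F with hPp
    have hPpL : Pp ≤ L := (pPartOf_le p F).trans hFL
    have hPpV : Pp ≤ Subgroup.normalizer (V : Set G) := by rw [Subgroup.normalizer_eq_top]; exact le_top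
    have hlt : ⁅V, Pp⁆ < V := Coprime.commutator_lt_of_isPGroup hVpg (isPGroup_pPartOf p F) hPpV hV1
    have hn' : ⁅V, Pp⁆.Normal := by
      refine hnormal _ (Subgroup.normalizer_commutator_ge_left V Pp) fun g hg => ?_
      rw [Subgroup.mem_normalizer_iff_map_conj_eq]
      show ⁅V, Pp⁆.map (MulAut.conj g).toMonoidHom = _
      rw [Subgroup.map_commutator, map_conj_eq_of_mem (hNparts p hg),
        map_conj_eq_of_mem (by rw [Subgroup.normalizer_eq_top]; trivial : g ∈ Subgroup.normalizer (V : Set G))]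
    have h0 := (hVmin _ hn' hlt.le).resolve_right hlt.ne
    rw [Subgroup.commutator_eq_bot_iff_le_centralizer, Subgroup.le_centralizer_iff] at h0
    exact eq_bot_iff.mpr ((le_inf hPpL h0).trans hCLV.le)
  have hFpcop : ¬ p ∣ Nat.card F := fun h => pPartOf_ne_bot hFn h hFp
  have hLH : L ≤ H := inf_le_left
  -- `x` moves `F`
  obtain ⟨q, hq, hqF, hxq⟩ : ∃ q : ℕ, q.Prime ∧ q ∣ Nat.card F ∧
      ¬ X ≤ Subgroup.centralizer (pPartOf q F : Set G) := by
    by_contra h
    push Not at h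
    have hXF := le_centralizer_of_parts hFn h
    have hle : F ≤ H ⊓ Subgroup.centralizer ({x} : Set G) := fun w hw =>
      ⟨hLH (hFL hw), Subgroup.mem_centralizer_singleton_iff.mpr
        (Subgroup.mem_centralizer_iff.mp (hXF (Subgroup.mem_zpowers x)) w hw)⟩
    haveI : IsZGroup F := IsZGroup.of_injective (f := Subgroup.inclusion hle) (Subgroup.inclusion_injective hle)
    haveI hcyc : IsCyclic F := inferInstance
    have hcent : ⁅NG, NG⁆ ≤ Subgroup.centralizer (F : Set G) := by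
      refine Subgroup.commutator_le.mpr fun g hg h' hh' => Subgroup.mem_centralizer_iff.mpr fun w hw => ?_
      obtain ⟨a, ha⟩ := (F.normalizerMonoidHom ⟨g, hNF hg⟩ : F →* F).map_cyclic
      obtain ⟨b, hb⟩ := (F.normalizerMonoidHom ⟨h', hNF hh'⟩ : F →* F).map_cyclic
      have hca : ∀ w : F, g * (w : G) * g⁻¹ = (w : G) ^ a := fun w => congrArg Subtype.val (ha w)
      have hcb : ∀ w : F, h' * (w : G) * h'⁻¹ = (w : G) ^ b := fun w => congrArg Subtype.val (hb w)
      have hmem : g⁻¹ * (h'⁻¹ * w * h') * g ∈ F := (Subgroup.mem_normalizer_iff''.mp (hNF hg) _).mp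
        ((Subgroup.mem_normalizer_iff''.mp (hNF hh') _).mp hw)
      set w' : F := ⟨_, hmem⟩
      have e : g * h' * (w' : G) * (g * h')⁻¹ = h' * g * (w' : G) * (h' * g)⁻¹ := by
        calc g * h' * (w' : G) * (g * h')⁻¹ = g * ((h' * (w' : G) * h'⁻¹)) * g⁻¹ := by group
          _ = (g * (w' : G) * g⁻¹) ^ b := by rw [hcb, conj_zpow]
          _ = ((w' : G) ^ a) ^ b := by rw [hca]
          _ = ((w' : G) ^ b) ^ a := by rw [← zpow_mul, ← zpow_mul, mul_comm]
          _ = (h' * (w' : G) * h'⁻¹) ^ a := by rw [hcb]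
          _ = h' * (g * (w' : G) * g⁻¹) * h'⁻¹ := by rw [hca, conj_zpow]
          _ = _ := by group
      have e1 : h' * g * (w' : G) * (h' * g)⁻¹ = w := by simp only [w']; group
      rw [e1] at e
      rw [eq_comm, ← mul_inv_eq_iff_eq_mul]
      calc ⁅g, h'⁆ * w * ⁅g, h'⁆⁻¹ = g * h' * (w' : G) * (g * h')⁻¹ := by
            simp only [w', commutatorElement_def]; group
        _ = w := e
    exact hFpcop (hpL.trans (Subgroup.card_dvd_of_le ((le_inf le_rfl (hLD.trans hcent)).trans hCF)))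
  haveI := Fact.mk hq
  have hqH : q ∣ Nat.card H := hqF.trans (Subgroup.card_dvd_of_le (hFL.trans hLH))
  have hqr : q ≠ r := fun e => hrH (e ▸ hqH)
  have hqp : q ≠ p := fun e => hFpcop (e ▸ hqF)
  have hq2 : q ≠ 2 := fun e => by
    have := hodd.of_dvd_nat (hqH.trans (Subgroup.card_subgroup_dvd_card H))
    rw [e] at this
    exact absurd this (by decide)
  have hVnorm : ∀ g : G, g ∈ Subgroup.normalizer (V : Set G) := fun g => by
    rw [Subgroup.normalizer_eq_top]; trivial
  -- fixed points in `V`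
  set C := H ⊓ Subgroup.centralizer ({x} : Set G) with hC
  have hxfix : ∀ {c : G}, x * c * x⁻¹ = c → c ∈ Subgroup.centralizer ({x} : Set G) := fun h =>
    Subgroup.mem_centralizer_singleton_iff.mpr (mul_inv_eq_iff_eq_mul.mp h).symm
  have hcyc : ∀ {s : ℕ} [Fact s.Prime] (D : Subgroup G), D ≤ C → IsPGroup s D → IsCyclic D := by
    intro s _ D hD hDs
    haveI : IsZGroup D := IsZGroup.of_injective (f := Subgroup.inclusion hD) (Subgroup.inclusion_injective hD)
    haveI := (hDs.to_subgroup ⊤).isCyclic_of_isZGroup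
    exact isCyclic_of_surjective (Subgroup.topEquiv (G := D)).toMonoidHom (MulEquiv.surjective _)
  have hcycV : IsCyclic ↥(V ⊓ Subgroup.centralizer ({x} : Set G)) :=
    hcyc (s := p) _ (inf_le_inf_right _ hVH) (hVpg.to_le inf_le_left)
  have hCV : ∀ c ∈ V, ∀ d ∈ V, x * c * x⁻¹ = c → x * d * x⁻¹ = d → c ≠ 1 → ∃ m : ℕ, c ^ m = d :=
    fun c hc d hd hcx hdx hc1 => exists_pow_eq_of_isCyclic hcycV hp ⟨hc, hxfix hcx⟩ ⟨hd, hxfix hdx⟩
      (hVp c hc) (hVp d hd) hc1
  obtain ⟨c, hc, hcx, hc1⟩ : ∃ c ∈ V, x * c * x⁻¹ = c ∧ c ≠ 1 := by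
    by_contra h
    push Not at h
    apply hxq
    have hQn : x ∈ Subgroup.normalizer (pPartOf q F : Set G) := hNparts q hxNG
    have hcm := commute_commutator_of_fixedPointFree (U := V) (Q := pPartOf q F) (x := x) (p := p) hr hr2 hrp hq
      hq2 hqp hqr hVc hVp hxr (hVnorm x) hQn (fun g _ => hVnorm g) (isPGroup_pPartOf q F)
      (fun u hu hux => h u hu hux)
    refine Subgroup.zpowers_le.mpr (Subgroup.mem_centralizer_iff.mpr fun y hy => ?_)
    have h1 : ⁅x, y⁆ ∈ L ⊓ Subgroup.centralizer (V : Set G) := by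
      refine ⟨hFL (pPartOf_le q F ?_), Subgroup.mem_centralizer_iff.mpr fun v hv => (hcm y hy v hv).symm⟩
      exact mul_mem ((Subgroup.mem_normalizer_iff.mp hQn y).mp hy) (inv_mem hy)
    rw [hCLV, Subgroup.mem_bot, commutatorElement_eq_one_iff_mul_comm] at h1
    exact h1.symm
  have hco : orderOf c = p :=
    (hp.eq_one_or_self_of_dvd _ (orderOf_dvd_of_pow_eq_one (hVp c hc))).resolve_left
      fun h => hc1 (orderOf_eq_one_iff.mp h)
  -- `x` fixes no `p`-element of `L`
  have hfixP : ∀ a ∈ L, (∃ k, orderOf a = p ^ k) → x * a * x⁻¹ = a → a = 1 := by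
    intro a ha hk hax
    by_contra ha1
    obtain ⟨k, hk⟩ := hk
    obtain ⟨y, hy, hyo, hyx⟩ : ∃ y ∈ L, orderOf y = p ∧ x * y * x⁻¹ = y := by
      have hk0 : k ≠ 0 := fun h => ha1 (orderOf_eq_one_iff.mp (by rw [hk, h, pow_zero]))
      refine ⟨a ^ p ^ (k - 1), pow_mem ha _, ?_, by rw [← conj_pow, hax]⟩
      rw [orderOf_pow' _ (pow_ne_zero _ hp.ne_zero), hk, Nat.gcd_eq_right (pow_dvd_pow p (Nat.sub_le k 1)),
        Nat.pow_div (Nat.sub_le k 1) hp.pos, show k - (k - 1) = 1 by omega, pow_one]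
    have hyp : y ^ p = 1 := hyo ▸ pow_orderOf_eq_one y
    -- `y` centralises the fixed point
    have hyc : y * c * y⁻¹ = c := by
      have hmem : y * c * y⁻¹ ∈ V := hVn.conj_mem c hc y
      have hyx' : x * y = y * x := mul_inv_eq_iff_eq_mul.mp hyx
      have hx' : x * (y * c * y⁻¹) * x⁻¹ = y * c * y⁻¹ := by
        calc x * (y * c * y⁻¹) * x⁻¹ = (x * y) * c * (x * y)⁻¹ := by group
          _ = y * (x * c * x⁻¹) * y⁻¹ := by rw [hyx']; group
          _ = _ := by rw [hcx]
      obtain ⟨m, hm⟩ := hCV c hc _ hmem hcx hx' hc1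
      have h2 : ∀ k : ℕ, y ^ k * c * (y ^ k)⁻¹ = c ^ m ^ k := by
        intro k
        induction k with
        | zero => simp
        | succ k ih =>
          calc y ^ (k + 1) * c * (y ^ (k + 1))⁻¹ = y ^ k * (y * c * y⁻¹) * (y ^ k)⁻¹ := by
                rw [pow_succ]; group
            _ = (y ^ k * c * (y ^ k)⁻¹) ^ m := by rw [← hm, conj_pow]
            _ = _ := by rw [ih, ← pow_mul, ← pow_succ]
      have h3 := h2 p
      rw [hyp, one_mul, inv_one, mul_one] at h3
      have h4 : m ^ p ≡ 1 [MOD p] := by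
        rw [← hco, ← pow_eq_pow_iff_modEq, pow_one, hco]; exact h3.symm
      have h5 : (m : ZMod p) = 1 := by
        rw [← ZMod.natCast_eq_natCast_iff, Nat.cast_pow, ZMod.pow_card, Nat.cast_one] at h4
        exact h4
      rw [← hm]
      conv_rhs => rw [← pow_one c]
      rw [pow_eq_pow_iff_modEq, hco]
      exact (ZMod.natCast_eq_natCast_iff m 1 p).mp (by rw [h5, Nat.cast_one])
    have hcy : Commute y c := mul_inv_eq_iff_eq_mul.mp hyc
    let D : Subgroup G :=
      { carrier := {w | ∃ i j : ℤ, w = c ^ i * y ^ j}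
        one_mem' := ⟨0, 0, by simp⟩
        mul_mem' := by
          rintro a b ⟨i, j, rfl⟩ ⟨i', j', rfl⟩
          refine ⟨i + i', j + j', ?_⟩
          rw [zpow_add, zpow_add, ((hcy.zpow_left j).zpow_right i').mul_mul_mul_comm]
        inv_mem' := by
          rintro a ⟨i, j, rfl⟩
          exact ⟨-i, -j, by rw [mul_inv_rev, zpow_neg, zpow_neg]; exact ((hcy.zpow_left j).zpow_right i).inv_inv.eq⟩ }
    have hcy' : ∀ w ∈ D, w ^ p = 1 := by
      rintro w ⟨i, j, rfl⟩
      rw [((hcy.zpow_left j).zpow_right i).symm.mul_pow, ← zpow_natCast (c ^ i), ← zpow_natCast (y ^ j),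
        ← zpow_mul, ← zpow_mul, mul_comm i, mul_comm j, zpow_mul, zpow_mul, zpow_natCast, zpow_natCast,
        hVp c hc, hyp, one_zpow, one_zpow, one_mul]
    have hDC : D ≤ C := by
      rintro w ⟨i, j, rfl⟩
      exact mul_mem (zpow_mem (show c ∈ C from ⟨hVH hc, hxfix hcx⟩) i)
        (zpow_mem (show y ∈ C from ⟨hLH hy, hxfix hyx⟩) j)
    have hDcyc := hcyc (s := p) D hDC fun w => ⟨1, Subtype.ext (by simpa using hcy' w w.2)⟩
    obtain ⟨m, hm⟩ := exists_pow_eq_of_isCyclic hDcyc hp ⟨1, 0, by simp⟩ ⟨0, 1, by simp⟩ (hVp c hc) hyp hc1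
    have h1 : y ∈ V ⊓ L := ⟨hm ▸ pow_mem hc m, hy⟩
    rw [hVL, Subgroup.mem_bot] at h1
    rw [h1, orderOf_one] at hyo
    exact hp.ne_one hyo.symm
  -- a minimal invariant `p`-subgroup
  obtain ⟨P, hPL, hPp, hP1, hxP, hPmin⟩ : ∃ P : Subgroup G, P ≤ L ∧ IsPGroup p P ∧ P ≠ ⊥ ∧
      x ∈ Subgroup.normalizer (P : Set G) ∧
      ∀ S : Subgroup G, S ≤ P → x ∈ Subgroup.normalizer (S : Set G) → S = ⊥ ∨ S = P := by
    obtain ⟨S, hS⟩ := Coprime.exists_invariant_sylow (A := X) (K := L)
      (Subgroup.zpowers_le.mpr (hLn hxNG)) (hcopX L hLH) (Or.inl (Coprime.isSolvable_zpowers x)) p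
    have hS1 : (S : Subgroup L).map L.subtype ≠ ⊥ := by
      intro h
      rw [Subgroup.map_eq_bot_iff_of_injective _ L.subtype_injective] at h
      exact S.ne_bot_of_dvd_card hpL h
    have hex : ∃ m, ∃ P : Subgroup G, (P ≤ L ∧ IsPGroup p P ∧ P ≠ ⊥ ∧
        x ∈ Subgroup.normalizer (P : Set G)) ∧ Nat.card P = m :=
      ⟨_, _, ⟨Subgroup.map_subtype_le _, S.2.map _, hS1, hS (Subgroup.mem_zpowers x)⟩, rfl⟩
    obtain ⟨P, hP, hc⟩ := Nat.find_spec hex
    refine ⟨P, hP.1, hP.2.1, hP.2.2.1, hP.2.2.2, fun T hT hxT => or_iff_not_imp_left.mpr fun hT1 => ?_⟩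
    exact Subgroup.eq_of_le_of_card_ge hT (hc ▸ Nat.find_le
      ⟨T, ⟨hT.trans hP.1, hP.2.1.to_le hT, hT1, hxT⟩, rfl⟩)
  have hPfix : ∀ a ∈ P, x * a * x⁻¹ = a → a = 1 := fun a ha =>
    hfixP a (hPL ha) (exists_orderOf_of_mem hPp ha)
  obtain ⟨q', hq', hq'F, hPq⟩ : ∃ q : ℕ, q.Prime ∧ q ∣ Nat.card F ∧
      ¬ pPartOf q F ≤ Subgroup.centralizer (P : Set G) := by
    by_contra h
    push Not at h
    have h1 := le_centralizer_of_parts hFn (Y := P) fun s hs hsd => Subgroup.le_centralizer_iff.mp (h s hs hsd)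
    have h2 : P ≤ F := (le_inf hPL h1).trans hCF
    obtain ⟨i, hi⟩ := hPp.exists_card_eq
    have h3 : p ∣ Nat.card P := by
      rw [hi]
      refine dvd_pow_self p fun h0 => hP1 ?_
      rw [h0, pow_zero, Subgroup.card_eq_one] at hi
      exact hi
    exact hFpcop (h3.trans (Subgroup.card_dvd_of_le h2))
  haveI := Fact.mk hq'
  have hq'H : q' ∣ Nat.card H := hq'F.trans (Subgroup.card_dvd_of_le (hFL.trans hLH))
  have hex : ∃ m, ∃ Q : Subgroup G, (Q ≤ pPartOf q' F ∧ x ∈ Subgroup.normalizer (Q : Set G) ∧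
      P ≤ Subgroup.normalizer (Q : Set G) ∧ ¬ Q ≤ Subgroup.centralizer (P : Set G)) ∧ Nat.card Q = m :=
    ⟨_, _, ⟨le_rfl, hNparts q' hxNG, (hPL.trans inf_le_right).trans (hNparts q'), hPq⟩, rfl⟩
  obtain ⟨Q, ⟨hQF, hxQ, hPQ, hQne⟩, hQc⟩ := Nat.find_spec hex
  refine critical_false (p := p) (q := q') (r := r) hp2 ?_ hr2 (fun e => hFpcop (e ▸ hq'F)) hrp
    (fun e => hrH (e ▸ hq'H)) V hV x hxr hCV P hPp hP1 hxP hPfix hPmin Q ((isPGroup_pPartOf q' F).to_le hQF)
    hxQ hPQ hQne ?_ ?_ ?_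
  · intro e
    have := hodd.of_dvd_nat (hq'H.trans (Subgroup.card_subgroup_dvd_card H))
    rw [e] at this
    exact absurd this (by decide)
  · intro S hS hxS hPS
    by_contra hS'
    refine hS.ne (Subgroup.eq_of_le_of_card_ge hS.le ?_)
    exact hQc ▸ Nat.find_le ⟨S, ⟨hS.le.trans hQF, hxS, hPS, hS'⟩, rfl⟩
  · intro y hy z hz hyx hzx _ hyq hzq hy1
    have hle : Q ⊓ Subgroup.centralizer ({x} : Set G) ≤ C :=
      inf_le_inf_right _ ((hQF.trans (pPartOf_le q' F)).trans (hFL.trans hLH))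
    have := hcyc (s := q') _ hle (((isPGroup_pPartOf q' F).to_le hQF).to_le inf_le_left)
    exact exists_pow_eq_of_isCyclic this hq' ⟨hy, Subgroup.mem_centralizer_singleton_iff.mpr hyx.eq⟩
      ⟨hz, Subgroup.mem_centralizer_singleton_iff.mpr hzx.eq⟩ hyq hzq hy1
  · exact eq_bot_iff.mpr ((inf_le_inf_right _ ((hQF.trans (pPartOf_le q' F)).trans hFL)).trans hCLV.le)

/-- A normal subgroup inside the derived group, whose fixed points under an element of coprime prime
order form a Z-group, has `p`-length at most one. -/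
theorem pLengthLE_one_of_fixed_zgroup {G : Type u} [Group G] [Finite G] [Group.IsSolvable G]
    (hodd : Odd (Nat.card G)) {p : ℕ} [Fact p.Prime] (H : Subgroup G) [H.Normal] (hH : H ≤ commutator G)
    {r : ℕ} (hr : r.Prime) (x : G) (hx : orderOf x = r) (hrH : ¬ r ∣ Nat.card H)
    (hZ : IsZGroup ↥(H ⊓ Subgroup.centralizer ({x} : Set G))) : Cfsg.PLengthLE p 1 H :=
  pLengthLE_one_aux _ rfl hodd H hH hr x hx hrH hZ

end Cfsg.Agent.Lib.OddLocal
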