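import Mathlib
import Cfsg.Agent.Lib.Classical.SmallIso

/-!
Recognition of `PSL(2, q)`, `q` odd, from coordinates on the permuted points: translations, multiplications
by squares and `x ↦ -1/x`, with the right order.
-/

set_option autoImplicit false

namespace Cfsg.Agent.Lib.OddLocal

open scoped LinearAlgebra.Projectivization
open MulAction

section Line

variable {K : Type} [Field K]

open Classical in
/-- The projective line with `none` at infinity. -/
noncomputable def lineVec : Option K → (Fin 2 → K)
  | none => ![1, 0]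
  | some a => ![a, 1]

theorem lineVec_ne_zero : ∀ o : Option K, lineVec o ≠ 0
  | none => fun h => one_ne_zero (congrFun h 0)
  | some _ => fun h => one_ne_zero (congrFun h 1)

/-- The parametrization of the projective line. -/
noncomputable def linePt (o : Option K) : ℙ K (Fin 2 → K) :=
  Projectivization.mk _ (lineVec o) (lineVec_ne_zero o)

theorem linePt_bijective : Function.Bijective (linePt (K := K)) := by
  constructor
  · intro a b h
    obtain ⟨c, hc⟩ := (Projectivization.mk_eq_mk_iff' _ _ _ _ _).1 h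
    have h0 := congrFun hc 0
    have h1 := congrFun hc 1
    cases a <;> cases b <;> simp [lineVec] at h0 h1
    · rfl
    · rw [h1, zero_mul] at h0
      exact absurd h0 zero_ne_one
    · simp [h1] at h0
      rw [h0]
  · intro p
    induction p using Projectivization.ind with
    | _ v hv =>
      by_cases h1 : v 1 = 0
      · refine ⟨none, (Projectivization.mk_eq_mk_iff' _ _ _ _ _).2 ⟨(v 0)⁻¹, ?_⟩⟩
        have h0 : v 0 ≠ 0 := fun h0 => hv (funext fun i => by fin_cases i <;> assumption)
        funext i
        fin_cases i <;> simp [lineVec, h1, h0]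
      · refine ⟨some (v 0 / v 1), (Projectivization.mk_eq_mk_iff' _ _ _ _ _).2 ⟨(v 1)⁻¹, ?_⟩⟩
        funext i
        fin_cases i <;> simp [lineVec, h1, div_eq_inv_mul]

theorem smul_linePt {A : Matrix.SpecialLinearGroup (Fin 2) K} {o o' : Option K} {c : K}
    (h : c • lineVec o' = A.1.mulVec (lineVec o)) : A • linePt o = linePt o' := by
  rw [linePt, linePt, Projectivization.smul_mk]
  exact (Projectivization.mk_eq_mk_iff' _ _ _ _ _).2 ⟨c, h⟩

end Line

variable {G : Type*} [Group G] [Finite G] {Ω : Type*} [MulAction G Ω] [FaithfulSMul G Ω]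
variable {K : Type} [Field K] [Fintype K]

/-- `G` is `PSL(2, K)` if it contains the generating transformations of the line and has the same order. -/
theorem iso_PSL2_of_line (hK : Odd (Fintype.card K))
    (pt : Option K → Ω) (hpt : Function.Bijective pt)
    (htr : ∀ c : K, ∃ g : G, g • pt none = pt none ∧ ∀ x, g • pt (some x) = pt (some (x + c)))
    (hdil : ∀ k : K, k ≠ 0 → ∃ g : G, g • pt none = pt none ∧ ∀ x, g • pt (some x) = pt (some (k * k * x)))
    (hinv : ∃ g : G, g • pt none = pt (some 0) ∧ g • pt (some 0) = pt none ∧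
      ∀ x, x ≠ 0 → g • pt (some x) = pt (some (-x⁻¹)))
    (hcard : 2 * Nat.card G = Fintype.card K * (Fintype.card K ^ 2 - 1)) :
    Nonempty (G ≃* Matrix.ProjectiveSpecialLinearGroup (Fin 2) K) := by
  classical
  set e : Ω ≃ ℙ K (Fin 2 → K) :=
    (Equiv.ofBijective pt hpt).symm.trans (Equiv.ofBijective linePt linePt_bijective) with he
  have hept : ∀ o, e (pt o) = linePt o := fun o => by simp [he, Equiv.ofBijective_symm_apply_apply]
  let φ : G →* Equiv.Perm (ℙ K (Fin 2 → K)) :=
    e.permCongrHom.toMonoidHom.comp (MulAction.toPermHom G Ω)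
  have hφ : ∀ g o, φ g (linePt o) = e (g • pt o) := fun g o => by
    rw [← hept]
    simp [φ, Equiv.permCongr_apply]
  have hφinj : Function.Injective φ :=
    e.permCongrHom.injective.comp (fun g h hgh => FaithfulSMul.eq_of_smul_eq_smul (α := Ω) fun x =>
      congrArg (fun σ : Equiv.Perm Ω => σ x) hgh)
  let ψ := Projectivization.PSLAction.toPermHom (ι := Fin 2) (K := K)
  have hψinj : Function.Injective ψ := Matrix.ProjectiveSpecialLinearGroup.toPermHom_injective
  -- a matrix lies in the image once it agrees with some element on the points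
  have hmem : ∀ (A : Matrix.SpecialLinearGroup (Fin 2) K) (g : G),
      (∀ o, ∃ (o' : Option K) (c : K), g • pt o = pt o' ∧ c • lineVec o' = A.1.mulVec (lineVec o)) →
      ψ (QuotientGroup.mk A) ∈ φ.range := by
    intro A g h
    refine ⟨g, Equiv.ext fun p => ?_⟩
    obtain ⟨o, rfl⟩ := linePt_bijective.2 p
    obtain ⟨o', c, ho', hc⟩ := h o
    rw [hφ, ho', hept]
    exact (smul_linePt hc).symm
  let R : Subgroup (Matrix.SpecialLinearGroup (Fin 2) K) :=
    φ.range.comap (ψ.comp (QuotientGroup.mk' (Subgroup.center _)))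
  have hT : ∀ c : K, (⟨!![1, c; 0, 1], by simp [Matrix.det_fin_two]⟩ :
      Matrix.SpecialLinearGroup (Fin 2) K) ∈ R := by
    intro c
    obtain ⟨g, hg0, hg⟩ := htr c
    refine hmem _ g fun o => ?_
    cases o with
    | none => exact ⟨none, 1, hg0, by ext i; fin_cases i <;> simp [lineVec]⟩
    | some x => exact ⟨some (x + c), 1, hg x, by ext i; fin_cases i <;> simp [lineVec]⟩
  have hD : ∀ k : K, (hk : k ≠ 0) → (⟨!![k, 0; 0, k⁻¹], by simp [Matrix.det_fin_two, hk]⟩ :
      Matrix.SpecialLinearGroup (Fin 2) K) ∈ R := by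
    intro k hk
    obtain ⟨g, hg0, hg⟩ := hdil k hk
    refine hmem _ g fun o => ?_
    cases o with
    | none => exact ⟨none, k, hg0, by ext i; fin_cases i <;> simp [lineVec]⟩
    | some x =>
      refine ⟨some (k * k * x), k⁻¹, hg x, ?_⟩
      ext i; fin_cases i <;> simp [lineVec]
      field_simp
  have hW : (⟨!![0, -1; 1, 0], by simp [Matrix.det_fin_two]⟩ :
      Matrix.SpecialLinearGroup (Fin 2) K) ∈ R := by
    obtain ⟨g, hg0, hg1, hg⟩ := hinv
    refine hmem _ g fun o => ?_
    cases o with
    | none => exact ⟨some 0, 1, hg0, by ext i; fin_cases i <;> simp [lineVec]⟩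
    | some x =>
      by_cases hx : x = 0
      · subst hx
        exact ⟨none, -1, hg1, by ext i; fin_cases i <;> simp [lineVec]⟩
      · refine ⟨some (-x⁻¹), x, hg x hx, ?_⟩
        ext i; fin_cases i <;> simp [lineVec, hx]
  have hR : ∀ A : Matrix.SpecialLinearGroup (Fin 2) K, A ∈ R := by
    intro A
    obtain ⟨M, hM⟩ := A
    have hdet : M 0 0 * M 1 1 - M 0 1 * M 1 0 = 1 := by rw [← Matrix.det_fin_two]; exact hM
    by_cases hc : M 1 0 = 0
    · rw [hc, mul_zero, sub_zero] at hdet
      have ha : M 0 0 ≠ 0 := left_ne_zero_of_mul_eq_one hdet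
      have h := mul_mem (hD (M 0 0) ha) (hT (M 0 1 * (M 0 0)⁻¹))
      refine (congrArg (· ∈ R) (Subtype.ext ?_)).mpr h
      show M = !![M 0 0, 0; 0, (M 0 0)⁻¹] * !![1, M 0 1 * (M 0 0)⁻¹; 0, 1]
      rw [Matrix.mul_fin_two]
      have h11 : M 1 1 = (M 0 0)⁻¹ := (inv_eq_of_mul_eq_one_right hdet).symm
      ext i j
      fin_cases i <;> fin_cases j <;> simp [hc, h11]
      field_simp
    · have h := mul_mem (mul_mem (mul_mem (hT (M 0 0 / M 1 0)) hW) (hD (M 1 0) hc)) (hT (M 1 1 / M 1 0))
      refine (congrArg (· ∈ R) (Subtype.ext ?_)).mpr h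
      show M = !![1, M 0 0 / M 1 0; 0, 1] * !![0, -1; 1, 0] * !![M 1 0, 0; 0, (M 1 0)⁻¹] *
        !![1, M 1 1 / M 1 0; 0, 1]
      rw [Matrix.mul_fin_two, Matrix.mul_fin_two, Matrix.mul_fin_two]
      ext i j
      fin_cases i <;> fin_cases j <;> simp
      all_goals field_simp
      linear_combination -hdet
  have hle : ψ.range ≤ φ.range := by
    rintro _ ⟨x, rfl⟩
    induction x using QuotientGroup.induction_on with
    | H A => exact hR A
  have heq : ψ.range = φ.range := by
    refine Subgroup.eq_of_le_of_card_ge hle ?_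
    rw [← Nat.card_congr (MonoidHom.ofInjective hφinj).toEquiv,
      ← Nat.card_congr (MonoidHom.ofInjective hψinj).toEquiv]
    have := Classical.card_PSL2_odd (F := K) hK
    omega
  exact ⟨((MonoidHom.ofInjective hφinj).trans (MulEquiv.subgroupCongr heq.symm)).trans
    (MonoidHom.ofInjective hψinj).symm⟩

end Cfsg.Agent.Lib.OddLocal
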