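import Cfsg.Prelude.Def_OddOrderLocal
import Cfsg.Agent.Lib.OddLocal.CriticalAction
import Cfsg.Agent.Lib.OddLocal.NilpotentParts
import Cfsg.Agent.Lib.Cores.Fitting
import Cfsg.Agent.Lib.Cores.Frattini
import Cfsg.Agent.Lib.Coprime.Generation

/-!
An element of prime order fixed-point-free on the Fitting subgroup of a solvable group of odd order
acts trivially modulo the Fitting subgroup.
-/

set_option autoImplicit false

namespace Cfsg.Agent.Lib.OddLocal

open Cfsg.Agent.Lib
open scoped commutatorElement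

universe u

variable {G : Type u} [Group G] [Finite G]

theorem centralizer_inf_le_fittingOf {H : Subgroup G} (hH : Group.IsSolvable H) :
    Subgroup.centralizer (Cfsg.fittingOf H : Set G) ⊓ H ≤ Cfsg.fittingOf H := by
  rintro z ⟨hzc, hzH⟩
  refine ⟨⟨z, hzH⟩, Cores.centralizer_fittingSubgroup_le hH
    (Subgroup.mem_centralizer_iff.mpr fun w hw => Subtype.ext ?_), rfl⟩
  exact Subgroup.mem_centralizer_iff.mp hzc w ⟨w, hw, rfl⟩

theorem commutator_mem_fitting_of_fixedPointFree [Group.IsSolvable G] (hodd : Odd (Nat.card G))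
    (K : Subgroup G) [K.Normal] (x : G) {r : ℕ} (hr : r.Prime) (hxo : orderOf x = r)
    (hrK : ¬ r ∣ Nat.card K)
    (hfix : ∀ k ∈ Cfsg.fittingOf K, x * k * x⁻¹ = k → k = 1) :
    ∀ k ∈ K, ⁅k, x⁆ ∈ Cfsg.fittingOf K := by
  have := Fact.mk hr
  set F := Cfsg.fittingOf K with hF
  haveI hFn : F.Normal := Cores.normal_map_subtype_of_char K (Cfsg.fittingSubgroup K)
  have hFK : F ≤ K := Subgroup.map_subtype_le _
  have hFnil : Group.IsNilpotent F := isNilpotent_fittingOf K
  have hr2 : r ≠ 2 := fun h => by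
    have h1 : Odd (orderOf x) := hodd.of_dvd_nat (orderOf_dvd_natCard x)
    rw [hxo, h] at h1
    exact absurd h1 (by decide)
  have hsolA : Group.IsSolvable (Subgroup.zpowers x) := Coprime.isSolvable_zpowers x
  have hxr : x ^ r = 1 := hxo ▸ pow_orderOf_eq_one x
  have hcopA : ∀ S : Subgroup G, S ≤ K → (Nat.card (Subgroup.zpowers x)).Coprime (Nat.card S) :=
    fun S hS => by
      rw [Nat.card_zpowers, hxo]
      exact (hr.coprime_iff_not_dvd.mpr hrK).coprime_dvd_right (Subgroup.card_dvd_of_le hS)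
  have hqK : ∀ q : ℕ, q.Prime → q ∣ Nat.card K → q ≠ 2 ∧ q ≠ r := fun q _ hd =>
    ⟨fun h => by
      have h1 := hodd.of_dvd_nat (dvd_trans hd (Subgroup.card_subgroup_dvd_card K))
      rw [h] at h1
      exact absurd h1 (by decide), fun h => hrK (h ▸ hd)⟩
  set π := QuotientGroup.mk' F with hπ
  set Kb := K.map π with hKb
  haveI : Kb.Normal := (inferInstance : K.Normal).map π (QuotientGroup.mk'_surjective F)
  have hKcomap : Kb.comap π = K := by
    rw [hKb, Subgroup.comap_map_eq, hπ, QuotientGroup.ker_mk', sup_eq_left.mpr hFK]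
  -- the operator centralises every `O_q(K / F)`
  have hlayer : ∀ q : ℕ, q.Prime →
      (Cfsg.pCore q Kb).map Kb.subtype ≤ Subgroup.centralizer ({π x} : Set (G ⧸ F)) := by
    intro q hq
    have := Fact.mk hq
    set T := (Cfsg.pCore q Kb).map Kb.subtype with hT
    haveI : T.Normal := Cores.normal_map_subtype_of_char Kb _
    set M := T.comap π with hM
    haveI : M.Normal := Subgroup.Normal.comap inferInstance π
    have hMK : M ≤ K := hKcomap ▸ Subgroup.comap_mono (Subgroup.map_subtype_le _)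
    have hTp : IsPGroup q T := (Cores.pCore_isPGroup q Kb).map Kb.subtype
    have hFM : F ≤ M := fun f hf => by
      rw [hM, Subgroup.mem_comap, hπ, QuotientGroup.mk'_apply, (QuotientGroup.eq_one_iff f).mpr hf]
      exact one_mem _
    have hxM : Subgroup.zpowers x ≤ Subgroup.normalizer (M : Set G) := fun g _ => by
      rw [Subgroup.normalizer_eq_top]; trivial
    obtain ⟨Q₀, hQ₀⟩ := Coprime.exists_invariant_sylow hxM (hcopA M hMK) (Or.inl hsolA) q
    set Q := (Q₀ : Subgroup M).map M.subtype with hQ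
    have hQM : Q ≤ M := Subgroup.map_subtype_le _
    have hQp : IsPGroup q Q := Q₀.2.map M.subtype
    -- commutators with the invariant Sylow subgroup lie in `F`
    set D := M ⊓ Subgroup.centralizer (pComplOf q F : Set G) with hD
    haveI hCn : (pComplOf q F).Normal := Cores.normal_map_subtype_of_char F _
    haveI hDn : D.Normal := inferInstance
    have hDK : D ≤ K := inf_le_left.trans hMK
    have hDF : ∀ z ∈ D, (orderOf z).Coprime q → z ∈ F ∧ ∀ d ∈ D, Commute d z := by
      intro z hz hzc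
      have hzF : z ∈ F := by
        rw [← QuotientGroup.eq_one_iff, ← QuotientGroup.mk'_apply, ← orderOf_eq_one_iff]
        obtain ⟨k, hk⟩ := exists_orderOf_of_mem hTp (show π z ∈ T from hz.1)
        exact Nat.eq_one_of_dvd_coprimes (hzc.pow_right k) (orderOf_map_dvd _ z) (hk ▸ dvd_rfl)
      exact ⟨hzF, fun d hd => (Subgroup.mem_centralizer_iff.mp hd.2 z (mem_pComplOf hFnil hzF hzc)).symm⟩
    have hDle : D ≤ F := by
      have hnil : Group.IsNilpotent D := by
        have hq' : IsPGroup q (D ⧸ Subgroup.center D) := by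
          intro g
          obtain ⟨d, rfl⟩ := QuotientGroup.mk'_surjective _ g
          refine ⟨(orderOf d).factorization q, ?_⟩
          rw [← map_pow, QuotientGroup.mk'_apply, QuotientGroup.eq_one_iff, Subgroup.mem_center_iff]
          intro e
          refine Subtype.ext ((hDF _ (d ^ q ^ (orderOf d).factorization q).2 ?_).2 e e.2).eq
          rw [Subgroup.orderOf_coe, orderOf_pow_of_dvd (pow_ne_zero _ hq.ne_zero) (Nat.ordProj_dvd _ _)]
          exact (Nat.coprime_ordCompl hq (orderOf_pos d).ne').symm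
        have := hq'.isNilpotent
        exact Subgroup.isNilpotent_of_ker_le_center (QuotientGroup.mk' (Subgroup.center D))
          (by rw [QuotientGroup.ker_mk'])
      intro d hd
      haveI : (D.subgroupOf K).Normal := Subgroup.Normal.comap hDn K.subtype
      have hn : Group.IsNilpotent (D.subgroupOf K) :=
        Group.nilpotent_of_mulEquiv (Subgroup.subgroupOfEquivOfLe hDK).symm
      exact ⟨⟨d, hDK hd⟩, Cores.le_fittingSubgroup inferInstance hn hd, rfl⟩
    have hQF : ∀ y ∈ Q, ⁅x, y⁆ ∈ F := by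
      intro y hy
      by_cases hqd : q ∣ Nat.card K
      swap
      · have hQ1 : Q = ⊥ := by
          obtain ⟨k, hk⟩ := IsPGroup.iff_card.mp hQp
          rcases k with _ | k
          · exact Subgroup.card_eq_one.mp (by rw [hk, pow_zero])
          · exact absurd ((hk ▸ dvd_pow_self q k.succ_ne_zero).trans
              (Subgroup.card_dvd_of_le (hQM.trans hMK))) hqd
        rw [hQ1, Subgroup.mem_bot] at hy
        rw [hy, commutatorElement_one_right]
        exact one_mem _
      have hd : ⁅x, y⁆ ∈ Q := by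
        rw [commutatorElement_def]
        exact mul_mem ((Subgroup.mem_normalizer_iff.mp (hQ₀ (Subgroup.mem_zpowers x)) y).mp hy) (inv_mem hy)
      refine hDle ⟨hQM hd, ?_⟩
      refine le_centralizer_of_parts (Y := Subgroup.zpowers ⁅x, y⁆)
        (Cores.isNilpotent_of_le (A := (pComplOf q F).subgroupOf F) ?_ |> fun h =>
          Group.nilpotent_of_mulEquiv (Subgroup.subgroupOfEquivOfLe (pComplOf_le q F)))
        (fun s hs hsd => ?_) (Subgroup.mem_zpowers _)
      · rw [Cores.fittingSubgroup_eq_top_iff.mpr hFnil]; exact le_top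
      have := Fact.mk hs
      have hsq : s ≠ q := fun e => hs.not_dvd_one
        ((coprime_pComplOf q F) ▸ Nat.dvd_gcd hsd (e ▸ dvd_rfl))
      set P := pPartOf s F with hP
      haveI hPn : P.Normal := Cores.normal_map_subtype_of_char F _
      have hPF : P ≤ F := pPartOf_le s F
      have hPK : P ≤ K := hPF.trans hFK
      have hPp : IsPGroup s P := isPGroup_pPartOf s F
      have hsK : s ∣ Nat.card K :=
        hsd.trans (Subgroup.card_dvd_of_le ((pComplOf_le q F).trans hFK))
      obtain ⟨hs2, hsr⟩ := hqK s hs hsK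
      obtain ⟨hq2, hqr⟩ := hqK q hq hqd
      have hle : Subgroup.zpowers ⁅x, y⁆ ≤ Subgroup.centralizer (P : Set G) := by
        set N := (frattini P).map P.subtype with hN
        haveI hNn : N.Normal := Cores.normal_map_subtype_of_char P _
        have hNP : N ≤ P := Subgroup.map_subtype_le _
        set ρ := QuotientGroup.mk' N with hρ
        haveI : (P.map ρ).Normal := hPn.map ρ (QuotientGroup.mk'_surjective N)
        have hone : ∀ g ∈ N, ρ g = 1 := fun g hg => (QuotientGroup.eq_one_iff g).mpr hg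
        have hnorm : ∀ S : Subgroup (G ⧸ N), S ≤ Subgroup.normalizer (P.map ρ : Set (G ⧸ N)) :=
          fun S g _ => by rw [Subgroup.normalizer_eq_top]; trivial
        have hxQ : ρ x ∈ Subgroup.normalizer (Q.map ρ : Set (G ⧸ N)) :=
          Subgroup.le_normalizer_map ρ ⟨x, hQ₀ (Subgroup.mem_zpowers x), rfl⟩
        have h := commute_commutator_of_fixedPointFree (U := P.map ρ) (Q := Q.map ρ) (x := ρ x)
          (p := s) hr hr2 (Ne.symm hsr) hq hq2 (Ne.symm hsq) hqr ?_ ?_
          (by rw [← map_pow, hxr, map_one]) ((hnorm ⊤) (Subgroup.mem_top _)) hxQ (hnorm _)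
          (hQp.map ρ) ?_ (ρ y) ⟨y, hy, rfl⟩
        · refine Coprime.le_centralizer_of_frattini ?_ fun a ha k hk => ?_
          · obtain ⟨i, hi⟩ := IsPGroup.iff_card.mp (hPp.to_subgroup (frattini P))
            obtain ⟨j, hj⟩ := IsPGroup.iff_card.mp (hQp.to_le (Subgroup.zpowers_le.mpr hd))
            rw [hi, hj]
            exact ((Nat.coprime_primes hq hs).mpr (Ne.symm hsq)).pow _ _
          · rw [← hN, ← QuotientGroup.eq_one_iff, ← QuotientGroup.mk'_apply, ← hρ]
            obtain ⟨i, rfl⟩ := Subgroup.mem_zpowers_iff.mp ha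
            have hc : Commute (ρ ⁅x, y⁆) (ρ k) := by
              rw [map_commutatorElement]; exact h (ρ k) ⟨k, hk, rfl⟩
            rw [map_mul, map_mul, map_mul, map_inv, map_inv, map_zpow, (hc.zpow_left i).eq,
              mul_inv_cancel_right, mul_inv_cancel]
        · rintro _ ⟨u, hu, rfl⟩ _ ⟨v, hv, rfl⟩
          rw [← commutatorElement_eq_one_iff_mul_comm, ← map_commutatorElement]
          exact hone _ ⟨⁅(⟨u, hu⟩ : P), ⟨v, hv⟩⁆, Coprime.commutator_le_frattini_of_isPGroup hPp
            (Subgroup.commutator_mem_commutator (Subgroup.mem_top _) (Subgroup.mem_top _)), rfl⟩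
        · rintro _ ⟨u, hu, rfl⟩
          rw [← map_pow]
          exact hone _ ⟨(⟨u, hu⟩ : P) ^ s, Cores.pow_mem_frattini hPp _, rfl⟩
        · rintro _ ⟨u, hu, rfl⟩ hfu
          have hmem : ∀ a ∈ Subgroup.zpowers x, a * u * a⁻¹ * u⁻¹ ∈ N := by
            intro a ha
            obtain ⟨i, rfl⟩ := Subgroup.mem_zpowers_iff.mp ha
            rw [← QuotientGroup.eq_one_iff, ← QuotientGroup.mk'_apply, ← hρ]
            have hc : Commute (ρ x) (ρ u) := mul_inv_eq_iff_eq_mul.mp hfu
            rw [map_mul, map_mul, map_mul, map_inv, map_inv, map_zpow, (hc.zpow_left i).eq,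
              mul_inv_cancel_right, mul_inv_cancel]
          obtain ⟨n, hn, hc⟩ := Coprime.exists_mem_centralizer_of_fixed_coset
            (A := Subgroup.zpowers x) (N := N) (k := u)
            (fun g _ => by rw [Subgroup.normalizer_eq_top]; trivial)
            (hcopA N (hNP.trans hPK)) (Or.inl hsolA)
            (by rw [Subgroup.normalizer_eq_top]; trivial) hmem
          have h1 := hfix (u * n) (hPF (mul_mem hu (hNP hn))) (by
            rw [Subgroup.mem_centralizer_iff.mp hc x (Subgroup.mem_zpowers x), mul_inv_cancel_right])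
          rw [eq_inv_of_mul_eq_one_left h1, map_inv, hone n hn, inv_one]
      exact hle.trans (Subgroup.centralizer_le (by
        intro z hz
        obtain ⟨j, hj⟩ := exists_orderOf_of_mem (isPGroup_pPartOf s (pComplOf q F)) hz
        exact mem_pPartOf hFnil (pComplOf_le q F (pPartOf_le s _ hz)) ⟨j, hj⟩))
    -- hence the whole layer is centralised
    set S := M ⊓ (Subgroup.centralizer ({π x} : Set (G ⧸ F))).comap π with hS
    have hQS : Q ≤ S := fun y hy => ⟨hQM hy, Subgroup.mem_centralizer_singleton_iff.mpr (by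
      have h1 : π ⁅x, y⁆ = 1 := (QuotientGroup.eq_one_iff _).mpr (hQF y hy)
      rw [map_commutatorElement, commutatorElement_eq_one_iff_mul_comm] at h1
      exact h1.symm)⟩
    have hFS : F ≤ S := fun f hf => ⟨hFM hf, Subgroup.mem_centralizer_singleton_iff.mpr (by
      rw [hπ, QuotientGroup.mk'_apply, QuotientGroup.mk'_apply, (QuotientGroup.eq_one_iff f).mpr hf,
        one_mul, mul_one])⟩
    have hSM : M ≤ S := by
      rw [← Subgroup.relIndex_eq_one]
      have h1 : S.relIndex M ∣ Q.relIndex M := Subgroup.relIndex_dvd_of_le_left M hQS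
      have h2 : S.relIndex M ∣ F.relIndex M := Subgroup.relIndex_dvd_of_le_left M hFS
      have h3 : ¬ q ∣ Q.relIndex M := by
        have h4 : Q.subgroupOf M = (Q₀ : Subgroup M) :=
          Subgroup.comap_map_eq_self_of_injective M.subtype_injective _
        show ¬ q ∣ (Q.subgroupOf M).index
        rw [h4]; exact Q₀.not_dvd_index
      have h5 : ∃ k, F.relIndex M = q ^ k := by
        obtain ⟨k, hk⟩ := IsPGroup.iff_card.mp (hTp.to_subgroup ((π.comp M.subtype).range.subgroupOf T))
        refine ⟨k, ?_⟩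
        have hr' : (π.comp M.subtype).range ≤ T := by rintro _ ⟨m, rfl⟩; exact m.2
        rw [Nat.card_congr (Subgroup.subgroupOfEquivOfLe hr').toEquiv] at hk
        rw [← hk, ← Subgroup.index_ker]
        show (F.subgroupOf M).index = _
        congr 1
        ext m
        simp [hπ, Subgroup.mem_subgroupOf, QuotientGroup.eq_one_iff]
      obtain ⟨k, hk⟩ := h5
      rw [hk] at h2
      exact Nat.eq_one_of_dvd_coprimes ((hq.coprime_iff_not_dvd.mpr h3).pow_left k) h2 h1
    intro t ht
    obtain ⟨m, rfl⟩ := QuotientGroup.mk'_surjective F t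
    exact (hSM (show m ∈ M from ht)).2
  -- so it centralises the Fitting subgroup of `K / F`, hence `K / F`
  set F2 := Cfsg.fittingOf Kb with hF2
  have hF2c : F2 ≤ Subgroup.centralizer ({π x} : Set (G ⧸ F)) := by
    rw [hF2, Cfsg.fittingOf, Subgroup.map_le_iff_le_comap]
    exact Cores.fittingSubgroup_le_of_pCore_le fun q hq => Subgroup.map_le_iff_le_comap.mp (hlayer q hq)
  haveI hF2n : F2.Normal := Cores.normal_map_subtype_of_char Kb (Cfsg.fittingSubgroup Kb)
  set X := Subgroup.zpowers (π x) with hX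
  have hXF2 : X ≤ Subgroup.centralizer (F2 : Set (G ⧸ F)) := Subgroup.zpowers_le.mpr
    (Subgroup.mem_centralizer_iff.mpr fun f hf => Subgroup.mem_centralizer_singleton_iff.mp (hF2c hf))
  have hKX : ⁅Kb, X⁆ ≤ F2 := by
    refine le_trans ?_ (centralizer_inf_le_fittingOf (H := Kb)
      (Coprime.isSolvable_map π inferInstance))
    refine le_inf (Subgroup.commutator_le.mpr fun k hk a ha => ?_) (Subgroup.commutator_le_left _ _)
    rw [Subgroup.mem_centralizer_iff]
    intro f hf
    have hac : ∀ g ∈ F2, g * a = a * g := fun g hg => Subgroup.mem_centralizer_iff.mp (hXF2 ha) g hg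
    have hkf : k⁻¹ * f * k ∈ F2 := by
      simpa using hF2n.conj_mem f hf k⁻¹
    have h2 : (a * k⁻¹ * a⁻¹) * f * (a * k⁻¹ * a⁻¹)⁻¹ = k⁻¹ * f * k := by
      have h3 := hac f hf
      have h4 : a⁻¹ * f * a = f := by rw [mul_assoc, h3, inv_mul_cancel_left]
      calc (a * k⁻¹ * a⁻¹) * f * (a * k⁻¹ * a⁻¹)⁻¹ = a * (k⁻¹ * (a⁻¹ * f * a) * k) * a⁻¹ := by group
        _ = k⁻¹ * f * k := by rw [h4, ← hac _ hkf, mul_inv_cancel_right]
    have h5 : ⁅k, a⁆ * f * ⁅k, a⁆⁻¹ = f := by
      calc ⁅k, a⁆ * f * ⁅k, a⁆⁻¹ = k * ((a * k⁻¹ * a⁻¹) * f * (a * k⁻¹ * a⁻¹)⁻¹) * k⁻¹ := by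
            rw [commutatorElement_def]; group
        _ = f := by rw [h2]; group
    exact (mul_inv_eq_iff_eq_mul.mp h5).symm
  have hnX : X ≤ Subgroup.normalizer (Kb : Set (G ⧸ F)) := fun g _ => by
    rw [Subgroup.normalizer_eq_top]; trivial
  have hcop : (Nat.card X).Coprime (Nat.card Kb) := by
    rw [hX, Nat.card_zpowers]
    exact Nat.Coprime.coprime_dvd_left ((orderOf_map_dvd π x).trans (hxo ▸ dvd_rfl))
      ((hr.coprime_iff_not_dvd.mpr hrK).coprime_dvd_right (Subgroup.card_map_dvd K π))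
  have h1 : ⁅Kb, X⁆ = ⊥ := by
    rw [← Coprime.commutator_commutator_eq hnX hcop (Or.inl (Coprime.isSolvable_zpowers _)),
      Subgroup.commutator_eq_bot_iff_le_centralizer]
    exact hKX.trans (Subgroup.le_centralizer_iff.mp hXF2)
  intro k hk
  rw [← QuotientGroup.eq_one_iff, ← QuotientGroup.mk'_apply, map_commutatorElement]
  exact Subgroup.mem_bot.mp (h1 ▸ Subgroup.commutator_mem_commutator ⟨k, hk, rfl⟩ (Subgroup.mem_zpowers _))

theorem commutator_le_fitting_of_prime_action [Group.IsSolvable G] (hodd : Odd (Nat.card G))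
    (K R : Subgroup G) [K.Normal] (hcop : (Nat.card K).Coprime (Nat.card R))
    (hprime : ∀ x ∈ R, x ≠ 1 → K ⊓ Subgroup.centralizer ({x} : Set G) = K ⊓ Subgroup.centralizer (R : Set G))
    (hF : Cfsg.fittingOf K ⊓ Subgroup.centralizer (R : Set G) = ⊥) :
    ⁅K, R⁆ ≤ Cfsg.fittingOf K := by
  set F := Cfsg.fittingOf K with hFdef
  haveI hFn : F.Normal := Cores.normal_map_subtype_of_char K (Cfsg.fittingSubgroup K)
  have hFK : F ≤ K := Subgroup.map_subtype_le _
  refine Subgroup.commutator_le.mpr fun k hk x hx => ?_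
  by_cases hx1 : x = 1
  · rw [hx1, commutatorElement_one_right]; exact one_mem _
  obtain ⟨r, hr, hrd⟩ := Nat.exists_prime_and_dvd (mt orderOf_eq_one_iff.mp hx1)
  set y := x ^ (orderOf x / r) with hy
  have hyo : orderOf y = r := orderOf_pow_orderOf_div (orderOf_pos x).ne' hrd
  have hy1 : y ≠ 1 := fun h => hr.ne_one (by rw [← hyo, h, orderOf_one])
  have hyR : y ∈ R := pow_mem hx _
  have hrK : ¬ r ∣ Nat.card K := fun h => hr.not_dvd_one (hcop ▸ Nat.dvd_gcd h
    (hrd.trans (Subgroup.orderOf_coe (⟨x, hx⟩ : R) ▸ orderOf_dvd_natCard _)))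
  have hcy := hprime y hyR hy1
  have hfix : ∀ f ∈ F, y * f * y⁻¹ = f → f = 1 := fun f hf h => by
    have h1 : f ∈ K ⊓ Subgroup.centralizer ({y} : Set G) :=
      ⟨hFK hf, Subgroup.mem_centralizer_singleton_iff.mpr (mul_inv_eq_iff_eq_mul.mp h).symm⟩
    rw [hcy] at h1
    exact Subgroup.mem_bot.mp (hF ▸ (⟨hf, h1.2⟩ : f ∈ F ⊓ Subgroup.centralizer (R : Set G)))
  have hky := commutator_mem_fitting_of_fixedPointFree hodd K y hr hyo hrK hfix k hk
  have hmem : ∀ a ∈ Subgroup.zpowers y, a * k * a⁻¹ * k⁻¹ ∈ F := by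
    intro a ha
    obtain ⟨i, rfl⟩ := Subgroup.mem_zpowers_iff.mp ha
    rw [← QuotientGroup.eq_one_iff, ← QuotientGroup.mk'_apply] at hky ⊢
    rw [map_commutatorElement, commutatorElement_eq_one_iff_commute] at hky
    rw [map_mul, map_mul, map_mul, map_inv, map_inv, map_zpow, ((hky.zpow_right i)).symm.eq,
      mul_inv_cancel_right, mul_inv_cancel]
  obtain ⟨n, hn, hc⟩ := Coprime.exists_mem_centralizer_of_fixed_coset (A := Subgroup.zpowers y)
    (N := F) (k := k) (fun g _ => by rw [Subgroup.normalizer_eq_top]; trivial)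
    (by
      rw [Nat.card_zpowers, hyo]
      exact (hr.coprime_iff_not_dvd.mpr hrK).coprime_dvd_right (Subgroup.card_dvd_of_le hFK))
    (Or.inl (Coprime.isSolvable_zpowers y)) (by rw [Subgroup.normalizer_eq_top]; trivial) hmem
  have h1 : k * n ∈ K ⊓ Subgroup.centralizer ({y} : Set G) :=
    ⟨mul_mem hk (hFK hn), Subgroup.mem_centralizer_singleton_iff.mpr
      (Subgroup.mem_centralizer_iff.mp hc y (Subgroup.mem_zpowers y)).symm⟩
  rw [hcy] at h1
  have h2 : x * (k * n) = k * n * x := Subgroup.mem_centralizer_iff.mp h1.2 x hx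
  have h3 : ⁅k, x⁆ = k * (x * k⁻¹ * x⁻¹) := by rw [commutatorElement_def]; group
  have h4 : x * (k * n)⁻¹ * x⁻¹ = (k * n)⁻¹ := by
    rw [mul_inv_eq_iff_eq_mul]
    exact (show Commute x (k * n) from h2).inv_right.eq
  have h5 : ⁅k, x⁆ = k * ((x * n * x⁻¹) * n⁻¹) * k⁻¹ := by
    calc ⁅k, x⁆ = k * (x * n * x⁻¹) * (x * (k * n)⁻¹ * x⁻¹) := by rw [h3]; group
      _ = _ := by rw [h4]; group
  rw [h5]
  exact hFn.conj_mem _ (mul_mem (hFn.conj_mem n hn x) (inv_mem hn)) k

end Cfsg.Agent.Lib.OddLocal
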