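import Cfsg.Agent.Lib.OddLocal.TwoDerangementClasses

/-!
The socle of a primitive group that is not almost simple: a generic form of the argument.

Either a minimal normal subgroup is abelian, or there is a semiregular perfect subgroup, or
there are two commuting perfect subgroups `T`, `S` and a derangement `y` of `T` all of whose
products with `S` are derangements.
-/

namespace Cfsg.Agent.OddLocal.TwoClasses

open MulAction

variable {G Ω : Type*} [Group G] [Finite G] [MulAction G Ω]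

variable [FaithfulSMul G Ω]

/-- A minimal normal subgroup of a primitive group that is not almost simple is abelian, if
semiregular perfect subgroups and the product configuration are excluded. -/
theorem minimal_normal_comm_of [Finite Ω] (hprim : IsPreprimitive G Ω)
    (hnas : ¬ ∃ T : Subgroup G, T.Normal ∧ IsSimpleGroup T ∧ ¬ IsMulCommutative T ∧
      Subgroup.centralizer (T : Set G) = ⊥)
    (hsr : ∀ T : Subgroup G, T ≠ ⊥ → ⁅T, T⁆ = T → (∀ x ∈ T, ∀ ω : Ω, x • ω = ω → x = 1) → False)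
    (hpr : ∀ T S : Subgroup G, T ≠ ⊥ → S ≠ ⊥ → ⁅T, T⁆ = T → ⁅S, S⁆ = S →
      (∀ x ∈ T, ∀ y ∈ S, x * y = y * x) → T ⊓ S = ⊥ →
      ∀ y ∈ T, (∀ ω : Ω, y • ω ≠ ω) → (∀ z ∈ S, ∀ ω : Ω, (y * z) • ω ≠ ω) → False)
    (N : Subgroup G) [hN : N.Normal] (hN1 : N ≠ ⊥)
    (hmin : ∀ M : Subgroup G, M.Normal → M ≤ N → M = ⊥ ∨ M = N) :
    ∀ x ∈ N, ∀ y ∈ N, x * y = y * x := by
  by_contra hna
  haveI := hprim.toIsPretransitive
  -- invariant subgroups of `N`
  let P : Subgroup G → Prop := fun S => S ≤ N ∧ S ≠ ⊥ ∧ ∀ n ∈ N, ∀ s ∈ S, n * s * n⁻¹ ∈ S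
  have hPN : P N := ⟨le_rfl, hN1, fun n hn s hs => N.mul_mem (N.mul_mem hn hs) (N.inv_mem hn)⟩
  obtain ⟨T, ⟨hTN, hT1, hTn⟩, hTmin⟩ := exists_minimal_of_wellFoundedLT P ⟨N, hPN⟩
  have hTeq : ∀ S, P S → S ≤ T → S = T := fun S hS hle => le_antisymm hle (hTmin hS hle)
  -- conjugates of `T`
  have hconj : ∀ g : G, ∀ S, P S → P (S.map (MulAut.conj g).toMonoidHom) := by
    rintro g S ⟨hS, hS1, hSn⟩
    refine ⟨?_, fun h => hS1 ((Subgroup.map_eq_bot_iff_of_injective _
      (MulAut.conj g).injective).mp h), ?_⟩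
    · rintro _ ⟨s, hs, rfl⟩
      exact hN.conj_mem s (hS hs) g
    · rintro n hn _ ⟨s, hs, rfl⟩
      refine ⟨(g⁻¹ * n * g) * s * (g⁻¹ * n * g)⁻¹, hSn _ ?_ s hs, ?_⟩
      · simpa using hN.conj_mem n hn g⁻¹
      · simp [mul_assoc]
  have hback : ∀ (g : G) (S : Subgroup G),
      (S.map (MulAut.conj g).toMonoidHom).map (MulAut.conj g⁻¹).toMonoidHom = S := by
    intro g S
    rw [Subgroup.map_map]
    convert Subgroup.map_id S using 2
    ext z
    simp [mul_assoc]
  have hminc : ∀ (g : G) S, P S → S ≤ T.map (MulAut.conj g).toMonoidHom →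
      S = T.map (MulAut.conj g).toMonoidHom := by
    intro g S hS hle
    have h1 := hTeq _ (hconj g⁻¹ S hS) (by
      have := Subgroup.map_mono (f := (MulAut.conj g⁻¹).toMonoidHom) hle
      rwa [hback] at this)
    have h2 := congrArg (Subgroup.map (MulAut.conj g).toMonoidHom) h1
    have h3 := hback g⁻¹ S
    rw [inv_inv] at h3
    rwa [h3] at h2
  -- two different conjugates commute and meet trivially
  have hdisj : ∀ g g' : G, T.map (MulAut.conj g).toMonoidHom ≠ T.map (MulAut.conj g').toMonoidHom →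
      T.map (MulAut.conj g).toMonoidHom ⊓ T.map (MulAut.conj g').toMonoidHom = ⊥ := by
    intro g g' hne
    by_contra h
    have hP : P (T.map (MulAut.conj g).toMonoidHom ⊓ T.map (MulAut.conj g').toMonoidHom) := by
      refine ⟨inf_le_left.trans (hconj g T ⟨hTN, hT1, hTn⟩).1, h, fun n hn s hs => ?_⟩
      exact ⟨(hconj g T ⟨hTN, hT1, hTn⟩).2.2 n hn s hs.1,
        (hconj g' T ⟨hTN, hT1, hTn⟩).2.2 n hn s hs.2⟩
    exact hne ((hminc g _ hP inf_le_left).symm.trans (hminc g' _ hP inf_le_right))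
  have hcomm : ∀ g g' : G, T.map (MulAut.conj g).toMonoidHom ≠ T.map (MulAut.conj g').toMonoidHom →
      ∀ x ∈ T.map (MulAut.conj g).toMonoidHom, ∀ y ∈ T.map (MulAut.conj g').toMonoidHom,
        x * y = y * x := by
    intro g g' hne x hx y hy
    have hxN := (hconj g T ⟨hTN, hT1, hTn⟩).1 hx
    have hyN := (hconj g' T ⟨hTN, hT1, hTn⟩).1 hy
    have h1 : x * y * x⁻¹ * y⁻¹ ∈ T.map (MulAut.conj g').toMonoidHom :=
      Subgroup.mul_mem _ ((hconj g' T ⟨hTN, hT1, hTn⟩).2.2 x hxN y hy) (Subgroup.inv_mem _ hy)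
    have h2 : x * y * x⁻¹ * y⁻¹ ∈ T.map (MulAut.conj g).toMonoidHom := by
      have := (hconj g T ⟨hTN, hT1, hTn⟩).2.2 y hyN x⁻¹ (Subgroup.inv_mem _ hx)
      have h' := Subgroup.mul_mem _ hx this
      simpa [mul_assoc] using h'
    have h3 : x * y * x⁻¹ * y⁻¹ ∈
        T.map (MulAut.conj g).toMonoidHom ⊓ T.map (MulAut.conj g').toMonoidHom := ⟨h2, h1⟩
    rw [hdisj g g' hne, Subgroup.mem_bot, mul_inv_eq_one, mul_inv_eq_iff_eq_mul] at h3
    exact h3
  have hone : T.map (MulAut.conj (1 : G)).toMonoidHom = T := by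
    convert Subgroup.map_id T using 2
    ext z
    simp
  -- `N` is generated by the conjugates of `T`
  have hgen : ∀ R : Subgroup G, (∀ g : G, T.map (MulAut.conj g).toMonoidHom ≤ R) → N ≤ R := by
    intro R hR
    have hM : Subgroup.normalClosure (T : Set G) = N :=
      (hmin _ Subgroup.normalClosure_normal (Subgroup.normalClosure_le_normal hTN)).resolve_left
        fun h => hT1 (eq_bot_iff.mpr (h ▸ Subgroup.le_normalClosure))
    rw [← hM]
    refine (Subgroup.closure_le _).mpr fun z hz => ?_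
    obtain ⟨s, hs, hsz⟩ := Group.mem_conjugatesOfSet_iff.mp hz
    obtain ⟨g, rfl⟩ := isConj_iff.mp hsz
    exact hR g ⟨s, hs, rfl⟩
  -- `T` is not abelian
  have hTna : ¬ ∀ x ∈ T, ∀ y ∈ T, x * y = y * x := by
    intro hab
    refine hna fun x hx y hy => ?_
    have hall : ∀ g g' : G, ∀ x ∈ T.map (MulAut.conj g).toMonoidHom,
        ∀ y ∈ T.map (MulAut.conj g').toMonoidHom, x * y = y * x := by
      intro g g' x hx y hy
      by_cases he : T.map (MulAut.conj g).toMonoidHom = T.map (MulAut.conj g').toMonoidHom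
      · rw [← he] at hy
        obtain ⟨u, hu, rfl⟩ := hx
        obtain ⟨v, hv, rfl⟩ := hy
        rw [← map_mul, ← map_mul, hab u hu v hv]
      · exact hcomm g g' he x hx y hy
    have h1 : ∀ g, T.map (MulAut.conj g).toMonoidHom ≤ Subgroup.centralizer (N : Set G) := by
      intro g x hx
      rw [Subgroup.mem_centralizer_iff]
      intro y hy
      have h2 : N ≤ Subgroup.centralizer {x} := hgen _ fun g' y' hy' => by
        rw [Subgroup.mem_centralizer_singleton_iff]
        exact (hall g g' x hx y' hy').symm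
      have := h2 hy
      rwa [Subgroup.mem_centralizer_singleton_iff] at this
    have := Subgroup.mem_centralizer_iff.mp (hgen _ h1 hx) y hy
    exact this.symm
  -- `T` is perfect with trivial centre
  have hperf : ⁅T, T⁆ = T := by
    refine hTeq _ ⟨?_, ?_, ?_⟩ ?_
    · exact le_trans (Subgroup.commutator_le.mpr fun a ha b hb =>
        T.mul_mem (T.mul_mem (T.mul_mem ha hb) (T.inv_mem ha)) (T.inv_mem hb)) hTN
    · intro h
      apply hTna
      intro x hx y hy
      have := (Subgroup.eq_bot_iff_forall _).mp h _ (Subgroup.commutator_mem_commutator hx hy)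
      exact (commutatorElement_eq_one_iff_mul_comm.mp this)
    · intro n hn s hs
      have hmap : (⁅T, T⁆).map (MulAut.conj n).toMonoidHom ≤ ⁅T, T⁆ := by
        rw [Subgroup.map_commutator]
        refine Subgroup.commutator_mono ?_ ?_ <;>
          · rintro _ ⟨u, hu, rfl⟩
            exact hTn n hn u hu
      exact hmap ⟨s, hs, rfl⟩
    · exact Subgroup.commutator_le.mpr fun a ha b hb =>
        T.mul_mem (T.mul_mem (T.mul_mem ha hb) (T.inv_mem ha)) (T.inv_mem hb)
  have hZ : ∀ x ∈ T, (∀ y ∈ T, x * y = y * x) → x = 1 := by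
    intro x hx hxc
    by_contra hx1
    refine hTna ?_
    have hP : P (T ⊓ Subgroup.centralizer (T : Set G)) := by
      refine ⟨inf_le_left.trans hTN, fun h => hx1 ?_, ?_⟩
      · exact (Subgroup.eq_bot_iff_forall _).mp h x
          ⟨hx, Subgroup.mem_centralizer_iff.mpr fun y hy => (hxc y hy).symm⟩
      · intro n hn s hs
        refine ⟨hTn n hn s hs.1, Subgroup.mem_centralizer_iff.mpr fun y hy => ?_⟩
        have hy' := hTn n⁻¹ (N.inv_mem hn) y hy
        have := Subgroup.mem_centralizer_iff.mp hs.2 _ hy'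
        calc y * (n * s * n⁻¹) = n * ((n⁻¹ * y * n⁻¹⁻¹) * s) * n⁻¹ := by group
          _ = n * (s * (n⁻¹ * y * n⁻¹⁻¹)) * n⁻¹ := by rw [this]
          _ = n * s * n⁻¹ * y := by group
    intro u hu v hv
    have hu' : u ∈ T ⊓ Subgroup.centralizer (T : Set G) := (hTeq _ hP inf_le_left).symm ▸ hu
    exact (Subgroup.mem_centralizer_iff.mp hu'.2 v hv).symm
  -- the centralizer of `N` is trivial
  have htrans : ∀ (M : Subgroup G), M.Normal → M ≠ ⊥ → IsPretransitive M Ω := by
    intro M hM hM1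
    haveI := hM
    haveI := hprim
    refine IsQuasiPreprimitive.isPretransitive_of_normal fun h => hM1 ?_
    rw [Subgroup.eq_bot_iff_forall]
    intro m hm
    refine eq_of_smul_eq_smul fun ω : Ω => ?_
    rw [one_smul]
    have : ω ∈ fixedPoints M Ω := h.symm ▸ Set.mem_univ ω
    exact this ⟨m, hm⟩
  haveI := htrans N hN hN1
  have hC : Subgroup.centralizer (N : Set G) = ⊥ := by
    by_contra hC1
    haveI := htrans _ inferInstance hC1
    refine hsr T hT1 hperf fun x hx ω hω => eq_of_smul_eq_smul fun ω' : Ω => ?_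
    obtain ⟨⟨c, hc⟩, hcω⟩ := exists_smul_eq (Subgroup.centralizer (N : Set G)) ω ω'
    have hcω' : c • ω = ω' := hcω
    rw [one_smul, ← hcω', ← mul_smul, Subgroup.mem_centralizer_iff.mp hc x (hTN hx), mul_smul, hω]
  -- `N` is not simple
  obtain ⟨g₀, hg₀⟩ : ∃ g : G, T.map (MulAut.conj g).toMonoidHom ≠ T := by
    by_contra hall
    push Not at hall
    have hNT : N = T := le_antisymm (hgen T fun g => (hall g).le) hTN
    refine hnas ⟨N, hN, ?_, ?_, hC⟩
    · haveI : Nontrivial N := (Subgroup.nontrivial_iff_ne_bot N).mpr hN1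
      refine ⟨fun X hX => ?_⟩
      by_cases hX1 : X = ⊥
      · exact Or.inl hX1
      right
      have hXmap : X.map N.subtype = T := hTeq _ ⟨Subgroup.map_subtype_le _,
        fun h => hX1 ((Subgroup.map_eq_bot_iff_of_injective _ N.subtype_injective).mp h), by
        rintro n hn _ ⟨s, hs, rfl⟩
        exact ⟨⟨n, hn⟩ * s * ⟨n, hn⟩⁻¹, hX.conj_mem s hs _, rfl⟩⟩
        (hNT ▸ Subgroup.map_subtype_le _)
      rw [eq_top_iff]
      intro s _
      have hs : (s : G) ∈ X.map N.subtype := hXmap.symm ▸ (hNT.le s.2)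
      obtain ⟨u, hu, he⟩ := hs
      rwa [← Subtype.ext he]
    · intro h
      exact hna fun x hx y hy => congrArg Subtype.val (h.is_comm.comm ⟨x, hx⟩ ⟨y, hy⟩)
  set S := T.map (MulAut.conj g₀).toMonoidHom with hS
  have hTS : T ⊓ S = ⊥ := by
    have := hdisj 1 g₀ (by rw [hone]; exact Ne.symm hg₀)
    rwa [hone] at this
  have hTScomm : ∀ x ∈ T, ∀ y ∈ S, x * y = y * x := by
    have := hcomm 1 g₀ (by rw [hone]; exact Ne.symm hg₀)
    rwa [hone] at this
  -- conjugation by `N` is inner on `T`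
  have hinner : ∀ n ∈ N, ∃ t ∈ T, ∀ x ∈ T, n * x * n⁻¹ = t * x * t⁻¹ := by
    let R : Subgroup G :=
      { carrier := {n | ∃ t ∈ T, ∀ x ∈ T, n * x * n⁻¹ = t * x * t⁻¹}
        one_mem' := ⟨1, T.one_mem, fun x _ => rfl⟩
        mul_mem' := by
          rintro a b ⟨t, ht, hta⟩ ⟨u, hu, hub⟩
          refine ⟨t * u, T.mul_mem ht hu, fun x hx => ?_⟩
          have h1 := hub x hx
          have h2 := hta (u * x * u⁻¹) (T.mul_mem (T.mul_mem hu hx) (T.inv_mem hu))
          calc a * b * x * (a * b)⁻¹ = a * (b * x * b⁻¹) * a⁻¹ := by group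
            _ = a * (u * x * u⁻¹) * a⁻¹ := by rw [h1]
            _ = t * (u * x * u⁻¹) * t⁻¹ := h2
            _ = t * u * x * (t * u)⁻¹ := by group
        inv_mem' := by
          rintro a ⟨t, ht, hta⟩
          refine ⟨t⁻¹, T.inv_mem ht, fun x hx => ?_⟩
          have hm : t⁻¹ * x * t ∈ T := T.mul_mem (T.mul_mem (T.inv_mem ht) hx) ht
          have h1 := hta _ hm
          calc a⁻¹ * x * a⁻¹⁻¹ = a⁻¹ * (t * (t⁻¹ * x * t) * t⁻¹) * a := by group
            _ = a⁻¹ * (a * (t⁻¹ * x * t) * a⁻¹) * a := by rw [h1]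
            _ = t⁻¹ * x * t⁻¹⁻¹ := by group }
    refine hgen R fun g z hz => ?_
    by_cases he : T.map (MulAut.conj g).toMonoidHom = T
    · exact ⟨z, he ▸ hz, fun x _ => rfl⟩
    · refine ⟨1, T.one_mem, fun x hx => ?_⟩
      have := hcomm g 1 (by rw [hone]; exact he) z hz x (by rw [hone]; exact hx)
      rw [this]
      group
  -- point stabilizers in `T` are self-normalizing
  have hmax : ∀ b : Ω, IsCoatom (stabilizer G b) := by
    intro b
    haveI : Nontrivial Ω := by
      by_contra h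
      rw [not_nontrivial_iff_subsingleton] at h
      exact hN1 ((Subgroup.eq_bot_iff_forall _).mpr fun x _ =>
        eq_of_smul_eq_smul fun ω : Ω => Subsingleton.elim _ _)
    haveI := hprim
    exact IsPreprimitive.isCoatom_stabilizer_of_isPreprimitive G b
  have hTb : ∀ b : Ω, T ⊓ stabilizer G b ≠ ⊥ := by
    intro b hb
    refine hsr T hT1 hperf fun x hx ω hω => ?_
    obtain ⟨⟨n, hn⟩, hnω⟩ := exists_smul_eq N ω b
    have hnω' : n • ω = b := hnω
    have : n * x * n⁻¹ ∈ T ⊓ stabilizer G b := by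
      refine ⟨hTn n hn x hx, ?_⟩
      show (n * x * n⁻¹) • b = b
      rw [← hnω', mul_smul, mul_smul, inv_smul_smul, hω]
    rw [hb, Subgroup.mem_bot] at this
    exact conj_eq_one_iff.mp this
  have hselfn : ∀ b : Ω, ∀ t ∈ T, (∀ x ∈ T, x • b = b → (t * x * t⁻¹) • b = b) → t • b = b := by
    intro b t ht hnorm
    -- the product of the `S ∩ G_b` over all conjugates `S` of `T`
    set K : Subgroup G := ⨆ g : G, T.map (MulAut.conj g).toMonoidHom ⊓ stabilizer G b with hK
    have hKle : K ≤ stabilizer G b := iSup_le fun g => inf_le_right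
    have hKN : K ≤ N := iSup_le fun g => inf_le_left.trans (hconj g T ⟨hTN, hT1, hTn⟩).1
    have hstabn : stabilizer G b ≤ Subgroup.normalizer (K : Set G) := by
      intro h hh
      refine Subgroup.mem_normalizer_fintype (S := (K : Set G)) ?_
      intro z hz
      have : K.map (MulAut.conj h).toMonoidHom ≤ K := by
        rw [hK, Subgroup.map_iSup]
        refine iSup_le fun g => le_iSup_of_le (h * g) ?_
        rintro _ ⟨y, ⟨⟨u, hu, rfl⟩, hy⟩, rfl⟩
        refine ⟨⟨u, hu, by simp [mul_assoc]⟩, ?_⟩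
        show (h * (g * u * g⁻¹) * h⁻¹) • b = b
        have hy' : (g * u * g⁻¹) • b = b := hy
        have hh' : h • b = b := hh
        have hh'' : h⁻¹ • b = b := by rw [inv_smul_eq_iff, hh']
        rw [mul_smul, mul_smul, hh'', hy', hh']
      exact this ⟨z, hz, rfl⟩
    have htn : t ∈ Subgroup.normalizer (K : Set G) := by
      refine Subgroup.mem_normalizer_fintype (S := (K : Set G)) ?_
      intro z hz
      have : K.map (MulAut.conj t).toMonoidHom ≤ K := by
        rw [hK, Subgroup.map_iSup]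
        refine iSup_le fun g => le_iSup_of_le g ?_
        rintro _ ⟨y, ⟨hy, hyb⟩, rfl⟩
        by_cases he : T.map (MulAut.conj g).toMonoidHom = T
        · have hy' : y ∈ T := he ▸ hy
          refine ⟨?_, hnorm y hy' hyb⟩
          rw [he]
          exact T.mul_mem (T.mul_mem ht hy') (T.inv_mem ht)
        · have hc := hcomm g 1 (by rw [hone]; exact he) y hy t (by rw [hone]; exact ht)
          show t * y * t⁻¹ ∈ _
          rw [← hc, mul_inv_cancel_right]
          exact ⟨hy, hyb⟩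
      exact this ⟨z, hz, rfl⟩
    rcases (hmax b).le_iff.mp hstabn with h | h
    · exfalso
      have hKn : K.Normal := Subgroup.normalizer_eq_top_iff.mp h
      haveI := htrans K hKn fun h0 => hTb b (by
        have : T ⊓ stabilizer G b ≤ K := le_iSup_of_le 1 (by rw [hone])
        rw [h0] at this
        exact eq_bot_iff.mpr this)
      haveI : Nontrivial Ω := by
        by_contra hh
        rw [not_nontrivial_iff_subsingleton] at hh
        exact hN1 ((Subgroup.eq_bot_iff_forall _).mpr fun x _ =>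
          eq_of_smul_eq_smul fun ω : Ω => Subsingleton.elim _ _)
      obtain ⟨c, hc⟩ := exists_ne b
      obtain ⟨⟨k, hk⟩, hkb⟩ := exists_smul_eq K b c
      exact hc (hkb.symm.trans (hKle hk))
    · have := h.le htn
      exact this
  have hprod : ∀ y ∈ T, (∀ ω : Ω, y • ω ≠ ω) →
      ∀ z, (∀ x ∈ T, x * z = z * x) → ∀ ω : Ω, (y * z) • ω ≠ ω := by
    intro y hy hyd z hz ω hω
    refine hyd ω (hselfn ω y hy fun x hx hxω => ?_)
    have hzx : z * x * z⁻¹ = x := by rw [← hz x hx, mul_inv_cancel_right]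
    have : y * x * y⁻¹ = (y * z) * x * (y * z)⁻¹ := by
      calc y * x * y⁻¹ = y * (z * x * z⁻¹) * y⁻¹ := by rw [hzx]
        _ = _ := by group
    rw [this]
    have hω' : (y * z)⁻¹ • ω = ω := by rw [inv_smul_eq_iff, hω]
    rw [mul_smul, mul_smul, hω', hxω, hω]
  -- a derangement in `T`
  obtain ⟨y, hy, hyd⟩ : ∃ y ∈ T, ∀ ω : Ω, y • ω ≠ ω := by
    obtain ⟨a⟩ : Nonempty Ω := by
      by_contra h
      rw [not_nonempty_iff] at h
      exact hN1 ((Subgroup.eq_bot_iff_forall _).mpr fun x _ =>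
        eq_of_smul_eq_smul fun ω : Ω => h.elim ω)
    obtain ⟨y, hy⟩ := exists_forall_conj_notMem ((stabilizer G a).subgroupOf T) (by
      rw [ne_eq, Subgroup.subgroupOf_eq_top]
      intro hle
      apply hT1
      rw [Subgroup.eq_bot_iff_forall]
      intro x hx
      refine eq_of_smul_eq_smul fun ω : Ω => ?_
      obtain ⟨⟨n, hn⟩, hnω⟩ := exists_smul_eq N a ω
      have hnω' : n • a = ω := hnω
      have h1 : (n⁻¹ * x * n⁻¹⁻¹) • a = a := hle (hTn n⁻¹ (N.inv_mem hn) x hx)
      rw [inv_inv, mul_smul, mul_smul, hnω', inv_smul_eq_iff, hnω'] at h1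
      rw [h1, one_smul])
    refine ⟨y, y.2, fun ω hω => ?_⟩
    obtain ⟨⟨n, hn⟩, hnω⟩ := exists_smul_eq N a ω
    have hnω' : n • a = ω := hnω
    obtain ⟨t, ht, hnt⟩ := hinner n⁻¹ (N.inv_mem hn)
    refine hy ⟨t⁻¹, T.inv_mem ht⟩ ?_
    show (t⁻¹)⁻¹ * (y : G) * t⁻¹ ∈ stabilizer G a
    rw [inv_inv, ← hnt y y.2, inv_inv]
    show (n⁻¹ * (y : G) * n) • a = a
    rw [mul_smul, mul_smul, hnω', hω, ← hnω', inv_smul_smul]
  have hy1 : y ≠ 1 := by
    rintro rfl
    obtain ⟨a⟩ : Nonempty Ω := by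
      by_contra h
      rw [not_nonempty_iff] at h
      exact hN1 ((Subgroup.eq_bot_iff_forall _).mpr fun x _ =>
        eq_of_smul_eq_smul fun ω : Ω => h.elim ω)
    exact hyd a (one_smul G a)
  refine hpr T S hT1 ?_ hperf ?_ hTScomm hTS y hy hyd fun z hz =>
    hprod y hy hyd z fun x hx => hTScomm x hx z hz
  · exact fun h => hT1 ((Subgroup.map_eq_bot_iff_of_injective _ (MulAut.conj g₀).injective).mp h)
  · rw [hS, ← Subgroup.map_commutator, hperf]

end Cfsg.Agent.OddLocal.TwoClasses
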