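import Cfsg.Prelude.Def_OddOrderLocal

/-! Formal properties of the Puig series. -/

set_option autoImplicit false

namespace Cfsg.Agent.Lib.OddLocal

open Cfsg

universe u

variable {G : Type u} [Group G]

theorem le_puigStep {X A : Subgroup G} (hA : IsMulCommutative A)
    (hX : X ≤ Subgroup.normalizer (A : Set G)) : A ≤ puigStep X :=
  le_sSup ⟨hA, hX⟩

theorem puigStep_antitone {X Y : Subgroup G} (h : X ≤ Y) : puigStep Y ≤ puigStep X :=
  sSup_le fun _ hA => le_puigStep hA.1 (h.trans hA.2)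

theorem puigStep_bot : puigStep (⊥ : Subgroup G) = ⊤ := by
  refine top_le_iff.mp fun g _ => ?_
  exact le_puigStep (A := Subgroup.zpowers g) inferInstance bot_le (Subgroup.mem_zpowers g)

theorem puigSeq_succ (n : ℕ) : puigSeq G (n + 1) = puigStep (puigSeq G n) := rfl

theorem puigSeq_zero : puigSeq G 0 = ⊥ := rfl

theorem puigSeq_one : puigSeq G 1 = ⊤ := puigStep_bot

theorem puigSeq_even_le_succ : ∀ n : ℕ, puigSeq G (2 * n) ≤ puigSeq G (2 * n + 2) ∧
    puigSeq G (2 * n + 3) ≤ puigSeq G (2 * n + 1) := by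
  intro n
  induction n with
  | zero =>
    refine ⟨by simp [puigSeq_zero], ?_⟩
    simp only [Nat.mul_zero, Nat.zero_add, puigSeq_one]
    exact le_top
  | succ n ih =>
    have h1 : puigSeq G (2 * n + 2) ≤ puigSeq G (2 * n + 4) := puigStep_antitone ih.2
    exact ⟨h1, puigStep_antitone h1⟩

theorem puigEven_mono : Monotone fun n : ℕ => puigSeq G (2 * n) :=
  monotone_nat_of_le_succ fun n => (puigSeq_even_le_succ n).1

theorem puigOdd_antitone : Antitone fun n : ℕ => puigSeq G (2 * n + 1) :=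
  antitone_nat_of_succ_le fun n => (puigSeq_even_le_succ n).2

theorem puigSeq_even_le_odd_aux : ∀ n : ℕ, puigSeq G (2 * n) ≤ puigSeq G (2 * n + 1) := by
  intro n
  induction n with
  | zero => simp [puigSeq_zero]
  | succ n ih =>
    have h1 : puigSeq G (2 * n + 2) ≤ puigSeq G (2 * n + 1) := puigStep_antitone ih
    exact puigStep_antitone h1

theorem puigSeq_even_le_odd (n m : ℕ) : puigSeq G (2 * n) ≤ puigSeq G (2 * m + 1) :=
  ((puigEven_mono (le_max_left n m)).trans (puigSeq_even_le_odd_aux _)).trans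
    (puigOdd_antitone (le_max_right n m))

theorem puigLower_le_puigSubgroup : puigLower G ≤ puigSubgroup G :=
  iSup_le fun n => le_iInf fun m => puigSeq_even_le_odd n m

theorem puig_stabilizes [Finite G] :
    ∃ k : ℕ, ∀ n : ℕ, k ≤ n →
      puigSeq G (2 * n) = puigLower G ∧ puigSeq G (2 * n + 1) = puigSubgroup G := by
  obtain ⟨k₁, hk₁⟩ := WellFoundedGT.monotone_chain_condition
    (⟨fun n => puigSeq G (2 * n), puigEven_mono⟩ : ℕ →o Subgroup G)
  obtain ⟨k₂, hk₂⟩ := WellFoundedGT.monotone_chain_condition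
    (⟨fun n => OrderDual.toDual (puigSeq G (2 * n + 1)), fun a b h => puigOdd_antitone h⟩ :
      ℕ →o (Subgroup G)ᵒᵈ)
  refine ⟨max k₁ k₂, fun n hn => ⟨le_antisymm (le_iSup (fun i => puigSeq G (2 * i)) n) ?_,
    le_antisymm ?_ (iInf_le (fun i => puigSeq G (2 * i + 1)) n)⟩⟩
  · refine iSup_le fun i => ?_
    rcases le_total i n with h | h
    · exact puigEven_mono h
    · have e1 : puigSeq G (2 * k₁) = puigSeq G (2 * i) :=
        hk₁ i ((le_max_left _ _).trans (hn.trans h))
      have e2 : puigSeq G (2 * k₁) = puigSeq G (2 * n) := hk₁ n ((le_max_left _ _).trans hn)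
      exact le_of_eq (e1.symm.trans e2)
  · refine le_iInf fun i => ?_
    rcases le_total i n with h | h
    · exact puigOdd_antitone h
    · have e1 : puigSeq G (2 * k₂ + 1) = puigSeq G (2 * i + 1) :=
        congrArg OrderDual.ofDual (hk₂ i ((le_max_right _ _).trans (hn.trans h)))
      have e2 : puigSeq G (2 * k₂ + 1) = puigSeq G (2 * n + 1) :=
        congrArg OrderDual.ofDual (hk₂ n ((le_max_right _ _).trans hn))
      exact le_of_eq (e2.symm.trans e1)

theorem puigStep_puigLower [Finite G] : puigStep (puigLower G) = puigSubgroup G := by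
  obtain ⟨k, hk⟩ := puig_stabilizes (G := G)
  rw [← (hk k le_rfl).1, ← (hk k le_rfl).2, puigSeq_succ]

theorem puigStep_puigSubgroup [Finite G] : puigStep (puigSubgroup G) = puigLower G := by
  obtain ⟨k, hk⟩ := puig_stabilizes (G := G)
  rw [← (hk (k + 1) k.le_succ).1, ← (hk k le_rfl).2]
  rfl

end Cfsg.Agent.Lib.OddLocal
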