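import Cfsg.Agent.Lib.OddLocal.Puig
import Cfsg.Agent.Lib.OddLocal.Coprime

/-! The Puig series of a subgroup, inside the ambient group. -/

set_option autoImplicit false

namespace Cfsg.Agent.Lib.OddLocal

open Subgroup

universe u v

variable {G : Type u} [Group G]

/-- One Puig step taken inside the subgroup `S`. -/
def puigStepIn (S X : Subgroup G) : Subgroup G :=
  sSup {A : Subgroup G | A ≤ S ∧ IsMulCommutative A ∧ X ≤ normalizer (A : Set G)}

/-- The Puig series of `S` inside `G`. -/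
def puigSeqIn (S : Subgroup G) (n : ℕ) : Subgroup G := (Cfsg.puigSeq S n).map S.subtype

/-- `L(S)` inside `G`. -/
def puigSubgroupIn (S : Subgroup G) : Subgroup G := (Cfsg.puigSubgroup S).map S.subtype

/-- `L_*(S)` inside `G`. -/
def puigLowerIn (S : Subgroup G) : Subgroup G := (Cfsg.puigLower S).map S.subtype

theorem puigStepIn_mono {S S' X X' : Subgroup G} (hS : S ≤ S') (hX : X' ≤ X) :
    puigStepIn S X ≤ puigStepIn S' X' :=
  sSup_le_sSup fun _ hA => ⟨hA.1.trans hS, hA.2.1, hX.trans hA.2.2⟩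

theorem puigStepIn_le (S X : Subgroup G) : puigStepIn S X ≤ S := sSup_le fun _ hA => hA.1

theorem le_puigStepIn {S X A : Subgroup G} (h1 : A ≤ S) (h2 : IsMulCommutative A)
    (h3 : X ≤ normalizer (A : Set G)) : A ≤ puigStepIn S X := le_sSup ⟨h1, h2, h3⟩

theorem map_puigStep {X : Type v} [Group X] (ι : X →* G) (hι : Function.Injective ι)
    (Y : Subgroup X) : (Cfsg.puigStep Y).map ι = puigStepIn ι.range (Y.map ι) := by
  have key : ∀ A : Subgroup X, Y ≤ normalizer (A : Set X) ↔
      Y.map ι ≤ normalizer ((A.map ι : Subgroup G) : Set G) := by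
    intro A
    rw [le_normalizer_iff_commutator_le_right, le_normalizer_iff_commutator_le_right,
      ← map_commutator, map_le_map_iff_of_injective hι]
  have hc : ∀ A : Subgroup X, IsMulCommutative A → IsMulCommutative (A.map ι) := by
    intro A hA
    rw [← le_centralizer_iff_isMulCommutative] at hA ⊢
    rintro _ ⟨x, hx, rfl⟩
    rw [mem_centralizer_iff]
    rintro _ ⟨y, hy, rfl⟩
    rw [← map_mul, ← map_mul, mem_centralizer_iff.mp (hA hx) y hy]
  refine le_antisymm (map_le_iff_le_comap.mpr (sSup_le fun A hA => map_le_iff_le_comap.mp ?_))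
    (sSup_le fun A hA => ?_)
  · exact le_puigStepIn (map_le_range ι A) (hc A hA.1) ((key A).mp hA.2)
  · obtain ⟨hAr, hAc, hAY⟩ := hA
    have hA' : (A.comap ι).map ι = A := map_comap_eq_self hAr
    rw [← hA']
    refine map_mono (le_puigStep ?_ ((key _).mpr (by rw [hA']; exact hAY)))
    rw [← le_centralizer_iff_isMulCommutative] at hAc ⊢
    intro x hx
    rw [mem_centralizer_iff]
    intro y hy
    exact hι (by rw [map_mul, map_mul]; exact mem_centralizer_iff.mp (hAc hx) _ hy)

theorem puigSeqIn_zero (S : Subgroup G) : puigSeqIn S 0 = ⊥ := Subgroup.map_bot _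

theorem puigSeqIn_succ (S : Subgroup G) (n : ℕ) :
    puigSeqIn S (n + 1) = puigStepIn S (puigSeqIn S n) := by
  show (Cfsg.puigStep _).map S.subtype = _
  rw [map_puigStep S.subtype S.subtype_injective, S.range_subtype]
  rfl

theorem puigSeqIn_le (S : Subgroup G) (n : ℕ) : puigSeqIn S n ≤ S := map_subtype_le _

variable [Finite G]

theorem puigIn_stabilizes (S : Subgroup G) : ∃ k : ℕ, ∀ n, k ≤ n →
    puigSeqIn S (2 * n) = puigLowerIn S ∧ puigSeqIn S (2 * n + 1) = puigSubgroupIn S := by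
  obtain ⟨k, hk⟩ := puig_stabilizes (G := S)
  exact ⟨k, fun n hn => ⟨congrArg (Subgroup.map S.subtype) (hk n hn).1,
    congrArg (Subgroup.map S.subtype) (hk n hn).2⟩⟩

omit [Finite G] in
theorem puigSeqIn_even_le_lower (S : Subgroup G) (n : ℕ) : puigSeqIn S (2 * n) ≤ puigLowerIn S :=
  map_mono (le_iSup (fun n => Cfsg.puigSeq S (2 * n)) n)

omit [Finite G] in
theorem puigSubgroupIn_le_odd (S : Subgroup G) (n : ℕ) :
    puigSubgroupIn S ≤ puigSeqIn S (2 * n + 1) :=
  map_mono (iInf_le (fun n => Cfsg.puigSeq S (2 * n + 1)) n)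

omit [Finite G] in
theorem puigLowerIn_le_puigSubgroupIn (S : Subgroup G) : puigLowerIn S ≤ puigSubgroupIn S :=
  map_mono puigLower_le_puigSubgroup

theorem puigSubgroupIn_eq_step (S : Subgroup G) :
    puigSubgroupIn S = puigStepIn S (puigLowerIn S) := by
  obtain ⟨k, hk⟩ := puigIn_stabilizes S
  rw [← (hk k le_rfl).2, ← (hk k le_rfl).1, puigSeqIn_succ]

theorem puigLowerIn_eq_step (S : Subgroup G) :
    puigLowerIn S = puigStepIn S (puigSubgroupIn S) := by
  obtain ⟨k, hk⟩ := puigIn_stabilizes S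
  rw [← (hk (k + 1) k.le_succ).1, ← (hk k le_rfl).2, show 2 * (k + 1) = 2 * k + 1 + 1 by ring,
    puigSeqIn_succ]

omit [Finite G] in
theorem map_puigSeqIn {G' : Type v} [Group G'] (f : G →* G') (S : Subgroup G)
    (hf : Function.Injective (f.comp S.subtype)) (n : ℕ) :
    (puigSeqIn S n).map f = puigSeqIn (S.map f) n := by
  induction n with
  | zero => rw [puigSeqIn_zero, puigSeqIn_zero, Subgroup.map_bot]
  | succ n ih =>
    have h1 : (puigSeqIn S (n + 1)).map f = (Cfsg.puigStep (Cfsg.puigSeq S n)).map (f.comp S.subtype) :=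
      Subgroup.map_map _ _ _
    rw [h1, map_puigStep _ hf, puigSeqIn_succ, ← ih, MonoidHom.range_comp, S.range_subtype,
      ← Subgroup.map_map]
    rfl

theorem map_puigSubgroupIn {G' : Type v} [Group G'] [Finite G'] (f : G →* G') (S : Subgroup G)
    (hf : Function.Injective (f.comp S.subtype)) :
    (puigSubgroupIn S).map f = puigSubgroupIn (S.map f) ∧
      (puigLowerIn S).map f = puigLowerIn (S.map f) := by
  obtain ⟨k, hk⟩ := puigIn_stabilizes S
  obtain ⟨l, hl⟩ := puigIn_stabilizes (S.map f)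
  rw [← (hk (max k l) (le_max_left _ _)).1, ← (hk (max k l) (le_max_left _ _)).2,
    ← (hl (max k l) (le_max_right _ _)).1, ← (hl (max k l) (le_max_right _ _)).2]
  exact ⟨map_puigSeqIn f S hf _, map_puigSeqIn f S hf _⟩

omit [Finite G] in
theorem normalizer_le_normalizer_puigSeqIn (S : Subgroup G) (n : ℕ) :
    normalizer (S : Set G) ≤ normalizer (puigSeqIn S n : Set G) := fun g hg => by
  refine mem_normalizer_iff_map_conj_eq.mpr ?_
  exact (map_puigSeqIn (MulAut.conj g : G →* G) S
    ((MulAut.conj g).injective.comp S.subtype_injective) n).trans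
    (congrArg (puigSeqIn · n) (mem_normalizer_iff_map_conj_eq.mp hg))

theorem centralizer_puigSeqIn_le {p : ℕ} [Fact p.Prime] {S : Subgroup G} (hS : IsPGroup p S) (n : ℕ) :
    S ⊓ centralizer (puigSeqIn S (n + 1) : Set G) ≤ puigSeqIn S (n + 1) := by
  haveI : Group.IsNilpotent S := hS.isNilpotent
  obtain ⟨A, hAn, hAc, hCA⟩ := exists_normal_abelian_centralizer_le S
  intro x hx
  have hA : A ≤ Cfsg.puigSeq S (n + 1) :=
    le_puigStep hAc (by rw [normalizer_eq_top]; exact le_top)
  refine ⟨⟨x, hx.1⟩, hA (hCA ?_), rfl⟩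
  rw [mem_centralizer_iff]
  intro a ha
  exact Subtype.ext (mem_centralizer_iff.mp hx.2 a (mem_map_of_mem S.subtype (hA ha)))

theorem centralizer_puigLowerIn_le {p : ℕ} [Fact p.Prime] {S : Subgroup G} (hS : IsPGroup p S) :
    S ⊓ centralizer (puigLowerIn S : Set G) ≤ puigLowerIn S := by
  obtain ⟨k, hk⟩ := puigIn_stabilizes S
  rw [← (hk (k + 1) k.le_succ).1]
  exact centralizer_puigSeqIn_le hS (2 * k + 1)

end Cfsg.Agent.Lib.OddLocal
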