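import Cfsg.Agent.Lib.OddLocal.QuadraticModule
import Cfsg.Agent.Lib.OddLocal.Coprime
import Cfsg.Agent.Lib.Coprime.PxQ

/-! Quadratic action on `p`-groups inside groups of odd order. -/

set_option autoImplicit false

namespace Cfsg.Agent.Lib.OddLocal

open Subgroup
open scoped commutatorElement

universe u

variable {G : Type u} [Group G] [Finite G]

theorem mem_normalizer_of_conj_mem {H : Subgroup G} {g : G} (h : ∀ x ∈ H, g * x * g⁻¹ ∈ H) :
    g ∈ normalizer (H : Set G) := by
  refine mem_normalizer_iff_map_conj_eq.mpr (Subgroup.eq_of_le_of_card_ge ?_ ?_)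
  · rintro _ ⟨x, hx, rfl⟩; exact h x hx
  · exact le_of_eq (Nat.card_congr (H.equivMapOfInjective _ (MulAut.conj g).injective).toEquiv)

/-- Conjugation action of `T` on the quotient `K ⧸ M`. -/
theorem exists_quotient_action {K M T : Subgroup G} [(M.subgroupOf K).Normal]
    (hTK : T ≤ normalizer (K : Set G)) (hTM : T ≤ normalizer (M : Set G)) :
    ∃ σ : T →* Monoid.End (K ⧸ M.subgroupOf K), ∀ (g : T) (k : K) (hk : (g : G) * k * (g : G)⁻¹ ∈ K),
      σ g (QuotientGroup.mk k) = QuotientGroup.mk (⟨(g : G) * k * (g : G)⁻¹, hk⟩ : K) := by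
  let c : T → (K →* K) := fun g =>
    { toFun := fun k => ⟨(g : G) * k * (g : G)⁻¹, conj_mem_of_le_normalizer hTK g.2 k.2⟩
      map_one' := by ext; simp
      map_mul' := fun x y => by ext; simp [mul_assoc] }
  let σ : T → Monoid.End (K ⧸ M.subgroupOf K) := fun g =>
    QuotientGroup.map (M.subgroupOf K) (M.subgroupOf K) (c g) (fun k hk =>
      (conj_mem_of_le_normalizer hTM g.2 hk : (g : G) * k * (g : G)⁻¹ ∈ M))
  refine ⟨{ toFun := σ, map_one' := ?_, map_mul' := ?_ }, fun g k hk => rfl⟩
  · refine DFunLike.ext _ _ fun v => ?_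
    obtain ⟨k, rfl⟩ := QuotientGroup.mk_surjective v
    show (QuotientGroup.mk (c 1 k) : K ⧸ M.subgroupOf K) = QuotientGroup.mk k
    congr 1; ext; simp [c]
  · intro x y
    refine DFunLike.ext _ _ fun v => ?_
    obtain ⟨k, rfl⟩ := QuotientGroup.mk_surjective v
    show (QuotientGroup.mk (c (x * y) k) : K ⧸ M.subgroupOf K) = QuotientGroup.mk (c x (c y k))
    congr 1; ext; simp [c, mul_assoc]

/-- If two elements act quadratically on a `p`-group and generate a group of odd order, then the
`p'`-elements of that group act trivially. -/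
theorem mem_centralizer_of_quadratic_pair {p : ℕ} [hp : Fact p.Prime] (hp2 : p ≠ 2) {P : Subgroup G}
    (hP : IsPGroup p P) {a b : G} (ha : a ∈ normalizer (P : Set G)) (hb : b ∈ normalizer (P : Set G))
    (hodd : Odd (Nat.card (closure ({a, b} : Set G))))
    (hqa : ∀ x ∈ P, Commute a ⁅x, a⁆) (hqb : ∀ x ∈ P, Commute b ⁅x, b⁆)
    {t : G} (ht : t ∈ closure ({a, b} : Set G)) (htp : (orderOf t).Coprime p) :
    t ∈ centralizer (P : Set G) := by
  set T := closure ({a, b} : Set G) with hT
  have hTP : T ≤ normalizer (P : Set G) := (closure_le _).mpr (by rintro x (rfl | rfl) <;> assumption)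
  have haT : a ∈ T := subset_closure (by simp)
  have hbT : b ∈ T := subset_closure (by simp)
  suffices h : ∀ n, ∀ K : Subgroup G, Nat.card K = n → K ≤ P → P ≤ normalizer (K : Set G) →
      T ≤ normalizer (K : Set G) → t ∈ centralizer (K : Set G) from
    h _ P rfl le_rfl le_normalizer hTP
  intro n
  induction n using Nat.strong_induction_on with
  | _ n ih =>
  intro K hn hKP hPK hTK
  rcases eq_or_ne K ⊥ with rfl | hK
  · exact mem_centralizer_of_conj_eq fun x hx => by simp [mem_bot.mp hx]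
  have hLK : ⁅K, P⁆ < K :=
    Cfsg.Agent.Lib.Coprime.commutator_lt_of_isPGroup (hP.to_le hKP) hP hPK hK
  have hTL : T ≤ normalizer ((⁅K, P⁆ : Subgroup G) : Set G) := fun g hg => mem_normalizer_iff_map_conj_eq.mpr (by
    exact (map_commutator K P (MulAut.conj g : G →* G)).trans (congrArg₂ (⁅·, ·⁆)
      (mem_normalizer_iff_map_conj_eq.mp (hTK hg)) (mem_normalizer_iff_map_conj_eq.mp (hTP hg))))
  obtain ⟨M, ⟨hMK, hLM, hTM⟩, hmax⟩ := Set.Finite.exists_maximal
    (Set.toFinite {M : Subgroup G | M < K ∧ ⁅K, P⁆ ≤ M ∧ T ≤ normalizer (M : Set G)})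
    ⟨_, hLK, le_rfl, hTL⟩
  have hPM : P ≤ normalizer (M : Set G) := le_normalizer_iff_commutator_le_left.mpr
    ((commutator_mono hMK.le le_rfl).trans hLM)
  have htM : t ∈ centralizer (M : Set G) :=
    ih _ (hn ▸ (card_le_of_le hMK.le).lt_of_ne fun he => hMK.ne (eq_of_le_of_card_ge hMK.le he.ge))
      M rfl (hMK.le.trans hKP) hPM hTM
  haveI hMn : (M.subgroupOf K).Normal := normal_subgroupOf_of_le_normalizer (hKP.trans hPM)
  let V := K ⧸ M.subgroupOf K
  have hcomm : ∀ x y : V, x * y = y * x := by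
    intro x y
    obtain ⟨x, rfl⟩ := QuotientGroup.mk'_surjective _ x
    obtain ⟨y, rfl⟩ := QuotientGroup.mk'_surjective _ y
    rw [← commutatorElement_eq_one_iff_mul_comm, ← map_commutatorElement, QuotientGroup.mk'_apply,
      QuotientGroup.eq_one_iff, mem_subgroupOf]
    exact hLM (commutator_mem_commutator x.2 (hKP y.2))
  letI : CommGroup V := { (inferInstance : Group V) with mul_comm := hcomm }
  have hsub : ∀ W : Subgroup V, (∀ (g : G), g ∈ ({a, b} : Set G) → ∀ (k : K) (hk : g * k * g⁻¹ ∈ K),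
      QuotientGroup.mk k ∈ W → QuotientGroup.mk (⟨g * k * g⁻¹, hk⟩ : K) ∈ W) → W = ⊥ ∨ W = ⊤ := by
    intro W hW
    set M' := (W.comap (QuotientGroup.mk' (M.subgroupOf K))).map K.subtype with hM'
    have hMM' : M ≤ M' := fun m hm => ⟨⟨m, hMK.le hm⟩, by
      show QuotientGroup.mk' _ _ ∈ W
      rw [QuotientGroup.mk'_apply, (QuotientGroup.eq_one_iff _).mpr (by exact hm)]
      exact one_mem _, rfl⟩
    have hTM' : T ≤ normalizer (M' : Set G) := (closure_le _).mpr fun g hg =>
      mem_normalizer_of_conj_mem fun x hx => by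
        obtain ⟨k, hk, rfl⟩ := hx
        exact ⟨⟨g * k * g⁻¹, conj_mem_of_le_normalizer hTK (subset_closure hg) k.2⟩,
          hW g hg k _ hk, rfl⟩
    rcases lt_or_eq_of_le (map_subtype_le (W.comap (QuotientGroup.mk' (M.subgroupOf K)))) with h | h
    · left
      have he : M' = M := le_antisymm (hmax ⟨h, hLM.trans hMM', hTM'⟩ hMM') hMM'
      refine (eq_bot_iff_forall _).mpr fun v hv => ?_
      obtain ⟨k, rfl⟩ := QuotientGroup.mk_surjective v
      rw [QuotientGroup.eq_one_iff, mem_subgroupOf, ← he]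
      exact ⟨k, hv, rfl⟩
    · right
      refine (eq_top_iff' W).mpr fun v => ?_
      obtain ⟨k, rfl⟩ := QuotientGroup.mk_surjective v
      have hk : (k : G) ∈ M' := by rw [hM', h]; exact k.2
      obtain ⟨k', hk', he⟩ := hk
      rw [← Subtype.ext he]; exact hk'
  have hVp : IsPGroup p V := (hP.to_le hKP).to_quotient _
  haveI : Nontrivial V := by
    rw [← not_subsingleton_iff_nontrivial]
    intro hs
    exact hMK.not_ge fun k hk =>
      mem_subgroupOf.mp ((QuotientGroup.eq_one_iff (⟨k, hk⟩ : K)).mp (Subsingleton.elim _ _))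
  have hexp : ∀ v : V, v ^ p = 1 := by
    let W : Subgroup V :=
      { carrier := {v | v ^ p = 1}
        one_mem' := one_pow p
        mul_mem' := fun {x y} hx hy => by
          show (x * y) ^ p = 1
          rw [mul_pow, show x ^ p = 1 from hx, show y ^ p = 1 from hy, one_mul]
        inv_mem' := fun {x} hx => by
          show x⁻¹ ^ p = 1
          rw [inv_pow, show x ^ p = 1 from hx, inv_one] }
    rcases hsub W (fun g hg k hk hkW => by
        have h1 : k ^ p ∈ M.subgroupOf K :=
          (QuotientGroup.eq_one_iff _).mp (by rw [QuotientGroup.mk_pow]; exact hkW)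
        show _ ^ p = (1 : V)
        rw [← QuotientGroup.mk_pow, QuotientGroup.eq_one_iff, mem_subgroupOf]
        push_cast
        rw [conj_pow]
        exact conj_mem_of_le_normalizer hTM (subset_closure hg)
          (by simpa [mem_subgroupOf] using h1)) with h | h
    · exfalso
      obtain ⟨j, hj⟩ := hVp.exists_card_eq
      obtain ⟨v, hv⟩ := exists_prime_orderOf_dvd_card' (G := V) p (by
        rw [hj]; refine dvd_pow_self p fun h0 => ?_
        have := Finite.one_lt_card (α := V)
        rw [hj, h0, pow_zero] at this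
        exact this.ne rfl)
      have hvW : v ∈ W := show v ^ p = 1 from hv ▸ pow_orderOf_eq_one v
      rw [h, mem_bot] at hvW
      rw [hvW, orderOf_one] at hv
      exact hp.out.one_lt.ne hv
    · intro v; exact (h ▸ mem_top v : v ∈ W)
  obtain ⟨σ, hσ⟩ := exists_quotient_action hTK hTM
  let ρ : T →* AddMonoid.End (Additive V) :=
    { toFun := fun g => MonoidHom.toAdditive (σ g)
      map_one' := by rw [map_one]; rfl
      map_mul' := fun x y => by rw [map_mul]; rfl }
  let u : T →* (AddMonoid.End (Additive V))ˣ := ρ.toHomUnits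
  have hquad : ∀ (g : G) (hg : g ∈ T), (∀ x ∈ P, Commute g ⁅x, g⁆) →
      ((u ⟨g, hg⟩ : AddMonoid.End (Additive V)) - 1) *
        ((u ⟨g, hg⟩ : AddMonoid.End (Additive V)) - 1) = 0 := by
    intro g hg hq
    refine DFunLike.ext _ _ fun w => ?_
    obtain ⟨k, hk⟩ := QuotientGroup.mk_surjective (Additive.toMul w)
    have hw : w = Additive.ofMul (QuotientGroup.mk k : V) := by rw [hk, ofMul_toMul]
    subst hw
    have hk1 : g * k * g⁻¹ ∈ K := conj_mem_of_le_normalizer hTK hg k.2
    let z : K := ⟨g * k * g⁻¹, hk1⟩ * k⁻¹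
    have h1 : (ρ ⟨g, hg⟩ - 1) (Additive.ofMul (QuotientGroup.mk k : V)) =
        Additive.ofMul (QuotientGroup.mk z : V) := by
      show Additive.ofMul (σ ⟨g, hg⟩ (QuotientGroup.mk k)) - Additive.ofMul (QuotientGroup.mk k : V) = _
      rw [hσ _ k hk1]
      show Additive.ofMul ((QuotientGroup.mk (⟨g * k * g⁻¹, hk1⟩ : K) : V) / QuotientGroup.mk k) = _
      rw [div_eq_mul_inv]; rfl
    have h2 : (ρ ⟨g, hg⟩ - 1) (Additive.ofMul (QuotientGroup.mk z : V)) = 0 := by
      have hz : g * (z : G) * g⁻¹ ∈ K := conj_mem_of_le_normalizer hTK hg z.2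
      show Additive.ofMul (σ ⟨g, hg⟩ (QuotientGroup.mk z)) - Additive.ofMul (QuotientGroup.mk z : V) = 0
      rw [sub_eq_zero, hσ _ z hz]
      congr 2
      refine Subtype.ext ?_
      have he : (z : G) = ⁅(k : G), g⁆⁻¹ := by
        show g * k * g⁻¹ * (k : G)⁻¹ = _
        rw [commutatorElement_inv, commutatorElement_def]
      show g * (z : G) * g⁻¹ = (z : G)
      rw [he, ((hq k (hKP k.2)).inv_right).eq, mul_inv_cancel_right]
    show (ρ ⟨g, hg⟩ - 1) ((ρ ⟨g, hg⟩ - 1) _) = (0 : Additive V)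
    rw [h1, h2]
  have hΓ : Subgroup.closure ({u ⟨a, haT⟩, u ⟨b, hbT⟩} : Set (AddMonoid.End (Additive V))ˣ) ≤ u.range :=
    (closure_le _).mpr (by rintro x (rfl | rfl) <;> exact ⟨_, rfl⟩)
  obtain ⟨e1, e2⟩ := quadratic_pair_trivial (V := Additive V) p hp2 (fun w => hexp (Additive.toMul w))
    (u ⟨a, haT⟩) (u ⟨b, hbT⟩) (hquad a haT hqa) (hquad b hbT hqb)
    ((hodd.of_dvd_nat ((card_range_dvd u))).of_dvd_nat (card_dvd_of_le hΓ))
    (fun W hWa hWb => by
      let W' : Subgroup V :=
        { carrier := {v | Additive.ofMul v ∈ W}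
          one_mem' := W.zero_mem
          mul_mem' := fun {x y} hx hy => W.add_mem hx hy
          inv_mem' := fun {x} hx => W.neg_mem hx }
      rcases hsub W' (fun g hg k hk hkW => by
          have hgT : g ∈ T := subset_closure hg
          have : ρ ⟨g, hgT⟩ (Additive.ofMul (QuotientGroup.mk k : V)) ∈ W := by
            rcases hg with rfl | rfl
            · exact hWa _ hkW
            · exact hWb _ hkW
          show Additive.ofMul _ ∈ W
          convert this using 1
          exact congrArg Additive.ofMul (hσ ⟨g, hgT⟩ k hk).symm) with h | h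
      · left
        refine (AddSubgroup.eq_bot_iff_forall _).mpr fun w hw => ?_
        have : Additive.toMul w ∈ W' := hw
        rw [h, mem_bot] at this
        exact this
      · right
        refine (AddSubgroup.eq_top_iff' W).mpr fun w => ?_
        exact (h ▸ mem_top (Additive.toMul w) : Additive.toMul w ∈ W'))
  have hker : ∀ (g : G) (hg : g ∈ T), u ⟨g, hg⟩ = 1 := by
    intro g hg
    have : (⟨g, hg⟩ : T) ∈ u.ker := by
      have h' : T ≤ u.ker.map T.subtype := by
        refine (closure_le _).mpr ?_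
        rintro x (rfl | rfl)
        · exact ⟨⟨x, haT⟩, e1, rfl⟩
        · exact ⟨⟨x, hbT⟩, e2, rfl⟩
      obtain ⟨g', hg', he⟩ := h' hg
      rwa [← Subtype.ext (show (g' : G) = ((⟨g, hg⟩ : T) : G) from he)]
    exact this
  refine le_centralizer_of_coprime_stab (K := M) (A := zpowers t) ?_ (zpowers_le.mpr htM) ?_
    (mem_zpowers t)
  · rw [commutator_le]
    intro k hk s hs
    have hsT : s ∈ T := zpowers_le.mpr ht hs
    have hk1 : s * k * s⁻¹ ∈ K := conj_mem_of_le_normalizer hTK hsT hk
    have h1 := DFunLike.congr_fun (congrArg Units.val (hker s hsT)) (Additive.ofMul (QuotientGroup.mk ⟨k, hk⟩ : V))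
    have h2 : σ ⟨s, hsT⟩ (QuotientGroup.mk ⟨k, hk⟩) = QuotientGroup.mk ⟨k, hk⟩ := h1
    rw [hσ _ _ hk1, QuotientGroup.eq, mem_subgroupOf] at h2
    push_cast at h2
    -- `(s k s⁻¹)⁻¹ k ∈ M`
    have h3 := conj_mem_of_le_normalizer (hKP.trans hPM) hk h2
    simpa [commutatorElement_def, mul_assoc] using h3
  · obtain ⟨j, hj⟩ := (hP.to_le (hMK.le.trans hKP)).exists_card_eq
    rw [Nat.card_zpowers, hj]
    exact htp.pow_right j

end Cfsg.Agent.Lib.OddLocal
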