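import Cfsg.Agent.Lib.OddLocal.TwoDim
import Mathlib.LinearAlgebra.Matrix.ToLin
import Mathlib.LinearAlgebra.Basis.VectorSpace
import Mathlib.RingTheory.LittleWedderburn

/-! Two quadratic unipotent elements generating a group of odd order act trivially on an
irreducible module of odd characteristic. -/

set_option autoImplicit false

namespace Cfsg.Agent.Lib.OddLocal

universe u

theorem quadratic_pair_trivial {V : Type u} [AddCommGroup V] [Finite V] [Nontrivial V]
    (p : ℕ) [hp : Fact p.Prime] (hp2 : p ≠ 2) (hpV : ∀ v : V, p • v = 0)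
    (α β : (AddMonoid.End V)ˣ)
    (hα : ((α : AddMonoid.End V) - 1) * ((α : AddMonoid.End V) - 1) = 0)
    (hβ : ((β : AddMonoid.End V) - 1) * ((β : AddMonoid.End V) - 1) = 0)
    (hodd : Odd (Nat.card (Subgroup.closure ({α, β} : Set (AddMonoid.End V)ˣ))))
    (hirr : ∀ W : AddSubgroup V, (∀ w ∈ W, (α : AddMonoid.End V) w ∈ W) →
      (∀ w ∈ W, (β : AddMonoid.End V) w ∈ W) → W = ⊥ ∨ W = ⊤) :
    α = 1 ∧ β = 1 := by
  classical
  set N : AddMonoid.End V := (α : AddMonoid.End V) - 1 with hN
  set M : AddMonoid.End V := (β : AddMonoid.End V) - 1 with hM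
  set c : AddMonoid.End V := N * M + M * N with hc
  haveI : Finite (AddMonoid.End V) :=
    Finite.of_injective (fun f : AddMonoid.End V => (f : V → V)) DFunLike.coe_injective
  have hcN : Commute N c := by
    show N * c = c * N
    rw [hc, mul_add, add_mul, ← mul_assoc, hα, zero_mul, zero_add, mul_assoc M N N, hα, mul_zero,
      add_zero, mul_assoc]
  have hcM : Commute M c := by
    show M * c = c * M
    rw [hc, mul_add, add_mul, ← mul_assoc M M N, hβ, zero_mul, add_zero, mul_assoc N M M, hβ,
      mul_zero, zero_add, mul_assoc]
  let E : Subring (AddMonoid.End V) := Subring.closure {c}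
  have hEc : E ≤ Subring.centralizer ({N, M, c} : Set (AddMonoid.End V)) := by
    refine Subring.closure_le.mpr ?_
    rintro x rfl
    rw [SetLike.mem_coe, Subring.mem_centralizer_iff]
    rintro y (rfl | rfl | rfl)
    · exact hcN
    · exact hcM
    · rfl
  have hEN : ∀ e ∈ E, Commute N e := fun e he =>
    Subring.mem_centralizer_iff.mp (hEc he) N (by simp)
  have hEM : ∀ e ∈ E, Commute M e := fun e he =>
    Subring.mem_centralizer_iff.mp (hEc he) M (by simp)
  have hEα : ∀ e ∈ E, ∀ v : V, (α : AddMonoid.End V) (e v) = e ((α : AddMonoid.End V) v) := by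
    intro e he v
    have h : Commute (α : AddMonoid.End V) e := by
      have := (hEN e he).add_left (Commute.one_left e)
      rwa [hN, sub_add_cancel] at this
    exact DFunLike.congr_fun h.eq v
  have hEβ : ∀ e ∈ E, ∀ v : V, (β : AddMonoid.End V) (e v) = e ((β : AddMonoid.End V) v) := by
    intro e he v
    have h : Commute (β : AddMonoid.End V) e := by
      have := (hEM e he).add_left (Commute.one_left e)
      rwa [hM, sub_add_cancel] at this
    exact DFunLike.congr_fun h.eq v
  have hinj : ∀ e ∈ E, e ≠ 0 → ∀ v, e v = 0 → v = 0 := by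
    intro e he hne v hv
    let K : AddSubgroup V :=
      { carrier := {w | e w = 0}
        zero_mem' := map_zero e
        add_mem' := fun {a b} ha hb => by
          show e (a + b) = 0
          rw [map_add, show e a = 0 from ha, show e b = 0 from hb, add_zero]
        neg_mem' := fun {a} ha => by
          show e (-a) = 0
          rw [map_neg, show e a = 0 from ha, neg_zero] }
    rcases hirr K (fun w hw => by
        show e _ = 0
        rw [← hEα e he, show e w = 0 from hw, map_zero])
      (fun w hw => by
        show e _ = 0
        rw [← hEβ e he, show e w = 0 from hw, map_zero]) with h | h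
    · have hv' : v ∈ K := hv
      rw [h] at hv'; exact hv'
    · exfalso
      refine hne (DFunLike.ext _ _ fun w => ?_)
      have : w ∈ K := h ▸ AddSubgroup.mem_top w
      exact this
  haveI : Nontrivial E := ⟨⟨1, 0, fun h => by
    obtain ⟨v, hv⟩ := exists_ne (0 : V)
    exact hv (DFunLike.congr_fun (congrArg Subtype.val h) v)⟩⟩
  haveI : NoZeroDivisors E := ⟨fun {a b} h => by
    rcases eq_or_ne a 0 with ha | ha
    · exact Or.inl ha
    refine Or.inr (Subtype.ext (DFunLike.ext _ _ fun v => ?_))
    exact hinj a a.2 (fun h' => ha (Subtype.ext h')) _ (DFunLike.congr_fun (congrArg Subtype.val h) v)⟩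
  haveI : IsDomain E := NoZeroDivisors.to_isDomain E
  letI : Fintype E := Fintype.ofFinite E
  have hEcomm : ∀ a b : E, a * b = b * a := by
    intro a b
    exact Subtype.ext ((Subring.mem_centralizer_iff.mp
      (Subring.closure_le (t := Subring.centralizer (E : Set (AddMonoid.End V))) |>.mpr (by
        rintro x rfl
        rw [SetLike.mem_coe, Subring.mem_centralizer_iff]
        intro y hy
        exact (Subring.mem_centralizer_iff.mp (hEc hy) c (by simp)).symm) b.2) a a.2))
  letI : CommRing E := { (inferInstance : Ring E) with mul_comm := hEcomm }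
  letI : Field E := Fintype.fieldOfDomain E
  letI : Module E V :=
    { smul := fun e v => (e : AddMonoid.End V) v
      one_smul := fun v => rfl
      mul_smul := fun a b v => rfl
      smul_zero := fun e => map_zero (e : AddMonoid.End V)
      smul_add := fun e => map_add (e : AddMonoid.End V)
      add_smul := fun a b v => rfl
      zero_smul := fun v => rfl }
  have hsm : ∀ (e : E) (v : V), e • v = (e : AddMonoid.End V) v := fun e v => rfl
  haveI : CharP E p := by
    refine CharP.addOrderOf_one E |> fun h => ?_
    obtain ⟨v, hv⟩ := exists_ne (0 : V)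
    have h1 : p • (1 : E) = 0 := by
      refine Subtype.ext (DFunLike.ext _ _ fun w => ?_)
      show ((p • (1 : E) : E) : AddMonoid.End V) w = 0
      rw [AddSubmonoidClass.coe_nsmul]
      exact hpV w
    have h2 : addOrderOf (1 : E) = p := by
      refine addOrderOf_eq_prime h1 one_ne_zero
    rwa [h2] at h
  obtain ⟨v, hv, hNv⟩ : ∃ v : V, v ≠ 0 ∧ N v = 0 := by
    obtain ⟨v, hv⟩ := exists_ne (0 : V)
    by_cases h : N v = 0
    · exact ⟨v, hv, h⟩
    · exact ⟨N v, h, DFunLike.congr_fun hα v⟩
  have hMM : M (M v) = 0 := DFunLike.congr_fun hβ v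
  have hNM : N (M v) = c v := by
    rw [hc]
    show N (M v) = N (M v) + M (N v)
    rw [hNv, map_zero, add_zero]
  let cE : E := ⟨c, Subring.subset_closure rfl⟩
  have hαw : ∀ w, (α : AddMonoid.End V) w = w + N w := fun w => by
    rw [hN]; show _ = w + ((α : AddMonoid.End V) w - w); abel
  have hβw : ∀ w, (β : AddMonoid.End V) w = w + M w := fun w => by
    rw [hM]; show _ = w + ((β : AddMonoid.End V) w - w); abel
  let W : Submodule E V := Submodule.span E {v, M v}
  have hWtop : W = ⊤ := by
    have hW : ∀ w ∈ W, ∃ a b : E, a • v + b • M v = w := fun w hw => Submodule.mem_span_pair.mp hw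
    have hv' : v ∈ W := Submodule.subset_span (by simp)
    have hMv' : M v ∈ W := Submodule.subset_span (by simp)
    rcases hirr W.toAddSubgroup (fun w hw => by
        obtain ⟨a, b, rfl⟩ := hW w hw
        rw [map_add, hsm, hsm, hEα a a.2, hEα b b.2, hαw v, hαw (M v), hNv, add_zero, hNM,
          map_add, ← hsm, ← hsm, ← hsm b (c v)]
        exact W.add_mem (W.smul_mem _ hv') (W.add_mem (W.smul_mem _ hMv')
          (W.smul_mem _ (show cE • v ∈ W from W.smul_mem _ hv'))))
      (fun w hw => by
        obtain ⟨a, b, rfl⟩ := hW w hw
        rw [map_add, hsm, hsm, hEβ a a.2, hEβ b b.2, hβw v, hβw (M v), hMM, add_zero,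
          map_add, ← hsm, ← hsm, ← hsm b (M v)]
        exact W.add_mem (W.add_mem (W.smul_mem _ hv') (W.smul_mem _ hMv')) (W.smul_mem _ hMv'))
      with h | h
    · exact absurd (show v ∈ (⊥ : AddSubgroup V) from h ▸ hv') hv
    · exact Submodule.toAddSubgroup_injective (by rw [h, Submodule.top_toAddSubgroup])
  by_cases hMv : M v ∈ Submodule.span E {v}
  · -- one-dimensional
    obtain ⟨l, hl⟩ := Submodule.mem_span_singleton.mp hMv
    have hall : ∀ w : V, ∃ a : E, a • v = w := by
      intro w
      obtain ⟨a, b, hab⟩ := Submodule.mem_span_pair.mp (show w ∈ W from hWtop ▸ Submodule.mem_top)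
      exact ⟨a + b * l, by rw [add_smul, mul_smul, hl, hab]⟩
    have hα1 : α = 1 := by
      refine Units.ext (DFunLike.ext _ _ fun w => ?_)
      obtain ⟨a, rfl⟩ := hall w
      show (α : AddMonoid.End V) (a • v) = a • v
      rw [hsm, hEα a a.2, hαw v, hNv, add_zero]
    have hMv0 : M v = 0 := by
      have h2 : M (M v) = (l * l) • v := by
        conv_lhs => rw [← hl, hsm]
        rw [show M ((l : AddMonoid.End V) v) = (l : AddMonoid.End V) (M v) from
          DFunLike.congr_fun (hEM l l.2).eq v, ← hsm, ← hl, smul_smul]
      rw [hMM] at h2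
      have : l = 0 := mul_self_eq_zero.mp ((smul_eq_zero.mp h2.symm).resolve_right hv)
      rw [← hl, this, zero_smul]
    refine ⟨hα1, Units.ext (DFunLike.ext _ _ fun w => ?_)⟩
    obtain ⟨a, rfl⟩ := hall w
    show (β : AddMonoid.End V) (a • v) = a • v
    rw [hsm, hEβ a a.2, hβw v, hMv0, add_zero]
  · have hli : LinearIndependent E ![v, M v] := by
      rw [LinearIndependent.pair_iff]
      intro s t hst
      have ht : t = 0 := by
        by_contra ht
        refine hMv (Submodule.mem_span_singleton.mpr ⟨-(t⁻¹ * s), ?_⟩)
        have := congrArg (fun x => t⁻¹ • x) hst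
        simp only [smul_add, smul_smul, inv_mul_cancel₀ ht, one_smul, smul_zero] at this
        rw [neg_smul]; exact neg_eq_of_add_eq_zero_right this
      rw [ht, zero_smul, add_zero] at hst
      exact ⟨(smul_eq_zero.mp hst).resolve_right hv, ht⟩
    let bas : Module.Basis (Fin 2) E V := Module.Basis.mk hli (by
      rw [Matrix.range_cons, Matrix.range_cons, Matrix.range_empty]
      simp only [Set.union_empty, Set.singleton_union]
      exact hWtop.ge)
    set Γ := Subgroup.closure ({α, β} : Set (AddMonoid.End V)ˣ)
    have hlin : ∀ g ∈ Γ, ∀ (e : E) (w : V),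
        (g : AddMonoid.End V) (e • w) = e • (g : AddMonoid.End V) w := by
      intro g hg
      induction hg using Subgroup.closure_induction with
      | mem x hx =>
        rcases hx with rfl | rfl
        · exact fun e w => hEα e e.2 w
        · exact fun e w => hEβ e e.2 w
      | one => intros; rfl
      | mul x y _ _ hx hy =>
        intro e w
        show (x : AddMonoid.End V) ((y : AddMonoid.End V) (e • w)) = _
        rw [hy, hx]; rfl
      | inv x _ hx =>
        intro e w
        have h1 : ∀ u : V, ((x⁻¹ : (AddMonoid.End V)ˣ) : AddMonoid.End V) ((x : AddMonoid.End V) u) = u :=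
          fun u => DFunLike.congr_fun x.inv_mul u
        have h2 : ∀ u : V, (x : AddMonoid.End V) (((x⁻¹ : (AddMonoid.End V)ˣ) : AddMonoid.End V) u) = u :=
          fun u => DFunLike.congr_fun x.mul_inv u
        conv_lhs => rw [← h2 w, ← hx, h1]
    let L : Γ → V →ₗ[E] V := fun g =>
      { toFun := fun w => ((g : (AddMonoid.End V)ˣ) : AddMonoid.End V) w
        map_add' := map_add _
        map_smul' := hlin g g.2 }
    let f : Γ →* Matrix (Fin 2) (Fin 2) E :=
      { toFun := fun g => LinearMap.toMatrix bas bas (L g)
        map_one' := by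
          rw [show L 1 = LinearMap.id from LinearMap.ext fun _ => rfl, LinearMap.toMatrix_id]
        map_mul' := fun x y => by
          rw [← LinearMap.toMatrix_comp bas bas bas, show L (x * y) = (L x).comp (L y) from
            LinearMap.ext fun _ => rfl] }
    have hf : Function.Injective f := by
      intro x y h
      have := (LinearMap.toMatrix bas bas).injective h
      exact Subtype.ext (Units.ext (DFunLike.ext _ _ fun w => LinearMap.congr_fun this w))
    have hnd : ¬ p ∣ Nat.card Γ := by
      intro hd
      obtain ⟨x, hx0, hx⟩ := exists_fixed_line p hp2 hodd f hf hd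
      let w : V := bas.equivFun.symm x
      have hw0 : w ≠ 0 := fun h => hx0 (bas.equivFun.symm.injective (h.trans (map_zero _).symm))
      have hinv : ∀ g : Γ, ∀ y ∈ Submodule.span E {w}, L g y ∈ Submodule.span E {w} := by
        intro g y hy
        obtain ⟨a, rfl⟩ := Submodule.mem_span_singleton.mp hy
        obtain ⟨k, hk⟩ := hx g
        have : L g w = k • w := by
          apply bas.equivFun.injective
          rw [map_smul]
          have h1 := LinearMap.toMatrix_mulVec_repr bas bas (L g) w
          have h2 : (⇑(bas.repr w) : Fin 2 → E) = x := by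
            rw [← Module.Basis.equivFun_apply]; exact bas.equivFun.apply_symm_apply x
          rw [h2] at h1
          rw [Module.Basis.equivFun_apply, Module.Basis.equivFun_apply, ← h1, h2]
          exact hk
        rw [map_smul, this]
        exact Submodule.smul_mem _ _ (Submodule.smul_mem _ _ (Submodule.mem_span_singleton_self w))
      rcases hirr (Submodule.span E {w}).toAddSubgroup
        (fun y hy => hinv ⟨α, Subgroup.subset_closure (by simp)⟩ y hy)
        (fun y hy => hinv ⟨β, Subgroup.subset_closure (by simp)⟩ y hy) with h | h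
      · exact hw0 (show w ∈ (⊥ : AddSubgroup V) from h ▸ Submodule.mem_span_singleton_self w)
      · have hf1 : Module.finrank E (Submodule.span E {w}) = 1 := finrank_span_singleton hw0
        rw [Submodule.toAddSubgroup_injective (h.trans Submodule.top_toAddSubgroup.symm), finrank_top,
          Module.finrank_eq_card_basis bas, Fintype.card_fin] at hf1
        omega
    have hord : ∀ g : (AddMonoid.End V)ˣ, g ∈ Γ →
        ((g : AddMonoid.End V) - 1) * ((g : AddMonoid.End V) - 1) = 0 → g = 1 := by
      intro g hg hg2
      have hgp : g ^ p = 1 := by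
        refine Units.ext ?_
        have hn : ∀ n : ℕ, (g : AddMonoid.End V) ^ n = 1 + n • ((g : AddMonoid.End V) - 1) := by
          intro n
          induction n with
          | zero => simp
          | succ n ih =>
            have e : ((g : AddMonoid.End V) - 1) * (g : AddMonoid.End V) = (g : AddMonoid.End V) - 1 := by
              calc ((g : AddMonoid.End V) - 1) * (g : AddMonoid.End V)
                  = ((g : AddMonoid.End V) - 1) * ((g : AddMonoid.End V) - 1) +
                      ((g : AddMonoid.End V) - 1) := by noncomm_ring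
                _ = _ := by rw [hg2, zero_add]
            rw [pow_succ, ih, add_mul, one_mul, smul_mul_assoc, e, succ_nsmul']
            abel
        rw [Units.val_pow_eq_pow_val, hn, Units.val_one, add_eq_left]
        exact DFunLike.ext _ _ fun w => hpV _
      have h2 : orderOf g ∣ Nat.card Γ := by
        rw [← Subgroup.orderOf_mk g hg]; exact orderOf_dvd_natCard _
      rcases (Nat.dvd_prime hp.out).mp (orderOf_dvd_of_pow_eq_one hgp) with h | h
      · exact orderOf_eq_one_iff.mp h
      · exact absurd (h ▸ h2) hnd
    exact ⟨hord α (Subgroup.subset_closure (by simp)) hα, hord β (Subgroup.subset_closure (by simp)) hβ⟩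

end Cfsg.Agent.Lib.OddLocal
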