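import Cfsg.Agent.Lib.OddLocal.RankTwo
import Cfsg.Agent.Lib.OddLocal.PCentral
import Cfsg.Agent.Lib.OddLocal.FactorAction
import Cfsg.Agent.Lib.Frobenius.UniqueSubgroup

/-! An operator group of prime order not dividing `p (p - 1)` on a `p`-group of rank two. -/

set_option autoImplicit false

open scoped commutatorElement

namespace Cfsg.Agent.Lib.OddLocal

universe u

variable {G : Type u} [Group G] [Finite G] {p : ℕ} [hp : Fact p.Prime]

theorem normalizer_le_normalizer_centralizer_odl {G : Type u} [Group G] (U : Subgroup G) {a : G}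
    (ha : a ∈ Subgroup.normalizer (U : Set G)) :
    a ∈ Subgroup.normalizer (Subgroup.centralizer (U : Set G) : Set G) := by
  have key : ∀ g : G, g ∈ Subgroup.normalizer (U : Set G) → ∀ y ∈ Subgroup.centralizer (U : Set G),
      g * y * g⁻¹ ∈ Subgroup.centralizer (U : Set G) := fun g hg y hy => by
    rw [Subgroup.mem_centralizer_iff]
    intro u hu
    have h1 := Subgroup.mem_centralizer_iff.mp hy (g⁻¹ * u * g) (by
      have := (Subgroup.mem_normalizer_iff.mp (inv_mem hg) u).mp hu
      simpa using this)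
    calc u * (g * y * g⁻¹) = g * (g⁻¹ * u * g * y) * g⁻¹ := by group
      _ = g * (y * (g⁻¹ * u * g)) * g⁻¹ := by rw [h1]
      _ = g * y * g⁻¹ * u := by group
  refine Subgroup.mem_normalizer_iff.mpr fun y => ⟨key a ha y, fun h => ?_⟩
  have := key a⁻¹ (inv_mem ha) _ h
  simpa [mul_assoc] using this

/-- Such a `p`-group `R = [R, A]` is abelian or has order `p ^ 3`. -/
theorem card_eq_cube_of_prime_operators (hp2 : p ≠ 2) {R A : Subgroup G} (hR : IsPGroup p R)
    (hr : Cfsg.PRankLE p 2 R) (hA : A ≤ Subgroup.normalizer (R : Set G))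
    (hq : (Nat.card A).Prime) (hndvd : ¬ Nat.card A ∣ p * (p - 1)) (hRA : ⁅R, A⁆ = R)
    (hnc : ¬ IsMulCommutative R) : Nat.card R = p ^ 3 := by
  have hcq : (Nat.card A).Coprime (p - 1) :=
    hq.coprime_iff_not_dvd.mpr fun h => hndvd (h.mul_left p)
  have hcp : ∀ k, (Nat.card A).Coprime (p ^ k) := fun k =>
    (hq.coprime_iff_not_dvd.mpr fun h => hndvd (h.mul_right _)).pow_right k
  have hF : ∀ K L : Subgroup G, IsPGroup p K → L ≤ K → K ≤ Subgroup.normalizer (L : Set G) →
      A ≤ Subgroup.normalizer (K : Set G) → A ≤ Subgroup.normalizer (L : Set G) →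
      Nat.card K ≤ p * Nat.card L → A ≤ Subgroup.centralizer (L : Set G) →
      A ≤ Subgroup.centralizer (K : Set G) := by
    intro K L hK hLK hKL hAK hAL hidx hAc
    obtain ⟨k, hk⟩ := IsPGroup.iff_card.mp (hK.to_le hLK)
    refine Coprime.le_centralizer_of_stabilizes hAL hKL (hk ▸ hcp k) (fun a ha x hx => ?_) hAc
    have hd : (orderOf a).Coprime (p - 1) :=
      hcq.coprime_dvd_left (Subgroup.orderOf_coe (⟨a, ha⟩ : A) ▸ orderOf_dvd_natCard _)
    obtain ⟨m, hm⟩ := exists_pow_eq_self_of_coprime hd.symm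
    rw [← hm, ← pow_mul, mul_comm, pow_mul]
    exact (stabilizes_factor hK hLK hKL hAK hAL hidx).2 (a ^ m) (pow_mem ha m) x hx
  have hbot : A ≤ Subgroup.centralizer ((⊥ : Subgroup G) : Set G) := fun a _ =>
    Subgroup.mem_centralizer_iff.mpr fun x hx => by rw [Subgroup.mem_bot.mp hx, one_mul, mul_one]
  have hAn : ∀ K : Subgroup G, K ≤ Subgroup.normalizer ((⊥ : Subgroup G) : Set G) := fun K g _ => by
    rw [Subgroup.normalizer_eq_top]; trivial
  have hsmall : ∀ K : Subgroup G, IsPGroup p K → A ≤ Subgroup.normalizer (K : Set G) → Nat.card K ≤ p →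
      A ≤ Subgroup.centralizer (K : Set G) := fun K hK hAK h =>
    hF K ⊥ hK bot_le (hAn K) hAK (hAn A) (by rwa [Subgroup.card_bot, mul_one]) hbot
  have hnotc : ¬ A ≤ Subgroup.centralizer (R : Set G) := fun h => hnc (by
    have h1 : ⁅R, A⁆ = ⊥ := by
      rw [Subgroup.commutator_comm]; exact Subgroup.commutator_eq_bot_iff_le_centralizer.mpr h
    rw [hRA] at h1
    rw [h1]; infer_instance)
  obtain ⟨U, hUR, hNU, h2, hexp, hfaith⟩ := exists_exponent_faithful hp2 hR
  have hUp : IsPGroup p U := hR.to_le hUR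
  have hnotU : ¬ A ≤ Subgroup.centralizer (U : Set G) := fun h =>
    hnotc (hfaith A hA (by simpa using hcp 1) h)
  have hAU : A ≤ Subgroup.normalizer (U : Set G) := hA.trans hNU
  have hRU : R ≤ Subgroup.normalizer (U : Set G) := Subgroup.le_normalizer.trans hNU
  set N := (⁅U, U⁆ : Subgroup G) with hNdef
  have hNU' : N ≤ U := Subgroup.commutator_le_self U
  have hnorm : ∀ g, g ∈ Subgroup.normalizer (U : Set G) → g ∈ Subgroup.normalizer (N : Set G) := fun g hg => by
    refine Subgroup.mem_normalizer_iff_map_conj_eq.mpr ?_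
    rw [hNdef, Subgroup.map_commutator, Subgroup.mem_normalizer_iff_map_conj_eq.mp hg]
  have hUN : U ≤ Subgroup.normalizer (N : Set G) := fun g hg => hnorm g (Subgroup.le_normalizer hg)
  have hrU : Cfsg.PRankLE p 2 U := by
    intro B hB hBp
    have h := hr (B.map (Subgroup.inclusion hUR)) inferInstance (by
      rintro _ ⟨x, hx, rfl⟩
      rw [← map_pow, hBp x hx, map_one])
    rwa [Subgroup.card_map_of_injective (Subgroup.inclusion_injective hUR)] at h
  have hab : Nat.card (Abelianization U) ≤ p ^ 2 := card_abelianization_le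
    (fun x y z => Subtype.ext (h2 x x.2 y y.2 z z.2)) (fun x => Subtype.ext (hexp x x.2)) hrU
  have hUcard : Nat.card (Abelianization U) * Nat.card N = Nat.card U := by
    rw [hNdef, ← Subgroup.map_subtype_commutator U, Subgroup.card_map_of_injective U.subtype_injective]
    exact (Subgroup.card_eq_card_quotient_mul_card_subgroup _).symm
  have hmid : A ≤ Subgroup.centralizer (N : Set G) → ∀ K : Subgroup G, N ≤ K → K ≤ U →
      U ≤ Subgroup.normalizer (K : Set G) → A ≤ Subgroup.normalizer (K : Set G) →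
      N < K → K < U → False := by
    intro hAN K hNK hKU hUK hAK h1 h2'
    obtain ⟨a, ha⟩ := IsPGroup.iff_card.mp (hUp.to_le hNU')
    obtain ⟨b, hb⟩ := IsPGroup.iff_card.mp (hUp.to_le hKU)
    obtain ⟨c, hc⟩ := IsPGroup.iff_card.mp hUp
    have hab' : a < b := (Nat.pow_lt_pow_iff_right hp.out.one_lt).mp (ha ▸ hb ▸
      lt_of_le_of_ne (Subgroup.card_le_of_le hNK) fun e => h1.ne (Subgroup.eq_of_le_of_card_ge hNK e.ge))
    have hbc : b < c := (Nat.pow_lt_pow_iff_right hp.out.one_lt).mp (hc ▸ hb ▸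
      lt_of_le_of_ne (Subgroup.card_le_of_le hKU) fun e => h2'.ne (Subgroup.eq_of_le_of_card_ge hKU e.ge))
    have hca : c ≤ a + 2 := by
      rw [ha, hc] at hUcard
      refine (Nat.pow_le_pow_iff_right hp.out.one_lt).mp ?_
      rw [← hUcard, pow_add, mul_comm (p ^ a)]
      exact Nat.mul_le_mul_right _ hab
    refine hnotU (hF U K hUp hKU hUK hAU hAK ?_ (hF K N (hUp.to_le hKU) hNK
      (hKU.trans hUN) hAK (fun g hg => hnorm g (hAU hg)) ?_ hAN))
    · rw [hc, hb, ← pow_succ']; exact Nat.pow_le_pow_right hp.out.pos (by omega)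
    · rw [hb, ha, ← pow_succ']; exact Nat.pow_le_pow_right hp.out.pos (by omega)
  by_cases hN : N = ⊥
  · -- `U` abelian
    exfalso
    have hUc : ∀ a ∈ U, ∀ b ∈ U, a * b = b * a := fun a ha b hb =>
      commutatorElement_eq_one_iff_mul_comm.mp (Subgroup.mem_bot.mp (hN ▸
        (Subgroup.commutator_mem_commutator ha hb : ⁅a, b⁆ ∈ N)))
    have hU2 : Nat.card U = p ^ 2 := by
      have hle : Nat.card U ≤ p ^ 2 := by
        rw [← hUcard, hN, Subgroup.card_bot, mul_one]; exact hab
      refine le_antisymm hle ?_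
      obtain ⟨k, hk⟩ := IsPGroup.iff_card.mp hUp
      rw [hk]
      refine Nat.pow_le_pow_right hp.out.pos ?_
      by_contra h
      exact hnotU (hsmall U hUp hAU (by
        rw [hk]; exact (Nat.pow_le_pow_right hp.out.pos (show k ≤ 1 by omega)).trans (by rw [pow_one])))
    have hUR' : ∀ r ∈ R, ∀ u ∈ U, r * u = u * r := by
      by_contra! hne
      obtain ⟨r, hr', u, hu, hru⟩ := hne
      set K := ⁅U, R⁆ with hK
      have hlt : K < U := Coprime.commutator_lt_of_isPGroup hUp hR hRU (fun h =>
        hnotU (h ▸ hbot))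
      refine hmid (hN ▸ hbot) K (hN ▸ bot_le) hlt.le (Subgroup.normalizer_commutator_ge_left U R)
        (fun a ha => ?_) (lt_of_le_of_ne (hN ▸ bot_le) fun h => hru ?_) hlt
      · refine Subgroup.mem_normalizer_iff_map_conj_eq.mpr ?_
        rw [hK, Subgroup.map_commutator, Subgroup.mem_normalizer_iff_map_conj_eq.mp (hAU ha),
          Subgroup.mem_normalizer_iff_map_conj_eq.mp (hA ha)]
      · have hm : ⁅u, r⁆ ∈ N := h ▸ Subgroup.commutator_mem_commutator hu hr'
        rw [hN, Subgroup.mem_bot] at hm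
        exact (commutatorElement_eq_one_iff_mul_comm.mp hm).symm
    have hom : ∀ x ∈ R, x ^ p = 1 → x ∈ U := by
      intro x hx hxp
      let Uset : Subgroup R := U.subgroupOf R
      have hUe : Cfsg.IsElementaryAbelian p Uset :=
        ⟨⟨⟨fun a b => Subtype.ext (Subtype.ext (hUc a.1.1 a.2 b.1.1 b.2))⟩⟩,
          fun a ha => Subtype.ext (hexp a.1 ha)⟩
      have hBe : Cfsg.IsElementaryAbelian p (Uset ⊔ Subgroup.zpowers (⟨x, hx⟩ : R)) := by
        have hcomm : IsMulCommutative (Subgroup.closure ((Uset : Set R) ∪ {⟨x, hx⟩})) :=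
          Subgroup.isMulCommutative_closure (by
            rintro a (ha | rfl) b (hb | rfl)
            · exact congrArg Subtype.val (hUe.1.is_comm.comm ⟨a, ha⟩ ⟨b, hb⟩)
            · exact Subtype.ext (hUR' x hx a ha).symm
            · exact Subtype.ext (hUR' x hx b hb)
            · rfl)
        have hBeq : Uset ⊔ Subgroup.zpowers (⟨x, hx⟩ : R) =
            Subgroup.closure ((Uset : Set R) ∪ {⟨x, hx⟩}) := by
          rw [Subgroup.closure_union, Subgroup.closure_eq, ← Subgroup.zpowers_eq_closure]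
        rw [hBeq]
        refine ⟨hcomm, fun b hb => ?_⟩
        induction hb using Subgroup.closure_induction with
        | mem a ha => rcases ha with ha | rfl
                      · exact hUe.2 a ha
                      · exact Subtype.ext hxp
        | one => exact one_pow _
        | mul a b ha hb iha ihb =>
          rw [(show Commute a b from congrArg Subtype.val (hcomm.is_comm.comm ⟨a, ha⟩ ⟨b, hb⟩)).mul_pow,
            iha, ihb, one_mul]
        | inv a _ iha => rw [inv_pow, iha, inv_one]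
      have h1 := hr _ hBe.1 hBe.2
      have h2 : Uset = Uset ⊔ Subgroup.zpowers (⟨x, hx⟩ : R) := Subgroup.eq_of_le_of_card_ge le_sup_left
        (by rw [Nat.card_congr (Subgroup.subgroupOfEquivOfLe hUR).toEquiv, hU2]; exact h1)
      exact (h2.ge (Subgroup.mem_sup_right (Subgroup.mem_zpowers _)) :)
    refine hnc ⟨⟨fun x y => commute_of_pCentral_noLine hp2 _ le_rfl hR (fun x hxp => ?_) ?_
      (X := A) (fun a =>
        { toFun := fun x => ⟨(a : G) * x * (a : G)⁻¹, conj_mem_of_le_normalizer hA a.2 x.2⟩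
          invFun := fun x => ⟨(a : G)⁻¹ * x * a, by
            simpa using conj_mem_of_le_normalizer hA (A.inv_mem a.2) x.2⟩
          left_inv := fun x => Subtype.ext (by simp [mul_assoc])
          right_inv := fun x => Subtype.ext (by simp [mul_assoc])
          map_mul' := fun x y => Subtype.ext (by simp [mul_assoc]) }) ?_ x y⟩⟩
    · exact Subgroup.mem_center_iff.mpr fun g =>
        Subtype.ext (hUR' g g.2 x (hom x x.2 (congrArg Subtype.val hxp)))
    · rw [← hU2]
      exact Nat.card_le_card_of_injective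
        (fun x : {x : R // x ^ p = 1} => (⟨(x.1 : G), hom _ x.1.2 (congrArg Subtype.val x.2)⟩ : U))
        fun x y h => Subtype.ext (Subtype.ext (congrArg Subtype.val h :))
    · intro L hL hinv
      set L₀ := L.map R.subtype with hL₀
      have hL₀c : Nat.card L₀ = p := by rw [hL₀, Subgroup.card_map_of_injective R.subtype_injective, hL]
      have hL₀U : L₀ ≤ U := by
        rintro _ ⟨x, hx, rfl⟩
        have h := pow_card_eq_one' (x := (⟨x, hx⟩ : L))
        rw [hL] at h
        exact hom x x.2 (congrArg Subtype.val (congrArg Subtype.val h))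
      have hAL : A ≤ Subgroup.normalizer (L₀ : Set G) := by
        intro a ha
        refine Subgroup.mem_normalizer_iff_map_conj_eq.mpr (Subgroup.eq_of_le_of_card_ge ?_ ?_)
        · rintro _ ⟨_, ⟨x, hx, rfl⟩, rfl⟩
          exact ⟨_, hinv ⟨a, ha⟩ x hx, rfl⟩
        · exact (Subgroup.card_map_of_injective (MulAut.conj a).injective).ge
      refine hmid (hN ▸ hbot) L₀ (hN ▸ bot_le) hL₀U ?_ hAL ?_ ?_
      · intro u hu
        refine Subgroup.centralizer_le_normalizer _ (Subgroup.mem_centralizer_iff.mpr fun l hl => ?_)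
        exact hUc l (hL₀U hl) u hu
      · rw [hN]
        refine bot_lt_iff_ne_bot.mpr fun h => ?_
        rw [h, Subgroup.card_bot] at hL₀c
        exact hp.out.ne_one hL₀c.symm
      · refine lt_of_le_of_ne hL₀U fun h => ?_
        rw [h, hU2] at hL₀c
        exact absurd hL₀c (by nlinarith [hp.out.two_le])
  · -- `U` nonabelian
    have hNc : ∀ n ∈ N, ∀ z ∈ U, n * z = z * n := fun n hn z hz => by
      have : N ≤ Subgroup.centralizer ({z} : Set G) := Subgroup.commutator_le.mpr fun u hu v hv =>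
        Subgroup.mem_centralizer_singleton_iff.mpr (h2 u hu v hv z hz).eq
      exact Subgroup.mem_centralizer_singleton_iff.mp (this hn)
    have hncU : ¬ U ≤ Subgroup.centralizer (U : Set G) := fun h =>
      hN (Subgroup.commutator_eq_bot_iff_le_centralizer.mpr h)
    obtain ⟨u₁, hu₁, hu₁c⟩ := SetLike.not_le_iff_exists.mp hncU
    have hNp : Nat.card N ≤ p := by
      let B : Subgroup R := N.subgroupOf R ⊔ Subgroup.zpowers (⟨u₁, hUR hu₁⟩ : R)
      have hBeq : B = Subgroup.closure ((N.subgroupOf R : Set R) ∪ {⟨u₁, hUR hu₁⟩}) := by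
        rw [Subgroup.closure_union, Subgroup.closure_eq, ← Subgroup.zpowers_eq_closure]
      have hBU : ∀ b ∈ B, (b : G) ∈ U := by
        intro b hb
        have : B ≤ U.subgroupOf R := sup_le (fun x hx => hNU' hx) (Subgroup.zpowers_le.mpr hu₁)
        exact this hb
      have hBc : IsMulCommutative B := by
        rw [hBeq]
        refine Subgroup.isMulCommutative_closure ?_
        rintro a (ha | rfl) b (hb | rfl)
        · exact Subtype.ext (hNc a ha b (hNU' hb))
        · exact Subtype.ext (hNc a ha _ hu₁)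
        · exact Subtype.ext (hNc b hb _ hu₁).symm
        · rfl
      have h1 := hr B hBc fun b hb => Subtype.ext (hexp b (hBU b hb))
      have hlt : N.subgroupOf R < B := lt_of_le_of_ne le_sup_left fun h => hu₁c
        (Subgroup.mem_centralizer_iff.mpr fun z hz =>
          (hNc u₁ ((h.symm ▸ Subgroup.mem_sup_right (Subgroup.mem_zpowers _) :
            (⟨u₁, hUR hu₁⟩ : R) ∈ N.subgroupOf R)) z hz).symm)
      have h2 : Nat.card (N.subgroupOf R) < Nat.card B := lt_of_le_of_ne (Subgroup.card_le_of_le hlt.le)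
        fun e => hlt.ne (Subgroup.eq_of_le_of_card_ge hlt.le e.ge)
      rw [Nat.card_congr (Subgroup.subgroupOfEquivOfLe (hNU'.trans hUR)).toEquiv] at h2
      obtain ⟨k, hk⟩ := IsPGroup.iff_card.mp (hUp.to_le hNU')
      rw [hk] at h2 ⊢
      have : k < 2 := (Nat.pow_lt_pow_iff_right hp.out.one_lt).mp (lt_of_lt_of_le h2 h1)
      exact (Nat.pow_le_pow_right hp.out.pos (show k ≤ 1 by omega)).trans (by rw [pow_one])
    have hAN' : A ≤ Subgroup.normalizer (N : Set G) := fun g hg => hnorm g (hAU hg)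
    have hAN : A ≤ Subgroup.centralizer (N : Set G) := hsmall N (hUp.to_le hNU') hAN' hNp
    have hNR : R ≤ Subgroup.normalizer (N : Set G) := fun g hg => hnorm g (hRU hg)
    -- `R` acts trivially on `U / N`
    set K := ⁅U, R⁆ with hK
    have hKlt : K < U := Coprime.commutator_lt_of_isPGroup hUp hR hRU (fun h => hnotU (h ▸ hbot))
    have hNK : N ≤ K := Subgroup.commutator_mono le_rfl hUR
    have hKN : K = N := by
      by_contra h
      refine hmid hAN K hNK hKlt.le (Subgroup.normalizer_commutator_ge_left U R) (fun a ha => ?_)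
        (lt_of_le_of_ne hNK (Ne.symm h)) hKlt
      refine Subgroup.mem_normalizer_iff_map_conj_eq.mpr ?_
      rw [hK, Subgroup.map_commutator, Subgroup.mem_normalizer_iff_map_conj_eq.mp (hAU ha),
        Subgroup.mem_normalizer_iff_map_conj_eq.mp (hA ha)]
    set D := R ⊓ Subgroup.centralizer (U : Set G) with hD
    have hAD : A ≤ Subgroup.normalizer (D : Set G) := by
      intro a ha
      refine Subgroup.mem_normalizer_iff.mpr fun y => ?_
      show y ∈ R ∧ y ∈ Subgroup.centralizer (U : Set G) ↔ a * y * a⁻¹ ∈ R ∧ a * y * a⁻¹ ∈ Subgroup.centralizer (U : Set G)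
      rw [← Subgroup.mem_normalizer_iff.mp (hA ha) y,
        ← Subgroup.mem_normalizer_iff.mp (normalizer_le_normalizer_centralizer_odl _ (hAU ha)) y]
    have hZN : ∀ z ∈ U, z ∈ Subgroup.centralizer (U : Set G) → z ∈ N := by
      intro z hz hzc
      have hZN' : U ⊓ Subgroup.centralizer (U : Set G) = N := by
        by_contra h
        have hle : N ≤ U ⊓ Subgroup.centralizer (U : Set G) := fun n hn =>
          ⟨hNU' hn, Subgroup.mem_centralizer_iff.mpr fun y hy => (hNc n hn y hy).symm⟩
        refine hmid hAN _ hle inf_le_left ?_ ?_ (lt_of_le_of_ne hle (Ne.symm h))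
          (lt_of_le_of_ne inf_le_left fun e => hncU (inf_eq_left.mp e))
        · intro u hu
          refine Subgroup.centralizer_le_normalizer _ (Subgroup.mem_centralizer_iff.mpr fun l hl => ?_)
          exact (Subgroup.mem_centralizer_iff.mp hl.2 u hu).symm
        · intro a ha
          refine Subgroup.mem_normalizer_iff.mpr fun y => ?_
          show y ∈ U ∧ y ∈ Subgroup.centralizer (U : Set G) ↔ a * y * a⁻¹ ∈ U ∧ a * y * a⁻¹ ∈ Subgroup.centralizer (U : Set G)
          rw [← Subgroup.mem_normalizer_iff.mp (hAU ha) y,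
            ← Subgroup.mem_normalizer_iff.mp (normalizer_le_normalizer_centralizer_odl _ (hAU ha)) y]
      exact hZN' ▸ ⟨hz, hzc⟩
    have hidxU : Nat.card U ≤ p ^ 2 * Nat.card N := hUcard ▸ Nat.mul_le_mul_right _ hab
    obtain ⟨u₂, hu₂, hu₁₂⟩ : ∃ u₂ ∈ U, u₁ * u₂ ≠ u₂ * u₁ := by
      by_contra! h
      exact hu₁c (Subgroup.mem_centralizer_iff.mpr fun y hy => (h y hy).symm)
    have hgen : U ≤ N ⊔ Subgroup.zpowers u₁ ⊔ Subgroup.zpowers u₂ := by
      have hM1 : N < N ⊔ Subgroup.zpowers u₁ := lt_of_le_of_ne le_sup_left fun h => hu₁c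
        (Subgroup.mem_centralizer_iff.mpr fun y hy =>
          (hNc u₁ (h ▸ Subgroup.mem_sup_right (Subgroup.mem_zpowers u₁)) y hy).symm)
      have hM2 : N ⊔ Subgroup.zpowers u₁ < N ⊔ Subgroup.zpowers u₁ ⊔ Subgroup.zpowers u₂ :=
        lt_of_le_of_ne le_sup_left fun h => hu₁₂ (by
          have hle : N ⊔ Subgroup.zpowers u₁ ≤ Subgroup.centralizer ({u₁} : Set G) := sup_le
            (fun n hn => Subgroup.mem_centralizer_singleton_iff.mpr (hNc n hn u₁ hu₁))
            (Subgroup.zpowers_le.mpr (Subgroup.mem_centralizer_singleton_iff.mpr rfl))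
          exact (Subgroup.mem_centralizer_singleton_iff.mp
            (hle (h ▸ Subgroup.mem_sup_right (Subgroup.mem_zpowers u₂)))).symm)
      have hle : N ⊔ Subgroup.zpowers u₁ ⊔ Subgroup.zpowers u₂ ≤ U :=
        sup_le (sup_le hNU' (Subgroup.zpowers_le.mpr hu₁)) (Subgroup.zpowers_le.mpr hu₂)
      refine (Subgroup.eq_of_le_of_card_ge hle ?_).ge
      obtain ⟨a, ha⟩ := IsPGroup.iff_card.mp (hUp.to_le hNU')
      obtain ⟨b, hb⟩ := IsPGroup.iff_card.mp (hUp.to_le (le_sup_left.trans hle))
      obtain ⟨c, hc⟩ := IsPGroup.iff_card.mp (hUp.to_le hle)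
      have h1 : a < b := (Nat.pow_lt_pow_iff_right hp.out.one_lt).mp (ha ▸ hb ▸ lt_of_le_of_ne
        (Subgroup.card_le_of_le hM1.le) fun e => hM1.ne (Subgroup.eq_of_le_of_card_ge hM1.le e.ge))
      have h2 : b < c := (Nat.pow_lt_pow_iff_right hp.out.one_lt).mp (hb ▸ hc ▸ lt_of_le_of_ne
        (Subgroup.card_le_of_le hM2.le) fun e => hM2.ne (Subgroup.eq_of_le_of_card_ge hM2.le e.ge))
      rw [hc]
      refine hidxU.trans ?_
      rw [ha, ← pow_add]
      exact Nat.pow_le_pow_right hp.out.pos (by omega)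
    have hcm : ∀ u ∈ U, ∀ r ∈ R, ⁅r, u⁆ ∈ N := fun u hu r hr' => by
      rw [← hKN, hK, Subgroup.commutator_comm]
      exact Subgroup.commutator_mem_commutator hr' hu
    have hNRc : ∀ r ∈ R, ∀ n ∈ N, r * n = n * r := by
      intro r hr' n hn
      by_contra hne
      by_cases h : ⁅N, R⁆ = ⊥
      · exact hne ((Subgroup.commutator_eq_bot_iff_le_centralizer.mp
          ((Subgroup.commutator_comm R N).trans h) hr') n hn).symm
      have hlt := Coprime.commutator_lt_of_isPGroup (hUp.to_le hNU') hR hNR hN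
      obtain ⟨k, hk⟩ := IsPGroup.iff_card.mp ((hUp.to_le hNU').to_le hlt.le)
      have h1 : Nat.card (⁅N, R⁆ : Subgroup G) < p := lt_of_lt_of_le (lt_of_le_of_ne
        (Subgroup.card_le_of_le hlt.le) fun e => hlt.ne (Subgroup.eq_of_le_of_card_ge hlt.le e.ge)) hNp
      rw [hk] at h1
      rcases k with _ | k
      · exact h (Subgroup.card_eq_one.mp (by rw [hk, pow_zero]))
      · exact absurd h1 (not_lt.mpr (Nat.le_self_pow k.succ_ne_zero p))
    let φ : ∀ u ∈ U, R →* N := fun u hu =>
      { toFun := fun r => ⟨⁅(r : G), u⁆, hcm u hu r r.2⟩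
        map_one' := Subtype.ext (by simp)
        map_mul' := fun r s => Subtype.ext (by
          show ⁅(r : G) * s, u⁆ = ⁅(r : G), u⁆ * ⁅(s : G), u⁆
          have e : ⁅(r : G) * s, u⁆ = r * ⁅(s : G), u⁆ * (r : G)⁻¹ * ⁅(r : G), u⁆ := by
            simp only [commutatorElement_def]; group
          rw [e, hNRc r r.2 _ (hcm u hu s s.2), mul_inv_cancel_right]
          exact hNc _ (hcm u hu s s.2) _ (hNU' (hcm u hu r r.2))) }
    set Φ := (φ u₁ hu₁).prod (φ u₂ hu₂) with hΦ
    have hkerD : ∀ r : R, r ∈ Φ.ker → (r : G) ∈ D := by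
      intro r hr'
      refine ⟨r.2, Subgroup.mem_centralizer_iff.mpr fun y hy => ?_⟩
      have h1 := congrArg Subtype.val (congrArg Prod.fst (MonoidHom.mem_ker.mp hr'))
      have h2 := congrArg Subtype.val (congrArg Prod.snd (MonoidHom.mem_ker.mp hr'))
      have hle : N ⊔ Subgroup.zpowers u₁ ⊔ Subgroup.zpowers u₂ ≤ Subgroup.centralizer ({(r : G)} : Set G) := by
        refine sup_le (sup_le (fun n hn => Subgroup.mem_centralizer_singleton_iff.mpr (hNRc r r.2 n hn).symm)
          (Subgroup.zpowers_le.mpr ?_)) (Subgroup.zpowers_le.mpr ?_)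
        · exact Subgroup.mem_centralizer_singleton_iff.mpr (commutatorElement_eq_one_iff_mul_comm.mp h1).symm
        · exact Subgroup.mem_centralizer_singleton_iff.mpr (commutatorElement_eq_one_iff_mul_comm.mp h2).symm
      exact Subgroup.mem_centralizer_singleton_iff.mp (hle (hgen hy))
    have hDker : ∀ r : R, (r : G) ∈ D → r ∈ Φ.ker := by
      intro r hr'
      refine MonoidHom.mem_ker.mpr (Prod.ext (Subtype.ext ?_) (Subtype.ext ?_))
      · exact commutatorElement_eq_one_iff_mul_comm.mpr (Subgroup.mem_centralizer_iff.mp hr'.2 u₁ hu₁).symm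
      · exact commutatorElement_eq_one_iff_mul_comm.mpr (Subgroup.mem_centralizer_iff.mp hr'.2 u₂ hu₂).symm
    have hinj : ∀ x ∈ U.subgroupOf R, Φ x = 1 → (x : G) ∈ N := fun x hx h =>
      hZN x hx (hkerD x (MonoidHom.mem_ker.mpr h)).2
    have hsup : U.subgroupOf R ⊔ Φ.ker = ⊤ := by
      have himg : Nat.card ((U.subgroupOf R).map Φ) = Nat.card Φ.range := by
        refine le_antisymm (Subgroup.card_le_of_le (Subgroup.map_le_range _ _)) ?_
        have h1 : Nat.card Φ.range ≤ p ^ 2 := by
          refine (Subgroup.card_le_card_group _).trans ?_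
          rw [Nat.card_prod, pow_two]
          exact Nat.mul_le_mul hNp hNp
        have hck := Cores.card_map_mul_card_inf_ker Φ (U.subgroupOf R)
        have h2 : Nat.card (U.subgroupOf R ⊓ Φ.ker : Subgroup R) ≤ Nat.card N :=
          Nat.card_le_card_of_injective
            (fun x => (⟨((x.1 : R) : G), hinj x.1 x.2.1 (MonoidHom.mem_ker.mp x.2.2)⟩ : N))
            fun x y h => Subtype.ext (Subtype.ext (congrArg Subtype.val h :))
        rw [Nat.card_congr (Subgroup.subgroupOfEquivOfLe hUR).toEquiv] at hck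
        obtain ⟨a, ha⟩ := IsPGroup.iff_card.mp (hUp.to_le hNU')
        obtain ⟨c, hc⟩ := IsPGroup.iff_card.mp hUp
        have h3 : a + 2 ≤ c := by
          by_contra hlt
          have hcard : Nat.card U ≤ p * Nat.card N := by
            rw [ha, hc, ← pow_succ']; exact Nat.pow_le_pow_right hp.out.pos (by omega)
          exact hnotU (hF U N hUp hNU' hUN hAU hAN' hcard hAN)
        have h4 : p ^ 2 * Nat.card N ≤ Nat.card U := by
          rw [ha, hc, ← pow_add]; exact Nat.pow_le_pow_right hp.out.pos (by omega)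
        refine h1.trans (Nat.le_of_mul_le_mul_right ?_ (Nat.card_pos (α := N)))
        exact h4.trans (hck.symm.le.trans (Nat.mul_le_mul_left _ h2))
      refine top_le_iff.mp fun r _ => ?_
      have h := (Subgroup.eq_of_le_of_card_ge (Subgroup.map_le_range Φ _) himg.ge).ge ⟨r, rfl⟩
      obtain ⟨x, hx, hxr⟩ := h
      have e : r = x * (x⁻¹ * r) := (mul_inv_cancel_left x r).symm
      rw [e]
      exact mul_mem (Subgroup.mem_sup_left hx)
        (Subgroup.mem_sup_right (MonoidHom.mem_ker.mpr (by rw [map_mul, map_inv, hxr, inv_mul_cancel])))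
    have hDR : D ≤ R := inf_le_left
    have hDp : IsPGroup p D := hR.to_le hDR
    have hrootD : ∀ d ∈ D, d ^ p = 1 → d ∈ N := by
      intro d hd hdp
      by_cases hdU : d ∈ U
      · exact hZN d hdU hd.2
      exfalso
      let B : Subgroup R := N.subgroupOf R ⊔ Subgroup.zpowers (⟨u₁, hUR hu₁⟩ : R)
      let B' : Subgroup R := B ⊔ Subgroup.zpowers (⟨d, hd.1⟩ : R)
      have hBU : B ≤ U.subgroupOf R := sup_le (fun x hx => hNU' hx) (Subgroup.zpowers_le.mpr hu₁)
      have hB'eq : B' = Subgroup.closure (((N.subgroupOf R : Set R) ∪ {⟨u₁, hUR hu₁⟩}) ∪ {⟨d, hd.1⟩}) := by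
        rw [Subgroup.closure_union, Subgroup.closure_union, Subgroup.closure_eq,
          ← Subgroup.zpowers_eq_closure, ← Subgroup.zpowers_eq_closure]
      have hdc : ∀ x ∈ U, x * d = d * x := fun x hx => Subgroup.mem_centralizer_iff.mp hd.2 x hx
      have hcomm : IsMulCommutative (Subgroup.closure
          (((N.subgroupOf R : Set R) ∪ {⟨u₁, hUR hu₁⟩}) ∪ {⟨d, hd.1⟩})) := by
        refine Subgroup.isMulCommutative_closure ?_
        rintro a ((ha | rfl) | rfl) b ((hb | rfl) | rfl)
        · exact Subtype.ext (hNc a ha b (hNU' hb))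
        · exact Subtype.ext (hNc a ha _ hu₁)
        · exact Subtype.ext (hdc a (hNU' ha))
        · exact Subtype.ext (hNc b hb _ hu₁).symm
        · rfl
        · exact Subtype.ext (hdc u₁ hu₁)
        · exact Subtype.ext (hdc b (hNU' hb)).symm
        · exact Subtype.ext (hdc u₁ hu₁).symm
        · rfl
      have hexpB : ∀ b ∈ B', b ^ p = 1 := by
        rw [hB'eq]
        intro b hb
        induction hb using Subgroup.closure_induction with
        | mem a ha => rcases ha with (ha | rfl) | rfl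
                      · exact Subtype.ext (hexp _ (hNU' ha))
                      · exact Subtype.ext (hexp _ hu₁)
                      · exact Subtype.ext hdp
        | one => exact one_pow _
        | mul a b ha hb iha ihb =>
          rw [(show Commute a b from congrArg Subtype.val (hcomm.is_comm.comm ⟨a, ha⟩ ⟨b, hb⟩)).mul_pow,
            iha, ihb, one_mul]
        | inv a _ iha => rw [inv_pow, iha, inv_one]
      have h1 := hr B' (hB'eq ▸ hcomm) hexpB
      have hlt1 : N.subgroupOf R < B := lt_of_le_of_ne le_sup_left fun h => hu₁c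
        (Subgroup.mem_centralizer_iff.mpr fun z hz =>
          (hNc u₁ ((h.symm ▸ Subgroup.mem_sup_right (Subgroup.mem_zpowers _) :
            (⟨u₁, hUR hu₁⟩ : R) ∈ N.subgroupOf R)) z hz).symm)
      have hlt2 : B < B' := lt_of_le_of_ne le_sup_left fun h =>
        hdU (hBU (h.symm ▸ Subgroup.mem_sup_right (Subgroup.mem_zpowers _) : (⟨d, hd.1⟩ : R) ∈ B))
      obtain ⟨a, ha⟩ := IsPGroup.iff_card.mp (hR.to_subgroup (N.subgroupOf R))
      obtain ⟨b, hb⟩ := IsPGroup.iff_card.mp (hR.to_subgroup B)
      obtain ⟨c, hc⟩ := IsPGroup.iff_card.mp (hR.to_subgroup B')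
      have e1 : a < b := (Nat.pow_lt_pow_iff_right hp.out.one_lt).mp (ha ▸ hb ▸ lt_of_le_of_ne
        (Subgroup.card_le_of_le hlt1.le) fun e => hlt1.ne (Subgroup.eq_of_le_of_card_ge hlt1.le e.ge))
      have e2 : b < c := (Nat.pow_lt_pow_iff_right hp.out.one_lt).mp (hb ▸ hc ▸ lt_of_le_of_ne
        (Subgroup.card_le_of_le hlt2.le) fun e => hlt2.ne (Subgroup.eq_of_le_of_card_ge hlt2.le e.ge))
      have e3 : a ≠ 0 := fun h0 => hN (by
        rw [Nat.card_congr (Subgroup.subgroupOfEquivOfLe (hNU'.trans hUR)).toEquiv, h0, pow_zero] at ha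
        exact Subgroup.card_eq_one.mp ha)
      rw [hc] at h1
      have := (Nat.pow_le_pow_iff_right hp.out.one_lt).mp h1
      omega
    have hDc : IsCyclic D := by
      refine Frobenius.isCyclic_of_unique_odd hp2 hDp fun a b ha hb => ?_
      have haN : (a : G) ∈ N := hrootD a a.2 (by rw [← ha, ← Subgroup.orderOf_coe a]; exact pow_orderOf_eq_one _)
      have hbN : (b : G) ∈ N := hrootD b b.2 (by rw [← hb, ← Subgroup.orderOf_coe b]; exact pow_orderOf_eq_one _)
      have hz : Subgroup.zpowers (b : G) = N := Subgroup.eq_of_le_of_card_ge (Subgroup.zpowers_le.mpr hbN)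
        (by rw [Nat.card_zpowers, Subgroup.orderOf_coe, hb]; exact hNp)
      obtain ⟨k, hk⟩ := Subgroup.mem_zpowers_iff.mp (hz.ge haN)
      exact Subgroup.mem_zpowers_iff.mpr ⟨k, Subtype.ext (by simpa using hk)⟩
    have hADc : ∀ n, ∀ K : Subgroup G, Nat.card K ≤ n → K ≤ D → A ≤ Subgroup.normalizer (K : Set G) →
        A ≤ Subgroup.centralizer (K : Set G) := by
      intro n
      induction n with
      | zero => intro K h; exact absurd h (not_le.mpr Nat.card_pos)
      | succ n ih =>
        intro K hn hKD hAK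
        have hKp : IsPGroup p K := hDp.to_le hKD
        obtain ⟨k, hk⟩ := IsPGroup.iff_card.mp hKp
        rcases k with _ | k
        · exact hsmall K hKp hAK (by rw [hk, pow_zero]; exact hp.out.one_lt.le)
        haveI : IsCyclic K := by
          haveI := hDc
          exact isCyclic_of_injective (Subgroup.inclusion hKD) (Subgroup.inclusion_injective hKD)
        have hKc : ∀ a ∈ K, ∀ b ∈ K, a * b = b * a := fun a ha b hb =>
          congrArg Subtype.val (IsCyclic.isMulCommutative.is_comm.comm (⟨a, ha⟩ : K) ⟨b, hb⟩)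
        let L : Subgroup G :=
          { carrier := {x | x ∈ K ∧ x ^ (p ^ k) = 1}
            one_mem' := ⟨one_mem _, one_pow _⟩
            mul_mem' := fun {a b} ha hb => ⟨mul_mem ha.1 hb.1, by
              rw [(show Commute a b from hKc a ha.1 b hb.1).mul_pow, ha.2, hb.2, one_mul]⟩
            inv_mem' := fun {a} ha => ⟨inv_mem ha.1, by rw [inv_pow, ha.2, inv_one]⟩ }
        have hLK : L ≤ K := fun x hx => hx.1
        have hAL : A ≤ Subgroup.normalizer (L : Set G) := by
          intro a ha
          refine Subgroup.mem_normalizer_iff.mpr fun y => ?_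
          show y ∈ K ∧ y ^ p ^ k = 1 ↔ a * y * a⁻¹ ∈ K ∧ (a * y * a⁻¹) ^ p ^ k = 1
          rw [← Subgroup.mem_normalizer_iff.mp (hAK ha) y, conj_pow]
          simp
        obtain ⟨g, hg⟩ := IsCyclic.exists_ofOrder_eq_natCard (α := K)
        have hgp : (g : G) ^ p ∈ L := ⟨pow_mem g.2 _, by
          rw [← pow_mul, ← pow_succ', ← hk, ← hg, ← Subgroup.orderOf_coe, pow_orderOf_eq_one]⟩
        have hLlt : Nat.card L < Nat.card K := lt_of_le_of_ne (Subgroup.card_le_of_le hLK) fun e => by
          have hgL : (g : G) ∈ L := (Subgroup.eq_of_le_of_card_ge hLK e.ge).ge g.2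
          have h1 := Nat.le_of_dvd (pow_pos hp.out.pos _) (orderOf_dvd_of_pow_eq_one hgL.2)
          rw [Subgroup.orderOf_coe, hg, hk] at h1
          exact absurd h1 (not_le.mpr (Nat.pow_lt_pow_right hp.out.one_lt (Nat.lt_succ_self k)))
        have hidx : Nat.card K ≤ p * Nat.card L := by
          have h1 : Nat.card (Subgroup.zpowers ((g : G) ^ p)) ≤ Nat.card L :=
            Subgroup.card_le_of_le (Subgroup.zpowers_le.mpr hgp)
          rw [Nat.card_zpowers, orderOf_pow_of_dvd hp.out.ne_zero (by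
            rw [Subgroup.orderOf_coe, hg, hk]; exact dvd_pow_self p k.succ_ne_zero),
            Subgroup.orderOf_coe, hg, hk, pow_succ', Nat.mul_div_cancel_left _ hp.out.pos] at h1
          rw [hk, pow_succ']
          exact Nat.mul_le_mul_left p h1
        exact hF K L hKp hLK (fun x hx => Subgroup.centralizer_le_normalizer _
          (Subgroup.mem_centralizer_iff.mpr fun l hl => hKc l (hLK hl) x hx)) hAK hAL hidx
          (ih L (by omega) (hLK.trans hKD) hAL)
    have hAD' := hADc _ D le_rfl le_rfl hAD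
    have hRU' : R ≤ U := by
      conv_lhs => rw [← hRA]
      refine Subgroup.commutator_le.mpr fun r hr' a ha => ?_
      have hle : U.subgroupOf R ⊔ Φ.ker ≤
          ((U ⊔ D).subgroupOf R) := sup_le (fun x hx => Subgroup.mem_sup_left hx)
          (fun x hx => Subgroup.mem_sup_right (hkerD x hx))
      have hrUD : r ∈ U ⊔ D := hle (hsup.ge (Subgroup.mem_top (⟨r, hr'⟩ : R)))
      rw [← SetLike.mem_coe, Subgroup.coe_mul_of_right_le_normalizer_left U D (hDR.trans hRU)] at hrUD
      obtain ⟨x, hx, d, hd, rfl⟩ := Set.mem_mul.mp hrUD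
      have hda : d * a = a * d := Subgroup.mem_centralizer_iff.mp (hAD' ha) d hd
      have e : ⁅x * d, a⁆ = x * ((a * x⁻¹ * a⁻¹)) := by
        rw [commutatorElement_def, mul_inv_rev]
        calc x * d * a * (d⁻¹ * x⁻¹) * a⁻¹ = x * (d * a * d⁻¹) * x⁻¹ * a⁻¹ := by group
          _ = x * (a * x⁻¹ * a⁻¹) := by rw [hda]; group
      rw [e]
      exact mul_mem hx (conj_mem_of_le_normalizer hAU ha (inv_mem hx))
    have hRUeq : R = U := le_antisymm hRU' hUR
    rw [hRUeq]
    obtain ⟨c, hc⟩ := IsPGroup.iff_card.mp hUp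
    obtain ⟨a, ha⟩ := IsPGroup.iff_card.mp (hUp.to_le hNU')
    have h3 : a + 2 ≤ c := by
      by_contra hlt
      exact hnotU (hF U N hUp hNU' hUN hAU hAN' (by
        rw [ha, hc, ← pow_succ']; exact Nat.pow_le_pow_right hp.out.pos (by omega)) hAN)
    have h4 : a = 1 := le_antisymm ((Nat.pow_le_pow_iff_right hp.out.one_lt).mp (by rw [pow_one, ← ha]; exact hNp))
      (Nat.one_le_iff_ne_zero.mpr fun h0 => hN (Subgroup.card_eq_one.mp (by rw [ha, h0, pow_zero])))
    rw [ha, hc, ← pow_add] at hidxU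
    have := (Nat.pow_le_pow_iff_right hp.out.one_lt).mp hidxU
    rw [hc, show c = 3 by omega]

end Cfsg.Agent.Lib.OddLocal
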