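import Mathlib.LinearAlgebra.Matrix.GeneralLinearGroup.Defs
import Mathlib.LinearAlgebra.Matrix.Charpoly.Coeff
import Mathlib.LinearAlgebra.Matrix.NonsingularInverse
import Mathlib.GroupTheory.SchurZassenhaus
import Mathlib.GroupTheory.Sylow
import Mathlib.Algebra.CharP.Lemmas
import Mathlib.Tactic

/-! Finite groups of odd order of unimodular 2×2 matrices over a field of odd characteristic. -/

set_option autoImplicit false

namespace Cfsg.Agent.Lib.OddLocal

universe u v

open Subgroup

section Mat

variable {F : Type v} [Field F]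

local notation "M₂" => Matrix (Fin 2) (Fin 2) F

/-- The class of a matrix modulo scalars. -/
def mvec (x : M₂) : F × F × F := (x 0 1, x 1 0, x 0 0 - x 1 1)

theorem mvec_smul_of_commute {x y : M₂} (hx : mvec x ≠ 0) (h : x * y = y * x) :
    ∃ b : F, mvec y = b • mvec x := by
  have h00 := congrFun (congrFun h 0) 0
  have h01 := congrFun (congrFun h 0) 1
  have h10 := congrFun (congrFun h 1) 0
  simp only [Matrix.mul_apply, Fin.sum_univ_two] at h00 h01 h10
  by_cases h1 : x 0 1 = 0
  · by_cases h2 : x 1 0 = 0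
    · have h3 : x 0 0 - x 1 1 ≠ 0 := by
        intro h3; exact hx (by simp [mvec, h1, h2, h3])
      refine ⟨(y 0 0 - y 1 1) / (x 0 0 - x 1 1), ?_⟩
      have e1 : y 0 1 = 0 := by
        rw [h1] at h01; exact mul_left_cancel₀ h3 (by linear_combination h01)
      have e2 : y 1 0 = 0 := by
        rw [h2] at h10; exact mul_left_cancel₀ h3 (by linear_combination -h10)
      simp [mvec, h1, h2, e1, e2, h3]
    · refine ⟨y 1 0 / x 1 0, ?_⟩
      simp only [mvec, Prod.smul_mk, smul_eq_mul, Prod.mk.injEq]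
      refine ⟨?_, (div_mul_cancel₀ _ h2).symm, ?_⟩
      · rw [h1] at h00; rw [h1, mul_zero]
        exact mul_left_cancel₀ h2 (by linear_combination -h00)
      · field_simp; linear_combination h10
  · refine ⟨y 0 1 / x 0 1, ?_⟩
    simp only [mvec, Prod.smul_mk, smul_eq_mul, Prod.mk.injEq]
    refine ⟨(div_mul_cancel₀ _ h1).symm, ?_, ?_⟩
    · field_simp; linear_combination h00
    · field_simp; linear_combination -h01

theorem commute_of_mvec_smul {x y : M₂} {z : M₂} {b c : F} (hy : mvec y = b • mvec x)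
    (hz : mvec z = c • mvec x) : y * z = z * y := by
  simp only [mvec, Prod.smul_mk, smul_eq_mul, Prod.mk.injEq] at hy hz
  ext i j
  fin_cases i <;> fin_cases j <;>
    simp only [Matrix.mul_apply, Fin.sum_univ_two, Fin.zero_eta, Fin.mk_one]
  · rw [hy.1, hy.2.1, hz.1, hz.2.1]; ring
  · linear_combination z 0 1 * hy.2.2 + (c * (x 0 0 - x 1 1) - (z 0 0 - z 1 1) ) * 0
      - y 0 1 * hz.2.2 + (b * (x 0 0 - x 1 1)) * hz.1 - (c * (x 0 0 - x 1 1)) * hy.1
  · linear_combination -z 1 0 * hy.2.2
      + y 1 0 * hz.2.2 - (b * (x 0 0 - x 1 1)) * hz.2.1 + (c * (x 0 0 - x 1 1)) * hy.2.1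
  · rw [hy.1, hy.2.1, hz.1, hz.2.1]; ring

/-- `tr² - 4 det`. -/
def mdisc (x : M₂) : F := x.trace ^ 2 - 4 * x.det

theorem mdisc_eq (x : M₂) : mdisc x = (mvec x).2.2 ^ 2 + 4 * ((mvec x).1 * (mvec x).2.1) := by
  simp only [mdisc, mvec, Matrix.trace_fin_two, Matrix.det_fin_two]; ring

theorem sub_one_sq {x : M₂} (hd : x.det = 1) :
    (x - 1) * (x - 1) = (x.trace - 2) • x := by
  ext i j
  rw [Matrix.det_fin_two] at hd
  fin_cases i <;> fin_cases j <;>
    simp [Matrix.mul_apply, Fin.sum_univ_two, Matrix.trace_fin_two] <;>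
    first
      | linear_combination -hd
      | ring

theorem eq_one_of_mvec_eq_zero {x : M₂} (hd : x.det = 1) (h : mvec x = 0) : x = 1 ∨ x = -1 := by
  simp only [mvec, Prod.mk_eq_zero, sub_eq_zero] at h
  rw [Matrix.det_fin_two, h.1, zero_mul, sub_zero, h.2.2] at hd
  rcases mul_self_eq_one_iff.mp hd with he | he
  · left; ext i j; fin_cases i <;> fin_cases j <;> simp [h.1, h.2.1, h.2.2, he]
  · right; ext i j; fin_cases i <;> fin_cases j <;> simp [h.1, h.2.1, h.2.2, he]

theorem eq_or_adjugate_of_commute (h2 : (2 : F) ≠ 0) {x y : M₂} (hx : mdisc x ≠ 0)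
    (h : x * y = y * x) (ht : y.trace = x.trace) (hd : y.det = x.det) :
    y = x ∨ y = x.adjugate := by
  have hv : mvec x ≠ 0 := by
    intro hv; rw [mdisc_eq, hv] at hx; simp at hx
  obtain ⟨b, hb⟩ := mvec_smul_of_commute hv h
  have he : mdisc y = b ^ 2 * mdisc x := by
    rw [mdisc_eq, mdisc_eq, hb]; simp only [Prod.smul_fst, Prod.smul_snd, smul_eq_mul]; ring
  rw [show mdisc y = mdisc x by simp [mdisc, ht, hd]] at he
  have hb2 : b * b = 1 := mul_right_cancel₀ hx (by linear_combination -he)
  simp only [mvec, Prod.smul_mk, smul_eq_mul, Prod.mk.injEq] at hb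
  rw [Matrix.trace_fin_two, Matrix.trace_fin_two] at ht
  rcases mul_self_eq_one_iff.mp hb2 with rfl | rfl
  · left; ext i j; fin_cases i <;> fin_cases j <;> simp only [Fin.zero_eta, Fin.mk_one]
    · exact mul_left_cancel₀ h2 (by linear_combination ht + hb.2.2)
    · linear_combination hb.1
    · linear_combination hb.2.1
    · exact mul_left_cancel₀ h2 (by linear_combination ht - hb.2.2)
  · right; ext i j; fin_cases i <;> fin_cases j <;>
      simp only [Fin.zero_eta, Fin.mk_one, Matrix.adjugate_fin_two, Matrix.of_apply,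
        Matrix.cons_val', Matrix.cons_val_zero, Matrix.cons_val_one, Matrix.empty_val',
        Matrix.cons_val_fin_one]
    · exact mul_left_cancel₀ h2 (by linear_combination ht + hb.2.2)
    · linear_combination hb.1
    · linear_combination hb.2.1
    · exact mul_left_cancel₀ h2 (by linear_combination ht - hb.2.2)

end Mat

section Counting

variable {X : Type u} [Group X]

/-- The conjugates of the non-identity elements of `A`. -/
def conjSet (A : Subgroup X) : Set X := {y | ∃ g : X, ∃ x ∈ A, x ≠ 1 ∧ y = g * x * g⁻¹}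

theorem card_conjSet [Finite X] {A : Subgroup X}
    (hA : ∀ x ∈ A, x ≠ 1 → centralizer ({x} : Set X) = A) :
    Nat.card (normalizer (A : Set X)) * Nat.card (conjSet A) =
      Nat.card X * (Nat.card A - 1) := by
  classical
  have hti : ∀ m x : X, x ∈ A → x ≠ 1 → m * x * m⁻¹ ∈ A → m ∈ normalizer (A : Set X) := by
    intro m x hx hx1 hm
    have hm1 : m * x * m⁻¹ ≠ 1 := by simpa using hx1
    refine mem_normalizer_iff.mpr fun y => ?_
    conv_lhs => rw [← hA x hx hx1]
    conv_rhs => rw [← hA _ hm hm1]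
    rw [mem_centralizer_singleton_iff, mem_centralizer_singleton_iff]
    constructor
    · intro h
      calc (m * y * m⁻¹) * (m * x * m⁻¹) = m * (y * x) * m⁻¹ := by group
        _ = _ := by rw [h]; group
    · intro h
      calc y * x = m⁻¹ * ((m * y * m⁻¹) * (m * x * m⁻¹)) * m := by group
        _ = _ := by rw [h]; group
  choose g x hxA hx1 hs using fun s : conjSet A => s.2
  let T := {y : A // y ≠ 1}
  let f : normalizer (A : Set X) × conjSet A → X × T := fun q =>
    (g q.2 * q.1, ⟨⟨(q.1 : X)⁻¹ * x q.2 * q.1,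
      (mem_normalizer_iff''.mp q.1.2 _).mp (hxA q.2)⟩, fun h => hx1 q.2 (by
        have h' : (q.1 : X)⁻¹ * x q.2 * q.1 = 1 := congrArg Subtype.val h
        simpa [mul_assoc, inv_mul_eq_one, eq_comm] using h')⟩)
  have hbij : Function.Bijective f := by
    constructor
    · rintro ⟨m, s⟩ ⟨m', s'⟩ h
      simp only [f, Prod.mk.injEq] at h
      have h2 : (m : X)⁻¹ * x s * m = (m' : X)⁻¹ * x s' * m' :=
        congrArg (fun y : T => ((y : A) : X)) h.2
      have hs' : (s : X) = s' := by
        rw [hs s, hs s']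
        calc g s * x s * (g s)⁻¹ = (g s * m) * ((m : X)⁻¹ * x s * m) * (g s * m)⁻¹ := by group
          _ = (g s' * m') * ((m' : X)⁻¹ * x s' * m') * (g s' * m')⁻¹ := by rw [h.1, h2]
          _ = _ := by group
      have hss : s = s' := Subtype.ext hs'
      subst hss
      have hm : m = m' := Subtype.ext (mul_left_cancel h.1)
      rw [hm]
    · rintro ⟨g₀, ⟨⟨y, hy⟩, hy1⟩⟩
      have hy1' : y ≠ 1 := fun h => hy1 (Subtype.ext h)
      let s : conjSet A := ⟨g₀ * y * g₀⁻¹, g₀, y, hy, hy1', rfl⟩
      have he : g₀ * y * g₀⁻¹ = g s * x s * (g s)⁻¹ := hs s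
      have hmx : ((g s)⁻¹ * g₀) * y * ((g s)⁻¹ * g₀)⁻¹ = x s := by
        calc _ = (g s)⁻¹ * (g₀ * y * g₀⁻¹) * g s := by group
          _ = _ := by rw [he]; group
      refine ⟨(⟨(g s)⁻¹ * g₀, hti _ y hy hy1' (by rw [hmx]; exact hxA s)⟩, s), ?_⟩
      simp only [f, Prod.mk.injEq]
      refine ⟨by group, Subtype.ext (Subtype.ext ?_)⟩
      show ((g s)⁻¹ * g₀)⁻¹ * x s * ((g s)⁻¹ * g₀) = y
      rw [← hmx]; group
  have := Nat.card_congr (Equiv.ofBijective f hbij)
  rw [Nat.card_prod, Nat.card_prod] at this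
  rw [this]
  congr 1
  haveI := Fintype.ofFinite A
  rw [Nat.card_eq_fintype_card (α := T), Nat.card_eq_fintype_card, Fintype.card_subtype_compl,
    Fintype.card_subtype_eq]

theorem disjoint_conjSet {A B : Subgroup X}
    (hA : ∀ x ∈ A, x ≠ 1 → centralizer ({x} : Set X) = A)
    (hB : ∀ x ∈ B, x ≠ 1 → centralizer ({x} : Set X) = B)
    (h : ∀ g : X, B.map (MulAut.conj g).toMonoidHom ≠ A) : Disjoint (conjSet A) (conjSet B) := by
  rw [Set.disjoint_left]
  rintro y ⟨g, x, hx, hx1, rfl⟩ ⟨g', x', hx', hx1', he⟩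
  refine h (g⁻¹ * g') ?_
  have e : x = (g⁻¹ * g') * x' * (g⁻¹ * g')⁻¹ := by
    calc x = g⁻¹ * (g * x * g⁻¹) * g := by group
      _ = _ := by rw [he]; group
  rw [← hA x hx hx1, ← hB x' hx' hx1']
  ext y
  rw [mem_centralizer_singleton_iff]
  constructor
  · rintro ⟨z, hz, rfl⟩
    rw [SetLike.mem_coe, mem_centralizer_singleton_iff] at hz
    simp only [MulEquiv.coe_toMonoidHom, MulAut.conj_apply, e]
    calc _ = (g⁻¹ * g') * (z * x') * (g⁻¹ * g')⁻¹ := by group
      _ = _ := by rw [hz]; group
  · intro hy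
    refine ⟨(g⁻¹ * g')⁻¹ * y * (g⁻¹ * g'), ?_, by simp [mul_assoc]⟩
    rw [SetLike.mem_coe, mem_centralizer_singleton_iff]
    calc _ = (g⁻¹ * g')⁻¹ * (y * x) * (g⁻¹ * g') := by rw [e]; group
      _ = (g⁻¹ * g')⁻¹ * (x * y) * (g⁻¹ * g') := by rw [hy]
      _ = _ := by rw [e]; group

end Counting

section Group

variable {F : Type v} [Field F] {X : Type u} [Group X] [Finite X]

theorem mdisc_eq_zero_of_trace_two {x : Matrix (Fin 2) (Fin 2) F} (hd : x.det = 1)
    (h : x.trace = 2) : mdisc x = 0 := by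
  rw [mdisc, h, hd]; ring

theorem pow_eq_one_of_trace_two (p : ℕ) [hp : Fact p.Prime] [CharP F p]
    {x : Matrix (Fin 2) (Fin 2) F} (hd : x.det = 1) (h : x.trace = 2) : x ^ p = 1 := by
  have hN : (x - 1) ^ 2 = 0 := by rw [sq, sub_one_sq hd, h, sub_self, zero_smul]
  have h1 : (x - 1) ^ p = 0 := pow_eq_zero_of_le hp.out.two_le hN
  haveI : CharP (Matrix (Fin 2) (Fin 2) F) p := charP_of_injective_algebraMap' F p
  rw [sub_pow_char_of_commute p (Commute.one_right x), one_pow, sub_eq_zero] at h1
  exact h1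

theorem trace_two_of_pow_eq_one (p : ℕ) [hp : Fact p.Prime] [CharP F p]
    {x : Matrix (Fin 2) (Fin 2) F} (hd : x.det = 1) (h : x ^ p = 1) : x.trace = 2 := by
  haveI : CharP (Matrix (Fin 2) (Fin 2) F) p := charP_of_injective_algebraMap' F p
  have h1 : (x - 1) ^ p = 0 := by
    rw [sub_pow_char_of_commute p (Commute.one_right x), one_pow, h, sub_self]
  have h2 : (x - 1).det = 0 := by
    have := congrArg Matrix.det h1
    rw [Matrix.det_pow, Matrix.det_zero] at this
    exact pow_eq_zero_iff hp.out.ne_zero |>.mp this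
  rw [Matrix.det_fin_two] at h2 hd
  simp at h2
  rw [Matrix.trace_fin_two]
  linear_combination hd - h2

variable (p : ℕ) [hp : Fact p.Prime] [CharP F p] (hp2 : p ≠ 2) (hodd : Odd (Nat.card X))
  (f : X →* Matrix (Fin 2) (Fin 2) F) (hf : Function.Injective f) (hdet : ∀ x, (f x).det = 1)

include hp2 in
theorem two_ne_zero_of_odd_char : (2 : F) ≠ 0 :=
  Ring.two_ne_zero (by rw [ringChar.eq F p]; exact hp2)

include hp2 hodd hf hdet in
theorem mvec_ne_zero {x : X} (hx : x ≠ 1) : mvec (f x) ≠ 0 := by
  intro h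
  rcases eq_one_of_mvec_eq_zero (hdet x) h with h1 | h1
  · exact hx (hf (h1.trans (map_one f).symm))
  · have h2 : (f x) ^ Nat.card X = 1 := by rw [← map_pow, pow_card_eq_one', map_one]
    rw [h1, hodd.neg_one_pow] at h2
    have h3 := congrFun (congrFun h2 0) 0
    simp at h3
    exact two_ne_zero_of_odd_char p hp2 (by linear_combination -h3)

include hp2 hodd hf hdet in
theorem pow_eq_one_or_mdisc_ne_zero {x : X} : x ^ p = 1 ∨ mdisc (f x) ≠ 0 := by
  by_cases h : mdisc (f x) = 0
  · left
    rw [mdisc, hdet] at h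
    have : ((f x).trace - 2) * ((f x).trace + 2) = 0 := by linear_combination h
    rcases mul_eq_zero.mp this with h | h
    · refine hf ?_
      rw [map_pow, map_one, pow_eq_one_of_trace_two p (hdet x) (sub_eq_zero.mp h)]
    · exfalso
      have h1 : (-(f x)) ^ p = 1 := pow_eq_one_of_trace_two p
        (by simp [Matrix.det_neg, hdet]) (by rw [Matrix.trace_neg]; linear_combination -h)
      rw [(hp.out.odd_of_ne_two hp2).neg_pow, neg_eq_iff_eq_neg] at h1
      have h2 : (f x) ^ (p * Nat.card X) = 1 := by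
        rw [mul_comm, pow_mul, ← map_pow, pow_card_eq_one', map_one, one_pow]
      rw [pow_mul, h1, hodd.neg_one_pow] at h2
      have h3 := congrFun (congrFun h2 0) 0
      simp at h3
      exact two_ne_zero_of_odd_char p hp2 (by linear_combination -h3)
  · exact Or.inr h

include hp2 hodd hf hdet in
theorem centralizer_eq_of_mem {x y : X} (hx : x ≠ 1) (hy : y ∈ centralizer ({x} : Set X))
    (hy1 : y ≠ 1) : centralizer ({y} : Set X) = centralizer ({x} : Set X) := by
  have key : ∀ a b c : X, a ≠ 1 → b * a = a * b → c * a = a * c → b * c = c * b := by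
    intro a b c ha hb hc
    have hv := mvec_ne_zero p hp2 hodd f hf hdet ha
    obtain ⟨s, hs⟩ := mvec_smul_of_commute hv (by rw [← map_mul, ← map_mul, hb] : f a * f b = f b * f a)
    obtain ⟨t, ht⟩ := mvec_smul_of_commute hv (by rw [← map_mul, ← map_mul, hc] : f a * f c = f c * f a)
    exact hf (by rw [map_mul, map_mul]; exact commute_of_mvec_smul hs ht)
  rw [mem_centralizer_singleton_iff] at hy
  ext z
  rw [mem_centralizer_singleton_iff, mem_centralizer_singleton_iff]
  exact ⟨fun hz => key y z x hy1 hz hy.symm, fun hz => key x z y hx hz hy⟩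

include hp2 hodd hf hdet in
theorem normalizer_centralizer_eq {x : X} (hx : mdisc (f x) ≠ 0) :
    normalizer ((centralizer ({x} : Set X) : Subgroup X) : Set X) = centralizer {x} := by
  refine le_antisymm (fun g hg => ?_) le_normalizer
  have hgx : g * x * g⁻¹ ∈ centralizer ({x} : Set X) :=
    (mem_normalizer_iff.mp hg x).mp (mem_centralizer_singleton_iff.mpr rfl)
  rw [mem_centralizer_singleton_iff] at hgx
  have hinv : f g⁻¹ * f g = 1 := by rw [← map_mul, inv_mul_cancel, map_one]
  have ht : (f (g * x * g⁻¹)).trace = (f x).trace := by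
    rw [map_mul, map_mul, Matrix.trace_mul_cycle, hinv, one_mul]
  have h2 := eq_or_adjugate_of_commute (two_ne_zero_of_odd_char p hp2) hx
    (by rw [← map_mul, ← map_mul, hgx]) ht (by rw [hdet, hdet])
  have hadj : (f x).adjugate = f x⁻¹ := by
    have h : f x * (f x).adjugate = 1 := by rw [Matrix.mul_adjugate, hdet, one_smul]
    calc (f x).adjugate = (f x⁻¹ * f x) * (f x).adjugate := by
          rw [← map_mul, inv_mul_cancel, map_one, one_mul]
      _ = f x⁻¹ := by rw [mul_assoc, h, mul_one]
  have hg2 : g ^ 2 ∈ centralizer ({x} : Set X) := by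
    have h3 : g ^ 2 * x * (g ^ 2)⁻¹ = x := by
      rw [hadj] at h2
      have e : g ^ 2 * x * (g ^ 2)⁻¹ = g * (g * x * g⁻¹) * g⁻¹ := by rw [pow_two]; group
      rcases h2 with h | h
      · rw [e, hf h, hf h]
      · rw [e, hf h, show g * x⁻¹ * g⁻¹ = (g * x * g⁻¹)⁻¹ by group, hf h, inv_inv]
    rw [mem_centralizer_singleton_iff]
    calc g ^ 2 * x = (g ^ 2 * x * (g ^ 2)⁻¹) * g ^ 2 := by group
      _ = x * g ^ 2 := by rw [h3]
  obtain ⟨k, hk⟩ := hodd
  have : g = (g ^ 2) ^ (k + 1) := by
    rw [← pow_mul, show 2 * (k + 1) = Nat.card X + 1 by omega, pow_succ, pow_card_eq_one', one_mul]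
  rw [this]; exact pow_mem hg2 _

include hp2 hodd hf hdet in
/-- In such a group the Sylow `p`-subgroup is normal, provided the normalizer of a Sylow
`p`-subgroup has abelian quotient by it. -/
theorem sylow_normal_of_sl2 (P : Sylow p X) (hP1 : (P : Subgroup X) ≠ ⊥)
    (hcomm : ∀ C : Subgroup X, C ≤ normalizer ((P : Subgroup X) : Set X) →
      (Nat.card C).Coprime p → ∀ a ∈ C, ∀ b ∈ C, a * b = b * a) :
    (P : Subgroup X).Normal := by
  have h2 := two_ne_zero_of_odd_char (F := F) p hp2
  have hC : ∀ x : X, x ≠ 1 → ∀ y ∈ centralizer ({x} : Set X), y ≠ 1 →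
      centralizer ({y} : Set X) = centralizer {x} := fun x hx y hy hy1 =>
    centralizer_eq_of_mem p hp2 hodd f hf hdet hx hy hy1
  haveI : Nontrivial (P : Subgroup X) := (nontrivial_iff_ne_bot _).mpr hP1
  obtain ⟨⟨z, hzP⟩, hz, hz1⟩ : ∃ z : (P : Subgroup X), z ∈ center _ ∧ z ≠ 1 := by
    haveI := P.2.center_nontrivial
    obtain ⟨⟨z, hz⟩, hne⟩ := exists_ne (1 : center (P : Subgroup X))
    exact ⟨z, hz, fun h => hne (Subtype.ext h)⟩
  have hz1' : z ≠ 1 := fun h => hz1 (Subtype.ext h)
  have hzord : ∀ y ∈ centralizer ({z} : Set X), y ^ p = 1 := by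
    intro y hy
    rcases eq_or_ne y 1 with rfl | hy1
    · exact one_pow p
    rcases pow_eq_one_or_mdisc_ne_zero p hp2 hodd f hf hdet (x := y) with h | h
    · exact h
    exfalso
    have hzd : mdisc (f z) = 0 := by
      rcases pow_eq_one_or_mdisc_ne_zero p hp2 hodd f hf hdet (x := z) with h' | h'
      · exact mdisc_eq_zero_of_trace_two (hdet z)
          (trace_two_of_pow_eq_one p (hdet z) (by rw [← map_pow, h', map_one]))
      · exfalso
        obtain ⟨k, hk⟩ := P.2 ⟨z, hzP⟩
        have hk' : z ^ p ^ k = 1 := congrArg Subtype.val hk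
        haveI : CharP (Matrix (Fin 2) (Fin 2) F) p := charP_of_injective_algebraMap' F p
        have h1 : (f z - 1) ^ p ^ k = 0 := by
          rw [sub_pow_char_pow_of_commute p _ (Commute.one_right _), one_pow, ← map_pow, hk', map_one,
            sub_self]
        have h3 : (f z - 1).det = 0 := by
          have := congrArg Matrix.det h1
          rw [Matrix.det_pow, Matrix.det_zero] at this
          exact pow_eq_zero_iff (pow_ne_zero _ hp.out.ne_zero) |>.mp this
        have hd := hdet z
        rw [Matrix.det_fin_two] at h3 hd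
        simp at h3
        exact h' (mdisc_eq_zero_of_trace_two (hdet z)
          (by rw [Matrix.trace_fin_two]; linear_combination hd - h3))
    obtain ⟨b, hb⟩ := mvec_smul_of_commute (mvec_ne_zero p hp2 hodd f hf hdet hz1')
      (by rw [← map_mul, ← map_mul, mem_centralizer_singleton_iff.mp hy] : f z * f y = f y * f z)
    apply h
    rw [mdisc_eq] at hzd ⊢
    rw [hb]; simp only [Prod.smul_fst, Prod.smul_snd, smul_eq_mul]
    linear_combination b ^ 2 * hzd
  have hPC : (P : Subgroup X) = centralizer {z} := by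
    refine (P.3 (fun y => ⟨1, Subtype.ext (by simpa using hzord y y.2)⟩) fun y hy => ?_).symm
    rw [mem_centralizer_singleton_iff]
    exact congrArg Subtype.val (mem_center_iff.mp hz ⟨y, hy⟩)
  have hTIP : ∀ x ∈ (P : Subgroup X), x ≠ 1 → centralizer ({x} : Set X) = P := by
    intro x hx hx1; rw [hPC] at hx ⊢; exact hC z hz1' x hx hx1
  have hTI : ∀ c : X, c ≠ 1 → ∀ x ∈ centralizer ({c} : Set X), x ≠ 1 →
      centralizer ({x} : Set X) = centralizer {c} := fun c hc x hx hx1 => hC c hc x hx hx1
  have hX3 : ∀ A : Subgroup X, A ≠ ⊥ → 3 ≤ Nat.card A := by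
    intro A hA
    have h1 : 1 < Nat.card A := by
      haveI := (nontrivial_iff_ne_bot A).mpr hA
      exact Finite.one_lt_card
    rcases Nat.lt_or_ge 2 (Nat.card A) with h | h
    · exact h
    exfalso
    have := Subgroup.card_subgroup_dvd_card A
    rw [show Nat.card A = 2 by omega] at this
    exact Nat.two_dvd_ne_zero.mpr (Nat.odd_iff.mp hodd) |>.elim this
  have hns : ∀ x : X, x ^ p = 1 → x ≠ 1 → x ∈ conjSet (P : Subgroup X) := by
    intro x hx hx1
    have hp' : IsPGroup p (zpowers x) := by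
      obtain ⟨j, -, hj⟩ := (Nat.dvd_prime_pow hp.out).mp
        (show orderOf x ∣ p ^ 1 by rw [pow_one]; exact orderOf_dvd_of_pow_eq_one hx)
      exact IsPGroup.of_card (n := j) (by rw [Nat.card_zpowers, hj])
    obtain ⟨Q, hQ⟩ := hp'.exists_le_sylow
    obtain ⟨g, rfl⟩ := MulAction.exists_smul_eq X P Q
    obtain ⟨y, hy, hyx⟩ := hQ (mem_zpowers x)
    have he : g * y * g⁻¹ = x := hyx
    exact ⟨g, y, hy, fun h => hx1 (by rw [← he, h]; group), he.symm⟩
  set q := Nat.card (P : Subgroup X)
  set N := normalizer ((P : Subgroup X) : Set X)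
  have hq3 : 3 ≤ q := hX3 _ hP1
  have hcP := card_conjSet hTIP
  have hsum : ∀ c : X, c ≠ 1 → mdisc (f c) ≠ 0 →
      Nat.card (conjSet (centralizer ({c} : Set X))) + Nat.card (conjSet (P : Subgroup X)) + 1
        ≤ Nat.card X ∧
      ∀ d : X, d ≠ 1 → mdisc (f d) ≠ 0 → d ∉ conjSet (centralizer ({c} : Set X)) → False := by
    intro c hc hcd
    have hss : ∀ e : X, e ≠ 1 → mdisc (f e) ≠ 0 → ∀ g : X,
        (P : Subgroup X).map (MulAut.conj g).toMonoidHom ≠ centralizer {e} := by
      intro e he hed g hg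
      have hee : e ∈ centralizer ({e} : Set X) := mem_centralizer_singleton_iff.mpr rfl
      rw [← hg] at hee
      obtain ⟨y, hy, hye⟩ := hee
      have hy' : y ^ p = 1 := hzord y (hPC ▸ hy)
      have : e ^ p = 1 := by rw [← hye, ← map_pow, hy', map_one]
      exact hed (mdisc_eq_zero_of_trace_two (hdet e)
        (trace_two_of_pow_eq_one p (hdet e) (by rw [← map_pow, this, map_one])))
    have hone : ∀ A : Subgroup X, (1 : X) ∉ conjSet A := by
      rintro A ⟨g, x, -, hx1, he⟩
      exact hx1 (by rw [eq_comm] at he; simpa using he)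
    refine ⟨?_, fun d hd hdd hdn => ?_⟩
    · haveI := Fintype.ofFinite X
      rw [Nat.card_coe_set_eq, Nat.card_coe_set_eq, ← Set.ncard_union_eq
        (disjoint_conjSet (hTI c hc) hTIP (hss c hc hcd)) (Set.toFinite _) (Set.toFinite _),
        ← Set.ncard_insert_of_notMem (a := (1 : X)) (by
          simp only [Set.mem_union, hone, or_self, not_false_iff]) (Set.toFinite _)]
      exact (Set.ncard_le_ncard (Set.subset_univ _) (Set.toFinite _)).trans (Set.ncard_univ X).le
    · have hdis : Disjoint (conjSet (centralizer ({c} : Set X))) (conjSet (centralizer ({d} : Set X))) := by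
        refine disjoint_conjSet (hTI c hc) (hTI d hd) fun g hg => hdn ?_
        refine ⟨g⁻¹, g * d * g⁻¹, hg ▸ ⟨d, mem_centralizer_singleton_iff.mpr rfl, rfl⟩,
          by simpa using hd, by group⟩
      have h3 : ∀ e : X, e ≠ 1 → mdisc (f e) ≠ 0 →
          2 * Nat.card X ≤ 3 * Nat.card (conjSet (centralizer ({e} : Set X))) := by
        intro e he hed
        have h := card_conjSet (hTI e he)
        rw [normalizer_centralizer_eq p hp2 hodd f hf hdet hed] at h
        have ha := hX3 (centralizer ({e} : Set X)) (by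
          intro hb
          exact he (mem_bot.mp (hb ▸ mem_centralizer_singleton_iff.mpr rfl)))
        obtain ⟨a, hae⟩ : ∃ a, Nat.card (centralizer ({e} : Set X)) = a + 3 := ⟨_, (Nat.sub_add_cancel ha).symm⟩
        rw [hae, show a + 3 - 1 = a + 2 by omega] at h
        nlinarith
      have hle : Nat.card (conjSet (centralizer ({c} : Set X))) +
          Nat.card (conjSet (centralizer ({d} : Set X))) ≤ Nat.card X := by
        rw [Nat.card_coe_set_eq, Nat.card_coe_set_eq, ← Set.ncard_union_eq hdis]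
        exact (Set.ncard_le_ncard (Set.subset_univ _)).trans (Set.ncard_univ X).le
      have := h3 c hc hcd; have := h3 d hd hdd
      have : 0 < Nat.card X := Nat.card_pos
      omega
  by_contra hPn
  obtain ⟨s, hs⟩ : ∃ s : X, s ≠ 1 ∧ mdisc (f s) ≠ 0 := by
    by_contra! hall
    refine hPn ?_
    have htop : IsPGroup p X := fun x => by
      rcases eq_or_ne x 1 with rfl | hx1
      · exact ⟨0, by simp⟩
      rcases pow_eq_one_or_mdisc_ne_zero p hp2 hodd f hf hdet (x := x) with h | h
      · exact ⟨1, by rwa [pow_one]⟩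
      · exact absurd (hall x hx1) h
    rw [← P.3 (htop.to_subgroup ⊤) le_top]
    infer_instance
  obtain ⟨r, hr⟩ := Subgroup.card_dvd_of_le (le_normalizer : (P : Subgroup X) ≤ N)
  rw [← show Nat.card N = _ from rfl] at hcP
  obtain ⟨q', hq'⟩ : ∃ q', q = q' + 3 := ⟨q - 3, by omega⟩
  by_cases hr1 : r = 1
  · obtain ⟨h1, -⟩ := hsum s hs.1 hs.2
    have h := card_conjSet (hTI s hs.1)
    rw [normalizer_centralizer_eq p hp2 hodd f hf hdet hs.2] at h
    have ha := hX3 (centralizer ({s} : Set X)) (by
      intro hb; exact hs.1 (mem_bot.mp (hb ▸ mem_centralizer_singleton_iff.mpr rfl)))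
    obtain ⟨a, hae⟩ : ∃ a, Nat.card (centralizer ({s} : Set X)) = a + 3 := ⟨_, (Nat.sub_add_cancel ha).symm⟩
    rw [hae, show a + 3 - 1 = a + 2 by omega] at h
    rw [hr, hr1, mul_one, show Nat.card (P : Subgroup X) = q' + 3 from hq', show q' + 3 - 1 = q' + 2 by omega] at hcP
    nlinarith
  · -- complement of `P` in its normalizer
    have hqN : Nat.card ((P : Subgroup X).subgroupOf N) = q :=
      Nat.card_congr (subgroupOfEquivOfLe le_normalizer).toEquiv
    have hidx : ((P : Subgroup X).subgroupOf N).index = r := by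
      have := ((P : Subgroup X).subgroupOf N).card_mul_index
      rw [hqN, hr] at this
      exact Nat.eq_of_mul_eq_mul_left (by omega) this
    have hpr : ¬ p ∣ r := fun h => P.not_dvd_index (h.trans (Dvd.intro _ (by
      have a := (P : Subgroup X).card_mul_index
      have b := N.card_mul_index
      rw [hr, mul_assoc] at b
      exact Nat.eq_of_mul_eq_mul_left (show 0 < q by omega) (b.trans a.symm))))
    haveI : ((P : Subgroup X).subgroupOf N).Normal := normal_in_normalizer
    obtain ⟨C', hC'⟩ := exists_right_complement'_of_coprime (N := (P : Subgroup X).subgroupOf N) (by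
      rw [hqN, hidx]
      obtain ⟨j, hj⟩ := P.2.exists_card_eq
      rw [show q = p ^ j from hj]
      exact ((hp.out.coprime_iff_not_dvd).mpr hpr).pow_left j)
    let C := C'.map N.subtype
    have hCc : Nat.card C = r := by
      rw [← Nat.card_congr (C'.equivMapOfInjective N.subtype N.subtype_injective).toEquiv, ← hidx,
        hC'.symm.index_eq_card]
    have hCcop : (Nat.card C).Coprime p := by
      rw [hCc]; exact ((hp.out.coprime_iff_not_dvd).mpr hpr).symm
    obtain ⟨c, hcC, hc1⟩ : ∃ c ∈ C, c ≠ 1 := by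
      by_contra! h
      exact hr1 (hCc ▸ Subgroup.card_eq_one.mpr ((eq_bot_iff_forall _).mpr h))
    have hcd : mdisc (f c) ≠ 0 := by
      rcases pow_eq_one_or_mdisc_ne_zero p hp2 hodd f hf hdet (x := c) with h | h
      · exact absurd (orderOf_eq_one_iff.mp (Nat.eq_one_of_dvd_coprimes hCcop
          (Subgroup.orderOf_dvd_natCard _ hcC) (orderOf_dvd_of_pow_eq_one h))) hc1
      · exact h
    let A := centralizer ({c} : Set X)
    have hCA : C ≤ A := fun d hd => mem_centralizer_singleton_iff.mpr
      (hcomm C (map_subtype_le _) hCcop d hd c hcC)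
    obtain ⟨hle, hcov⟩ := hsum c hc1 hcd
    have hge : Nat.card X ≤ Nat.card (conjSet A) + Nat.card (conjSet (P : Subgroup X)) + 1 := by
      rw [Nat.card_coe_set_eq, Nat.card_coe_set_eq, ← Set.ncard_univ X]
      refine (Set.ncard_le_ncard (t := insert 1 (conjSet A ∪ conjSet (P : Subgroup X))) ?_).trans
        ((Set.ncard_insert_le _ _).trans (Nat.add_le_add_right (Set.ncard_union_le _ _) 1))
      intro x _
      rcases eq_or_ne x 1 with rfl | hx1
      · exact Set.mem_insert _ _
      refine Set.mem_insert_of_mem _ ?_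
      rcases pow_eq_one_or_mdisc_ne_zero p hp2 hodd f hf hdet (x := x) with h | h
      · exact Or.inr (hns x h hx1)
      · exact Or.inl (not_not.mp fun hn => hcov x hx1 h hn)
    obtain ⟨j, hj⟩ := Subgroup.card_dvd_of_le hCA
    have h := card_conjSet (hTI c hc1)
    rw [normalizer_centralizer_eq p hp2 hodd f hf hdet hcd] at h
    rw [hCc] at hj
    rw [show Nat.card (centralizer ({c} : Set X)) = r * j from hj] at h
    rw [hr] at hcP
    have hjodd : Odd j := by
      have := Subgroup.card_subgroup_dvd_card A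
      rw [hj] at this
      exact hodd.of_dvd_nat ((dvd_mul_left j r).trans this)
    have hrpos : 0 < r := hCc ▸ Nat.card_pos
    have hXpos : 0 < Nat.card X := Nat.card_pos
    rcases eq_or_ne j 1 with rfl | hj1
    · rw [mul_one] at h
      have hXN : Nat.card X = q * r := by
        have h1 : (r : ℤ) * Nat.card (conjSet A) = Nat.card X * ((r : ℤ) - 1) := by
          have := congrArg (fun n : ℕ => (n : ℤ)) h
          push_cast [Nat.cast_sub (show 1 ≤ r by omega)] at this
          exact this
        have h2 : ((q : ℤ) * r) * Nat.card (conjSet (P : Subgroup X)) = Nat.card X * ((q : ℤ) - 1) := by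
          have := congrArg (fun n : ℕ => (n : ℤ)) hcP
          push_cast [Nat.cast_sub (show 1 ≤ Nat.card (P : Subgroup X) by omega)] at this
          exact this
        have h3 : (Nat.card X : ℤ) =
            Nat.card (conjSet A) + Nat.card (conjSet (P : Subgroup X)) + 1 := by
          exact_mod_cast le_antisymm hge hle
        have : (Nat.card X : ℤ) = q * r := by linear_combination (q : ℤ) * h1 + h2 + ((q : ℤ) * r) * h3
        exact_mod_cast this
      refine hPn ?_
      have : N = ⊤ := eq_top_of_card_eq N (by rw [hr, hXN])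
      exact normalizer_eq_top_iff.mp this
    · have hj3 : 3 ≤ j := by
        rcases hjodd with ⟨t, rfl⟩; omega
      have h1 : ((r : ℤ) * j) * Nat.card (conjSet A) = Nat.card X * ((r : ℤ) * j - 1) := by
        have := congrArg (fun n : ℕ => (n : ℤ)) h
        push_cast [Nat.cast_sub (show 1 ≤ r * j by nlinarith)] at this
        exact this
      have h2 : ((q : ℤ) * r) * Nat.card (conjSet (P : Subgroup X)) = Nat.card X * ((q : ℤ) - 1) := by
        have := congrArg (fun n : ℕ => (n : ℤ)) hcP
        push_cast [Nat.cast_sub (show 1 ≤ Nat.card (P : Subgroup X) by omega)] at this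
        exact this
      have h3 : (Nat.card X : ℤ) =
          Nat.card (conjSet A) + Nat.card (conjSet (P : Subgroup X)) + 1 := by
        exact_mod_cast le_antisymm hge hle
      have key : (Nat.card X : ℤ) * ((q : ℤ) + j - (q : ℤ) * j) = (q : ℤ) * r * j := by
        linear_combination (q : ℤ) * h1 + (j : ℤ) * h2 + ((q : ℤ) * r * j) * h3
      have hqj : (q : ℤ) + j - (q : ℤ) * j ≤ 0 := by
        have : (3 : ℤ) ≤ q := by exact_mod_cast hq3
        have : (3 : ℤ) ≤ j := by exact_mod_cast hj3
        nlinarith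
      have hpos : (0 : ℤ) < (q : ℤ) * r * j := by positivity
      have hXp : (0 : ℤ) < Nat.card X := by exact_mod_cast hXpos
      nlinarith

end Group

end Cfsg.Agent.Lib.OddLocal
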