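import Cfsg.Agent.Lib.OddLocal.UniquenessPassing
import Cfsg.Agent.Lib.OddLocal.InvariantHall

/-! A self-centralizing normal abelian subgroup of rank three of a Sylow subgroup lies in a unique
maximal subgroup. -/

set_option autoImplicit false

open scoped commutatorElement

namespace Cfsg.Agent.Lib.OddLocal

universe u

section Basic

variable {G : Type u} [Group G] [Finite G]

theorem eq_zpowers_of_cyclic {q : ℕ} [Fact q.Prime] {C : Subgroup G} (hC : IsCyclic C) {e z : G}
    (he : e ∈ C) (hz : z ∈ C) (heq : e ^ q = 1) (hzq : orderOf z = q) : e ∈ Subgroup.zpowers z := by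
  classical
  haveI := Fintype.ofFinite C
  have h1 : (Subgroup.zpowers (⟨z, hz⟩ : C)) ≠ ⊥ := by
    rw [Ne, Subgroup.zpowers_eq_bot]
    intro h
    have : z = 1 := congrArg Subtype.val h
    rw [this, orderOf_one] at hzq
    exact (Fact.out : q.Prime).one_lt.ne hzq
  have hcard : Nat.card (Subgroup.zpowers (⟨z, hz⟩ : C)) = q := by
    rw [Nat.card_zpowers, ← Subgroup.orderOf_coe]; exact hzq
  by_contra hne
  set S : Finset C := Finset.univ.filter (fun a : C => a ^ q = 1) with hS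
  have hle : S.card ≤ q := IsCyclic.card_pow_eq_one_le (Fact.out : q.Prime).pos
  have hsub : insert (⟨e, he⟩ : C) (Finset.univ.filter (fun a : C => a ∈ Subgroup.zpowers (⟨z, hz⟩ : C)))
      ⊆ S := by
    intro a ha
    rw [Finset.mem_insert] at ha
    rw [hS, Finset.mem_filter]
    refine ⟨Finset.mem_univ a, ?_⟩
    rcases ha with rfl | ha
    · exact Subtype.ext heq
    · rw [Finset.mem_filter] at ha
      have h := pow_card_eq_one' (x := (⟨a, ha.2⟩ : Subgroup.zpowers (⟨z, hz⟩ : C)))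
      rw [hcard] at h
      exact congrArg Subtype.val h
  have h2 := (Finset.card_le_card hsub).trans hle
  rw [Finset.card_insert_of_notMem, ← Fintype.card_subtype, ← Nat.card_eq_fintype_card] at h2
  · have h3 : Nat.card {a : C // a ∈ Subgroup.zpowers (⟨z, hz⟩ : C)} = q := hcard
    omega
  · intro h
    rw [Finset.mem_filter] at h
    obtain ⟨i, hi⟩ := Subgroup.mem_zpowers_iff.mp h.2
    exact hne ⟨i, congrArg Subtype.val hi⟩

/-- A coprime operator fixing a nontrivial element of a cyclic `q`-group fixes all of it. -/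
theorem centralizes_of_cyclic {p q : ℕ} [Fact p.Prime] [Fact q.Prime] (hqp : q ≠ p) {C : Subgroup G}
    (hC : IsCyclic C) (hCq : IsPGroup q C) {h : G} (hn : h ∈ Subgroup.normalizer (C : Set G))
    (hhp : h ^ p = 1) {z : G} (hz : z ∈ C) (hz1 : z ≠ 1) (hhz : h * z = z * h) :
    ∀ x ∈ C, h * x = x * h := by
  classical
  set D := C ⊓ Subgroup.centralizer ({h} : Set G) with hD
  have hzD : z ∈ D := ⟨hz, Subgroup.mem_centralizer_singleton_iff.mpr hhz.symm⟩
  obtain ⟨k, hk⟩ := exists_orderOf_of_mem hCq hz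
  rcases k with _ | k
  · exact absurd (orderOf_eq_one_iff.mp (hk.trans (pow_zero q))) hz1
  set z₀ := z ^ q ^ k with hz₀
  have hz₀o : orderOf z₀ = q := by
    rw [hz₀, orderOf_pow_of_dvd (pow_ne_zero _ (Fact.out : q.Prime).ne_zero)
      (hk ▸ pow_dvd_pow q k.le_succ), hk, pow_succ,
      Nat.mul_div_cancel_left _ (pow_pos (Fact.out : q.Prime).pos k)]
  have hz₀D : z₀ ∈ D := pow_mem hzD _
  suffices hall : ∀ n : ℕ, ∀ x ∈ C, x ^ q ^ n = 1 → x ∈ D by
    intro x hx
    obtain ⟨j, hj⟩ := exists_orderOf_of_mem hCq hx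
    exact (Subgroup.mem_centralizer_singleton_iff.mp (hall j x hx (hj ▸ pow_orderOf_eq_one x)).2).symm
  intro n
  induction n with
  | zero =>
    intro x hx h1
    rw [pow_zero, pow_one] at h1
    exact h1 ▸ one_mem D
  | succ n ih =>
    intro x hx h1
    have hxq : x ^ q ∈ D := ih _ (pow_mem hx q) (by rw [← pow_mul, ← pow_succ']; exact h1)
    set e := h * x * h⁻¹ * x⁻¹ with he
    have heC : e ∈ C := C.mul_mem ((Subgroup.mem_normalizer_iff.mp hn x).mp hx) (C.inv_mem hx)
    have hcomm : Commute (h * x * h⁻¹) x⁻¹ := congrArg Subtype.val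
      (hC.isMulCommutative.is_comm.comm (⟨_, (Subgroup.mem_normalizer_iff.mp hn x).mp hx⟩ : C)
        ⟨x⁻¹, C.inv_mem hx⟩)
    have heq : e ^ q = 1 := by
      rw [he, hcomm.mul_pow, conj_pow, inv_pow]
      rw [← Subgroup.mem_centralizer_singleton_iff.mp hxq.2, mul_inv_cancel_right, mul_inv_cancel]
    have heD : e ∈ D := (Subgroup.zpowers_le.mpr hz₀D) (eq_zpowers_of_cyclic hC heC (pow_mem hz _) heq hz₀o)
    have hez : h * e * h⁻¹ = e := by
      rw [← Subgroup.mem_centralizer_singleton_iff.mp heD.2, mul_inv_cancel_right]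
    have h2 := conj_pow_eq (show h * x * h⁻¹ = e * x by rw [he, inv_mul_cancel_right]) hez p
    rw [hhp, one_mul, inv_one, mul_one] at h2
    have hep : e ^ p = 1 := mul_eq_right.mp h2.symm
    have he1 : e = 1 := orderOf_eq_one_iff.mp (Nat.eq_one_of_dvd_coprimes
      ((Nat.coprime_primes Fact.out Fact.out).mpr hqp) (orderOf_dvd_of_pow_eq_one heq)
      (orderOf_dvd_of_pow_eq_one hep))
    exact ⟨hx, Subgroup.mem_centralizer_singleton_iff.mpr
      (mul_inv_eq_iff_eq_mul.mp (by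
        have := show h * x * h⁻¹ = e * x by rw [he, inv_mul_cancel_right]
        rwa [he1, one_mul] at this)).symm⟩

theorem coprime_card_of_primes {p q : ℕ} [Fact p.Prime] [Fact q.Prime] (hqp : q ≠ p) {A U : Subgroup G}
    (hA : IsPGroup p A) (hU : IsPGroup q U) : (Nat.card A).Coprime (Nat.card U) := by
  obtain ⟨i, hi⟩ := IsPGroup.iff_card.mp hA
  obtain ⟨j, hj⟩ := IsPGroup.iff_card.mp hU
  rw [hi, hj]
  exact ((Nat.coprime_primes Fact.out Fact.out).mpr (Ne.symm hqp)).pow _ _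

/-- Two subgroups of index at most `p` meet in a group of order above `1`. -/
theorem exists_mem_inf_of_corank_one {p : ℕ} [Fact p.Prime] {Ω H₁ H₂ : Subgroup G}
    (hΩ : Cfsg.IsElementaryAbelian p Ω) (hΩc : p ^ 2 < Nat.card Ω) (h₁ : H₁ ≤ Ω) (h₂ : H₂ ≤ Ω)
    (hc₁ : Nat.card Ω ≤ p * Nat.card H₁) (hc₂ : Nat.card Ω ≤ p * Nat.card H₂) :
    ∃ h, h ∈ H₁ ∧ h ∈ H₂ ∧ h ≠ 1 := by
  by_contra! hcon
  have hinf : H₁ ⊓ H₂ = ⊥ := eq_bot_iff.mpr fun x hx => Subgroup.mem_bot.mpr (hcon x hx.1 hx.2)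
  have hn : H₂ ≤ Subgroup.normalizer (H₁ : Set G) := fun x hx =>
    Subgroup.centralizer_le_normalizer _ (Subgroup.mem_centralizer_iff.mpr fun y hy =>
      congrArg Subtype.val (hΩ.1.is_comm.comm ⟨y, h₁ hy⟩ ⟨x, h₂ hx⟩))
  have e := Coprime.card_sup_mul_card_inf hn
  rw [hinf, Subgroup.card_bot, mul_one] at e
  have h3 := Nat.mul_le_mul hc₁ hc₂
  rw [show p * Nat.card H₁ * (p * Nat.card H₂) = p ^ 2 * (Nat.card H₁ * Nat.card H₂) by ring, ← e] at h3
  have h4 := h3.trans (Nat.mul_le_mul_left _ (Subgroup.card_le_of_le (sup_le h₁ h₂)))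
  exact absurd (Nat.le_of_mul_le_mul_right h4 Nat.card_pos) (not_le.mpr hΩc)

/-- A noncyclic invariant `q`-group has noncyclic fixed points at some element of `Ω`. -/
theorem exists_fixed_noncyclic {p q : ℕ} [Fact p.Prime] [Fact q.Prime] (hqp : q ≠ p)
    {Ω U : Subgroup G} (hΩ : Cfsg.IsElementaryAbelian p Ω) (hΩc : p ^ 2 < Nat.card Ω)
    (hΩU : Ω ≤ Subgroup.normalizer (U : Set G)) (hU : IsPGroup q U) (hUnc : ¬ IsCyclic U) :
    ∃ h ∈ Ω, h ≠ 1 ∧ ¬ IsCyclic ↥(U ⊓ Subgroup.centralizer ({h} : Set G)) := by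
  have hcop := coprime_card_of_primes hqp (isPGroup_of_elementary hΩ) hU
  have hU0 : ¬ U ≤ ⊥ := fun h => hUnc (by
    rw [le_bot_iff.mp h]
    infer_instance)
  obtain ⟨H₁, hH₁, hc₁, hf₁⟩ :=
    exists_centralizer_corank_one_outside (D := ⊥) hΩ.1 hΩ.2 hU0 hΩU hcop
  by_cases hall : U ≤ U ⊓ Subgroup.centralizer (H₁ : Set G)
  · obtain ⟨h, h1, -, hne⟩ := exists_mem_inf_of_corank_one hΩ hΩc hH₁ hH₁ hc₁ hc₁
    refine ⟨h, hH₁ h1, hne, fun hc => hUnc ?_⟩
    rwa [inf_eq_left.mpr (hall.trans (inf_le_right.trans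
      (Subgroup.centralizer_le (Set.singleton_subset_iff.mpr h1))))] at hc
  obtain ⟨H₂, hH₂, hc₂, hf₂⟩ :=
    exists_centralizer_corank_one_outside hΩ.1 hΩ.2 hall hΩU hcop
  obtain ⟨h, h1, h2, hne⟩ := exists_mem_inf_of_corank_one hΩ hΩc hH₁ hH₂ hc₁ hc₂
  refine ⟨h, hH₁ h1, hne, fun hc => ?_⟩
  set C := U ⊓ Subgroup.centralizer ({h} : Set G) with hC
  obtain ⟨z, hz, hz1⟩ : ∃ z ∈ U ⊓ Subgroup.centralizer (H₁ : Set G), z ≠ 1 := by
    by_contra! h'
    exact hf₁ fun x hx => Subgroup.mem_bot.mpr (h' x hx)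
  refine hf₂ fun x hx => ⟨hx.1, Subgroup.mem_centralizer_iff.mpr fun y hy => ?_⟩
  refine centralizes_of_cyclic hqp hc (hU.to_le inf_le_left) ?_ (hΩ.2 y (hH₁ hy))
    (z := z) ⟨hz.1, Subgroup.centralizer_le (Set.singleton_subset_iff.mpr h1) hz.2⟩ hz1
    (Subgroup.mem_centralizer_iff.mp hz.2 y hy) x
    ⟨hx.1, Subgroup.centralizer_le (Set.singleton_subset_iff.mpr h2) hx.2⟩
  refine Subgroup.inf_normalizer_le_normalizer_inf ⟨hΩU (hH₁ hy), Subgroup.le_normalizer ?_⟩
  exact Subgroup.mem_centralizer_singleton_iff.mpr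
    (congrArg Subtype.val (hΩ.1.is_comm.comm ⟨y, hH₁ hy⟩ ⟨h, hH₁ h1⟩) :)

/-- Invariant `p'`-subgroups lie in the `p'`-core of a solvable subgroup containing `A`. -/
theorem le_piCoreOf_of_solvable {p : ℕ} [Fact p.Prime] (hp2 : p ≠ 2) {A N Y : Subgroup G}
    (hN : Group.IsSolvable N) (hAN : A ≤ N) (hAp : IsPGroup p A) (hAc : IsMulCommutative A)
    (hfull : ∀ x ∈ Subgroup.centralizer (A : Set G), IsPGroup p (Subgroup.zpowers x) → x ∈ A)
    (hYN : Y ≤ N) (hAY : A ≤ Subgroup.normalizer (Y : Set G)) (hY : (Nat.card Y).Coprime p) :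
    Y ≤ pComplOf p N := by
  haveI := hN
  have h1 : Y.subgroupOf N ≤ Cfsg.pPrimeCore p N := by
    refine le_pPrimeCore_of_constrained (Components.isPConstrained_of_solvable hN) (E := A.subgroupOf N)
      (hAp.of_equiv (Subgroup.subgroupOfEquivOfLe hAN).symm) ?_ ?_ (fun h => absurd h hp2) ?_ ?_
    · exact ⟨⟨fun a b => Subtype.ext (Subtype.ext (congrArg (fun z : A => (z : G))
        (hAc.is_comm.comm ⟨((a : N) : G), a.2⟩ ⟨((b : N) : G), b.2⟩) :))⟩⟩
    · intro x hx hxp
      refine hfull x (Subgroup.mem_centralizer_iff.mpr fun e he =>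
        congrArg Subtype.val (Subgroup.mem_centralizer_iff.mp hx ⟨e, hAN he⟩ he)) ?_
      have := hxp.map N.subtype
      rwa [MonoidHom.map_zpowers] at this
    · exact fun e he => Subgroup.mem_normalizer_iff.mpr fun y =>
        Subgroup.mem_normalizer_iff.mp (hAY he) y
    · rw [Nat.card_congr (Subgroup.subgroupOfEquivOfLe hYN).toEquiv]
      exact hY
  intro y hy
  exact ⟨⟨y, hYN hy⟩, h1 hy, rfl⟩

theorem pRankLE_pCore_of_fittingOf {t : ℕ} [Fact t.Prime] {N : Subgroup G}
    (h : Cfsg.PRankLE t 2 (Cfsg.fittingOf N)) : Cfsg.PRankLE t 2 (Cfsg.pCore t N) := by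
  let e := (Cfsg.fittingSubgroup N).equivMapOfInjective N.subtype N.subtype_injective
  refine pRankLE_of_injective (e.toMonoidHom.comp (Subgroup.inclusion (Cores.pCore_le_fittingSubgroup t))) ?_ h
  exact e.injective.comp (Subgroup.inclusion_injective _)

/-- The derived subgroup of a solvable odd subgroup with Fitting subgroup of rank at most two. -/
theorem commutator_le_fitting_of_fittingOf_rank {N : Subgroup G} (hN : Group.IsSolvable N)
    (hodd : Odd (Nat.card N)) (h : Cfsg.RankLE 2 (Cfsg.fittingOf N)) :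
    commutator N ≤ Cfsg.fittingSubgroup N :=
  haveI := hN
  commutator_le_fitting_of_rank_two hodd fun t ht =>
    have := Fact.mk ht
    pRankLE_pCore_of_fittingOf (h t ht)

end Basic

variable {G : Type u} [Group G] [Finite G] (hG : Cfsg.IsMinSimpleOddOrder G)
include hG

/-- Data attached to a `q`-subgroup of rank three. -/
theorem exists_local_data {q : ℕ} [hq : Fact q.Prime] {M S : Subgroup G} (hM : IsCoatom M)
    (hSM : S ≤ M) (hS : IsPGroup q S) (hS3 : ¬ Cfsg.PRankLE q 2 S)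
    {F₁ : Subgroup G} (h₁ : Cfsg.IsElementaryAbelian q F₁) (hc₁ : q ^ 2 < Nat.card F₁)
    (hF₁ : Cfsg.InUniqueMaximal F₁) :
    ∃ U : Subgroup G, U ≤ S ∧ Subgroup.normalizer (S : Set G) ≤ Subgroup.normalizer (U : Set G) ∧
      ¬ IsCyclic U ∧ ∀ u ∈ U, u ^ q = 1 → u ≠ 1 → Subgroup.centralizer ({u} : Set G) ≤ M := by
  obtain ⟨F, hFS, hFe, hFc⟩ := exists_elementary_of_not_pRankLE hS3
  have hFU := inUniqueMaximal_elementary_transfer hG h₁ hc₁ hF₁ hFe hFc
  have hM' : ∀ {X : Subgroup G}, Cfsg.InUniqueMaximal X → X ≤ M → ∀ K : Subgroup G, K ≠ ⊤ → X ≤ K → K ≤ M := by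
    intro X hX hXM K hK hXK
    obtain ⟨L, hL, hKL⟩ := exists_coatom_ge hG hK
    exact (ExistsUnique.unique hX ⟨hL, hXK.trans hKL⟩ ⟨hM, hXM⟩) ▸ hKL
  have hq2 : q ≠ 2 := prime_ne_two_of_elementary hG hFe
    ((Nat.one_lt_pow two_ne_zero hq.out.one_lt).trans hFc)
  set Z₂ := Subgroup.upperCentralSeries S 2 with hZ₂
  set U := Z₂.map S.subtype with hU
  refine ⟨U, Subgroup.map_subtype_le _, Cores.normalizer_le_normalizer_map_subtype S Z₂, ?_, ?_⟩
  · -- a normal elementary subgroup of order `q ^ 2` lies in the second centre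
    intro hc
    have hFe' : Cfsg.IsElementaryAbelian q (F.subgroupOf S) :=
      ⟨⟨⟨fun a b => Subtype.ext (Subtype.ext (congrArg Subtype.val
        (hFe.1.is_comm.comm ⟨a.1.1, a.2⟩ ⟨b.1.1, b.2⟩) :))⟩⟩, fun b hb => Subtype.ext (hFe.2 _ hb)⟩
    obtain ⟨E, hEn, hEe, hE2⟩ := exists_normal_elementary_sq hq2 hS hFe' (by
      rw [Nat.card_congr (Subgroup.subgroupOfEquivOfLe hFS).toEquiv]
      exact lt_of_le_of_lt (Nat.le_self_pow two_ne_zero q) hFc)
    have hEZ : E ≤ Z₂ := by
      set π := QuotientGroup.mk' (Subgroup.center S) with hπ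
      haveI : (E.map π).Normal := hEn.map π (QuotientGroup.mk'_surjective _)
      have hcen : E.map π ≤ Subgroup.center (S ⧸ Subgroup.center S) := by
        by_cases h0 : E.map π = ⊥
        · rw [h0]; exact bot_le
        obtain ⟨w, hwE, hwo, hwc⟩ := PLocal.exists_central_prime_mem (hS.to_quotient _) h0
        have hle : Nat.card (E.map π) ≤ q := by
          have hE1 : E ≠ ⊥ := fun h => by
            rw [h, Subgroup.card_bot] at hE2
            exact absurd hE2.symm (Nat.one_lt_pow two_ne_zero hq.out.one_lt).ne'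
          obtain ⟨z, hzE, hzo, hzc⟩ := PLocal.exists_central_prime_mem hS hE1
          have h1 := Cores.card_map_mul_card_inf_ker π E
          rw [QuotientGroup.ker_mk', hE2] at h1
          have h2 : q ≤ Nat.card ↥(E ⊓ Subgroup.center S) := by
            rw [← hzo, ← Nat.card_zpowers]
            exact Subgroup.card_le_of_le (Subgroup.zpowers_le.mpr ⟨hzE, hzc⟩)
          have h3 := Nat.mul_le_mul_left (Nat.card (E.map π)) h2
          rw [h1, pow_two] at h3
          exact Nat.le_of_mul_le_mul_right h3 hq.out.pos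
        have heq : Subgroup.zpowers w = E.map π := Subgroup.eq_of_le_of_card_ge
          (Subgroup.zpowers_le.mpr hwE) (by rw [Nat.card_zpowers, hwo]; exact hle)
        rw [← heq]
        exact Subgroup.zpowers_le.mpr hwc
      intro x hx
      refine Subgroup.mem_upperCentralSeries_succ_iff.mpr fun y => ?_
      rw [Subgroup.upperCentralSeries_one, ← QuotientGroup.eq_one_iff, ← QuotientGroup.mk'_apply,
        map_commutatorElement]
      exact commutatorElement_eq_one_iff_mul_comm.mpr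
        (Subgroup.mem_center_iff.mp (hcen (Subgroup.mem_map_of_mem π hx)) _).symm
    refine not_isCyclic_of_elementary (isElementaryAbelian_map hEe S.subtype) ?_ ?_
    · rw [Subgroup.card_map_of_injective S.subtype_injective, hE2]
      exact lt_self_pow₀ hq.out.one_lt (by norm_num)
    · have : IsCyclic U := hc
      exact isCyclic_of_injective (Subgroup.inclusion (Subgroup.map_mono hEZ))
        (Subgroup.inclusion_injective _)
  · rintro _ ⟨v, hv, rfl⟩ huq hu1
    have hCu : Subgroup.centralizer ({(v : G)} : Set G) ≠ ⊤ := centralizer_singleton_ne_top hG hu1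
    have hvq : v ^ q = 1 := Subtype.ext huq
    by_cases hvc : v ∈ Subgroup.center S
    · refine hM' hFU (hFS.trans hSM) _ hCu (hFS.trans fun s hs => Subgroup.mem_centralizer_singleton_iff.mpr ?_)
      exact congrArg Subtype.val (Subgroup.mem_center_iff.mp hvc ⟨s, hs⟩)
    -- the normal subgroup generated by `v` and the central elements of order `q`
    set Ec : Set S := {x : S | x ∈ Subgroup.center S ∧ x ^ q = 1} with hEc
    set E := Subgroup.closure (Ec ∪ {v}) with hE
    have hcommE : IsMulCommutative E := Subgroup.isMulCommutative_closure (by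
      rintro a (ha | rfl) b (hb | rfl)
      · exact Subgroup.mem_center_iff.mp hb.1 a
      · exact (Subgroup.mem_center_iff.mp ha.1 _).symm
      · exact Subgroup.mem_center_iff.mp hb.1 _
      · rfl)
    have hEe : Cfsg.IsElementaryAbelian q E := by
      refine ⟨hcommE, fun b hb => ?_⟩
      induction hb using Subgroup.closure_induction with
      | mem a ha => rcases ha with ha | rfl
                    · exact ha.2
                    · exact hvq
      | one => exact one_pow _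
      | mul a b ha hb iha ihb =>
        rw [(show Commute a b from congrArg Subtype.val (hcommE.is_comm.comm ⟨a, ha⟩ ⟨b, hb⟩)).mul_pow,
          iha, ihb, one_mul]
      | inv a _ iha => rw [inv_pow, iha, inv_one]
    have hconj : ∀ r : S, r * v * r⁻¹ * v⁻¹ ∈ Ec := by
      intro r
      have hcen : ⁅v, r⁆ ∈ Subgroup.center S := by
        have h := Subgroup.mem_upperCentralSeries_succ_iff.mp hv r
        rwa [Subgroup.upperCentralSeries_one] at h
      have hc : r * v * r⁻¹ * v⁻¹ ∈ Subgroup.center S := by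
        have h' := inv_mem hcen
        simpa [commutatorElement_def, mul_assoc] using h'
      refine ⟨hc, ?_⟩
      set c := r * v * r⁻¹ * v⁻¹ with hcdef
      have hcv : Commute c v := (Subgroup.mem_center_iff.mp hc v).symm
      have h1 : (c * v) ^ q = 1 := by
        rw [show c * v = r * v * r⁻¹ by rw [hcdef, inv_mul_cancel_right], conj_pow, hvq, mul_one,
          mul_inv_cancel]
      rwa [hcv.mul_pow, hvq, mul_one] at h1
    have hEn : E.Normal := by
      refine Subgroup.normalizer_eq_top_iff.mp (eq_top_iff.mpr fun r _ => ?_)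
      refine le_normalizer_of_conj_mem' (A := (⊤ : Subgroup S)) (fun d _ x hx => ?_) (Subgroup.mem_top r)
      induction hx using Subgroup.closure_induction with
      | mem a ha =>
        rcases ha with ha | rfl
        · rw [Subgroup.mem_center_iff.mp ha.1 d, mul_inv_cancel_right]
          exact Subgroup.subset_closure (Or.inl ha)
        · rw [← inv_mul_cancel_right (d * a * d⁻¹) a]
          exact mul_mem (Subgroup.subset_closure (Or.inl (hconj d)))
            (Subgroup.subset_closure (Or.inr rfl))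
      | one => rw [mul_one, mul_inv_cancel]; exact one_mem _
      | mul a b _ _ iha ihb =>
        rw [show d * (a * b) * d⁻¹ = (d * a * d⁻¹) * (d * b * d⁻¹) by group]
        exact mul_mem iha ihb
      | inv a _ iha =>
        rw [show d * a⁻¹ * d⁻¹ = (d * a * d⁻¹)⁻¹ by group]
        exact inv_mem iha
    have hvE : v ∈ E := Subgroup.subset_closure (Or.inr rfl)
    have hSnt : (⊤ : Subgroup S) ≠ ⊥ := fun h => by
      have : v ∈ (⊥ : Subgroup S) := h ▸ Subgroup.mem_top v
      exact hu1 (congrArg Subtype.val (Subgroup.mem_bot.mp this) :)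
    obtain ⟨z, -, hzo, hzc⟩ := PLocal.exists_central_prime_mem hS hSnt
    have hzE : z ∈ E := Subgroup.subset_closure (Or.inl ⟨hzc, hzo ▸ pow_orderOf_eq_one z⟩)
    have hEcard : q < Nat.card E := by
      obtain ⟨k, hk⟩ := IsPGroup.iff_card.mp (isPGroup_of_elementary hEe)
      by_contra hle
      rw [not_lt] at hle
      have h1 : Subgroup.zpowers z = E := Subgroup.eq_of_le_of_card_ge (Subgroup.zpowers_le.mpr hzE)
        (by rw [Nat.card_zpowers, hzo]; exact hle)
      exact hvc (Subgroup.zpowers_le.mpr hzc (h1 ▸ hvE))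
    set E' := E.map S.subtype with hE'
    have hE'e : Cfsg.IsElementaryAbelian q E' := isElementaryAbelian_map hEe _
    have hE'c : Nat.card E' = Nat.card E := Subgroup.card_map_of_injective S.subtype_injective
    have hE'U : Cfsg.InUniqueMaximal E' := by
      rcases le_or_gt (Nat.card E) (q ^ 2) with hle | hgt
      · have hE2 : Nat.card E = q ^ 2 := by
          obtain ⟨k, hk⟩ := IsPGroup.iff_card.mp (isPGroup_of_elementary hEe)
          rw [hk] at hle hEcard ⊢
          have h1 := (Nat.pow_le_pow_iff_right hq.out.one_lt).mp hle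
          have h2 : 1 < k := (Nat.pow_lt_pow_iff_right hq.out.one_lt).mp (by rwa [pow_one])
          rw [show k = 2 by omega]
        have hidx := index_centralizer_le hS E hE2
        set C := Subgroup.centralizer (E : Set S) with hC
        set F' := F.subgroupOf S with hF'
        have h1 : C.relIndex F' ≤ q := (Nat.le_of_dvd (Nat.pos_of_ne_zero Subgroup.index_ne_zero_of_finite)
          (Subgroup.relIndex_dvd_index_of_normal C F')).trans hidx
        have h2 : Nat.card ↥(C ⊓ F') * C.relIndex F' = Nat.card F' := by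
          rw [← Subgroup.inf_relIndex_right, Subgroup.relIndex,
            ← Nat.card_congr (Subgroup.subgroupOfEquivOfLe (inf_le_right : C ⊓ F' ≤ F')).toEquiv,
            Subgroup.card_mul_index]
        have h3 : q < Nat.card ↥(C ⊓ F') := by
          by_contra hle'
          rw [not_lt] at hle'
          have := Nat.mul_le_mul hle' h1
          rw [h2, Nat.card_congr (Subgroup.subgroupOfEquivOfLe hFS).toEquiv, ← pow_two] at this
          exact absurd hFc (not_lt.mpr this)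
        set D := (C ⊓ F').map S.subtype with hD
        have hDF : D ≤ F := by rintro _ ⟨x, hx, rfl⟩; exact hx.2
        have hDU : Cfsg.InUniqueMaximal D := inUniqueMaximal_of_centralizing hG hFU
          (isElementaryAbelian_mono hFe hDF)
          (by rwa [Subgroup.card_map_of_injective S.subtype_injective])
          (hDF.trans (le_centralizer_self hFe.1))
        refine inUniqueMaximal_of_centralizing hG hDU hE'e (hE'c ▸ hEcard) ?_
        rintro _ ⟨e, he, rfl⟩
        rw [Subgroup.mem_centralizer_iff]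
        rintro _ ⟨x, hx, rfl⟩
        exact congrArg Subtype.val (Subgroup.mem_centralizer_iff.mp hx.1 e he).symm
      · exact inUniqueMaximal_elementary_transfer hG h₁ hc₁ hF₁ hE'e (hE'c ▸ hgt)
    refine hM' hE'U ((Subgroup.map_subtype_le E).trans hSM) _ hCu fun x hx =>
      Subgroup.mem_centralizer_singleton_iff.mpr ?_
    exact congrArg Subtype.val (hE'e.1.is_comm.comm ⟨x, hx⟩ ⟨(v : G), Subgroup.mem_map_of_mem _ hvE⟩)

/-- A moving piece of `U` at a hyperplane has its centralizer in `M`. -/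
theorem centralizer_le_of_local {q : ℕ} [Fact q.Prime] {M U W : Subgroup G} (hUq : IsPGroup q U)
    (hU : ∀ u ∈ U, u ^ q = 1 → u ≠ 1 → Subgroup.centralizer ({u} : Set G) ≤ M)
    (hWU : W ≤ U) (hW : W ≠ ⊥) : Subgroup.centralizer (W : Set G) ≤ M := by
  obtain ⟨k, hk⟩ := IsPGroup.iff_card.mp (hUq.to_le hWU)
  rcases k with _ | k
  · exact absurd (Subgroup.card_eq_one.mp (by rw [hk, pow_zero])) hW
  obtain ⟨u, hu⟩ := exists_prime_orderOf_dvd_card' (G := W) q (hk ▸ dvd_pow_self q k.succ_ne_zero)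
  refine (Subgroup.centralizer_le (Set.singleton_subset_iff.mpr u.2)).trans (hU u (hWU u.2) ?_ ?_)
  · rw [← hu, ← Subgroup.orderOf_coe, pow_orderOf_eq_one]
  · intro h
    rw [← Subgroup.orderOf_coe, h, orderOf_one] at hu
    exact (Fact.out : q.Prime).one_lt.ne hu

variable {p : ℕ} [hp : Fact p.Prime] (S : Sylow p G) {A : Subgroup G}
  (hA : Cfsg.IsSCN (S : Subgroup G) A) (hAc : IsMulCommutative A)
  {Ω : Subgroup G} (hΩA : Ω ≤ A) (hΩ : Cfsg.IsElementaryAbelian p Ω) (hΩc : p ^ 2 < Nat.card Ω)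

include hA hAc hΩA hΩ hΩc

/-- If every maximal subgroup over `A` has Fitting subgroup of rank at most two, `A` is unique. -/
theorem inUniqueMaximal_scn_rank_two
    (hr : ∀ K : Subgroup G, IsCoatom K → A ≤ K → Cfsg.RankLE 2 (Cfsg.fittingOf K)) :
    Cfsg.InUniqueMaximal A := by
  classical
  have hAp : IsPGroup p A := S.isPGroup'.to_le hA.1
  have hpA : p ∣ Nat.card A := by
    obtain ⟨k, hk⟩ := IsPGroup.iff_card.mp hAp
    rcases k with _ | k
    · exact absurd (hΩc.trans_le ((Subgroup.card_le_of_le hΩA).trans (hk.trans (pow_zero p)).le))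
        (not_lt.mpr (Nat.one_le_pow _ _ hp.out.pos))
    · exact hk ▸ dvd_pow_self p k.succ_ne_zero
  have hA0 : A ≠ ⊥ := fun h => hp.out.one_lt.ne'
    (Nat.eq_one_of_dvd_one ((by rwa [h, Subgroup.card_bot] at hpA) : p ∣ 1))
  obtain ⟨K₀, hK₀, hAK₀⟩ := exists_coatom_ge hG (ne_top_of_isPGroup hG hAp)
  have hpdiv : ∀ {K : Subgroup G}, A ≤ K → p ∣ Nat.card K := fun h => hpA.trans (Subgroup.card_dvd_of_le h)
  obtain ⟨⟨M, q⟩, ⟨hM, hAM, hq, hqM⟩, hmax⟩ := Set.exists_max_image
    {x : Subgroup G × ℕ | IsCoatom x.1 ∧ A ≤ x.1 ∧ x.2.Prime ∧ x.2 ∣ Nat.card x.1} Prod.snd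
    ((Set.finite_univ.prod (Set.finite_Iic (Nat.card G))).subset fun x hx =>
      ⟨Set.mem_univ _, Nat.le_of_dvd Nat.card_pos (hx.2.2.2.trans (Subgroup.card_subgroup_dvd_card _))⟩)
    ⟨(K₀, p), hK₀, hAK₀, hp.out, hpdiv hAK₀⟩
  have := Fact.mk hq
  have hsyl : ∀ K : Subgroup G, IsCoatom K → A ≤ K → q ∣ Nat.card K →
      ∃ Q : Subgroup G, Q ≠ ⊥ ∧ IsPGroup q Q ∧ Subgroup.normalizer (Q : Set G) = K ∧
        ∀ R : Subgroup G, IsPGroup q R → R ≤ K → R ≤ Q := by
    intro K hK hAK hqK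
    haveI := isSolvable_of_ne_top hG hK.1
    obtain ⟨N, hNc, hN⟩ := exists_characteristic_hall_gt (G := K) (odd_card_subgroup hG K)
      (fun t ht => have := Fact.mk ht; pRankLE_pCore_of_fittingOf (hr K hK hAK t ht)) (q - 1)
    have hNq : IsPGroup q N := IsPGroup.of_card (Nat.eq_prime_pow_of_unique_prime_dvd Nat.card_pos.ne'
      fun {r} hr' hd => by
        have h1 := (hN.1 r hr' hd).2
        have h2 : r ≤ q := hmax (K, r) ⟨hK, hAK, hr', hd.trans (Subgroup.card_subgroup_dvd_card N)⟩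
        omega)
    have hqi : ¬ q ∣ N.index := hN.2 q hq ⟨hq, by have := hq.one_lt; omega⟩
    have hall : ∀ R : Subgroup G, IsPGroup q R → R ≤ K → R ≤ N.map K.subtype := by
      intro R hR hRK x hx
      refine ⟨⟨x, hRK hx⟩, ?_, rfl⟩
      show (⟨x, hRK hx⟩ : K) ∈ N
      rw [← QuotientGroup.eq_one_iff, ← QuotientGroup.mk'_apply, ← orderOf_eq_one_iff]
      obtain ⟨j, hj⟩ := exists_orderOf_of_mem hR hx
      refine Nat.eq_one_of_dvd_coprimes ((hq.coprime_iff_not_dvd.mpr hqi).pow_left j)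
        ((orderOf_map_dvd _ _).trans ?_) ?_
      · rw [← Subgroup.orderOf_coe]; exact hj.dvd
      · rw [Subgroup.index_eq_card]; exact orderOf_dvd_natCard _
    refine ⟨N.map K.subtype, fun h => ?_, hNq.map _, ?_, hall⟩
    · have h' : N = ⊥ := (Subgroup.map_eq_bot_iff_of_injective _ K.subtype_injective).mp h
      rw [h', Subgroup.index_bot] at hqi
      exact hqi hqK
    · refine normalizer_eq_of_coatom hG hK (hNq.map _) (fun h => ?_)
        (Subgroup.le_normalizer.trans (Cores.normalizer_le_normalizer_map_subtype K N))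
      have h' : N = ⊥ := (Subgroup.map_eq_bot_iff_of_injective _ K.subtype_injective).mp h
      rw [h', Subgroup.index_bot] at hqi
      exact hqi hqK
  obtain ⟨Q, hQ0, hQq, hNQ, hQall⟩ := hsyl M hM hAM hqM
  have hqp : q ≠ p := by
    intro e
    subst e
    have hΩQ := hQall Ω (isPGroup_of_elementary hΩ) (hΩA.trans hAM)
    have hQM : Q ≤ M := Subgroup.le_normalizer.trans hNQ.le
    have hQF : Q ≤ Cfsg.fittingOf M := le_fittingOf_normal_isPGroup hQM hQq hNQ.ge
    have h := hr M hM hAM q hq (Ω.subgroupOf (Cfsg.fittingOf M))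
      ⟨⟨fun a b => Subtype.ext (Subtype.ext (congrArg Subtype.val
        (hΩ.1.is_comm.comm ⟨a.1.1, a.2⟩ ⟨b.1.1, b.2⟩) :))⟩⟩ (fun a ha => Subtype.ext (hΩ.2 _ ha))
    rw [Nat.card_congr (Subgroup.subgroupOfEquivOfLe (hΩQ.trans hQF)).toEquiv] at h
    exact absurd hΩc (not_lt.mpr h)
  have hmaxQ : ∀ K : Subgroup G, IsCoatom K → A ≤ K → ∀ R : Subgroup G, IsPGroup q R →
      R ≠ ⊥ → Subgroup.normalizer (R : Set G) = K → (∀ V : Subgroup G, IsPGroup q V → V ≤ K → V ≤ R) →
      R ∈ Cfsg.maxInvSubgroups ⊤ A {q} := by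
    intro K _ hAK R hR _ hNR hall
    refine ⟨mem_invSubgroups_singleton_of_isPGroup hR (hAK.trans hNR.ge), fun V hV hRV => ?_⟩
    by_contra hne
    have hVq := isPGroup_of_mem_inv hV
    exact exists_mem_normalizer_not_mem hVq (lt_of_le_of_ne hRV (Ne.symm hne))
      (hall _ (hVq.to_le inf_le_right) (inf_le_left.trans hNR.le))
  have hQm := hmaxQ M hM hAM Q hQq hQ0 hNQ hQall
  have hΩQ : Ω ≤ Subgroup.normalizer (Q : Set G) := (hΩA.trans hAM).trans hNQ.ge
  have hp2 : p ≠ 2 := prime_ne_two_of_elementary hG hΩ ((Nat.one_lt_pow two_ne_zero hp.out.one_lt).trans hΩc)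
  have hA3 : ¬ Cfsg.PRankLE p 2 A := fun h => by
    have h1 := h (Ω.subgroupOf A) ⟨⟨fun a b => Subtype.ext (Subtype.ext (congrArg Subtype.val
        (hΩ.1.is_comm.comm ⟨a.1.1, a.2⟩ ⟨b.1.1, b.2⟩) :))⟩⟩ (fun a ha => Subtype.ext (hΩ.2 _ ha))
    rw [Nat.card_congr (Subgroup.subgroupOfEquivOfLe hΩA).toEquiv] at h1
    exact absurd hΩc (not_lt.mpr h1)
  obtain ⟨H₁, hH₁, hc₁, hf₁⟩ := exists_centralizer_corank_one_outside (D := ⊥) hΩ.1 hΩ.2
    (fun h => hQ0 (le_bot_iff.mp h)) hΩQ (coprime_card_of_primes hqp (isPGroup_of_elementary hΩ) hQq)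
  have hCA : ∀ h ∈ Ω, A ≤ Subgroup.centralizer ({h} : Set G) := fun h hh a ha =>
    Subgroup.mem_centralizer_singleton_iff.mpr
      (congrArg Subtype.val (hAc.is_comm.comm ⟨a, ha⟩ ⟨h, hΩA hh⟩) :)
  -- the centralizers of the elements fixing part of `Q` lie in `M`
  have hgood : ∀ h ∈ H₁, h ≠ 1 → Subgroup.centralizer ({h} : Set G) ≤ M := by
    intro h hh h1
    obtain ⟨K, hK, hCK⟩ := exists_coatom_ge hG (centralizer_singleton_ne_top hG h1)
    have hAK : A ≤ K := (hCA h (hH₁ hh)).trans hCK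
    have hqK : q ∣ Nat.card K := by
      set W := Q ⊓ Subgroup.centralizer (H₁ : Set G) with hW
      obtain ⟨k, hk⟩ := IsPGroup.iff_card.mp (hQq.to_le (inf_le_left : W ≤ Q))
      rcases k with _ | k
      · exact absurd (Subgroup.card_eq_one.mp (by rw [hk, pow_zero])).le hf₁
      · exact (dvd_pow_self q k.succ_ne_zero).trans (hk ▸ Subgroup.card_dvd_of_le (inf_le_right.trans
          ((Subgroup.centralizer_le (Set.singleton_subset_iff.mpr hh)).trans hCK)))
    obtain ⟨QK, hQK0, hQKq, hNQK, hQKall⟩ := hsyl K hK hAK hqK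
    have htr := transitivity_of_constrained (p := p) (E := A)
      (fun T hT hT1 => Components.isPConstrained_of_solvable (isSolvable_normalizer_of_pGroup hG hT hT1))
      (fun e => absurd e hp2) hAp hAc (fun x hx hxp => mem_of_centralizer_of_isSCN S hAc hA hx hxp) hA3 hqp
    obtain ⟨d, hd, he⟩ := htr Q hQm QK (hmaxQ K hK hAK QK hQKq hQK0 hNQK hQKall)
    have hdK : d ∈ Subgroup.normalizer (QK : Set G) := by
      rw [hNQK]
      exact hCK (Subgroup.centralizer_le (Set.singleton_subset_iff.mpr (hΩA (hH₁ hh))) (piCoreOf_le _ _ hd))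
    have h2 : Q = QK := by
      apply Subgroup.map_injective (f := (MulAut.conj d).toMonoidHom) (MulAut.conj d).injective
      rw [← he]
      exact (Subgroup.mem_normalizer_iff_map_conj_eq.mp hdK).symm
    rw [← hNQ, h2, hNQK]
    exact hCK
  refine inUniqueMaximal_of_inv hG hM hAM hA0 (fun Y hY hAY => ?_) hAp
  by_contra hne
  have hcopY : (Nat.card Ω).Coprime (Nat.card Y) := by
    obtain ⟨k, hk⟩ := IsPGroup.iff_card.mp (isPGroup_of_elementary hΩ)
    rw [hk]; exact (hY.pow_right k).symm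
  obtain ⟨H₂, hH₂, hc₂, hf₂⟩ := exists_centralizer_corank_one_outside hΩ.1 hΩ.2 hne (hΩA.trans hAY) hcopY
  obtain ⟨h, h1, h2, hne'⟩ := exists_mem_inf_of_corank_one hΩ hΩc hH₁ hH₂ hc₁ hc₂
  exact hf₂ ((inf_le_right.trans (Subgroup.centralizer_le (Set.singleton_subset_iff.mpr h2))).trans
    (hgood h h1 hne'))

omit hA hAc in
/-- A fixed element with centralizer in `M`. -/
theorem exists_good_element {q : ℕ} [Fact q.Prime] (hqp : q ≠ p) {M U : Subgroup G} (hM : IsCoatom M)
    (hΩU : Ω ≤ Subgroup.normalizer (U : Set G)) (hUq : IsPGroup q U) (hUnc : ¬ IsCyclic U) (hUM : U ≤ M)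
    (hU : ∀ u ∈ U, u ^ q = 1 → u ≠ 1 → Subgroup.centralizer ({u} : Set G) ≤ M) :
    ∃ g ∈ Ω, g ≠ 1 ∧ Subgroup.centralizer ({g} : Set G) ≤ M := by
  obtain ⟨g, hg, hg1, hnc⟩ := exists_fixed_noncyclic hqp hΩ hΩc hΩU hUq hUnc
  refine ⟨g, hg, hg1, ?_⟩
  have hq2 : q ≠ 2 := by
    obtain ⟨k, hk⟩ := IsPGroup.iff_card.mp hUq
    rcases k with _ | k
    · exact absurd (by have := (Nat.card_eq_one_iff_unique.mp (hk.trans (pow_zero q))).1; infer_instance) hUnc
    · exact prime_ne_two_of_dvd hG ((dvd_pow_self q k.succ_ne_zero).trans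
        (hk ▸ Subgroup.card_subgroup_dvd_card U))
  obtain ⟨V, hV, hVe, hV2⟩ := exists_elementary_sq_of_not_cyclic hq2 _ (hUq.to_le inf_le_left) hnc
  have hVU := Cfsg.Agent.S1398.result hG M hM q V ((hV.trans inf_le_left).trans hUM) hVe
    (not_isCyclic_of_elementary hVe (hV2 ▸ lt_self_pow₀ (Fact.out : q.Prime).one_lt (by norm_num)))
    (Or.inl fun b hb hb1 => hU b (hV hb).1 (hVe.2 b hb) hb1)
  obtain ⟨K, hK, hCK⟩ := exists_coatom_ge hG (centralizer_singleton_ne_top hG hg1)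
  exact (ExistsUnique.unique hVU ⟨hK, (hV.trans inf_le_right).trans hCK⟩
    ⟨hM, (hV.trans inf_le_left).trans hUM⟩) ▸ hCK

omit hA in
/-- Splitting off the moving part of a piece. -/
theorem commutator_not_le {q : ℕ} [Fact q.Prime] (hqp : q ≠ p) {L Y H : Subgroup G}
    (hYq : IsPGroup q Y) (hAY : A ≤ Subgroup.normalizer (Y : Set G)) (hH : H ≤ Ω)
    (hCL : Y ⊓ Subgroup.centralizer (Ω : Set G) ≤ L)
    (hne : ¬ Y ⊓ Subgroup.centralizer (H : Set G) ≤ L) :
    ∃ W : Subgroup G, W ≤ Y ⊓ Subgroup.centralizer (H : Set G) ∧ ¬ W ≤ L ∧ IsPGroup q W ∧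
      A ≤ Subgroup.normalizer (W : Set G) ∧ ⁅W, Ω⁆ = W := by
  set X := Y ⊓ Subgroup.centralizer (H : Set G) with hX
  have hAC : A ≤ Subgroup.centralizer (H : Set G) := fun a ha => Subgroup.mem_centralizer_iff.mpr
    fun y hy => congrArg Subtype.val (hAc.is_comm.comm ⟨y, hΩA (hH hy)⟩ ⟨a, ha⟩)
  have hAX : A ≤ Subgroup.normalizer (X : Set G) :=
    le_trans (le_inf hAY (hAC.trans Subgroup.le_normalizer)) Subgroup.inf_normalizer_le_normalizer_inf
  have hΩX := hΩA.trans hAX
  have hXq : IsPGroup q X := hYq.to_le inf_le_left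
  have hcop := coprime_card_of_primes hqp (isPGroup_of_elementary hΩ) hXq
  have hsol : Group.IsSolvable Ω := by
    have := (isPGroup_of_elementary hΩ).isNilpotent
    infer_instance
  refine ⟨⁅X, Ω⁆, Coprime.commutator_le_of_le_normalizer hΩX, fun h => hne ?_,
    hXq.to_le (Coprime.commutator_le_of_le_normalizer hΩX), ?_,
    Coprime.commutator_commutator_eq hΩX hcop (Or.inl hsol)⟩
  · rw [← Coprime.commutator_sup_centralizer_eq hΩX hcop (Or.inl hsol)]
    exact sup_le h ((inf_le_inf_right _ inf_le_left).trans hCL)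
  · intro a ha
    refine Subgroup.mem_normalizer_iff_map_conj_eq.mpr ?_
    rw [Subgroup.map_commutator, Subgroup.mem_normalizer_iff_map_conj_eq.mp (hAX ha),
      Subgroup.mem_normalizer_iff_map_conj_eq.mp (show a ∈ Subgroup.normalizer (Ω : Set G) from
        Subgroup.centralizer_le_normalizer _ (Subgroup.mem_centralizer_iff.mpr fun y hy =>
          congrArg Subtype.val (hAc.is_comm.comm ⟨y, hΩA hy⟩ ⟨a, ha⟩)))]

/-- The case of a maximal subgroup over `A` whose Fitting subgroup has rank three. -/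
theorem inUniqueMaximal_scn_rank_three
    (hp0 : ∀ K : Subgroup G, IsCoatom K → Cfsg.PRankLE p 2 (Cfsg.fittingOf K))
    {M : Subgroup G} (hM : IsCoatom M) (hAM : A ≤ M) {q : ℕ} [Fact q.Prime]
    (hq3 : ¬ Cfsg.PRankLE q 2 (Cfsg.fittingOf M)) : Cfsg.InUniqueMaximal A := by
  classical
  have hAp : IsPGroup p A := S.isPGroup'.to_le hA.1
  have hp2 : p ≠ 2 := prime_ne_two_of_elementary hG hΩ ((Nat.one_lt_pow two_ne_zero hp.out.one_lt).trans hΩc)
  have hA3 : ¬ Cfsg.PRankLE p 2 A := fun h => by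
    have h1 := h (Ω.subgroupOf A) ⟨⟨fun a b => Subtype.ext (Subtype.ext (congrArg Subtype.val
        (hΩ.1.is_comm.comm ⟨a.1.1, a.2⟩ ⟨b.1.1, b.2⟩) :))⟩⟩ (fun a ha => Subtype.ext (hΩ.2 _ ha))
    rw [Nat.card_congr (Subgroup.subgroupOfEquivOfLe hΩA).toEquiv] at h1
    exact absurd hΩc (not_lt.mpr h1)
  have hA0 : A ≠ ⊥ := fun h => hA3 fun D _ _ => by
    have : Nat.card D ≤ 1 := (Subgroup.card_le_card_group D).trans (by rw [h, Subgroup.card_bot])
    exact this.trans (Nat.one_le_pow _ _ hp.out.pos)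
  have hCA : ∀ h ∈ Ω, Subgroup.centralizer (A : Set G) ≤ Subgroup.centralizer ({h} : Set G) := fun h hh =>
    Subgroup.centralizer_le (Set.singleton_subset_iff.mpr (hΩA hh))
  have hAcen : ∀ h ∈ Ω, A ≤ Subgroup.centralizer ({h} : Set G) := fun h hh =>
    (le_centralizer_self hAc).trans (hCA h hh)
  have htr : ∀ {t : ℕ} [Fact t.Prime], t ≠ p → _ := fun {t} _ htp =>
    transitivity_of_constrained (p := p) (E := A) (q := t)
      (fun T hT hT1 => Components.isPConstrained_of_solvable (isSolvable_normalizer_of_pGroup hG hT hT1))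
      (fun e => absurd e hp2) hAp hAc (fun x hx hxp => mem_of_centralizer_of_isSCN S hAc hA hx hxp) hA3 htp
  -- data for a maximal subgroup over `A` with Fitting subgroup of rank three
  have hdata : ∀ (K : Subgroup G) (t : ℕ) [Fact t.Prime], IsCoatom K → A ≤ K →
      ¬ Cfsg.PRankLE t 2 (Cfsg.fittingOf K) → t ≠ p ∧ ∃ Q U : Subgroup G, IsPGroup t Q ∧
        K ≤ Subgroup.normalizer (Q : Set G) ∧ Q ≤ K ∧ Cfsg.InUniqueMaximal Q ∧
        U ≤ Q ∧ K ≤ Subgroup.normalizer (U : Set G) ∧ ¬ IsCyclic U ∧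
        (∀ u ∈ U, u ^ t = 1 → u ≠ 1 → Subgroup.centralizer ({u} : Set G) ≤ K) ∧
        (∃ g ∈ Ω, g ≠ 1 ∧ Subgroup.centralizer ({g} : Set G) ≤ K) ∧
        (∀ V : Subgroup G, IsPGroup t V → A ≤ Subgroup.normalizer (V : Set G) → V ≤ K) ∧
        ∀ V : Subgroup G, IsPGroup t V → ¬ Cfsg.PRankLE t 2 V → Cfsg.InUniqueMaximal V := by
    intro K t _ hK hAK ht3
    have htp : t ≠ p := fun e => by subst e; exact ht3 (hp0 K hK)
    obtain ⟨F₁, h₁, hc₁, hF₁⟩ := exists_unique_elementary_of_fitting hG hK ht3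
    have huniq : ∀ V : Subgroup G, IsPGroup t V → ¬ Cfsg.PRankLE t 2 V → Cfsg.InUniqueMaximal V :=
      fun V hV hV3 => inUniqueMaximal_abelian_of_elementary hG h₁ hc₁ hF₁ hV hV3
    set Q := pPartOf t (Cfsg.fittingOf K) with hQ
    have hQq : IsPGroup t Q := isPGroup_pPartOf t _
    have hKQ : K ≤ Subgroup.normalizer (Q : Set G) := le_normalizer_fitting_pPart t K
    have hQK : Q ≤ K := (pPartOf_le t _).trans (fittingOf_le K)
    have hQ3 : ¬ Cfsg.PRankLE t 2 Q := by
      obtain ⟨F, hF, hFe, hFc⟩ := exists_elementary_of_not_pRankLE ht3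
      intro h
      have hle : F ≤ Q := fun x hx => mem_pPartOf (isNilpotent_fittingOf K) (hF hx)
        (exists_orderOf_of_mem (isPGroup_of_elementary hFe) hx)
      have h1 := h (F.subgroupOf Q) ⟨⟨fun a b => Subtype.ext (Subtype.ext (congrArg Subtype.val
        (hFe.1.is_comm.comm ⟨a.1.1, a.2⟩ ⟨b.1.1, b.2⟩) :))⟩⟩ (fun a ha => Subtype.ext (hFe.2 _ ha))
      rw [Nat.card_congr (Subgroup.subgroupOfEquivOfLe hle).toEquiv] at h1
      exact absurd hFc (not_lt.mpr h1)
    obtain ⟨U, hUQ, hNU, hUnc, hU⟩ := exists_local_data hG hK hQK hQq hQ3 h₁ hc₁ hF₁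
    have hKU : K ≤ Subgroup.normalizer (U : Set G) := hKQ.trans hNU
    obtain ⟨g, hg, hg1, hgK⟩ := exists_good_element hG hΩA hΩ hΩc htp hK ((hΩA.trans hAK).trans hKU)
      (hQq.to_le hUQ) hUnc (hUQ.trans hQK) hU
    refine ⟨htp, Q, U, hQq, hKQ, hQK, huniq Q hQq hQ3, hUQ, hKU, hUnc, hU, ⟨g, hg, hg1, hgK⟩, ?_, huniq⟩
    intro V hV hAV
    obtain ⟨Q₁, hQ₁, hle₁⟩ := exists_maxInv_ge' (mem_invSubgroups_singleton_of_isPGroup hQq (hAK.trans hKQ))
    obtain ⟨Q₂, hQ₂, hle₂⟩ := exists_maxInv_ge' (mem_invSubgroups_singleton_of_isPGroup hV hAV)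
    obtain ⟨d, hd, rfl⟩ := htr htp Q₁ hQ₁ Q₂ hQ₂
    have hdK : d ∈ K := hgK (hCA g hg (piCoreOf_le _ _ hd))
    have hQ₁q := isPGroup_of_mem_inv hQ₁.1
    obtain ⟨L, hL, hQ₁L⟩ := exists_coatom_ge hG (ne_top_of_isPGroup hG hQ₁q)
    have hQ₁K : Q₁ ≤ K := (ExistsUnique.unique (huniq Q hQq hQ3) ⟨hL, hle₁.trans hQ₁L⟩ ⟨hK, hQK⟩) ▸ hQ₁L
    refine hle₂.trans ?_
    rintro _ ⟨x, hx, rfl⟩
    exact K.mul_mem (K.mul_mem hdK (hQ₁K hx)) (K.inv_mem hdK)
  -- an invariant subgroup of rank three pins down the maximal subgroup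
  have hrank : ∀ (K : Subgroup G) (t : ℕ) [Fact t.Prime], IsCoatom K →
      (∀ V : Subgroup G, IsPGroup t V → A ≤ Subgroup.normalizer (V : Set G) → V ≤ K) →
      (∀ V : Subgroup G, IsPGroup t V → ¬ Cfsg.PRankLE t 2 V → Cfsg.InUniqueMaximal V) →
      ∀ N : Subgroup G, IsCoatom N → N ≠ K → ∀ V : Subgroup G, V ≤ N → IsPGroup t V →
        A ≤ Subgroup.normalizer (V : Set G) → Cfsg.PRankLE t 2 V := by
    intro K t _ hK hinv huniq N hN hNK V hVN hV hAV
    by_contra h
    exact hNK (ExistsUnique.unique (huniq V hV h) ⟨hN, hVN⟩ ⟨hK, hinv V hV hAV⟩)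
  -- invariant `p'`-subgroups at a fixed element
  have hcore : ∀ {N W : Subgroup G} {t : ℕ} [Fact t.Prime], IsCoatom N → A ≤ N → t ≠ p → W ≤ N →
      IsPGroup t W → A ≤ Subgroup.normalizer (W : Set G) → W ≤ pComplOf p N := by
    intro N W t _ hN hAN htp hWN hW hAW
    refine le_piCoreOf_of_solvable hp2 (isSolvable_of_ne_top hG hN.1) hAN hAp hAc
      (fun x hx hxp => mem_of_centralizer_of_isSCN S hAc hA hx hxp) hWN hAW ?_
    obtain ⟨k, hk⟩ := IsPGroup.iff_card.mp hW
    rw [hk]; exact ((Nat.coprime_primes Fact.out hp.out).mpr htp).pow_left k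
  obtain ⟨hqp, Q, U, hQq, hMQ, hQM, hQU, hUQ, hMU, hUnc, hU, ⟨g, hg, hg1, hgM⟩, hMinv, hMuniq⟩ :=
    hdata M q hM hAM hq3
  have hUM : U ≤ M := hUQ.trans hQM
  have hCΩM : Subgroup.centralizer (Ω : Set G) ≤ M :=
    (Subgroup.centralizer_le (Set.singleton_subset_iff.mpr hg)).trans hgM
  have hCAM : Subgroup.centralizer (A : Set G) ≤ M := (Subgroup.centralizer_le hΩA).trans hCΩM
  -- `M` is the only maximal subgroup over `A` with Fitting subgroup of rank three
  have honly : ∀ K : Subgroup G, IsCoatom K → A ≤ K → ¬ Cfsg.RankLE 2 (Cfsg.fittingOf K) → K = M := by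
    intro K hK hAK hKr
    simp only [Cfsg.RankLE] at hKr
    push Not at hKr
    obtain ⟨s, hs, hs3⟩ := hKr
    have := Fact.mk hs
    obtain ⟨hsp, R, V, hRs, hKR, hRK, hRU, hVR, hKV, hVnc, hV, ⟨g', hg', hg'1, hg'K⟩, hKinv, hKuniq⟩ :=
      hdata K s hK hAK hs3
    by_contra hKM
    have hsq : s ≠ q := by
      intro e
      subst e
      exact hKM (ExistsUnique.unique hRU ⟨hK, hRK⟩ ⟨hM, hMinv R hRs (hAK.trans hKR)⟩)
    have hCΩK : Subgroup.centralizer (Ω : Set G) ≤ K :=
      (Subgroup.centralizer_le (Set.singleton_subset_iff.mpr hg')).trans hg'K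
    have hCAK : Subgroup.centralizer (A : Set G) ≤ K := (Subgroup.centralizer_le hΩA).trans hCΩK
    have hQnK : ¬ Q ≤ K := fun h => hKM (ExistsUnique.unique hQU ⟨hK, h⟩ ⟨hM, hQM⟩)
    have hAQ : A ≤ Subgroup.normalizer (Q : Set G) := hAM.trans hMQ
    have hAV : A ≤ Subgroup.normalizer (V : Set G) := hAK.trans hKV
    have hVs : IsPGroup s V := hRs.to_le hVR
    have hVK : V ≤ K := hVR.trans hRK
    have hVM : V ≤ M := by
      by_contra hne
      obtain ⟨H₁, hH₁, hc₁, hf₁⟩ := exists_centralizer_corank_one_outside hΩ.1 hΩ.2 hQnK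
        (hΩA.trans hAQ) (coprime_card_of_primes hqp (isPGroup_of_elementary hΩ) hQq)
      obtain ⟨W, hW, hWK, hWq, hAW, hWΩ⟩ := commutator_not_le hG hAc hΩA hΩ hΩc hqp hQq hAQ hH₁
        (inf_le_right.trans hCΩK) hf₁
      obtain ⟨H₂, hH₂, hc₂, hf₂⟩ := exists_centralizer_corank_one_outside hΩ.1 hΩ.2 hne
        (hΩA.trans hAV) (coprime_card_of_primes hsp (isPGroup_of_elementary hΩ) hVs)
      obtain ⟨X, hX, hXM, hXs, hAX, hXΩ⟩ := commutator_not_le hG hAc hΩA hΩ hΩc hsp hVs hAV hH₂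
        (inf_le_right.trans hCΩM) hf₂
      obtain ⟨h, h1, h2, hne'⟩ := exists_mem_inf_of_corank_one hΩ hΩc hH₁ hH₂ hc₁ hc₂
      obtain ⟨N, hN, hCN⟩ := exists_coatom_ge hG (centralizer_singleton_ne_top hG hne')
      have hWN : W ≤ N := (hW.trans inf_le_right).trans
        ((Subgroup.centralizer_le (Set.singleton_subset_iff.mpr h1)).trans hCN)
      have hXN : X ≤ N := (hX.trans inf_le_right).trans
        ((Subgroup.centralizer_le (Set.singleton_subset_iff.mpr h2)).trans hCN)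
      have hAN : A ≤ N := (hAcen h (hH₁ h1)).trans hCN
      have hNK : N ≠ K := fun e => hWK (e ▸ hWN)
      have hNM : N ≠ M := fun e => hXM (e ▸ hXN)
      set Y := pComplOf p N with hY
      obtain ⟨c, hc, d, hd, hcd⟩ := exists_conj_commuting (p := p) (q := q) (r := s) (Ω := Ω) (Y := Y)
        hG.1 hΩA hAc hAp (Ne.symm hsq)
        (hAN.trans (Subgroup.le_normalizer.trans (normalizer_le_normalizer_pComplOf p N)))
        (coprime_pComplOf p N)
        (Coprime.isSolvable_of_injective (f := Subgroup.inclusion (pComplOf_le p N))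
          (Subgroup.inclusion_injective _) (isSolvable_of_ne_top hG hN.1))
        (fun t ht T hTY hT hAT => by
          rcases ht with rfl | rfl
          · exact hrank M t hM hMinv hMuniq N hN hNM T (hTY.trans (pComplOf_le p N)) hT hAT
          · exact hrank K t hK hKinv hKuniq N hN hNK T (hTY.trans (pComplOf_le p N)) hT hAT)
        (hcore hN hAN hqp hWN hWq hAW) hWq hAW hWΩ (hcore hN hAN hsp hXN hXs hAX) hXs hAX hXΩ
      set X₁ := X.map (MulAut.conj d).toMonoidHom with hX₁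
      have hX0 : X ≠ ⊥ := fun e => hXM (e ▸ bot_le)
      have hCX : Subgroup.centralizer (X : Set G) ≤ K :=
        centralizer_le_of_local hG hVs hV (hX.trans inf_le_left) hX0
      refine hWK fun w hw => ?_
      have h3 := hcd (Subgroup.mem_map_of_mem _ hw)
      have hdK : d ∈ K := hCAK hd
      have hcK : c ∈ K := hCAK hc
      have h4 : d⁻¹ * (c * w * c⁻¹) * d ∈ Subgroup.centralizer (X : Set G) := by
        rw [Subgroup.mem_centralizer_iff]
        intro x hx
        have h5 : (d * x * d⁻¹) * (c * w * c⁻¹) = (c * w * c⁻¹) * (d * x * d⁻¹) :=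
          Subgroup.mem_centralizer_iff.mp h3 _ (Subgroup.mem_map_of_mem _ hx)
        calc x * (d⁻¹ * (c * w * c⁻¹) * d) = d⁻¹ * ((d * x * d⁻¹) * (c * w * c⁻¹)) * d := by group
          _ = d⁻¹ * ((c * w * c⁻¹) * (d * x * d⁻¹)) * d := by rw [h5]
          _ = _ := by group
      have h6 := K.mul_mem (K.mul_mem hdK (hCX h4)) (K.inv_mem hdK)
      have h7 := K.mul_mem (K.mul_mem (K.inv_mem hcK) h6) hcK
      simpa [mul_assoc] using h7
    -- now a noncyclic subgroup of `M` has all centralizers in `K`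
    have hs2 : s ≠ 2 := by
      obtain ⟨k, hk⟩ := IsPGroup.iff_card.mp hVs
      rcases k with _ | k
      · exact absurd (by have := (Nat.card_eq_one_iff_unique.mp (hk.trans (pow_zero s))).1; infer_instance) hVnc
      · exact prime_ne_two_of_dvd hG ((dvd_pow_self s k.succ_ne_zero).trans
          (hk ▸ Subgroup.card_subgroup_dvd_card V))
    obtain ⟨E, hEV, hEe, hE2⟩ := exists_elementary_sq_of_not_cyclic hs2 V hVs hVnc
    have := hEe.1
    apply hQnK
    rw [← Coprime.iSup_centralizer_eq (not_isCyclic_of_elementary hEe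
      (hE2 ▸ lt_self_pow₀ hs.one_lt (by norm_num))) ((hEV.trans hVM).trans hMQ)
      (coprime_card_of_primes (Ne.symm hsq) (isPGroup_of_elementary hEe) hQq)]
    exact iSup₂_le fun b hb => inf_le_right.trans (hV b (hEV hb.1) (hEe.2 b hb.1) hb.2)
  -- every invariant `p'`-subgroup lies in `M`
  refine inUniqueMaximal_of_inv hG hM hAM hA0 (fun Y hY hAY => ?_) hAp
  by_contra hYM
  have hcopA : (Nat.card A).Coprime (Nat.card Y) := by
    obtain ⟨k, hk⟩ := IsPGroup.iff_card.mp hAp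
    rw [hk]; exact (hY.pow_right k).symm
  have hne : (M.subgroupOf Y).index ≠ 1 := fun h =>
    hYM (Subgroup.subgroupOf_eq_top.mp (Subgroup.index_eq_one.mp h))
  obtain ⟨r, hr', hrd⟩ := Nat.exists_prime_and_dvd hne
  have := Fact.mk hr'
  have hrp : r ≠ p := fun e => hp.out.not_dvd_one
    (hY ▸ Nat.dvd_gcd (e ▸ hrd.trans (Subgroup.index_dvd_card _)) dvd_rfl)
  have hsolA : Group.IsSolvable A := by
    have := hAp.isNilpotent
    infer_instance
  obtain ⟨T, hT⟩ := Coprime.exists_invariant_sylow hAY hcopA (Or.inl hsolA) r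
  set R := (T : Subgroup Y).map Y.subtype with hR
  have hRr : IsPGroup r R := T.isPGroup'.map _
  have hRM : ¬ R ≤ M := fun h =>
    T.not_dvd_index (hrd.trans (Subgroup.index_dvd_of_le (Subgroup.map_le_iff_le_comap.mp h)))
  have hrq : r ≠ q := fun e => hRM (by subst e; exact hMinv R hRr hT)
  obtain ⟨H₂, hH₂, hc₂, hf₂⟩ := exists_centralizer_corank_one_outside hΩ.1 hΩ.2 hRM
    (hΩA.trans hT) (coprime_card_of_primes hrp (isPGroup_of_elementary hΩ) hRr)
  obtain ⟨X, hX, hXM, hXr, hAX, hXΩ⟩ := commutator_not_le hG hAc hΩA hΩ hΩc hrp hRr hT hH₂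
    (inf_le_right.trans hCΩM) hf₂
  have hUq : IsPGroup q U := hQq.to_le hUQ
  have hΩU : Ω ≤ Subgroup.normalizer (U : Set G) := (hΩA.trans hAM).trans hMU
  by_cases hUC : U ≤ Subgroup.centralizer (Ω : Set G)
  · -- every element of `Ω` is good
    obtain ⟨h, h2, -, hne'⟩ := exists_mem_inf_of_corank_one hΩ hΩc hH₂ hH₂ hc₂ hc₂
    have hq2 : q ≠ 2 := by
      obtain ⟨k, hk⟩ := IsPGroup.iff_card.mp hUq
      rcases k with _ | k
      · exact absurd (by have := (Nat.card_eq_one_iff_unique.mp (hk.trans (pow_zero q))).1; infer_instance) hUnc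
      · exact prime_ne_two_of_dvd hG ((dvd_pow_self q k.succ_ne_zero).trans
          (hk ▸ Subgroup.card_subgroup_dvd_card U))
    obtain ⟨E, hEU, hEe, hE2⟩ := exists_elementary_sq_of_not_cyclic hq2 U hUq hUnc
    have hEuniq := Cfsg.Agent.S1398.result hG M hM q E (hEU.trans hUM) hEe
      (not_isCyclic_of_elementary hEe (hE2 ▸ lt_self_pow₀ (Fact.out : q.Prime).one_lt (by norm_num)))
      (Or.inl fun b hb hb1 => hU b (hEU hb) (hEe.2 b hb) hb1)
    obtain ⟨N, hN, hCN⟩ := exists_coatom_ge hG (centralizer_singleton_ne_top hG hne')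
    have hEN : E ≤ N := (hEU.trans hUC).trans
      ((Subgroup.centralizer_le (Set.singleton_subset_iff.mpr (hH₂ h2))).trans hCN)
    have hNM : N = M := ExistsUnique.unique hEuniq ⟨hN, hEN⟩ ⟨hM, hEU.trans hUM⟩
    exact hXM ((hX.trans inf_le_right).trans
      ((Subgroup.centralizer_le (Set.singleton_subset_iff.mpr h2)).trans (hNM ▸ hCN)))
  obtain ⟨H₁, hH₁, hc₁, hf₁⟩ := exists_centralizer_corank_one_outside hΩ.1 hΩ.2 hUC hΩU
    (coprime_card_of_primes hqp (isPGroup_of_elementary hΩ) hUq)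
  obtain ⟨W, hW, hWC, hWq, hAW, hWΩ⟩ := commutator_not_le hG hAc hΩA hΩ hΩc hqp hUq (hAM.trans hMU) hH₁
    inf_le_right hf₁
  obtain ⟨h, h1, h2, hne'⟩ := exists_mem_inf_of_corank_one hΩ hΩc hH₁ hH₂ hc₁ hc₂
  obtain ⟨N, hN, hCN⟩ := exists_coatom_ge hG (centralizer_singleton_ne_top hG hne')
  have hWN : W ≤ N := (hW.trans inf_le_right).trans
    ((Subgroup.centralizer_le (Set.singleton_subset_iff.mpr h1)).trans hCN)
  have hXN : X ≤ N := (hX.trans inf_le_right).trans
    ((Subgroup.centralizer_le (Set.singleton_subset_iff.mpr h2)).trans hCN)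
  have hΩN : Ω ≤ N := (hΩA.trans (hAcen h (hH₁ h1))).trans hCN
  have hNM : N ≠ M := fun e => hXM (e ▸ hXN)
  have hNr : Cfsg.RankLE 2 (Cfsg.fittingOf N) := by
    by_contra hcon
    exact hNM (honly N hN ((hAcen h (hH₁ h1)).trans hCN) hcon)
  have hcomm := le_centralizer_of_commutator_fitting
    (commutator_le_fitting_of_fittingOf_rank (isSolvable_of_ne_top hG hN.1) (odd_card_subgroup hG N) hNr)
    (W := X) (V := W) (hXΩ.ge.trans (Subgroup.commutator_mono hXN hΩN))
    (hWΩ.ge.trans (Subgroup.commutator_mono hWN hΩN)) (coprime_card_of_primes (Ne.symm hrq) hXr hWq)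
  exact hXM (hcomm.trans (centralizer_le_of_local hG hUq hU (hW.trans inf_le_left)
    fun e => hWC (e ▸ bot_le)))

omit hΩA hΩ hΩc in
/-- A self-centralizing normal abelian subgroup of rank three is unique. -/
theorem inUniqueMaximal_scn (hA3 : ¬ Cfsg.PRankLE p 2 A) : Cfsg.InUniqueMaximal A := by
  have hAp : IsPGroup p A := S.isPGroup'.to_le hA.1
  obtain ⟨Ω, hΩA, hΩ, hΩc⟩ := exists_elementary_of_not_pRankLE hA3
  by_cases h0 : ∀ K : Subgroup G, IsCoatom K → Cfsg.PRankLE p 2 (Cfsg.fittingOf K)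
  · by_cases h : ∀ K : Subgroup G, IsCoatom K → A ≤ K → Cfsg.RankLE 2 (Cfsg.fittingOf K)
    · exact inUniqueMaximal_scn_rank_two hG S hA hAc hΩA hΩ hΩc h
    · simp only [Cfsg.RankLE] at h
      push Not at h
      obtain ⟨M, hM, hAM, q, hq, hq3⟩ := h
      have := Fact.mk hq
      exact inUniqueMaximal_scn_rank_three hG S hA hAc hΩA hΩ hΩc h0 hM hAM hq3
  · push Not at h0
    obtain ⟨K, hK, hK3⟩ := h0
    obtain ⟨F₁, h₁, hc₁, hU⟩ := exists_unique_elementary_of_fitting hG hK hK3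
    exact inUniqueMaximal_abelian_of_elementary hG h₁ hc₁ hU hAp hA3

end Cfsg.Agent.Lib.OddLocal
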