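import Cfsg.Prelude.Def_LieExceptional
import Cfsg.Agent.Lib.OddLocal.PGLTwoLine
import Mathlib

/-!
Sharply triply transitive groups with abelian kernel of order `q = d + 1`, all swapping elements involutions:
coordinates in a field.
-/

set_option autoImplicit false
set_option linter.style.haveILetI false

namespace Cfsg.Agent.Lib.OddLocal

open MulAction

/-- The hypotheses for the recognition of `PGL(2, q)`. -/
structure SharpZass (G : Type*) [Group G] {Ω : Type*} [MulAction G Ω] (a b : Ω) (F : Subgroup G)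
    (w : G) (d : ℕ) : Prop where
  faith : FaithfulSMul G Ω
  three : ∀ g : G, ∀ x y z : Ω, x ≠ y → y ≠ z → x ≠ z → g • x = x → g • y = y → g • z = z → g = 1
  trans : MulAction.IsPretransitive G Ω
  hab : a ≠ b
  hd : 1 ≤ d
  hFa : F ≤ stabilizer G a
  hFn : ∀ g : G, g • a = a → ∀ u ∈ F, g * u * g⁻¹ ∈ F
  hFab : ∀ u ∈ F, ∀ v ∈ F, u * v = v * u
  hreg : ∀ y z : Ω, y ≠ a → z ≠ a → ∃! u : F, (u : G) • y = z
  hwa : w • a = b
  hwb : w • b = a
  hswap : ∀ x ∈ stabilizer G a ⊓ stabilizer G b, (w * x) * (w * x) = 1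
  hD : Nat.card ↥(stabilizer G a ⊓ stabilizer G b : Subgroup G) = d
  hF : Nat.card F = d + 1

/-- Coordinates in a field. -/
structure SharpCoord (G : Type*) [Group G] {Ω : Type*} [MulAction G Ω] (a b : Ω) (F : Subgroup G)
    (d : ℕ) (K : Type) [Field K] [Fintype K] where
  /-- the translation with given coordinate -/
  el : K → G
  hel : ∀ k, el k ∈ F
  hel_add : ∀ k l, el (k + l) = el k * el l
  hel_surj : ∀ u ∈ F, ∃ k, el k = u
  hel_inj : Function.Injective el
  /-- the multiplier of an element of the two-point stabilizer -/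
  mul : ↥(stabilizer G a ⊓ stabilizer G b : Subgroup G) →* K
  hmul : ∀ x k, el (mul x * k) = (x : G) * el k * (x : G)⁻¹
  hmul_inj : Function.Injective mul
  hcardK : Fintype.card K = d + 1

variable {G : Type*} [Group G] [Finite G] {Ω : Type*} [MulAction G Ω] {a b : Ω} {F : Subgroup G}
  {w : G} {d : ℕ}

theorem SharpZass.w_sq (h : SharpZass G a b F w d) : w * w = 1 := by
  simpa using h.hswap 1 (one_mem _)

theorem SharpZass.conj_inv (h : SharpZass G a b F w d) {x : G} (hx : x ∈ stabilizer G a ⊓ stabilizer G b) :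
    w * x = x⁻¹ * w := by
  have h1 := h.hswap x hx
  have h2 : w * x = (w * x)⁻¹ := eq_inv_of_mul_eq_one_left h1
  rw [mul_inv_rev, inv_eq_of_mul_eq_one_right h.w_sq] at h2
  exact h2

theorem SharpZass.comm (h : SharpZass G a b F w d) {x y : G} (hx : x ∈ stabilizer G a ⊓ stabilizer G b)
    (hy : y ∈ stabilizer G a ⊓ stabilizer G b) : x * y = y * x := by
  have key : ∀ z ∈ stabilizer G a ⊓ stabilizer G b, w * z * w = z⁻¹ := fun z hz => by
    rw [h.conj_inv hz, mul_assoc, h.w_sq, mul_one]
  have h3 : w * (x * y) * w = (w * x * w) * (w * y * w) := by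
    calc w * (x * y) * w = w * x * 1 * y * w := by group
      _ = w * x * (w * w) * y * w := by rw [h.w_sq]
      _ = _ := by group
  rw [key x hx, key y hy, key _ (mul_mem hx hy), mul_inv_rev] at h3
  have h4 := congrArg (·⁻¹) h3
  simpa using h4

theorem SharpZass.smul_ne (h : SharpZass G a b F w d) {u : G} (hu : u ∈ F) : u • b ≠ a := fun e =>
  h.hab (smul_left_cancel u ((h.hFa hu).trans e.symm))

theorem SharpZass.eq_one_of_fix (h : SharpZass G a b F w d) {u : G} (hu : u ∈ F) (hub : u • b = b) :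
    u = 1 := by
  obtain ⟨v, -, hv⟩ := h.hreg b b h.hab.symm h.hab.symm
  have h1 := (hv ⟨u, hu⟩ hub).trans (hv 1 (one_smul G b)).symm
  exact congrArg Subtype.val h1

theorem SharpZass.conj_ne (h : SharpZass G a b F w d) {x : G} (hx : x ∈ stabilizer G a ⊓ stabilizer G b)
    {u : G} (hu : u ∈ F) (hu1 : u ≠ 1) (hc : x * u * x⁻¹ = u) : x = 1 := by
  have hub : b ≠ u • b := fun e => hu1 (h.eq_one_of_fix hu e.symm)
  refine h.three x a b (u • b) h.hab hub (h.smul_ne hu).symm (Subgroup.mem_inf.mp hx).1
    (Subgroup.mem_inf.mp hx).2 ?_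
  rw [← mul_smul, mul_inv_eq_iff_eq_mul.mp hc, mul_smul, (Subgroup.mem_inf.mp hx).2]

/-- A non-trivial subgroup of the kernel invariant under the two-point stabilizer is the kernel. -/
theorem SharpZass.invariant_eq (h : SharpZass G a b F w d) (W : Subgroup G) (hWF : W ≤ F) {u : G} (hu : u ∈ W)
    (hu1 : u ≠ 1) (hinv : ∀ x ∈ stabilizer G a ⊓ stabilizer G b, ∀ v ∈ W, x * v * x⁻¹ ∈ W) : W = F := by
  classical
  -- the conjugates of `u` and the identity lie in `W`
  let f : Option ↥(stabilizer G a ⊓ stabilizer G b : Subgroup G) → W := fun o =>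
    match o with
    | none => 1
    | some x => ⟨(x : G) * u * (x : G)⁻¹, hinv x x.2 u hu⟩
  have hf : Function.Injective f := by
    intro o o' he
    have he' : ((f o : W) : G) = f o' := congrArg Subtype.val he
    cases o <;> cases o' <;> simp only [f, Subgroup.coe_one] at he'
    · rfl
    · exact absurd (conj_eq_one_iff.mp he'.symm) hu1
    · exact absurd (conj_eq_one_iff.mp he') hu1
    · rename_i x y
      refine congrArg some (inv_mul_eq_one.mp (Subtype.ext (h.conj_ne (y⁻¹ * x).2 (hWF hu) hu1 ?_))).symm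
      rw [Subgroup.coe_mul, Subgroup.coe_inv]
      calc (y : G)⁻¹ * x * u * ((y : G)⁻¹ * x)⁻¹ = (y : G)⁻¹ * ((x : G) * u * (x : G)⁻¹) * y := by group
        _ = u := by rw [he']; group
  have hle := Nat.card_le_card_of_injective f hf
  rw [Finite.card_option, h.hD] at hle
  exact Subgroup.eq_of_le_of_card_ge hWF (by rw [h.hF]; exact hle)

theorem SharpZass.exists_coord (h : SharpZass G a b F w d) :
    ∃ (K : Type) (_ : Field K) (_ : Fintype K), Nonempty (SharpCoord G a b F d K) := by
  classical
  letI : CommGroup F := { (inferInstance : Group F) with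
    mul_comm := fun u v => Subtype.ext (h.hFab u u.2 v v.2) }
  set D : Subgroup G := stabilizer G a ⊓ stabilizer G b with hDdef
  have hDa : ∀ x : D, (x : G) • a = a := fun x => (Subgroup.mem_inf.mp x.2).1
  let act : D → AddMonoid.End (Additive F) := fun x =>
    { toFun := fun v => Additive.ofMul (⟨(x : G) * (Additive.toMul v : F) * (x : G)⁻¹,
        h.hFn x (hDa x) _ (Additive.toMul v : F).2⟩ : F)
      map_zero' := by
        apply Additive.toMul.injective
        exact Subtype.ext (by simp)
      map_add' := fun v v' => by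
        apply Additive.toMul.injective
        exact Subtype.ext (by simp [mul_assoc]) }
  have hact : ∀ (x : D) (v : Additive F), ((Additive.toMul (act x v) : F) : G) =
      (x : G) * (Additive.toMul v : F) * (x : G)⁻¹ := fun x v => rfl
  have hactmul : ∀ x y : D, act (x * y) = act x * act y := fun x y => by
    refine AddMonoidHom.ext fun v => ?_
    apply Additive.toMul.injective
    apply Subtype.ext
    show ((x * y : D) : G) * (Additive.toMul v : F) * ((x * y : D) : G)⁻¹ =
      (x : G) * ((y : G) * (Additive.toMul v : F) * (y : G)⁻¹) * (x : G)⁻¹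
    rw [Subgroup.coe_mul]
    group
  have hact1 : act 1 = 1 := by
    refine AddMonoidHom.ext fun v => ?_
    apply Additive.toMul.injective
    apply Subtype.ext
    show ((1 : D) : G) * (Additive.toMul v : F) * ((1 : D) : G)⁻¹ = ((Additive.toMul v : F) : G)
    simp
  have hcomm : ∀ k ∈ Set.range act, ∀ l ∈ Set.range act, k * l = l * k := by
    rintro _ ⟨x, rfl⟩ _ ⟨y, rfl⟩
    rw [← hactmul, ← hactmul, show x * y = y * x from Subtype.ext (h.comm x.2 y.2)]
  let R : Subring (AddMonoid.End (Additive F)) := Subring.closure (Set.range act)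
  letI : CommRing R := Subring.closureCommRingOfComm hcomm
  have hAR : ∀ x, act x ∈ R := fun x => Subring.subset_closure ⟨x, rfl⟩
  have hkact : ∀ (k : R) (x : D) (v : Additive F),
      (k : AddMonoid.End (Additive F)) (act x v) = act x ((k : AddMonoid.End (Additive F)) v) := by
    intro k x v
    have h1 := congrArg Subtype.val (mul_comm k ⟨act x, hAR x⟩)
    exact congrArg (fun e : AddMonoid.End (Additive F) => e v) h1
  obtain ⟨u₁, hu₁⟩ : ∃ u : F, u ≠ 1 := by
    haveI : Nontrivial F := Finite.one_lt_card_iff_nontrivial.mp (by rw [h.hF]; have := h.hd; omega)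
    exact exists_ne 1
  -- an invariant set containing zero and closed under addition
  have htop : ∀ S : AddSubgroup (Additive F), (∀ x : D, ∀ v ∈ S, act x v ∈ S) →
      ∀ v ∈ S, v ≠ 0 → ∀ v', v' ∈ S := by
    intro S hS v hv hv0 v'
    let W : Subgroup G :=
      { carrier := {g | ∃ hg : g ∈ F, Additive.ofMul (⟨g, hg⟩ : F) ∈ S}
        one_mem' := ⟨one_mem F, S.zero_mem⟩
        mul_mem' := fun {g g'} ⟨hg, h1⟩ ⟨hg', h2⟩ => ⟨mul_mem hg hg', S.add_mem h1 h2⟩
        inv_mem' := fun {g} ⟨hg, h1⟩ => ⟨inv_mem hg, S.neg_mem h1⟩ }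
    have hW := h.invariant_eq W (fun g hg => hg.1) (u := ((Additive.toMul v : F) : G))
      ⟨(Additive.toMul v : F).2, hv⟩ (fun e => hv0 (Additive.toMul.injective (Subtype.ext e)))
      (fun x hx g ⟨hg, h1⟩ => ⟨h.hFn x (Subgroup.mem_inf.mp hx).1 g hg, hS ⟨x, hx⟩ _ h1⟩)
    have h1 : ((Additive.toMul v' : F) : G) ∈ W := hW.symm ▸ (Additive.toMul v' : F).2
    exact h1.2
  have hker : ∀ (k : R) (v : Additive F), v ≠ 0 → (k : AddMonoid.End (Additive F)) v = 0 → k = 0 := by
    intro k v hv hkv
    let S : AddSubgroup (Additive F) := AddMonoidHom.ker (k : AddMonoid.End (Additive F))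
    refine Subtype.ext (AddMonoidHom.ext fun v' => ?_)
    exact htop S (fun x u hu => by
      show (k : AddMonoid.End (Additive F)) (act x u) = 0
      rw [hkact, show (k : AddMonoid.End (Additive F)) u = 0 from hu, map_zero]) v hkv hv v'
  set v₁ : Additive F := Additive.ofMul u₁ with hv₁
  have hv₁0 : v₁ ≠ 0 := fun e => hu₁ (Additive.ofMul.injective e)
  let ev : R → Additive F := fun k => (k : AddMonoid.End (Additive F)) v₁
  have hev_add : ∀ k l, ev (k + l) = ev k + ev l := fun k l => rfl
  have hev_inj : Function.Injective ev := by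
    intro k l hkl
    rw [← sub_eq_zero]
    refine hker _ v₁ hv₁0 ?_
    show (k : AddMonoid.End (Additive F)) v₁ - (l : AddMonoid.End (Additive F)) v₁ = 0
    rw [show (k : AddMonoid.End (Additive F)) v₁ = (l : AddMonoid.End (Additive F)) v₁ from hkl, sub_self]
  have hev_surj : Function.Surjective ev := by
    intro v
    let S : AddSubgroup (Additive F) :=
      { carrier := Set.range ev
        zero_mem' := ⟨0, rfl⟩
        add_mem' := by rintro _ _ ⟨k, rfl⟩ ⟨l, rfl⟩; exact ⟨k + l, rfl⟩
        neg_mem' := by rintro _ ⟨k, rfl⟩; exact ⟨-k, rfl⟩ }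
    refine htop S ?_ v₁ ⟨1, rfl⟩ hv₁0 v
    rintro x _ ⟨k, rfl⟩
    exact ⟨⟨act x, hAR x⟩ * k, rfl⟩
  haveI : Finite R := Finite.of_injective ev hev_inj
  haveI : Nontrivial R := ⟨⟨1, 0, fun e => hv₁0 (congrArg ev e)⟩⟩
  haveI : NoZeroDivisors R := ⟨fun {k l} hkl => by
    by_cases hl : ev l = 0
    · exact Or.inr (hev_inj (hl.trans rfl))
    · exact Or.inl (hker k (ev l) hl (congrArg ev hkl))⟩
  haveI : IsDomain R := NoZeroDivisors.to_isDomain _
  letI : Field R := (Finite.isDomain_to_isField R).toField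
  haveI : Small.{0} R := small_of_injective.{0} (β := Fin (Nat.card R)) (Finite.equivFin R).injective
  let σ : Shrink.{0} R ≃+* R := Shrink.ringEquiv _
  haveI : Finite (Shrink.{0} R) := Finite.of_equiv R (equivShrink.{0} R)
  letI : Fintype (Shrink.{0} R) := Fintype.ofFinite _
  refine ⟨Shrink.{0} R, inferInstance, inferInstance, ⟨?_⟩⟩
  refine
    { el := fun k => ((Additive.toMul (ev (σ k)) : F) : G)
      hel := fun k => (Additive.toMul (ev (σ k)) : F).2
      hel_add := fun k l => ?_
      hel_surj := fun u hu => ?_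
      hel_inj := fun k l e => σ.injective (hev_inj (Additive.toMul.injective (Subtype.ext e)))
      mul :=
        { toFun := fun x => σ.symm ⟨act x, hAR x⟩
          map_one' := ?_
          map_mul' := fun x y => ?_ }
      hmul := fun x k => ?_
      hmul_inj := fun x y e => ?_
      hcardK := ?_ }
  · rw [map_add, hev_add, toMul_add, Subgroup.coe_mul]
  · obtain ⟨k, hk⟩ := hev_surj (Additive.ofMul ⟨u, hu⟩)
    exact ⟨σ.symm k, by rw [RingEquiv.apply_symm_apply, hk]; rfl⟩
  · apply σ.injective
    rw [RingEquiv.apply_symm_apply, map_one]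
    exact Subtype.ext hact1
  · apply σ.injective
    rw [map_mul, RingEquiv.apply_symm_apply, RingEquiv.apply_symm_apply, RingEquiv.apply_symm_apply]
    exact Subtype.ext (hactmul x y)
  · show ((Additive.toMul (ev (σ (σ.symm ⟨act x, hAR x⟩ * k))) : F) : G) = _
    rw [map_mul, RingEquiv.apply_symm_apply]
    exact hact x (ev (σ k))
  · have e1 : act x v₁ = act y v₁ := congrArg ev (σ.symm.injective e)
    have e2 := congrArg (fun v : Additive F => ((Additive.toMul v : F) : G)) e1
    simp only [hact] at e2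
    refine (inv_mul_eq_one.mp (Subtype.ext (h.conj_ne (y⁻¹ * x).2 u₁.2
      (fun e' => hu₁ (Subtype.ext e')) ?_))).symm
    rw [Subgroup.coe_mul, Subgroup.coe_inv]
    calc (y : G)⁻¹ * x * u₁ * ((y : G)⁻¹ * x)⁻¹ = (y : G)⁻¹ * ((x : G) * u₁ * (x : G)⁻¹) * y := by group
      _ = u₁ := by
          rw [show (x : G) * u₁ * (x : G)⁻¹ = (y : G) * u₁ * (y : G)⁻¹ from e2]; group
  · rw [← Nat.card_eq_fintype_card, ← Nat.card_congr (equivShrink.{0} R),
      Nat.card_congr (Equiv.ofBijective ev ⟨hev_inj, hev_surj⟩), Nat.card_congr Additive.toMul, h.hF]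

end Cfsg.Agent.Lib.OddLocal
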