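import Cfsg.Agent.Lib.OddLocal.SharpEven
import Cfsg.Agent.Lib.OddLocal.ZassenhausDerive
import Cfsg.Agent.Lib.OddLocal.ZassenhausSharp
import Cfsg.Agent.Lib.LieExc.ZassNormal

/-!
Sharply triply transitive groups of even degree: the normal subgroup of index two and the case `PGL(2, q)`.
-/

set_option autoImplicit false
set_option linter.style.haveILetI false

namespace Cfsg.Agent.Lib.OddLocal.SharpOdd

open MulAction
open Cfsg.Agent.Lib.LieExc (ZData ZDataKer)
open Cfsg.Agent.Lib.OddLocal.ZassPSL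

universe u v

variable {G : Type u} [Group G] [Finite G] {Ω : Type v} [MulAction G Ω] [Fintype Ω]

theorem isZass_of_sharp [FaithfulSMul G Ω] (h3 : MulAction.IsMultiplyPretransitive G Ω 3)
    (hthree : ∀ g : G, ∀ x y z : Ω, x ≠ y → y ≠ z → x ≠ z → g • x = x → g • y = y → g • z = z → g = 1)
    (heven : Even (Fintype.card Ω)) (h6 : 6 ≤ Fintype.card Ω) : Cfsg.IsZassenhausGroup G Ω := by
  classical
  haveI := h3
  have h2t : MulAction.IsMultiplyPretransitive G Ω 2 :=
    MulAction.isMultiplyPretransitive_of_le (show 2 ≤ 3 by norm_num) (by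
      rw [Nat.card_eq_fintype_card]; exact_mod_cast (show 3 ≤ Fintype.card Ω by omega))
  obtain ⟨a, b, hab⟩ := Fintype.one_lt_card_iff.mp (show 1 < Fintype.card Ω by omega)
  have hD := card_pair_sharp h3 hthree hab (by omega)
  haveI : Fact (Nat.Prime 2) := ⟨Nat.prime_two⟩
  obtain ⟨z, hz⟩ := exists_prime_orderOf_dvd_card'
    (G := ↥(stabilizer G a ⊓ stabilizer G b : Subgroup G)) 2 (by rw [hD]; obtain ⟨k, hk⟩ := heven; omega)
  have hz1 : (z : G) ≠ 1 := fun e => by
    rw [show z = 1 from Subtype.ext e, orderOf_one] at hz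
    omega
  have hza : (z : G) • a = a := (Subgroup.mem_inf.mp z.2).1
  have hzb : (z : G) • b = b := (Subgroup.mem_inf.mp z.2).2
  have hzz : (z : G) * z = 1 := congrArg Subtype.val (by rw [← pow_two, ← hz, pow_orderOf_eq_one] : z * z = 1)
  refine ⟨inferInstance, h2t, fun g x y w => hthree g x y w, ⟨z, hz1, a, b, hab, hza, hzb⟩,
    fun N hNn hNt => ?_⟩
  by_contra hno
  push Not at hno
  have huniq : ∀ m ∈ N, ∀ m' ∈ N, ∀ c : Ω, m • c = m' • c → m = m' := by
    intro m hm m' hm' c hmm
    have h1 : (⟨m'⁻¹ * m, mul_mem (inv_mem hm') hm⟩ : N) ∈ stabilizer N c := by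
      show (m'⁻¹ * m) • c = c
      rw [mul_smul, hmm, inv_smul_smul]
    rw [hno c, Subgroup.mem_bot] at h1
    exact (inv_mul_eq_one.mp (congrArg Subtype.val h1)).symm
  have hcard : Nat.card N = Fintype.card Ω := by
    rw [← Nat.card_eq_fintype_card]
    refine Nat.card_congr (Equiv.ofBijective (fun m : N => (m : G) • a) ⟨?_, fun c => ?_⟩)
    · exact fun m m' h => Subtype.ext (huniq m m.2 m' m'.2 a h)
    · exact MulAction.exists_smul_eq N a c
  obtain ⟨t, ht⟩ := exists_prime_orderOf_dvd_card' (G := N) 2 (by rw [hcard]; exact heven.two_dvd)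
  have ht1 : (t : G) ≠ 1 := fun e => by
    rw [show t = 1 from Subtype.ext e, orderOf_one] at ht
    omega
  have htt : (t : G) * t = 1 := congrArg Subtype.val (by rw [← pow_two, ← ht, pow_orderOf_eq_one] : t * t = 1)
  have hexp : ∀ m ∈ N, m * m = 1 := by
    intro m hm
    by_cases hm1 : m = 1
    · rw [hm1, one_mul]
    have hta : (t : G) • a ≠ a := fun e => ht1 (huniq _ t.2 1 N.one_mem a (by rw [e, one_smul]))
    have hma : m • a ≠ a := fun e => hm1 (huniq _ hm 1 N.one_mem a (by rw [e, one_smul]))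
    obtain ⟨g, hga, hgt⟩ := MulAction.is_two_pretransitive_iff.mp h2t hta.symm hma.symm
    have h1 : g * (t : G) * g⁻¹ = m := huniq _ (hNn.conj_mem _ t.2 g) _ hm a (by
      rw [mul_smul, mul_smul, inv_smul_eq_iff.mpr hga.symm, hgt])
    rw [← h1]
    calc g * (t : G) * g⁻¹ * (g * (t : G) * g⁻¹) = g * ((t : G) * t) * g⁻¹ := by group
      _ = 1 := by rw [htt, mul_one, mul_inv_cancel]
  have hcomm : ∀ m ∈ N, ∀ m' ∈ N, m * m' = m' * m := by
    intro m hm m' hm'
    have h1 := hexp _ (mul_mem hm hm')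
    calc m * m' = (m * m')⁻¹ := eq_inv_of_mul_eq_one_left h1
      _ = m'⁻¹ * m⁻¹ := mul_inv_rev _ _
      _ = m' * m := by
        rw [inv_eq_of_mul_eq_one_left (hexp m hm), inv_eq_of_mul_eq_one_left (hexp m' hm')]
  let φ : N →* N :=
    { toFun := fun m => ⟨(m : G) * ((z : G) * m * (z : G)⁻¹), mul_mem m.2 (hNn.conj_mem _ m.2 _)⟩
      map_one' := Subtype.ext (by simp)
      map_mul' := fun m m' => Subtype.ext (by
        show (m : G) * m' * ((z : G) * ((m : G) * m') * (z : G)⁻¹) =
          (m : G) * ((z : G) * m * (z : G)⁻¹) * ((m' : G) * ((z : G) * m' * (z : G)⁻¹))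
        rw [mul_assoc (m : G) ((z : G) * m * (z : G)⁻¹), ← mul_assoc ((z : G) * m * (z : G)⁻¹),
          hcomm _ (hNn.conj_mem _ m.2 _) _ m'.2]
        group) }
  -- the elements centralised by `z` correspond to its fixed points
  have hfix : ∀ m : N, (z : G) * m * (z : G)⁻¹ = m → (m : G) • a = a ∨ (m : G) • a = b := by
    intro m hm
    by_contra hne
    push Not at hne
    refine hz1 (hthree _ a b ((m : G) • a) hab hne.2.symm hne.1.symm hza hzb ?_)
    rw [← mul_smul, mul_inv_eq_iff_eq_mul.mp hm, mul_smul, hza]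
  haveI := Fintype.ofFinite N
  have hsmall : ∀ S : Subgroup N, (∀ m ∈ S, (z : G) * (m : G) * (z : G)⁻¹ = m) → Nat.card S ≤ 2 := by
    intro S hS
    have h1 : Nat.card S ≤ Nat.card ({a, b} : Finset Ω) :=
      Nat.card_le_card_of_injective (fun m : S => (⟨((m : N) : G) • a, by
        simpa using hfix m (hS m m.2)⟩ : ({a, b} : Finset Ω)))
        (fun m m' h => Subtype.ext (Subtype.ext (huniq _ (m : N).2 _ (m' : N).2 a (congrArg Subtype.val h))))
    rwa [Nat.card_eq_fintype_card (α := ({a, b} : Finset Ω)), Fintype.card_coe, Finset.card_pair hab] at h1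
  have hk : Nat.card φ.ker ≤ 2 := hsmall _ fun m hm => by
    have h1 : (m : G) * ((z : G) * m * (z : G)⁻¹) = 1 := congrArg Subtype.val hm
    rw [← inv_eq_of_mul_eq_one_right h1]
    exact inv_eq_of_mul_eq_one_right (hexp _ m.2)
  have hr : Nat.card φ.range ≤ 2 := hsmall _ fun m hm => by
    obtain ⟨k, rfl⟩ := hm
    show (z : G) * ((k : G) * ((z : G) * k * (z : G)⁻¹)) * (z : G)⁻¹ = (k : G) * ((z : G) * k * (z : G)⁻¹)
    rw [show (z : G) * ((k : G) * ((z : G) * k * (z : G)⁻¹)) * (z : G)⁻¹ =
      ((z : G) * k * (z : G)⁻¹) * (((z : G) * z) * k * ((z : G) * z)⁻¹) by group, hzz, one_mul, inv_one, mul_one]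
    exact hcomm _ (hNn.conj_mem _ k.2 _) _ k.2
  have h1 : Nat.card φ.range * Nat.card φ.ker = Nat.card N := by
    rw [← Subgroup.index_ker]
    exact Subgroup.index_mul_card _
  have h2 : Nat.card φ.range * Nat.card φ.ker ≤ 2 * 2 := Nat.mul_le_mul hr hk
  omega

variable {a b : Ω} {h e : ℕ} {H : Subgroup G}

/-- The normal closure of the kernel is simple. -/
theorem closure_simple (K : ZDataKer G a b h e H) :
    ∃ N : Subgroup G, N.Normal ∧ H ≤ N ∧ IsSimpleGroup N ∧
      ZDataKer N a b h (Nat.card ↥(stabilizer N a ⊓ stabilizer N b : Subgroup N)) (H.subgroupOf N) ∧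
      (stabilizer N a ⊓ stabilizer N b : Subgroup N).map N.subtype = N ⊓ (stabilizer G a ⊓ stabilizer G b) := by
  set N : Subgroup G := Subgroup.normalClosure (H : Set G) with hNdef
  have hNn : N.Normal := Subgroup.normalClosure_normal
  have hHN : H ≤ N := Subgroup.subset_normalClosure
  have hHne : H ≠ ⊥ := fun h0 => by
    have h1 := K.hHcard
    rw [h0, Subgroup.card_bot] at h1
    have := K.one_lt_h
    omega
  have hN : N ≠ ⊥ := fun h0 => hHne (le_bot_iff.mp (h0 ▸ hHN))
  have hzass := K.normal_zass N hN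
  haveI := hzass.2.1
  have KN : ZDataKer N a b h (Nat.card ↥(stabilizer N a ⊓ stabilizer N b : Subgroup N)) (H.subgroupOf N) :=
    { zass := hzass
      hab := K.hab
      hh := K.hh
      he := rfl
      hHa := fun x hx => K.hHa (Subgroup.mem_subgroupOf.mp hx)
      hHcard := (Nat.card_congr (Subgroup.subgroupOfEquivOfLe hHN).toEquiv).trans K.hHcard
      hHfix := fun x hx hx1 c hc => K.hHfix x (Subgroup.mem_subgroupOf.mp hx)
        (fun h' => hx1 (Subtype.ext h')) c hc }
  refine ⟨N, hNn, hHN, ?_, KN, ?_⟩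
  · haveI : Nontrivial N := (Subgroup.nontrivial_iff_ne_bot N).mpr hN
    haveI := KN.isPretransitive
    refine ⟨fun M hMn => or_iff_not_imp_left.mpr fun hM => ?_⟩
    have hHM : ∀ u ∈ H, u ∈ M.map N.subtype := fun u hu =>
      ⟨⟨u, hHN hu⟩, KN.le_normal hMn hM (Subgroup.mem_subgroupOf.mpr hu), rfl⟩
    have hconj : ∀ g : G, ∀ u ∈ H, g * u * g⁻¹ ∈ M.map N.subtype := by
      intro g u hu
      obtain ⟨n, hn⟩ := MulAction.exists_smul_eq N a (g • a)
      have hb : ((n : G)⁻¹ * g) • a = a := by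
        rw [mul_smul, inv_smul_eq_iff]
        exact hn.symm
      obtain ⟨m, hm, hmu⟩ := hHM _ (K.conj_mem hb hu)
      refine ⟨n * m * n⁻¹, hMn.conj_mem m hm n, ?_⟩
      rw [map_mul, map_mul, map_inv, hmu, Subgroup.coe_subtype]
      group
    have hle : N ≤ M.map N.subtype := by
      show Subgroup.closure (Group.conjugatesOfSet (H : Set G)) ≤ _
      rw [Subgroup.closure_le]
      intro x hx
      obtain ⟨u, hu, hux⟩ := Group.mem_conjugatesOfSet_iff.mp hx
      obtain ⟨g, rfl⟩ := isConj_iff.mp hux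
      exact hconj g u hu
    refine eq_top_iff.mpr fun x _ => ?_
    obtain ⟨m, hm, hmx⟩ := hle x.2
    exact Subtype.ext hmx ▸ hm
  · ext x
    constructor
    · rintro ⟨y, hy, rfl⟩
      exact ⟨y.2, hy⟩
    · rintro ⟨hxN, hx⟩
      exact ⟨⟨x, hxN⟩, hx, rfl⟩

/-- In a sharply triply transitive group of even degree the kernels generate a subgroup of index two. -/
theorem exists_half (K : ZDataKer G a b h e H) (hs : e + 1 = h) (hev : Even e) :
    ∃ (N : Subgroup G) (e' : ℕ), N.Normal ∧ H ≤ N ∧ IsSimpleGroup N ∧ e = 2 * e' ∧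
      ZDataKer N a b h e' (H.subgroupOf N) ∧ IsMulCommutative (H.subgroupOf N) ∧
      Nat.card ↥(N ⊓ (stabilizer G a ⊓ stabilizer G b)) = e' := by
  classical
  obtain ⟨N, hNn, hHN, hsimp, KN, hmap⟩ := closure_simple K
  set e' := Nat.card ↥(stabilizer N a ⊓ stabilizer N b : Subgroup N) with he'
  have hinf : Nat.card ↥(N ⊓ (stabilizer G a ⊓ stabilizer G b)) = e' := by
    rw [← hmap, Subgroup.card_subtype]
  have hdvd : e' ∣ e := by
    rw [← hinf, ← K.he]
    exact Subgroup.card_dvd_of_le inf_le_right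
  obtain ⟨hab', -⟩ := comm_of_large K (by omega)
  have hab'' : IsMulCommutative (H.subgroupOf N) := ⟨⟨fun x y => by
    have h1 := congrArg Subtype.val (hab'.is_comm.comm
      (⟨((x : N) : G), Subgroup.mem_subgroupOf.mp x.2⟩ : H) ⟨((y : N) : G), Subgroup.mem_subgroupOf.mp y.2⟩)
    exact Subtype.ext (Subtype.ext h1)⟩⟩
  have hle := le_two_mul KN hab''
  obtain ⟨k, hk⟩ := hdvd
  have hk2 : k ≤ 2 := by
    by_contra hk3
    have : e' * 3 ≤ e' * k := Nat.mul_le_mul_left _ (by omega)
    have := KN.two_le_e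
    omega
  refine ⟨N, e', hNn, hHN, hsimp, ?_, KN, hab'', hinf⟩
  interval_cases k
  · have := K.two_le_e; omega
  · exfalso
    haveI := Fintype.ofFinite N
    haveI := hsimp
    exact not_simple_sharp KN (by omega) (by rw [mul_one] at hk; exact hk ▸ hev)
  · omega

theorem orderOf_algEquiv_dvd {p f : ℕ} [Fact p.Prime] {K : Type} [Field K] [Fintype K] [CharP K p]
    (hK : Fintype.card K = p ^ f) :
    letI := ZMod.algebra K p
    ∀ τ : K ≃ₐ[ZMod p] K, orderOf τ ∣ f := by
  letI := ZMod.algebra K p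
  intro τ
  haveI : Module.Finite (ZMod p) K := Module.Finite.of_finite
  refine (orderOf_dvd_natCard τ).trans (dvd_of_eq ?_)
  rw [IsGalois.card_aut_eq_finrank]
  have h1 := Module.card_eq_pow_finrank (K := ZMod p) (V := K)
  rw [hK, ZMod.card] at h1
  exact (Nat.pow_right_injective (Fact.out : p.Prime).two_le h1).symm

/-- A sharply triply transitive group of degree `p ^ f + 1`, `f` odd, is `PGL(2, p ^ f)`. -/
theorem iso_PGL2 (K : ZDataKer G a b h e H) (hs : e + 1 = h) {p f : ℕ} (hp : p.Prime)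
    (hp2 : p ≠ 2) (hfo : Odd f) (hpf : h = p ^ f) :
    ∃ (L : Type) (_ : Field L) (_ : Fintype L), Fintype.card L = p ^ f ∧
      Nonempty (G ≃* Matrix.ProjGenLinGroup (Fin 2) L) := by
  classical
  have hev : Even e := by
    obtain ⟨k, hk⟩ : Odd h := hpf ▸ (hp.odd_of_ne_two hp2).pow
    exact ⟨k, by omega⟩
  obtain ⟨N, e', hNn, hHN, hsimp, he', KN, hab', hinf⟩ := exists_half K hs hev
  obtain ⟨w₀, hw₀⟩ := halfZass KN hab' (by omega)
  obtain ⟨L, iL, iL', ⟨c⟩⟩ := hw₀.exists_coord
  letI := iL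
  letI := iL'
  obtain ⟨w, hw, hw1⟩ := c.exists_normalized hw₀
  have hswap := c.swap_eq hw hw1
  have hcardL : Fintype.card L = p ^ f := by rw [c.hcardK]; omega
  haveI := K.zass.1
  haveI : Fact p.Prime := ⟨hp⟩
  set D : Subgroup G := stabilizer G a ⊓ stabilizer G b
  have hDa : ∀ g : D, (g : G) • a = a := fun g => (Subgroup.mem_inf.mp g.2).1
  have hDb : ∀ g : D, (g : G) • b = b := fun g => (Subgroup.mem_inf.mp g.2).2
  have hel : ∀ k : L, ((c.el k : N) : G) ∈ H := fun k => Subgroup.mem_subgroupOf.mp (c.hel k)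
  have hex : ∀ (g : D) (k : L), ∃ l : L, ((c.el l : N) : G) = (g : G) * ((c.el k : N) : G) * (g : G)⁻¹ := by
    intro g k
    have h1 := K.conj_mem (hDa g) (hel k)
    obtain ⟨l, hl⟩ := c.hel_surj ⟨_, hHN h1⟩ (Subgroup.mem_subgroupOf.mpr h1)
    exact ⟨l, congrArg Subtype.val hl⟩
  choose T hT using hex
  have heli : ∀ {k l : L}, ((c.el k : N) : G) = ((c.el l : N) : G) → k = l :=
    fun hkl => c.hel_inj (Subtype.ext hkl)
  have hTadd : ∀ g k l, T g (k + l) = T g k + T g l := fun g k l => heli (by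
    rw [hT, c.hel_add, Subgroup.coe_mul, c.hel_add, Subgroup.coe_mul, hT, hT]
    group)
  have hTmul : ∀ g g' k, T (g * g') k = T g (T g' k) := fun g g' k => heli (by
    rw [hT, hT, hT, Subgroup.coe_mul]
    group)
  have hTpt : ∀ (g : D) (k : L), (g : G) • c.pt (some k) = c.pt (some (T g k)) := by
    intro g k
    show (g : G) • ((c.el k : N) : G) • b = ((c.el (T g k) : N) : G) • b
    rw [hT, mul_smul, mul_smul, inv_smul_eq_iff.mpr (hDb g).symm]
  have hTinj : ∀ g, Function.Injective (T g) := fun g k l hkl => heli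
    (mul_left_cancel (mul_right_cancel ((hT g k).symm.trans
      ((congrArg (fun x : L => ((c.el x : N) : G)) hkl).trans (hT g l)))))
  -- the squares
  have hsq : ∀ (g : D) (s : L), s ≠ 0 → IsSquare s → ∃ s' : L, ∀ k, T g (s * k) = s' * T g k := by
    intro g s hs0 hss
    obtain ⟨x, hx⟩ := c.exists_mul_eq hw₀ hs0 hss
    have hxD : ((x : N) : G) ∈ D := x.2
    have hmem : (g : G) * ((x : N) : G) * (g : G)⁻¹ ∈ N := hNn.conj_mem _ (x : N).2 _
    have hmemD : (g : G) * ((x : N) : G) * (g : G)⁻¹ ∈ D := mul_mem (mul_mem g.2 hxD) (inv_mem g.2)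
    let x' : ↥(stabilizer N a ⊓ stabilizer N b : Subgroup N) := ⟨⟨_, hmem⟩, hmemD⟩
    refine ⟨c.mul x', fun k => heli ?_⟩
    rw [hT, ← hx, c.hmul, c.hmul, Subgroup.coe_mul, Subgroup.coe_mul, Subgroup.coe_inv,
      Subgroup.coe_mul, Subgroup.coe_mul, Subgroup.coe_inv, hT]
    show (g : G) * (((x : N) : G) * ((c.el k : N) : G) * ((x : N) : G)⁻¹) * (g : G)⁻¹ =
      ((g : G) * ((x : N) : G) * (g : G)⁻¹) * ((g : G) * ((c.el k : N) : G) * (g : G)⁻¹) *
        ((g : G) * ((x : N) : G) * (g : G)⁻¹)⁻¹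
    group
  have hT0 : ∀ g, T g 0 = 0 := fun g => heli (by rw [hT, c.el_zero, Subgroup.coe_one, mul_one, mul_inv_cancel])
  have hT10 : ∀ g, T g 1 ≠ 0 := fun g h0 => one_ne_zero (hTinj g (h0.trans (hT0 g).symm))
  have hsemi : ∀ (g : D) (s k : L), T g (s * k) = T g s * (T g 1)⁻¹ * T g k := by
    intro g
    let S : AddSubgroup L :=
      { carrier := {s | ∀ k, T g (s * k) = T g s * (T g 1)⁻¹ * T g k}
        zero_mem' := fun k => by rw [zero_mul, hT0]; ring
        add_mem' := fun {u v} hu hv k => by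
          rw [add_mul, hTadd, hu k, hv k, hTadd]
          ring
        neg_mem' := fun {u} hu k => by
          have e1 : T g (-u * k) = -T g (u * k) := eq_neg_of_add_eq_zero_left (by
            rw [← hTadd, neg_mul, neg_add_cancel, hT0])
          have e2 : T g (-u) = -T g u := eq_neg_of_add_eq_zero_left (by
            rw [← hTadd, neg_add_cancel, hT0])
          rw [e1, hu k, e2]
          ring }
    have hS : ∀ s : L, IsSquare s → s ∈ S := by
      intro s hs
      by_cases hs0 : s = 0
      · rw [hs0]; exact S.zero_mem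
      intro k
      obtain ⟨s', hs'⟩ := hsq g s hs0 hs
      have h1 := hs' 1
      rw [mul_one] at h1
      rw [hs', h1, mul_inv_cancel_right₀ (hT10 g)]
    have hcard : Nat.card L < 2 * Nat.card S := by
      let ι : Option ↥(stabilizer N a ⊓ stabilizer N b : Subgroup N) → S := fun o =>
        match o with
        | none => 0
        | some z => ⟨c.mul z, hS _ (c.mul_isSquare hw₀ z).2⟩
      have hι : Function.Injective ι := by
        intro o o' heq
        have heq' : ((ι o : S) : L) = ι o' := congrArg Subtype.val heq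
        cases o <;> cases o' <;> simp only [ι, ZeroMemClass.coe_zero] at heq'
        · rfl
        · exact absurd heq'.symm (c.mul_isSquare hw₀ _).1
        · exact absurd heq' (c.mul_isSquare hw₀ _).1
        · rw [c.hmul_inj heq']
      have h1 := Nat.card_le_card_of_injective ι hι
      rw [Finite.card_option, hw₀.hD] at h1
      rw [Nat.card_eq_fintype_card, c.hcardK]
      omega
    have htop : S = ⊤ := by
      refine AddSubgroup.eq_top_of_card_eq S ?_
      obtain ⟨m, hm⟩ := AddSubgroup.card_addSubgroup_dvd_card S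
      rcases m with _ | _ | m
      · have : 0 < Nat.card L := Nat.card_pos
        omega
      · rw [hm]; simp
      · exfalso
        have : Nat.card S * 2 ≤ Nat.card L := hm ▸ Nat.mul_le_mul_left _ (by omega)
        omega
    intro s k
    exact (show s ∈ S from htop ▸ AddSubgroup.mem_top s) k
  -- the associated automorphism has order dividing two and `f`
  have hlin : ∀ (g : D) (k : L), T g k = T g 1 * k := by
    intro g
    haveI : CharP L p := by
      obtain ⟨q, hq⟩ := CharP.exists L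
      haveI := hq
      obtain ⟨n, hqp, hn⟩ := FiniteField.card L q
      rw [hcardL] at hn
      have : q = p := ((Nat.prime_dvd_prime_iff_eq hqp hp).mp (hqp.dvd_of_dvd_pow
        (show q ∣ p ^ f from hn ▸ dvd_pow_self q n.ne_zero)))
      exact this ▸ hq
    letI := ZMod.algebra L p
    let τ₀ : L →+* L :=
      { toFun := fun k => T g k * (T g 1)⁻¹
        map_one' := mul_inv_cancel₀ (hT10 g)
        map_mul' := fun k l => by rw [hsemi]; ring
        map_zero' := by rw [hT0, zero_mul]
        map_add' := fun k l => by rw [hTadd]; ring }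
    let τ : L ≃ₐ[ZMod p] L := AlgEquiv.ofRingEquiv
      (f := RingEquiv.ofBijective τ₀ (Finite.injective_iff_bijective.mp τ₀.injective))
      (fun x => by
        show τ₀ (algebraMap (ZMod p) L x) = algebraMap (ZMod p) L x
        exact RingHom.congr_fun (RingHom.ext_zmod (τ₀.comp (algebraMap (ZMod p) L)) (algebraMap (ZMod p) L)) x)
    have hg2 : (g : G) * (g : G) ∈ N := by
      have h1 : (N.subgroupOf D).index = 2 := by
        have h2 := (N.subgroupOf D).index_mul_card
        rw [K.he, show Nat.card (N.subgroupOf D) = e' by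
          rw [← hinf, ← Subgroup.inf_subgroupOf_right]
          exact Nat.card_congr (Subgroup.subgroupOfEquivOfLe inf_le_right).toEquiv, he'] at h2
        have : 0 < e' := by have := KN.two_le_e; omega
        exact Nat.eq_of_mul_eq_mul_right this h2
      have h2 := Subgroup.sq_mem_of_index_two h1 g
      rw [pow_two] at h2
      exact h2
    let x : ↥(stabilizer N a ⊓ stabilizer N b : Subgroup N) := ⟨⟨_, hg2⟩, (g * g).2⟩
    have hT2 : ∀ k, T g (T g k) = c.mul x * k := fun k => heli (by
      rw [← hTmul, hT, c.hmul, Subgroup.coe_mul, Subgroup.coe_mul, Subgroup.coe_inv]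
      rfl)
    have hτ2 : τ ^ 2 = 1 := by
      refine AlgEquiv.ext fun k => ?_
      rw [pow_two]
      show T g (T g k * (T g 1)⁻¹) * (T g 1)⁻¹ = k
      have e1 := hsemi g (T g k * (T g 1)⁻¹) (T g 1)
      rw [inv_mul_cancel_right₀ (hT10 g), hT2, hT2, mul_one] at e1
      refine mul_right_cancel₀ (c.mul_isSquare hw₀ x).1 ?_
      rw [← e1]
      ring
    have hτ1 : τ = 1 := by
      have h1 := orderOf_algEquiv_dvd hcardL τ
      have h2 := orderOf_dvd_of_pow_eq_one hτ2
      have h3 : orderOf τ ∣ 1 := by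
        have hcop : Nat.Coprime 2 f := Nat.coprime_two_left.mpr hfo
        exact hcop ▸ Nat.dvd_gcd h2 h1
      exact orderOf_eq_one_iff.mp (Nat.dvd_one.mp h3)
    intro k
    have h4 : T g k * (T g 1)⁻¹ = k := congrArg (fun t : L ≃ₐ[ZMod p] L => t k) hτ1
    calc T g k = T g k * (T g 1)⁻¹ * T g 1 := (inv_mul_cancel_right₀ (hT10 g) _).symm
      _ = T g 1 * k := by rw [h4, mul_comm]
  have honto : ∀ k : L, k ≠ 0 → ∃ g : D, T g 1 = k := by
    intro k hk
    haveI := Fintype.ofFinite D
    have hinj : Function.Injective (fun g : D => T g 1) := by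
      intro g g' hgg
      have hgg' : T g 1 = T g' 1 := hgg
      refine (inv_mul_eq_one.mp (Subtype.ext ?_)).symm
      show (g' : G)⁻¹ * g = 1
      refine K.three K.hab (z := c.pt (some 1)) ?_ ?_ ?_ ?_ ?_
      · exact fun e1 => zero_ne_one (Option.some.inj ((c.pt_bijective hw₀).1 (c.pt_zero.trans e1)))
      · exact fun e1 => by simpa using (c.pt_bijective hw₀).1 (a₁ := none) (a₂ := some 1) e1
      · rw [mul_smul, hDa g, inv_smul_eq_iff, hDa g']
      · rw [mul_smul, hDb g, inv_smul_eq_iff, hDb g']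
      · rw [mul_smul, hTpt, inv_smul_eq_iff, hTpt, hgg']
    have hsub : Finset.univ.image (fun g : D => T g 1) ⊆ Finset.univ.erase 0 := by
      intro y hy
      obtain ⟨g, -, rfl⟩ := Finset.mem_image.mp hy
      exact Finset.mem_erase.mpr ⟨hT10 g, Finset.mem_univ _⟩
    have heq := Finset.eq_of_subset_of_card_le hsub (by
      rw [Finset.card_image_of_injective _ hinj, Finset.card_erase_of_mem (Finset.mem_univ _),
        Finset.card_univ, Finset.card_univ, c.hcardK, ← Nat.card_eq_fintype_card, K.he]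
      omega)
    obtain ⟨g, -, hg⟩ := Finset.mem_image.mp (heq.symm ▸ Finset.mem_erase.mpr ⟨hk, Finset.mem_univ k⟩)
    exact ⟨g, hg⟩
  refine ⟨L, iL, iL', hcardL, ?_⟩
  refine iso_PGL2_of_line c.pt (c.pt_bijective hw₀)
    (fun k => ⟨((c.el k : N) : G), c.el_smul_none hw₀ k, fun x => by
      rw [add_comm]; exact c.el_smul k x⟩) ?_
    ⟨(w : G), ?_, ?_, hswap⟩ ?_
  · intro k hk
    obtain ⟨g, hg⟩ := honto k hk
    exact ⟨g, hDa g, fun x => by rw [hTpt, hlin, hg]⟩
  · rw [c.pt_zero]; exact hw.hwa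
  · rw [c.pt_zero]; exact hw.hwb
  · haveI := K.isPretransitive
    rw [← (stabilizer G a).index_mul_card, MulAction.index_stabilizer_of_transitive,
      Nat.card_eq_fintype_card, K.hh, K.card_stabilizer a, c.hcardK]
    have h1 : 2 * e' + 1 = h := by omega
    have h2 : h ^ 2 - 1 = (h + 1) * e := by
      have : h ^ 2 = (h + 1) * e + 1 := by rw [← hs]; ring
      omega
    rw [h1, h2]
    ring

/-- The triply transitive groups of degree four. -/
theorem degree_four {α : Type v} [Fintype α] [DecidableEq α] (hα : Fintype.card α = 4) (G : Subgroup (Equiv.Perm α))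
    (h3 : MulAction.IsMultiplyPretransitive G α 3) :
    Nonempty (G ≃* Matrix.ProjGenLinGroup (Fin 2) (ZMod 3)) := by
  haveI : Fact (Nat.Prime 3) := ⟨Nat.prime_three⟩
  -- `G` is everything
  have htop : G = ⊤ := by
    refine eq_top_iff.mpr fun σ _ => ?_
    obtain ⟨e⟩ : Nonempty (Fin 4 ≃ α) := ⟨(Fintype.equivFinOfCardEq hα).symm⟩
    obtain ⟨g, hg0, hg1, hg2⟩ := exists_move_three h3 (x := e 0) (y := e 1) (z := e 2) (x' := σ (e 0))
      (y' := σ (e 1)) (z' := σ (e 2)) (e.injective.ne (by decide)) (e.injective.ne (by decide))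
      (e.injective.ne (by decide)) (σ.injective.ne (e.injective.ne (by decide)))
      (σ.injective.ne (e.injective.ne (by decide))) (σ.injective.ne (e.injective.ne (by decide)))
    have hgσ : (g : Equiv.Perm α) = σ := by
      refine Equiv.ext fun x => ?_
      obtain ⟨i, rfl⟩ := e.surjective x
      fin_cases i
      · exact hg0
      · exact hg1
      · exact hg2
      · -- the last point
        obtain ⟨j, hj⟩ := e.surjective (σ.symm ((g : Equiv.Perm α) (e 3)))
        have hj' : σ (e j) = (g : Equiv.Perm α) (e 3) := by rw [hj, Equiv.apply_symm_apply]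
        fin_cases j
        · exact absurd (e.injective ((g : Equiv.Perm α).injective (hj'.symm.trans hg0.symm))) (by decide)
        · exact absurd (e.injective ((g : Equiv.Perm α).injective (hj'.symm.trans hg1.symm))) (by decide)
        · exact absurd (e.injective ((g : Equiv.Perm α).injective (hj'.symm.trans hg2.symm))) (by decide)
        · exact hj'.symm
    exact hgσ ▸ g.2
  let ψ := MulAction.toPermHom (Matrix.ProjGenLinGroup (Fin 2) (ZMod 3))
    (Projectivization (ZMod 3) (Fin 2 → ZMod 3))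
  have hψ : Function.Injective ψ := (injective_iff_map_eq_one _).2 fun x hx =>
    pgl_faithful fun q => congrArg (fun σ : Equiv.Perm (Projectivization (ZMod 3) (Fin 2 → ZMod 3)) => σ q) hx
  haveI : Fintype (Projectivization (ZMod 3) (Fin 2 → ZMod 3)) :=
    Fintype.ofBijective linePt linePt_bijective
  classical
  have hP : Fintype.card (Projectivization (ZMod 3) (Fin 2 → ZMod 3)) = 4 := by
    rw [← Fintype.card_of_bijective (linePt_bijective (K := ZMod 3)), Fintype.card_option, ZMod.card]
  haveI : Finite (Matrix.ProjGenLinGroup (Fin 2) (ZMod 3)) := Finite.of_injective ψ hψ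
  haveI := Fintype.ofFinite (Matrix.ProjGenLinGroup (Fin 2) (ZMod 3))
  have hbij : Function.Bijective ψ := (Fintype.bijective_iff_injective_and_card ψ).mpr ⟨hψ, by
    rw [← Nat.card_eq_fintype_card, Classical.card_PGL, Classical.card_SL2, ZMod.card, Fintype.card_perm, hP]
    decide⟩
  let e : α ≃ Projectivization (ZMod 3) (Fin 2 → ZMod 3) := Fintype.equivOfCardEq (hα.trans hP.symm)
  exact ⟨(((MulEquiv.subgroupCongr htop).trans Subgroup.topEquiv).trans e.permCongrHom).trans
    (MulEquiv.ofBijective ψ hbij).symm⟩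

end Cfsg.Agent.Lib.OddLocal.SharpOdd
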