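import Cfsg.Agent.Lib.OddLocal.SharpField

/-!
Sharply triply transitive groups whose swapping elements are involutions are `PGL(2, q)`.
-/

set_option autoImplicit false
set_option linter.style.haveILetI false

namespace Cfsg.Agent.Lib.OddLocal

open MulAction

variable {G : Type*} [Group G] [Finite G] {Ω : Type*} [MulAction G Ω] {a b : Ω} {F : Subgroup G}
  {w : G} {d : ℕ}

theorem SharpZass.twist (h : SharpZass G a b F w d) {y : G} (hy : y ∈ stabilizer G a ⊓ stabilizer G b) :
    SharpZass G a b F (w * y) d where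
  faith := h.faith
  three := h.three
  trans := h.trans
  hab := h.hab
  hd := h.hd
  hFa := h.hFa
  hFn := h.hFn
  hFab := h.hFab
  hreg := h.hreg
  hwa := by rw [mul_smul, (Subgroup.mem_inf.mp hy).1, h.hwa]
  hwb := by rw [mul_smul, (Subgroup.mem_inf.mp hy).2, h.hwb]
  hswap := fun x hx => by rw [mul_assoc w y x]; exact h.hswap _ (mul_mem hy hx)
  hD := h.hD
  hF := h.hF

theorem SharpZass.card_stab (h : SharpZass G a b F w d) : Nat.card (stabilizer G a) = (d + 1) * d := by
  rw [← h.hF, ← h.hD, ← Nat.card_prod]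
  symm
  refine Nat.card_congr (Equiv.ofBijective (fun p : F × ↥(stabilizer G a ⊓ stabilizer G b : Subgroup G) =>
    (⟨(p.1 : G) * p.2, mul_mem (h.hFa p.1.2) (Subgroup.mem_inf.mp p.2.2).1⟩ : stabilizer G a)) ⟨?_, ?_⟩)
  · rintro ⟨u, x⟩ ⟨v, y⟩ he
    have he' : (u : G) * x = (v : G) * y := congrArg Subtype.val he
    have h1 : ((v : G)⁻¹ * u) • b = b := by
      have h2 : (v : G)⁻¹ * u = (y : G) * (x : G)⁻¹ := by
        rw [inv_mul_eq_iff_eq_mul, ← mul_assoc, ← he', mul_inv_cancel_right]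
      rw [h2]
      exact (Subgroup.mem_inf.mp (mul_mem y.2 (inv_mem x.2))).2
    have h2 := h.eq_one_of_fix (mul_mem (inv_mem v.2) u.2) h1
    have h3 : u = v := Subtype.ext (inv_mul_eq_one.mp h2).symm
    subst h3
    exact Prod.ext rfl (Subtype.ext (mul_left_cancel he'))
  · rintro ⟨g, hg⟩
    have hgb : g • b ≠ a := fun e => h.hab (smul_left_cancel g ((mem_stabilizer_iff.mp hg).trans e.symm))
    obtain ⟨u, hu, -⟩ := h.hreg b (g • b) h.hab.symm hgb
    refine ⟨(u, ⟨(u : G)⁻¹ * g, Subgroup.mem_inf.mpr ⟨mul_mem (inv_mem (h.hFa u.2)) hg, ?_⟩⟩),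
      Subtype.ext (mul_inv_cancel_left _ _)⟩
    rw [mem_stabilizer_iff, mul_smul, ← hu, inv_smul_smul]

theorem SharpZass.card_group [Fintype Ω] (h : SharpZass G a b F w d) :
    Nat.card G = (d + 2) * ((d + 1) * d) := by
  classical
  have hΩ : Fintype.card Ω = d + 2 := by
    have h1 : Nat.card F = Nat.card {z : Ω // z ≠ a} := by
      refine Nat.card_congr (Equiv.ofBijective (fun u : F => (⟨(u : G) • b, h.smul_ne u.2⟩ : {z : Ω // z ≠ a}))
        ⟨?_, ?_⟩)
      · intro u v huv
        obtain ⟨z, -, hz⟩ := h.hreg b ((v : G) • b) h.hab.symm (h.smul_ne v.2)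
        exact (hz u (congrArg Subtype.val huv)).trans (hz v rfl).symm
      · rintro ⟨z, hz⟩
        obtain ⟨u, hu, -⟩ := h.hreg b z h.hab.symm hz
        exact ⟨u, Subtype.ext hu⟩
    rw [h.hF, Nat.card_eq_fintype_card, Fintype.card_subtype_compl, Fintype.card_subtype_eq] at h1
    have : 0 < Fintype.card Ω := Fintype.card_pos_iff.mpr ⟨a⟩
    omega
  haveI := h.trans
  rw [← (stabilizer G a).index_mul_card, h.card_stab, MulAction.index_stabilizer_of_transitive,
    Nat.card_eq_fintype_card, hΩ]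

section Coord

variable {K : Type} [Field K] [Fintype K]

/-- The points. -/
def SharpCoord.pt (c : SharpCoord G a b F d K) : Option K → Ω
  | none => a
  | some k => c.el k • b

theorem SharpCoord.el_zero (c : SharpCoord G a b F d K) : c.el 0 = 1 := by
  have := c.hel_add 0 0
  rw [add_zero] at this
  exact mul_eq_left.mp this.symm

theorem SharpCoord.pt_zero (c : SharpCoord G a b F d K) : c.pt (some 0) = b := by
  show c.el 0 • b = b
  rw [c.el_zero, one_smul]

theorem SharpCoord.el_smul_b (c : SharpCoord G a b F d K) (k : K) : c.el k • b = c.pt (some k) := rfl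

theorem SharpCoord.pt_bijective (c : SharpCoord G a b F d K) (h : SharpZass G a b F w d) :
    Function.Bijective c.pt := by
  constructor
  · intro o o' he
    cases o <;> cases o'
    · rfl
    · exact absurd he.symm (h.smul_ne (c.hel _))
    · exact absurd he (h.smul_ne (c.hel _))
    · rename_i k l
      obtain ⟨z, -, hz⟩ := h.hreg b (c.el l • b) h.hab.symm (h.smul_ne (c.hel l))
      have := (hz ⟨c.el k, c.hel k⟩ he).trans (hz ⟨c.el l, c.hel l⟩ rfl).symm
      exact congrArg some (c.hel_inj (congrArg Subtype.val this))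
  · intro z
    by_cases hz : z = a
    · exact ⟨none, hz.symm⟩
    · obtain ⟨u, hu, -⟩ := h.hreg b z h.hab.symm hz
      obtain ⟨k, hk⟩ := c.hel_surj u u.2
      exact ⟨some k, by show c.el k • b = z; rw [hk, hu]⟩

theorem SharpCoord.el_smul_none (c : SharpCoord G a b F d K) (h : SharpZass G a b F w d) (k : K) :
    c.el k • c.pt none = c.pt none := h.hFa (c.hel k)

theorem SharpCoord.el_smul (c : SharpCoord G a b F d K) (k x : K) :
    c.el k • c.pt (some x) = c.pt (some (k + x)) := by
  show c.el k • c.el x • b = c.el (k + x) • b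
  rw [← mul_smul, c.hel_add]

theorem SharpCoord.two_smul' (c : SharpCoord G a b F d K) (x : ↥(stabilizer G a ⊓ stabilizer G b : Subgroup G))
    (k : K) : (x : G) • c.pt (some k) = c.pt (some (c.mul x * k)) := by
  show (x : G) • c.el k • b = c.el (c.mul x * k) • b
  rw [c.hmul, mul_smul, mul_smul,
    show (x : G)⁻¹ • b = b from inv_smul_eq_iff.mpr (Subgroup.mem_inf.mp x.2).2.symm]

/-- Every non-zero scalar is a multiplier. -/
theorem SharpCoord.exists_mul_eq (c : SharpCoord G a b F d K) (h : SharpZass G a b F w d) {k : K} (hk : k ≠ 0) :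
    ∃ x, c.mul x = k := by
  classical
  haveI := Fintype.ofFinite ↥(stabilizer G a ⊓ stabilizer G b : Subgroup G)
  have hne : ∀ x, c.mul x ≠ 0 := fun x e => by
    have := map_mul c.mul x x⁻¹
    rw [mul_inv_cancel, map_one, e, zero_mul] at this
    exact one_ne_zero this
  have hsub : Finset.univ.image c.mul ⊆ Finset.univ.erase 0 := by
    intro y hy
    obtain ⟨x, -, rfl⟩ := Finset.mem_image.mp hy
    exact Finset.mem_erase.mpr ⟨hne x, Finset.mem_univ _⟩
  have heq := Finset.eq_of_subset_of_card_le hsub (by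
    rw [Finset.card_image_of_injective _ c.hmul_inj, Finset.card_erase_of_mem (Finset.mem_univ _),
      Finset.card_univ, Finset.card_univ, c.hcardK, ← Nat.card_eq_fintype_card, h.hD, Nat.add_sub_cancel])
  have hmem : k ∈ Finset.univ.image c.mul := heq ▸ Finset.mem_erase.mpr ⟨hk, Finset.mem_univ _⟩
  obtain ⟨x, -, hx⟩ := Finset.mem_image.mp hmem
  exact ⟨x, hx⟩

theorem SharpCoord.exists_swap (c : SharpCoord G a b F d K) (h : SharpZass G a b F w d) :
    ∃ w' : G, w' • a = b ∧ w' • b = a ∧ ∀ x : K, x ≠ 0 → w' • c.pt (some x) = c.pt (some (-x⁻¹)) := by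
  classical
  obtain ⟨o, ho⟩ := (c.pt_bijective h).2 (w • c.pt (some 1))
  obtain ⟨α, hα0, hα⟩ : ∃ α : K, α ≠ 0 ∧ w • c.pt (some 1) = c.pt (some α) := by
    cases o with
    | none =>
      exfalso
      have h1 : w • c.pt (some 1) = w • c.pt (some 0) := by
        rw [← ho, c.pt_zero, h.hwb]
        rfl
      exact one_ne_zero (Option.some.inj ((c.pt_bijective h).1 (smul_left_cancel w h1)))
    | some α =>
      refine ⟨α, fun e => ?_, ho.symm⟩
      rw [e, c.pt_zero] at ho
      have h1 : c.pt (some 1) = c.pt none := smul_left_cancel w (ho.symm.trans h.hwa.symm)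
      exact absurd ((c.pt_bijective h).1 h1) (by simp)
  obtain ⟨z, hz⟩ := c.exists_mul_eq h (neg_ne_zero.mpr hα0)
  have h' := h.twist z.2
  refine ⟨w * z, h'.hwa, h'.hwb, fun x hx => ?_⟩
  have hw1 : ∀ y : K, y ≠ 0 → w • c.pt (some y) = c.pt (some (y⁻¹ * α)) := by
    intro y hy
    obtain ⟨u, hu⟩ := c.exists_mul_eq h hy
    have hui : c.mul u⁻¹ = y⁻¹ := by
      refine eq_inv_of_mul_eq_one_left ?_
      rw [← hu, ← map_mul, inv_mul_cancel, map_one]
    calc w • c.pt (some y) = w • c.pt (some (c.mul u * 1)) := by rw [hu, mul_one]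
      _ = (w * (u : G)) • c.pt (some 1) := by rw [mul_smul, c.two_smul']
      _ = (((u⁻¹ : ↥(stabilizer G a ⊓ stabilizer G b : Subgroup G)) : G) * w) • c.pt (some 1) := by
          rw [h.conj_inv u.2, Subgroup.coe_inv]
      _ = c.pt (some (y⁻¹ * α)) := by rw [mul_smul, hα, c.two_smul', hui]
  rw [mul_smul, c.two_smul', hz, hw1 _ (mul_ne_zero (neg_ne_zero.mpr hα0) hx)]
  refine congrArg (fun y => c.pt (some y)) ?_
  field_simp

end Coord

/-- Recognition of `PGL(2, q)`. -/
theorem SharpZass.iso_PGL2 [Fintype Ω] (h : SharpZass G a b F w d) :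
    ∃ (K : Type) (_ : Field K) (_ : Fintype K), Fintype.card K = d + 1 ∧
      Nonempty (G ≃* Matrix.ProjGenLinGroup (Fin 2) K) := by
  obtain ⟨K, _, _, ⟨c⟩⟩ := h.exists_coord
  obtain ⟨w', hw'a, hw'b, hw'⟩ := c.exists_swap h
  haveI := h.faith
  refine ⟨K, inferInstance, inferInstance, c.hcardK, ?_⟩
  refine iso_PGL2_of_line c.pt (c.pt_bijective h)
    (fun k => ⟨c.el k, c.el_smul_none h k, fun x => by rw [c.el_smul, add_comm]⟩) ?_
    ⟨w', ?_, ?_, hw'⟩ ?_
  · intro k hk
    obtain ⟨z, hz⟩ := c.exists_mul_eq h hk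
    exact ⟨z, (Subgroup.mem_inf.mp z.2).1, fun x => by rw [c.two_smul', hz]⟩
  · rw [c.pt_zero]; exact hw'a
  · rw [c.pt_zero]; exact hw'b
  · rw [h.card_group, c.hcardK]
    have : (d + 1) ^ 2 - 1 = (d + 2) * d := by
      have : (d + 1) ^ 2 = (d + 2) * d + 1 := by ring
      omega
    rw [this]
    ring

end Cfsg.Agent.Lib.OddLocal
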