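import Cfsg.Agent.Lib.OddLocal.AlphaCore

/-!
`M_σ` is a Hall subgroup.
-/

set_option autoImplicit false

namespace Cfsg.Agent.Lib.OddLocal

open Cfsg.Agent.Lib

universe u

variable {G : Type u} [Group G] [Finite G] (hG : Cfsg.IsMinSimpleOddOrder G)
include hG
variable {M : Subgroup G} (hM : IsCoatom M)
include hM

/-- The Sylow subgroups of `M` for the primes of `σ(M)` lie in `M_σ`. -/
theorem sylow_le_piCore_sigma {p : ℕ} [hp : Fact p.Prime] (hp' : p ∈ Cfsg.sigma M) (P : Sylow p M) :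
    (P : Subgroup M) ≤ Cfsg.piCore (Cfsg.sigma M) M := by
  obtain ⟨-, hcomm, -⟩ := alphaCore_data hG hM
  set N := Cfsg.piCore (Cfsg.alpha M) M with hN
  set f := QuotientGroup.mk' N with hf
  set T := (Cfsg.pCore p (M ⧸ N)).comap f with hT
  have hTn : T.Normal := (inferInstance : (Cfsg.pCore p (M ⧸ N)).Normal).comap f
  have hTle : T ≤ Cfsg.piCore (Cfsg.sigma M) M := by
    refine Cores.le_piCore hTn fun r hr hd => ?_
    rw [hT, hf, Coprime.card_comap_mk'] at hd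
    rcases hr.dvd_mul.mp hd with h | h
    · exact alpha_subset_sigma hG hM (Cores.mem_of_prime_dvd_card_piCore hr h)
    · obtain ⟨k, hk⟩ := IsPGroup.iff_card.mp (Cores.pCore_isPGroup p (M ⧸ N))
      rw [(Nat.prime_dvd_prime_iff_eq hr hp.out).mp (hr.dvd_of_dvd_pow (hk ▸ h))]
      exact hp'
  intro x hx
  refine hTle (Subgroup.mem_comap.mpr ?_)
  have h : (commutator M).map f ≤ commutator (M ⧸ N) := by
    rw [commutator_def, commutator_def, Subgroup.map_commutator]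
    exact Subgroup.commutator_mono le_top le_top
  have h1 : f x ∈ Cfsg.fittingSubgroup (M ⧸ N) :=
    hcomm (h (Subgroup.mem_map_of_mem f (sylow_le_commutator_of_sigma hG hM hp' P hx)))
  obtain ⟨k, hk⟩ := IsPGroup.iff_orderOf.mp P.isPGroup' ⟨x, hx⟩
  rw [← Subgroup.orderOf_coe] at hk
  obtain ⟨j, -, hj⟩ := (Nat.dvd_prime_pow hp.out).mp ((orderOf_map_dvd f x).trans hk.dvd)
  have h2 := mem_pCore_of_isNilpotent (G := Cfsg.fittingSubgroup (M ⧸ N))
    (Cores.fittingSubgroup_isNilpotent _) p (x := ⟨f x, h1⟩) ⟨j, by rw [← Subgroup.orderOf_coe]; exact hj⟩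
  exact Cores.map_subtype_pCore_le _ ⟨_, h2, rfl⟩

theorem not_dvd_index_piCore_sigma {p : ℕ} (hp : p.Prime) (hp' : p ∈ Cfsg.sigma M) :
    ¬ p ∣ (Cfsg.piCore (Cfsg.sigma M) M).index := fun hd => by
  have := Fact.mk hp
  obtain ⟨P⟩ : Nonempty (Sylow p M) := inferInstance
  exact P.not_dvd_index (hd.trans (Subgroup.index_dvd_of_le (sylow_le_piCore_sigma hG hM hp' P)))

/-- A Sylow subgroup of `G` for a prime of `σ(M)` inside `M_σ`. -/
theorem sylow_le_sigmaCore {p : ℕ} [hp : Fact p.Prime] (hp' : p ∈ Cfsg.sigma M) :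
    ∃ S : Sylow p G, (S : Subgroup G) ≤ Cfsg.sigmaCore M := by
  obtain ⟨-, -, P₀, hPN⟩ := id hp'
  obtain ⟨S, hS⟩ := exists_sylow_of_normalizer_le hG P₀ hPN
  exact ⟨S, hS.le.trans (Subgroup.map_mono (sylow_le_piCore_sigma hG hM hp' P₀))⟩

end Cfsg.Agent.Lib.OddLocal
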