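import Cfsg.Agent.Lib.OddLocal.ScnUniqueness

/-! Fusion of the `p`-subgroups of a maximal subgroup for `p` in `σ(M)`. -/

set_option autoImplicit false

open scoped commutatorElement

namespace Cfsg.Agent.Lib.OddLocal

universe u

variable {G : Type u} [Group G] [Finite G] (hG : Cfsg.IsMinSimpleOddOrder G)
include hG

/-- Every elementary abelian subgroup of rank three lies in a unique maximal subgroup. -/
theorem inUniqueMaximal_elementary {q : ℕ} [Fact q.Prime] {F : Subgroup G}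
    (hF : Cfsg.IsElementaryAbelian q F) (hFc : q ^ 2 < Nat.card F) : Cfsg.InUniqueMaximal F := by
  obtain ⟨S⟩ : Nonempty (Sylow q G) := inferInstance
  obtain ⟨A, hA, hAc, hA3⟩ := exists_scn_three hG S fun h => not_lt.mpr (h F hF.1 hF.2) hFc
  obtain ⟨F₁, hF₁A, hF₁e, hF₁c⟩ := exists_elementary_of_not_pRankLE hA3
  exact inUniqueMaximal_elementary_transfer hG hF₁e hF₁c
    (inUniqueMaximal_elementary_of_abelian hG (inUniqueMaximal_scn hG S hA hAc hA3) hAc hF₁e hF₁c hF₁A) hF hFc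

/-- A `q`-subgroup of rank three lies in a unique maximal subgroup. -/
theorem inUniqueMaximal_pGroup {q : ℕ} [Fact q.Prime] {X : Subgroup G} (hX : IsPGroup q X)
    (hr : ¬ Cfsg.PRankLE q 2 X) : Cfsg.InUniqueMaximal X := by
  obtain ⟨F, hFX, hFe, hFc⟩ := exists_elementary_of_not_pRankLE hr
  exact inUniqueMaximal_of_le hG (inUniqueMaximal_elementary hG hFe hFc) hFX (ne_top_of_isPGroup hG hX)

theorem mem_of_map_conj_coatom {M : Subgroup G} (hM : IsCoatom M) {g : G}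
    (h : M.map (MulAut.conj g).toMonoidHom = M) : g ∈ M := by
  have hn : g ∈ Subgroup.normalizer (M : Set G) := Subgroup.mem_normalizer_iff_map_conj_eq.mpr h
  have hM1 : M ≠ ⊥ := by
    intro hb
    subst hb
    obtain ⟨x, hx⟩ : ∃ x : G, x ≠ 1 := by
      by_contra! hall
      exact hM.1 (Subgroup.eq_top_iff' _ |>.mpr fun y => Subgroup.mem_bot.mpr (hall y))
    have hz : Subgroup.zpowers x = ⊤ := hM.2 _ (bot_lt_iff_ne_bot.mpr (by rwa [Ne, Subgroup.zpowers_eq_bot]))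
    exact hG.2.2.1 ⟨⟨fun a b => by
      obtain ⟨i, rfl⟩ := Subgroup.mem_zpowers_iff.mp (hz.symm ▸ Subgroup.mem_top a)
      obtain ⟨j, rfl⟩ := Subgroup.mem_zpowers_iff.mp (hz.symm ▸ Subgroup.mem_top b)
      exact ((Commute.refl x).zpow_zpow i j).eq⟩⟩
  exact ((hM.le_iff.mp Subgroup.le_normalizer).resolve_left (normalizer_ne_top hG hM1 hM.1)).le hn

variable {p : ℕ} [hp : Fact p.Prime] {M : Subgroup G} (hM : IsCoatom M)
include hM

omit hM in
/-- A Sylow subgroup of `M` with normalizer in `M` is a Sylow subgroup of `G`. -/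
theorem exists_sylow_of_normalizer_le (P : Sylow p M)
    (hN : Subgroup.normalizer (((P : Subgroup M).map M.subtype : Subgroup G) : Set G) ≤ M) :
    ∃ S : Sylow p G, (S : Subgroup G) = (P : Subgroup M).map M.subtype := by
  set P₀ := (P : Subgroup M).map M.subtype with hP₀
  refine ⟨⟨P₀, P.isPGroup'.map _, fun {Q} hQ hPQ => ?_⟩, rfl⟩
  by_contra hne
  refine exists_mem_normalizer_not_mem (q := p) hQ (lt_of_le_of_ne hPQ (Ne.symm hne)) fun x hx => ?_
  have hle : P₀ ≤ Subgroup.normalizer (P₀ : Set G) ⊓ Q := le_inf Subgroup.le_normalizer hPQ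
  have hQM : Subgroup.normalizer (P₀ : Set G) ⊓ Q ≤ M := inf_le_left.trans hN
  have h3 := P.is_maximal' ((hQ.to_le inf_le_right).of_equiv (Subgroup.subgroupOfEquivOfLe hQM).symm)
    (fun y hy => hle ⟨y, hy, rfl⟩)
  rw [hP₀, ← h3, Subgroup.map_subgroupOf_eq_of_le hQM]
  exact hx

/-- Conjugation of a `p`-subgroup into `M` factors through `M` and the centralizer. -/
theorem exists_mul_centralizer_of_conj_le (hp' : p ∈ Cfsg.sigma M) :
    ∀ X : Subgroup G, IsPGroup p X → X ≠ ⊥ → X ≤ M → ∀ g : G, X.map (MulAut.conj g).toMonoidHom ≤ M →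
      ∃ m ∈ M, ∃ c ∈ Subgroup.centralizer (X : Set G), g = m * c := by
  obtain ⟨-, -, P, hPN⟩ := hp'
  obtain ⟨S₀, hS₀⟩ := exists_sylow_of_normalizer_le hG P hPN
  have hS₀M : (S₀ : Subgroup G) ≤ M := hS₀ ▸ Subgroup.map_subtype_le _
  have hM' : ∀ {Y : Subgroup G}, IsPGroup p Y → Y ≤ M →
      ∃ a ∈ M, Y.map (MulAut.conj a).toMonoidHom ≤ (S₀ : Subgroup G) := by
    intro Y hY hYM
    obtain ⟨T, hT⟩ := (hY.of_equiv (Subgroup.subgroupOfEquivOfLe hYM).symm).exists_le_sylow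
    obtain ⟨a, ha⟩ := MulAction.exists_smul_eq M T P
    refine ⟨a, a.2, ?_⟩
    rintro _ ⟨y, hy, rfl⟩
    rw [hS₀]
    refine ⟨a * ⟨y, hYM hy⟩ * a⁻¹, ?_, rfl⟩
    rw [← ha]
    exact Subgroup.mem_map_of_mem _ (hT hy)
  suffices hmain : ∀ (d : ℕ) (X : Subgroup G), Nat.card G - Nat.card X = d → IsPGroup p X → X ≠ ⊥ →
      X ≤ M → ∀ g : G, X.map (MulAut.conj g).toMonoidHom ≤ M →
        ∃ m ∈ M, ∃ c ∈ Subgroup.centralizer (X : Set G), g = m * c from fun X => hmain _ X rfl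
  intro d
  induction d using Nat.strongRecOn with
  | ind d ih =>
  intro X hd hX hX1 hXM g hgX
  have hIH : ∀ Z : Subgroup G, Nat.card X < Nat.card Z → IsPGroup p Z → Z ≤ M → ∀ u : G,
      Z.map (MulAut.conj u).toMonoidHom ≤ M →
      ∃ m ∈ M, ∃ c ∈ Subgroup.centralizer (Z : Set G), u = m * c := fun Z hlt hZ hZM u hu =>
    ih (Nat.card G - Nat.card Z) (by have := Subgroup.card_le_card_group Z; omega) Z rfl hZ
      (fun h => by rw [h, Subgroup.card_bot] at hlt; exact absurd hlt (not_lt.mpr Nat.card_pos)) hZM u hu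
  have hlt_card : ∀ {Y Z : Subgroup G}, Y < Z → Nat.card Y < Nat.card Z := fun {Y Z} h =>
    lt_of_le_of_ne (Subgroup.card_le_of_le h.le) fun e =>
      h.ne (Subgroup.eq_of_le_of_card_ge h.le e.ge)
  by_cases hr : Cfsg.PRankLE p 2 X
  swap
  · obtain ⟨K, ⟨hK, hXK⟩, huniq⟩ := inUniqueMaximal_pGroup hG hX hr
    refine ⟨g, ?_, 1, one_mem _, (mul_one g).symm⟩
    let e := (MulAut.conj g).mapSubgroup
    have h1 : e.symm M = M := by
      refine (huniq _ ⟨e.symm.isCoatom_iff M |>.mpr hM, ?_⟩).trans (huniq M ⟨hM, hXM⟩).symm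
      exact (e.symm_apply_apply X).ge.trans (e.symm.monotone (show e X ≤ M from hgX))
    refine mem_of_map_conj_coatom hG hM ?_
    show e M = M
    conv_lhs => rw [← h1]
    exact e.apply_symm_apply M
  set N := Subgroup.normalizer (X : Set G) with hN
  have hXN : X ≤ N := Subgroup.le_normalizer
  obtain ⟨a, haM, ha⟩ := hM' hX hXM
  have hXp : IsPGroup p (X.map (MulAut.conj g).toMonoidHom) := hX.map _
  by_cases hsyl : X.map (MulAut.conj a).toMonoidHom = (S₀ : Subgroup G)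
  · obtain ⟨b, hbM, hb⟩ := hM' hXp hgX
    have hb' : (X.map (MulAut.conj g).toMonoidHom).map (MulAut.conj b).toMonoidHom = (S₀ : Subgroup G) := by
      refine Subgroup.eq_of_le_of_card_ge hb ?_
      rw [Subgroup.card_map_of_injective (MulAut.conj b).injective,
        Subgroup.card_map_of_injective (MulAut.conj g).injective, ← hsyl,
        Subgroup.card_map_of_injective (MulAut.conj a).injective]
    have hcomp : ∀ (u v : G) (Y : Subgroup G), (Y.map (MulAut.conj v).toMonoidHom).map (MulAut.conj u).toMonoidHom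
        = Y.map (MulAut.conj (u * v)).toMonoidHom := fun u v Y => by
      rw [Subgroup.map_map, map_mul]; rfl
    have hmem : b * g * a⁻¹ ∈ M := by
      refine hPN (hS₀ ▸ Subgroup.mem_normalizer_iff_map_conj_eq.mpr ?_)
      show (S₀ : Subgroup G).map (MulAut.conj (b * g * a⁻¹)).toMonoidHom = (S₀ : Subgroup G)
      conv_lhs => rw [← hsyl]
      rw [hcomp, inv_mul_cancel_right, ← hcomp, hb']
    refine ⟨g, ?_, 1, one_mem _, (mul_one g).symm⟩
    have := M.mul_mem (M.mul_mem (M.inv_mem hbM) hmem) haM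
    simpa [mul_assoc] using this
  -- `p`-subgroups of `M` above a conjugate of `X`
  have hgrow : ∀ {Y : Subgroup G}, IsPGroup p Y → Y ≤ M → Nat.card Y = Nat.card X →
      ∃ Q₀ : Subgroup G, IsPGroup p Q₀ ∧ Q₀ ≤ M ∧ Q₀ ≤ Subgroup.normalizer (Y : Set G) ∧ Y < Q₀ := by
    intro Y hY hYM hcard
    obtain ⟨b, hbM, hb⟩ := hM' hY hYM
    set S' := (S₀ : Subgroup G).map (MulAut.conj b⁻¹).toMonoidHom with hS'
    have hYS : Y ≤ S' := fun y hy => ⟨b * y * b⁻¹, hb ⟨y, hy, rfl⟩, by simp [mul_assoc]⟩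
    have hS'M : S' ≤ M := by
      rintro _ ⟨y, hy, rfl⟩
      exact M.mul_mem (M.mul_mem (M.inv_mem hbM) (hS₀M hy)) (M.inv_mem (M.inv_mem hbM))
    have hlt : Y < S' := by
      refine lt_of_le_of_ne hYS fun h => hsyl (Subgroup.eq_of_le_of_card_ge ha ?_)
      rw [Subgroup.card_map_of_injective (MulAut.conj a).injective, ← hcard, h,
        Subgroup.card_map_of_injective (MulAut.conj b⁻¹).injective]
    have hS'p : IsPGroup p S' := S₀.isPGroup'.map _
    exact ⟨Subgroup.normalizer (Y : Set G) ⊓ S', hS'p.to_le inf_le_right, inf_le_right.trans hS'M,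
      inf_le_left, lt_of_le_of_ne (le_inf Subgroup.le_normalizer hYS) fun h =>
        exists_mem_normalizer_not_mem (q := p) hS'p hlt h.ge⟩
  -- a Sylow `p`-subgroup of `N(Y)` inside `M`
  have hsylM : ∀ {Y : Subgroup G}, IsPGroup p Y → Y ≤ M → Nat.card Y = Nat.card X →
      ∃ Q : Sylow p ↥(Subgroup.normalizer (Y : Set G)),
        Y < (Q : Subgroup ↥(Subgroup.normalizer (Y : Set G))).map (Subgroup.normalizer (Y : Set G)).subtype ∧
        (Q : Subgroup ↥(Subgroup.normalizer (Y : Set G))).map (Subgroup.normalizer (Y : Set G)).subtype ≤ M := by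
    intro Y hY hYM hcard
    obtain ⟨Q₀, hQ₀, hQ₀M, hQ₀N, hlt⟩ := hgrow hY hYM hcard
    set NY := Subgroup.normalizer (Y : Set G) with hNY
    obtain ⟨Q, hQ⟩ := (hQ₀.of_equiv (Subgroup.subgroupOfEquivOfLe hQ₀N).symm).exists_le_sylow
    set Q' := (Q : Subgroup NY).map NY.subtype with hQ'
    have hQ₀Q : Q₀ ≤ Q' := fun x hx => ⟨⟨x, hQ₀N hx⟩, hQ hx, rfl⟩
    obtain ⟨T, hT⟩ := ((Q.isPGroup'.map NY.subtype : IsPGroup p Q')).exists_le_sylow
    obtain ⟨u, hu⟩ := MulAction.exists_smul_eq G T S₀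
    have hu' : Q'.map (MulAut.conj u).toMonoidHom ≤ M := by
      refine le_trans ?_ hS₀M
      rintro _ ⟨x, hx, rfl⟩
      rw [← hu]
      exact Subgroup.mem_map_of_mem _ (hT hx)
    obtain ⟨m, hm, c, hc, rfl⟩ := hIH Q₀ (hcard ▸ hlt_card hlt) hQ₀ hQ₀M u ((Subgroup.map_mono hQ₀Q).trans hu')
    have hcY : c ∈ NY := Subgroup.centralizer_le_normalizer _ (Subgroup.centralizer_le hlt.le hc)
    have hconjM : Q'.map (MulAut.conj c).toMonoidHom ≤ M := by
      rintro _ ⟨x, hx, rfl⟩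
      have h2 := hu' (Subgroup.mem_map_of_mem _ hx)
      have h3 := M.mul_mem (M.mul_mem (M.inv_mem hm) h2) hm
      simpa [mul_assoc] using h3
    refine ⟨(MulAut.conj (⟨c, hcY⟩ : NY)) • Q, ?_, ?_⟩
    · refine hlt.trans_le fun x hx => ?_
      refine ⟨⟨x, hQ₀N hx⟩, ?_, rfl⟩
      have h2 : (⟨c, hcY⟩ : NY)⁻¹ * ⟨x, hQ₀N hx⟩ * ⟨c, hcY⟩ = ⟨x, hQ₀N hx⟩ := by
        refine Subtype.ext ?_
        show c⁻¹ * x * c = x
        rw [mul_assoc, Subgroup.mem_centralizer_iff.mp hc x hx, inv_mul_cancel_left]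
      show (⟨x, hQ₀N hx⟩ : NY) ∈ ((Q : Subgroup NY).map (MulAut.conj (⟨c, hcY⟩ : NY)).toMonoidHom)
      exact ⟨(⟨x, hQ₀N hx⟩ : NY), hQ (Subgroup.mem_subgroupOf.mpr hx), by
        show (⟨c, hcY⟩ : NY) * ⟨x, hQ₀N hx⟩ * (⟨c, hcY⟩ : NY)⁻¹ = ⟨x, hQ₀N hx⟩
        refine Subtype.ext ?_
        show c * x * c⁻¹ = x
        rw [← Subgroup.mem_centralizer_iff.mp hc x hx, mul_inv_cancel_right]⟩
    · rintro _ ⟨z, hz, rfl⟩
      obtain ⟨w, hw, rfl⟩ := hz
      exact hconjM ⟨(w : G), ⟨w, hw, rfl⟩, rfl⟩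
  set X' := X.map (MulAut.conj g).toMonoidHom with hX'
  obtain ⟨Q, hXQ, hQM⟩ := hsylM hX hXM rfl
  set Q' := (Q : Subgroup N).map N.subtype with hQ'
  have hQ'p : IsPGroup p Q' := Q.isPGroup'.map _
  have hQ'1 : Q' ≠ ⊥ := fun h => not_lt_bot (h ▸ hXQ)
  -- `N(X) = C(X) N(Q)`
  have hfac : ∀ n ∈ N, ∃ c ∈ Subgroup.centralizer (X : Set G), ∃ k ∈ N,
      k ∈ Subgroup.normalizer (Q' : Set G) ∧ n = c * k := by
    haveI : Group.IsSolvable N := isSolvable_normalizer_of_pGroup hG hX hX1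
    set X₀ := X.subgroupOf N with hX₀
    haveI : X₀.Normal := Subgroup.normal_in_normalizer
    set C := Subgroup.centralizer (X₀ : Set N) with hC
    set π := QuotientGroup.mk' C with hπ
    have hrX : Cfsg.PRankLE p 2 X₀ := pRankLE_of_injective (Subgroup.subgroupOfEquivOfLe hXN).toMonoidHom
      (Subgroup.subgroupOfEquivOfLe hXN).injective hr
    have hcent := (centralizes_of_rank_two (G := N) (odd_card_subgroup hG N) p X₀
      (hX.of_equiv (Subgroup.subgroupOfEquivOfLe hXN).symm) hrX).1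
    have hcomm : IsPGroup p ((commutator N).map π) := by
      rintro ⟨_, x, hx, rfl⟩
      refine ⟨(orderOf x).factorization p, Subtype.ext ?_⟩
      show (π x) ^ p ^ (orderOf x).factorization p = 1
      rw [← map_pow, hπ, QuotientGroup.mk'_apply, QuotientGroup.eq_one_iff]
      refine hcent _ (pow_mem hx _) ?_
      rw [orderOf_pow_of_dvd (pow_ne_zero _ hp.out.ne_zero) (Nat.ordProj_dvd _ _)]
      exact (Nat.coprime_ordCompl hp.out (orderOf_pos x).ne').symm
    set Qb := Q.mapSurjective (QuotientGroup.mk'_surjective C) with hQb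
    have hle : (commutator N).map π ≤ (Qb : Subgroup (N ⧸ C)) := by
      haveI : ((commutator N).map π).Normal :=
        (inferInstance : (commutator N).Normal).map π (QuotientGroup.mk'_surjective C)
      obtain ⟨T, hT⟩ := hcomm.exists_le_sylow
      obtain ⟨u, hu⟩ := MulAction.exists_smul_eq (N ⧸ C) T Qb
      intro x hx
      rw [← hu]
      refine ⟨u⁻¹ * x * u, hT ?_, ?_⟩
      · have h := (inferInstance : ((commutator N).map π).Normal).conj_mem x hx u⁻¹
        rwa [inv_inv] at h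
      · show u * (u⁻¹ * x * u) * u⁻¹ = x
        group
    haveI hn : ((Q : Subgroup N) ⊔ C).Normal := by
      have h1 : (commutator N) ≤ (Q : Subgroup N) ⊔ C := by
        intro x hx
        obtain ⟨y, hy, hyx⟩ := hle (Subgroup.mem_map_of_mem π hx)
        rw [← mul_inv_cancel_left y x]
        refine mul_mem (Subgroup.mem_sup_left hy) (Subgroup.mem_sup_right ((QuotientGroup.eq_one_iff _).mp ?_))
        show π (y⁻¹ * x) = 1
        rw [map_mul, map_inv, hyx, inv_mul_cancel]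
      exact ⟨fun x hx u => by
        have h2 := mul_mem (h1 (Subgroup.commutator_mem_commutator (Subgroup.mem_top u) (Subgroup.mem_top x))) hx
        simpa [commutatorElement_def] using h2⟩
    have htop := Sylow.normalizer_sup_eq_top' Q (le_sup_left : (Q : Subgroup N) ≤ (Q : Subgroup N) ⊔ C)
    have htop' : C ⊔ Subgroup.normalizer ((Q : Subgroup N) : Set N) = ⊤ := by
      refine eq_top_iff.mpr (htop ▸ sup_le le_sup_right (sup_le ?_ le_sup_left))
      exact Subgroup.le_normalizer.trans le_sup_right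
    intro n hn'
    obtain ⟨c, hc, k, hk, hck⟩ := Coprime.exists_mul_of_mem_sup
      (Subgroup.le_normalizer_of_normal (H := C)) (htop'.symm ▸ Subgroup.mem_top (⟨n, hn'⟩ : N))
    refine ⟨c, Subgroup.mem_centralizer_iff.mpr fun x hx =>
      congrArg Subtype.val (Subgroup.mem_centralizer_iff.mp hc ⟨x, hXN hx⟩ hx), k, k.2, ?_,
      congrArg Subtype.val hck⟩
    exact Subgroup.le_normalizer_map N.subtype (Subgroup.mem_map_of_mem _ hk)
  have hXc : Nat.card X' = Nat.card X := Subgroup.card_map_of_injective (MulAut.conj g).injective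
  obtain ⟨Q₁, hQ₁, hQ₁M, hQ₁N, hlt₁⟩ := hgrow hXp hgX hXc
  -- move `Q₁` back to `N(X)`
  set T := Q₁.map (MulAut.conj g⁻¹).toMonoidHom with hT
  have hTN : T ≤ N := by
    rintro _ ⟨y, hy, rfl⟩
    refine Subgroup.mem_normalizer_iff.mpr fun x => ?_
    have h1 : ∀ z : G, z ∈ X ↔ g * z * g⁻¹ ∈ X' := fun z =>
      ⟨fun h => ⟨z, h, rfl⟩, fun ⟨w, hw, hwz⟩ => by
        have : g * w * g⁻¹ = g * z * g⁻¹ := hwz
        rwa [mul_left_cancel (mul_right_cancel this)] at hw⟩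
    rw [h1 x, h1 _, Subgroup.mem_normalizer_iff.mp (hQ₁N hy) (g * x * g⁻¹)]
    simp [mul_assoc]
  obtain ⟨T₁, hT₁⟩ := ((hQ₁.map _ : IsPGroup p T).of_equiv
    (Subgroup.subgroupOfEquivOfLe hTN).symm).exists_le_sylow
  obtain ⟨n, hn⟩ := MulAction.exists_smul_eq N T₁ Q
  have hu : Q₁.map (MulAut.conj ((n : G) * g⁻¹)).toMonoidHom ≤ M := by
    rintro _ ⟨y, hy, rfl⟩
    refine hQM ⟨n * ⟨g⁻¹ * y * g⁻¹⁻¹, hTN (Subgroup.mem_map_of_mem _ hy)⟩ * n⁻¹, ?_, ?_⟩
    · rw [← hn]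
      exact Subgroup.mem_map_of_mem _ (hT₁ (Subgroup.mem_map_of_mem (MulAut.conj g⁻¹).toMonoidHom hy))
    · show (n : G) * (g⁻¹ * y * g⁻¹⁻¹) * (n : G)⁻¹ = (n : G) * g⁻¹ * y * ((n : G) * g⁻¹)⁻¹
      group
  obtain ⟨m, hm, c, hc, heq⟩ := hIH Q₁ (hXc ▸ hlt_card hlt₁) hQ₁ hQ₁M _ hu
  have hd' : g⁻¹ * c⁻¹ * g ∈ Subgroup.centralizer (X : Set G) := by
    rw [Subgroup.mem_centralizer_iff]
    intro x hx
    have h2 := Subgroup.mem_centralizer_iff.mp (Subgroup.centralizer_le hlt₁.le (inv_mem hc))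
      (g * x * g⁻¹) ⟨x, hx, rfl⟩
    calc x * (g⁻¹ * c⁻¹ * g) = g⁻¹ * ((g * x * g⁻¹) * c⁻¹) * g := by group
      _ = g⁻¹ * (c⁻¹ * (g * x * g⁻¹)) * g := by rw [h2]
      _ = _ := by group
  obtain ⟨c', hc', k, hkN, hkQ, hk⟩ := hfac _ n.2
  have hkM : Q'.map (MulAut.conj k).toMonoidHom ≤ M :=
    (Subgroup.mem_normalizer_iff_map_conj_eq.mp hkQ).le.trans hQM
  obtain ⟨m₂, hm₂, c₂, hc₂, hk₂⟩ := hIH Q' (hlt_card hXQ) hQ'p hQM k hkM
  have hc₂X : c₂ ∈ Subgroup.centralizer (X : Set G) := Subgroup.centralizer_le hXQ.le hc₂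
  have hm₂N : m₂ ∈ N := by
    have : m₂ = k * c₂⁻¹ := by rw [hk₂, mul_inv_cancel_right]
    rw [this]
    exact N.mul_mem hkN (N.inv_mem (Subgroup.centralizer_le_normalizer _ hc₂X))
  have hc'' : m₂⁻¹ * c' * m₂ ∈ Subgroup.centralizer (X : Set G) := by
    simpa using conj_mem_centralizer_of_normalizes (inv_mem hm₂N) hc'
  refine ⟨m⁻¹ * m₂, M.mul_mem (M.inv_mem hm) hm₂, _, mul_mem (mul_mem hc'' hc₂X) hd', ?_⟩
  have hg : g = c⁻¹ * m⁻¹ * (n : G) := by
    calc g = ((n : G) * g⁻¹)⁻¹ * (n : G) := by group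
      _ = _ := by rw [heq]; group
  have h3 : c * g = m⁻¹ * m₂ * (m₂⁻¹ * c' * m₂ * c₂) := by
    calc c * g = c * (c⁻¹ * m⁻¹ * (n : G)) := by rw [← hg]
      _ = m⁻¹ * (n : G) := by group
      _ = m⁻¹ * (c' * (m₂ * c₂)) := by rw [hk, hk₂]
      _ = _ := by group
  calc g = (c * g) * (g⁻¹ * c⁻¹ * g) := by group
    _ = _ := by rw [h3]; group

end Cfsg.Agent.Lib.OddLocal
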