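import Cfsg.Agent.Lib.Components.PComponent
import Cfsg.Agent.Lib.PGroups.Subnormal

/-!
The subnormalizer of a `p`-subgroup: Casolo's counting formula, by Möbius weights on the poset of
`p`-subgroups normalised by a given element.
-/

set_option autoImplicit false

open Cfsg Subgroup

namespace Cfsg.Agent.Lib.OddLocal.Subnormalizer

variable {G : Type*} [Group G] {p : ℕ}

/-- `R` is a `p`-subgroup normalised by `g`. -/
def InvP (p : ℕ) (g : G) (R : Subgroup G) : Prop :=
  IsPGroup p R ∧ g ∈ Subgroup.normalizer (R : Set G)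

theorem InvP.inf {g : G} {R S : Subgroup G} (hR : InvP p g R) (hS : InvP p g S) :
    InvP p g (R ⊓ S) := by
  refine ⟨hR.1.to_le inf_le_left, Subgroup.mem_normalizer_iff.mpr fun n => ?_⟩
  rw [Subgroup.mem_inf, Subgroup.mem_inf, Subgroup.mem_normalizer_iff.mp hR.2 n,
    Subgroup.mem_normalizer_iff.mp hS.2 n]

theorem InvP.map_subtype {N : Subgroup G} {g : N} {b : Subgroup N} (hb : InvP p g b) :
    InvP p (g : G) (b.map N.subtype) :=
  ⟨hb.1.map _, Subgroup.le_normalizer_map _ ⟨g, hb.2, rfl⟩⟩

theorem InvP.subgroupOf {N R : Subgroup G} {g : N} (hR : InvP p (g : G) R) :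
    InvP p g (R.subgroupOf N) :=
  ⟨hR.1.comap_of_injective _ N.subtype_injective, Subgroup.le_normalizer_comap _ hR.2⟩

theorem subnormal_iff [Finite G] [Fact p.Prime] {H : Subgroup G} (hH : IsPGroup p H) (g : G) :
    (H.subgroupOf (H ⊔ Subgroup.zpowers g)).IsSubnormal ↔ ∃ R, InvP p g R ∧ H ≤ R := by
  set K := H ⊔ Subgroup.zpowers g with hK
  have hHK : H ≤ K := le_sup_left
  have hgK : g ∈ K := Subgroup.mem_sup_right (Subgroup.mem_zpowers g)
  constructor
  · intro hsn
    have hle := Cfsg.Agent.Lib.Components.le_pCore_of_subnormal hsn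
      (hH.of_equiv (Subgroup.subgroupOfEquivOfLe hHK).symm)
    refine ⟨(pCore p ↥K).map K.subtype, ⟨(Components.pCore_isPGroup p).map _, ?_⟩, ?_⟩
    · apply Subgroup.le_normalizer_map K.subtype
      exact ⟨⟨g, hgK⟩, by rw [Subgroup.normalizer_eq_top]; exact Subgroup.mem_top _, rfl⟩
    · intro h hh
      exact ⟨⟨h, hHK hh⟩, hle hh, rfl⟩
  · rintro ⟨R, ⟨hR, hg⟩, hHR⟩
    have hKN : K ≤ Subgroup.normalizer (R : Set G) :=
      sup_le (hHR.trans Subgroup.le_normalizer) (by rwa [Subgroup.zpowers_le])
    have hn : (R.subgroupOf K).Normal := Subgroup.normal_subgroupOf_of_le_normalizer hKN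
    have hp' : IsPGroup p ↥(R.subgroupOf K) := hR.comap_of_injective _ K.subtype_injective
    haveI := hp'.isNilpotent
    exact Subgroup.IsSubnormal.trans (K := R.subgroupOf K) (Subgroup.comap_mono hHR)
      (Cfsg.Agent.Lib.PGroups.isSubnormal_of_isNilpotent _) hn.isSubnormal

section Weights

open scoped Classical in
/-- The Möbius weight of `R` among the `p`-subgroups normalised by `g`. -/
noncomputable def wt (p : ℕ) [Finite G] (g : G) : Subgroup G → ℤ :=
  (wellFounded_gt (α := Subgroup G)).fix fun R rec =>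
    if InvP p g R then
      1 - ∑ R' ∈ (Finset.filter (R < ·) (Fintype.ofFinite (Subgroup G)).elems).attach,
        rec R'.1 (Finset.mem_filter.mp R'.2).2
    else 0

variable [Finite G] [Fintype (Subgroup G)]

open scoped Classical in
theorem wt_eq (g : G) (R : Subgroup G) :
    wt p g R = if InvP p g R then 1 - ∑ R' ∈ Finset.univ.filter (R < ·), wt p g R' else 0 := by
  rw [wt, WellFounded.fix_eq]
  split_ifs
  · congr 1
    rw [Finset.sum_attach (Finset.filter (R < ·) (Fintype.ofFinite (Subgroup G)).elems)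
      (fun R' => (wellFounded_gt (α := Subgroup G)).fix _ R')]
    refine Finset.sum_congr ?_ fun _ _ => rfl
    ext x
    simp [Fintype.complete]
  · rfl

theorem wt_of_not {g : G} {R : Subgroup G} (h : ¬ InvP p g R) : wt p g R = 0 := by
  classical
  rw [wt_eq, if_neg h]

open scoped Classical in
theorem sum_Ici_of_inv {g : G} {R : Subgroup G} (h : InvP p g R) :
    ∑ R' ∈ Finset.univ.filter (R ≤ ·), wt p g R' = 1 := by
  have : Finset.univ.filter (R ≤ ·) = insert R (Finset.univ.filter (R < ·)) := by
    ext x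
    simp [le_iff_eq_or_lt, eq_comm]
  rw [this, Finset.sum_insert (by simp)]
  have := wt_eq (p := p) g R
  rw [if_pos h] at this
  omega

open scoped Classical in
theorem sum_Ici (g : G) (H : Subgroup G) :
    ∑ R ∈ Finset.univ.filter (H ≤ ·), wt p g R = if ∃ R, InvP p g R ∧ H ≤ R then 1 else 0 := by
  split_ifs with h
  · obtain ⟨M, hM⟩ := Set.Finite.exists_minimal (Set.toFinite {R | InvP p g R ∧ H ≤ R}) h
    rw [← sum_Ici_of_inv hM.1.1]
    refine (Finset.sum_subset ?_ fun x hx hx' => wt_of_not ?_).symm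
    · intro x hx
      simp only [Finset.mem_filter, Finset.mem_univ, true_and] at hx ⊢
      exact hM.1.2.trans hx
    · intro hinv
      simp only [Finset.mem_filter, Finset.mem_univ, true_and] at hx hx'
      exact hx' (le_inf_iff.mp (hM.2 ⟨hM.1.1.inf hinv, le_inf hM.1.2 hx⟩ inf_le_left)).2
  · exact Finset.sum_eq_zero fun x hx => wt_of_not fun hinv =>
      h ⟨x, hinv, (Finset.mem_filter.mp hx).2⟩

open scoped Classical in
/-- The total weight of `R`. -/
noncomputable def total [Fintype G] (p : ℕ) (R : Subgroup G) : ℤ := ∑ g : G, wt p g R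

open scoped Classical in
/-- The expected total weight of `R`. -/
noncomputable def sylWt [Fintype (Sylow p G)] (R : Subgroup G) : ℤ :=
  ∑ Q : Sylow p G, if (Q : Subgroup G) = R then (Nat.card (Subgroup.normalizer (R : Set G)) : ℤ) else 0

open scoped Classical in
theorem sum_sylWt [Fact p.Prime] [Fintype (Sylow p G)] (H : Subgroup G) (P : Sylow p G) :
    ∑ R ∈ Finset.univ.filter (H ≤ ·), sylWt (p := p) R =
      (Nat.card {Q : Sylow p G // H ≤ (Q : Subgroup G)} : ℤ) *
        Nat.card (Subgroup.normalizer ((P : Subgroup G) : Set G)) := by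
  have hN : ∀ Q : Sylow p G, Nat.card (Subgroup.normalizer ((Q : Subgroup G) : Set G)) =
      Nat.card (Subgroup.normalizer ((P : Subgroup G) : Set G)) := by
    intro Q
    have h1 := (Subgroup.normalizer ((Q : Subgroup G) : Set G)).card_mul_index
    rw [← (Subgroup.normalizer ((P : Subgroup G) : Set G)).card_mul_index] at h1
    have hq : (Subgroup.normalizer ((Q : Subgroup G) : Set G)).index = Nat.card (Sylow p G) :=
      Q.card_eq_index_normalizer.symm
    have hp : (Subgroup.normalizer ((P : Subgroup G) : Set G)).index = Nat.card (Sylow p G) :=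
      P.card_eq_index_normalizer.symm
    rw [hq, hp] at h1
    exact Nat.eq_of_mul_eq_mul_right Nat.card_pos h1
  unfold sylWt
  rw [Finset.sum_comm]
  simp only [Finset.sum_ite_eq, Finset.mem_filter, Finset.mem_univ, true_and, hN]
  rw [← Finset.sum_filter, Finset.sum_const, nsmul_eq_mul,
    Nat.card_eq_fintype_card (α := {Q : Sylow p G // H ≤ (Q : Subgroup G)}), Fintype.card_subtype]

/-- Weights above a subgroup may be computed inside its normaliser. -/
theorem wt_localize [Fact p.Prime] {R N : Subgroup G} (hR : IsPGroup p R)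
    (hNeq : N = Subgroup.normalizer (R : Set G)) [Fintype (Subgroup ↥N)] (g : N) :
    wt p (g : G) R = wt p g (R.subgroupOf N) := by
  classical
  have hg : InvP p (g : G) R := ⟨hR, hNeq ▸ g.2⟩
  have hRN : R ≤ N := hNeq ▸ Subgroup.le_normalizer
  set v : Subgroup N → ℤ := fun b =>
    ∑ R' ∈ (Finset.univ.filter (R < ·)).filter (fun R' => R'.subgroupOf N = b), wt p (g : G) R' with hv
  have key : ∀ b : Subgroup N, R.subgroupOf N < b → v b = wt p g b := by
    intro b
    induction b using (wellFounded_gt (α := Subgroup N)).induction with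
    | h b ih =>
      intro hb
      by_cases hinv : InvP p g b
      · have hbR : R < b.map N.subtype := by
          have := Subgroup.map_lt_map_iff_of_injective N.subtype_injective |>.mpr hb
          rwa [Subgroup.map_subgroupOf_eq_of_le hRN] at this
        have h1 : ∑ b' ∈ Finset.univ.filter (b ≤ ·), v b' = 1 := by
          rw [← sum_Ici_of_inv hinv.map_subtype, hv,
            ← Finset.sum_fiberwise_of_maps_to (g := fun R' : Subgroup G => R'.subgroupOf N)
              (t := Finset.univ.filter (b ≤ ·)) (fun R' hR' => by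
                simp only [Finset.mem_filter, Finset.mem_univ, true_and] at hR' ⊢
                exact Subgroup.map_le_iff_le_comap.mp hR')]
          refine Finset.sum_congr rfl fun b' hb' => Finset.sum_congr ?_ fun _ _ => rfl
          ext x
          simp only [Finset.mem_filter, Finset.mem_univ, true_and] at hb' ⊢
          constructor
          · rintro ⟨-, rfl⟩
            exact ⟨Subgroup.map_le_iff_le_comap.mpr hb', rfl⟩
          · rintro ⟨h, rfl⟩
            exact ⟨hbR.trans_le h, rfl⟩
        have h2 := sum_Ici_of_inv hinv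
        have hins : Finset.univ.filter (b ≤ ·) = insert b (Finset.univ.filter (b < ·)) := by
          ext x
          simp [le_iff_eq_or_lt, eq_comm]
        rw [hins, Finset.sum_insert (by simp)] at h1 h2
        have h3 : ∑ b' ∈ Finset.univ.filter (b < ·), v b' = ∑ b' ∈ Finset.univ.filter (b < ·), wt p g b' :=
          Finset.sum_congr rfl fun b' hb' =>
            ih b' (Finset.mem_filter.mp hb').2 (hb.trans (Finset.mem_filter.mp hb').2)
        omega
      · rw [wt_of_not hinv, hv]
        exact Finset.sum_eq_zero fun R' hR' => wt_of_not fun h =>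
          hinv ((Finset.mem_filter.mp hR').2 ▸ h.subgroupOf)
  rw [wt_eq, if_pos hg, wt_eq, if_pos hg.subgroupOf]
  congr 1
  rw [← Finset.sum_congr rfl fun b hb => key b (Finset.mem_filter.mp hb).2]
  have hfib := Finset.sum_fiberwise (Finset.univ.filter (R < ·))
    (fun R' => R'.subgroupOf N) (fun R' => wt p (g : G) R')
  rw [← hfib]
  refine (Finset.sum_subset (Finset.filter_subset _ _) fun b _ hb => ?_).symm
  refine Finset.sum_eq_zero fun R' hR' => wt_of_not fun h => hb ?_
  simp only [Finset.mem_filter, Finset.mem_univ, true_and] at hR' ⊢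
  obtain ⟨hlt, rfl⟩ := hR'
  haveI : Group.IsNilpotent ↥R' := h.1.isNilpotent
  have hnc := Group.normalizerCondition_of_isNilpotent (G := ↥R') (R.subgroupOf R')
    (lt_top_iff_ne_top.mpr fun e => hlt.not_ge (Subgroup.subgroupOf_eq_top.mp e))
  obtain ⟨x, hx, hxR⟩ := SetLike.exists_of_lt hnc
  rw [← Subgroup.subgroupOf_normalizer_eq hlt.le, ← hNeq] at hx
  refine lt_of_le_not_ge (Subgroup.comap_mono hlt.le) fun hge => hxR ?_
  exact Subgroup.mem_subgroupOf.mpr (hge (x := ⟨(x : G), hx⟩) x.2)

end Weights

universe u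

/-- Every non-Sylow `p`-subgroup has total weight zero. -/
theorem total_eq_sylWt (n : ℕ) : ∀ (G : Type u) [Group G] [Fintype G] [Fintype (Subgroup G)]
    [Fintype (Sylow p G)] [Fact p.Prime], Nat.card G = n → ∀ R : Subgroup G, IsPGroup p R →
      total p R = sylWt (p := p) R := by
  classical
  induction n using Nat.strong_induction_on with
  | _ n ihn =>
  intro G _ _ _ _ _ hn R
  induction R using (wellFounded_gt (α := Subgroup G)).induction with
  | h R ih =>
    intro hR
    obtain ⟨P, hP⟩ := hR.exists_le_sylow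
    by_cases hsyl : ∃ Q : Sylow p G, (Q : Subgroup G) = R
    · obtain ⟨Q, rfl⟩ := hsyl
      have hw : ∀ g : G, wt p g (Q : Subgroup G) =
          if g ∈ Subgroup.normalizer ((Q : Subgroup G) : Set G) then 1 else 0 := by
        intro g
        rw [wt_eq]
        by_cases hg : g ∈ Subgroup.normalizer ((Q : Subgroup G) : Set G)
        · rw [if_pos ⟨Q.2, hg⟩, if_pos hg, Finset.sum_eq_zero, sub_zero]
          intro R' hR'
          refine wt_of_not fun h => ?_
          have hlt := (Finset.mem_filter.mp hR').2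
          exact hlt.ne (Q.3 h.1 hlt.le).symm
        · rw [if_neg hg, if_neg fun h => hg h.2]
      rw [total, sylWt, Finset.sum_congr rfl fun g _ => hw g, ← Finset.sum_filter, Finset.sum_const,
        Nat.smul_one_eq_cast, Finset.sum_eq_single Q (fun Q' _ h => if_neg fun e => h (Sylow.ext e))
        (by simp), if_pos rfl, Nat.card_eq_fintype_card, Fintype.card_subtype]
    · have hS : sylWt (p := p) R = 0 :=
        Finset.sum_eq_zero fun Q _ => if_neg fun e => hsyl ⟨Q, e⟩
      rw [hS]
      by_cases hnorm : Subgroup.normalizer (R : Set G) = ⊤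
      · have hall : ∀ g : G, ∑ R' ∈ Finset.univ.filter (R ≤ ·), wt p g R' = 1 := fun g =>
          sum_Ici_of_inv ⟨hR, by rw [hnorm]; exact Subgroup.mem_top g⟩
        haveI : R.Normal := Subgroup.normalizer_eq_top_iff.mp hnorm
        have h1 : ∑ R' ∈ Finset.univ.filter (R ≤ ·), total p R' = (Nat.card G : ℤ) := by
          simp only [total]
          rw [Finset.sum_comm]
          simp only [hall, Finset.sum_const, Finset.card_univ, Nat.smul_one_eq_cast,
            Nat.card_eq_fintype_card]
        have hcnt : Nat.card {Q : Sylow p G // R ≤ (Q : Subgroup G)} *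
            Nat.card (Subgroup.normalizer ((P : Subgroup G) : Set G)) = Nat.card G := by
          have hc : Nat.card {Q : Sylow p G // R ≤ (Q : Subgroup G)} = Nat.card (Sylow p G) :=
            Nat.card_congr (Equiv.subtypeUnivEquiv fun Q => hR.le_sylow_of_normal Q)
          rw [hc, P.card_eq_index_normalizer]
          exact Subgroup.index_mul_card _
        have h2 := sum_sylWt R P
        have hins : Finset.univ.filter (R ≤ ·) = insert R (Finset.univ.filter (R < ·)) := by
          ext x
          simp [le_iff_eq_or_lt, eq_comm]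
        rw [hins, Finset.sum_insert (by simp)] at h1 h2
        have h3 : ∀ R' ∈ Finset.univ.filter (R < ·), total p R' = sylWt (p := p) R' := by
          intro R' hR'
          by_cases hp' : IsPGroup p R'
          · exact ih R' (Finset.mem_filter.mp hR').2 hp'
          · rw [total, sylWt, Finset.sum_eq_zero fun g _ => wt_of_not fun h => hp' h.1,
              Finset.sum_eq_zero]
            intro Q _
            refine if_neg fun e => hp' ?_
            rw [← e]
            exact Q.2
        rw [Finset.sum_congr rfl h3] at h1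
        rw [← hcnt] at h1
        push_cast at h1
        linarith [hS]
      · set N := Subgroup.normalizer (R : Set G) with hNdef
        letI := Fintype.ofFinite (Subgroup N)
        letI := Fintype.ofFinite (Sylow p N)
        have hlt : Nat.card N < n := hn ▸ lt_of_le_of_ne N.card_le_card_group
          (fun e => hnorm (Subgroup.eq_top_of_card_eq N e))
        have hRN : IsPGroup p (R.subgroupOf N) := hR.comap_of_injective _ N.subtype_injective
        have h1 := ihn _ hlt N rfl _ hRN
        have h2 : sylWt (p := p) (R.subgroupOf N) = 0 := by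
          refine Finset.sum_eq_zero fun Q _ => if_neg fun e => hsyl ⟨P, ?_⟩
          by_contra hne
          have hRP : R < (P : Subgroup G) := lt_of_le_of_ne hP (Ne.symm hne)
          haveI : Group.IsNilpotent ↥(P : Subgroup G) := P.2.isNilpotent
          have hnc := Group.normalizerCondition_of_isNilpotent (G := ↥(P : Subgroup G))
            (R.subgroupOf P) (lt_top_iff_ne_top.mpr fun e' =>
              hRP.not_ge (Subgroup.subgroupOf_eq_top.mp e'))
          obtain ⟨x, hx, hxR⟩ := SetLike.exists_of_lt hnc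
          rw [← Subgroup.subgroupOf_normalizer_eq hP] at hx
          have h := Q.3 (P.2.comap_of_injective _ N.subtype_injective)
            (e ▸ Subgroup.comap_mono hP : (Q : Subgroup N) ≤ (P : Subgroup G).comap N.subtype)
          have hxm : (⟨(x : G), hx⟩ : N) ∈ (Q : Subgroup N) := h ▸ x.2
          rw [e] at hxm
          exact hxR hxm
        rw [h2, total] at h1
        rw [← h1, total, ← Fintype.sum_subtype_add_sum_subtype (fun g : G => g ∈ N)]
        rw [Finset.sum_eq_zero (s := (Finset.univ : Finset {g : G // ¬ g ∈ N}))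
          fun g _ => wt_of_not fun h => g.2 h.2, add_zero]
        exact Fintype.sum_congr _ _ fun g => wt_localize hR hNdef g

variable [Finite G] [Fact p.Prime]

/-- The subnormalizer of `H`, as a count. -/
noncomputable def subnCard (H : Subgroup G) : ℕ :=
  Nat.card {g : G // (H.subgroupOf (H ⊔ Subgroup.zpowers g)).IsSubnormal}

theorem subnCard_eq_sylow {H : Subgroup G} (hH : IsPGroup p H) (P : Sylow p G) :
    subnCard H = Nat.card {Q : Sylow p G // H ≤ (Q : Subgroup G)} *
      Nat.card (Subgroup.normalizer ((P : Subgroup G) : Set G)) := by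
  classical
  letI := Fintype.ofFinite G
  letI := Fintype.ofFinite (Subgroup G)
  letI := Fintype.ofFinite (Sylow p G)
  have h1 : ∑ R ∈ Finset.univ.filter (H ≤ ·), total p R = (subnCard H : ℤ) := by
    simp only [total]
    rw [Finset.sum_comm, subnCard, Nat.card_eq_fintype_card, Fintype.card_subtype,
      Finset.sum_congr rfl fun g _ => sum_Ici (p := p) g H, Finset.sum_boole]
    congr 2
    exact Finset.filter_congr fun g _ => (subnormal_iff hH g).symm
  have h2 := sum_sylWt H P
  have h3 : ∀ R ∈ Finset.univ.filter (H ≤ ·), total p R = sylWt (p := p) R := by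
    intro R _
    by_cases hp' : IsPGroup p R
    · exact total_eq_sylWt _ G rfl R hp'
    · rw [total, sylWt, Finset.sum_eq_zero fun g _ => wt_of_not fun h => hp' h.1,
        Finset.sum_eq_zero]
      intro Q _
      refine if_neg fun e => hp' ?_
      rw [← e]
      exact Q.2
  rw [Finset.sum_congr rfl h3, h2] at h1
  exact_mod_cast h1.symm

omit [Fact p.Prime] in
/-- Counting a type by a map with fibres of equal size. -/
theorem card_eq_of_fibres {α β : Type*} [Finite α] [Finite β] (f : α → β) (c : ℕ)
    (h : ∀ b, Nat.card {a // f a = b} = c) : Nat.card α = Nat.card β * c := by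
  classical
  letI := Fintype.ofFinite β
  rw [Nat.card_congr (Equiv.sigmaFiberEquiv f).symm, Nat.card_sigma, Finset.sum_congr rfl fun b _ => h b,
    Finset.sum_const, Finset.card_univ, smul_eq_mul, Nat.card_eq_fintype_card]

/-- Elements conjugating `H` into `P`. -/
noncomputable def intoCard (H P : Subgroup G) : ℕ :=
  Nat.card {g : G // ∀ h ∈ H, g * h * g⁻¹ ∈ P}

omit [Fact p.Prime] in
theorem intoCard_eq_conj (H P : Subgroup G) :
    intoCard H P = Nat.card {K : Subgroup G // K ≤ P ∧ ∃ g : G, K = H.map (MulAut.conj g).toMonoidHom} *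
      Nat.card (Subgroup.normalizer (H : Set G)) := by
  refine card_eq_of_fibres (fun g => ⟨H.map (MulAut.conj g.1).toMonoidHom,
    Subgroup.map_le_iff_le_comap.mpr fun h hh => g.2 h hh, g.1, rfl⟩) _ ?_
  rintro ⟨K, hKP, g₀, rfl⟩
  refine Nat.card_congr
    { toFun := fun g => ⟨g₀⁻¹ * g.1.1, ?_⟩
      invFun := fun n => ⟨⟨g₀ * n.1, fun h hh => hKP ⟨n.1 * h * n.1⁻¹,
        (Subgroup.mem_normalizer_iff.mp n.2 h).mp hh, by simp [mul_assoc]⟩⟩, ?_⟩
      left_inv := fun g => by ext; simp
      right_inv := fun n => by simp }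
  · have hg := congrArg Subtype.val g.2
    simp only at hg
    rw [Subgroup.mem_normalizer_iff_map_conj_eq]
    apply Subgroup.map_injective (f := (MulAut.conj g₀).toMonoidHom) (MulAut.conj g₀).injective
    rw [Subgroup.map_map]
    refine Eq.trans ?_ hg
    congr 1
    ext x
    simp [mul_assoc]
  · apply Subtype.ext
    show H.map _ = H.map _
    conv_rhs => rw [← Subgroup.mem_normalizer_iff_map_conj_eq.mp n.2]
    rw [Subgroup.map_map]
    congr 1
    ext x
    simp [mul_assoc]

theorem intoCard_eq_sylow (H : Subgroup G) (P : Sylow p G) :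
    intoCard H (P : Subgroup G) = Nat.card {Q : Sylow p G // H ≤ (Q : Subgroup G)} *
      Nat.card (Subgroup.normalizer ((P : Subgroup G) : Set G)) := by
  let φ : {g : G // ∀ h ∈ H, g * h * g⁻¹ ∈ (P : Subgroup G)} → {Q : Sylow p G // H ≤ (Q : Subgroup G)} :=
    fun g => ⟨g.1⁻¹ • P, fun h hh => ⟨g.1 * h * g.1⁻¹, g.2 h hh, by simp [mul_assoc]⟩⟩
  refine card_eq_of_fibres φ _ ?_
  rintro ⟨Q, hQ⟩
  obtain ⟨g₀, hg₀⟩ := MulAction.exists_smul_eq G Q P
  refine Nat.card_congr
    { toFun := fun g => ⟨g.1.1 * g₀⁻¹, ?_⟩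
      invFun := fun n => ⟨⟨n.1 * g₀, fun h hh => ?_⟩, ?_⟩
      left_inv := fun g => by ext; simp
      right_inv := fun n => by simp }
  · have hg : g.1.1⁻¹ • P = Q := congrArg Subtype.val g.2
    refine Sylow.smul_eq_iff_mem_normalizer.mp ?_
    rw [mul_smul, ← eq_inv_smul_iff.mpr hg₀]
    exact (congrArg (g.1.1 • ·) hg.symm).trans (smul_inv_smul _ _)
  · have hs : (n.1 * g₀) • Q = P := by
      have := n.2
      replace this : n.1 • P = P := Sylow.smul_eq_iff_mem_normalizer.mpr this
      rw [mul_smul, hg₀, this]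
    have hmem : (n.1 * g₀) * h * (n.1 * g₀)⁻¹ ∈ (((n.1 * g₀) • Q : Sylow p G) : Subgroup G) :=
      ⟨h, hQ hh, rfl⟩
    rwa [hs] at hmem
  · apply Subtype.ext
    show (n.1 * g₀)⁻¹ • P = Q
    have := n.2
    replace this : n.1 • P = P := Sylow.smul_eq_iff_mem_normalizer.mpr this
    rw [inv_smul_eq_iff, mul_smul, hg₀, this]

theorem subnCard_eq_intoCard {H : Subgroup G} (hH : IsPGroup p H) (P : Sylow p G) :
    subnCard H = intoCard H (P : Subgroup G) := by
  rw [subnCard_eq_sylow hH P, intoCard_eq_sylow]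

omit [Fact p.Prime] in
theorem card_preimage {G' : Type*} [Group G'] {f : G →* G'} (hf : Function.Surjective f)
    (s : G' → Prop) : Nat.card {g : G // s (f g)} = Nat.card {x : G' // s x} * Nat.card f.ker := by
  haveI : Finite G' := Finite.of_surjective f hf
  refine card_eq_of_fibres (fun g => ⟨f g.1, g.2⟩) _ fun x => ?_
  obtain ⟨g₀, hg₀⟩ := hf x.1
  exact Nat.card_congr
    { toFun := fun g => ⟨g₀⁻¹ * g.1.1, by
        have hgx : f g.1.1 = x.1 := congrArg Subtype.val g.2
        rw [MonoidHom.mem_ker, map_mul, map_inv, hg₀, hgx, inv_mul_cancel]⟩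
      invFun := fun k => ⟨⟨g₀ * k.1, by rw [map_mul, k.2, mul_one, hg₀]; exact x.2⟩,
        Subtype.ext (by simp [map_mul, MonoidHom.mem_ker.mp k.2, hg₀])⟩
      left_inv := fun g => by ext; simp
      right_inv := fun k => by simp }

/-- Quotient by a normal `p`-subgroup. -/
theorem subnCard_of_ker_pGroup {G' : Type*} [Group G'] {f : G →* G'} (hf : Function.Surjective f)
    (hk : IsPGroup p f.ker) {H : Subgroup G} (hH : IsPGroup p H) :
    subnCard H = subnCard (H.map f) * Nat.card f.ker := by
  haveI : Finite G' := Finite.of_surjective f hf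
  rw [subnCard, subnCard,
    ← card_preimage hf (fun x => ((H.map f).subgroupOf (H.map f ⊔ Subgroup.zpowers x)).IsSubnormal)]
  refine Nat.card_congr (Equiv.subtypeEquivRight fun g => ?_)
  rw [subnormal_iff hH, subnormal_iff (hH.map f)]
  constructor
  · rintro ⟨R, hR, hle⟩
    exact ⟨R.map f, ⟨hR.1.map f, Subgroup.le_normalizer_map f ⟨g, hR.2, rfl⟩⟩, Subgroup.map_mono hle⟩
  · rintro ⟨R, hR, hle⟩
    exact ⟨R.comap f, ⟨hR.1.comap_of_ker_isPGroup f hk, Subgroup.le_normalizer_comap f hR.2⟩,
      Subgroup.map_le_iff_le_comap.mp hle⟩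

/-- Quotient by a normal `p'`-subgroup. -/
theorem subnCard_of_ker_coprime {G' : Type*} [Group G'] {f : G →* G'} (hf : Function.Surjective f)
    (hk : (Nat.card f.ker).Coprime p) {H : Subgroup G} (hH : IsPGroup p H) :
    subnCard H = subnCard (H.map f) *
      Nat.card ↥(f.ker ⊓ Subgroup.centralizer (H : Set G)) := by
  haveI : Finite G' := Finite.of_surjective f hf
  let P : Sylow p G := default
  rw [subnCard_eq_intoCard hH P, subnCard_eq_intoCard (hH.map f) (P.mapSurjective hf)]
  let φ : {g : G // ∀ h ∈ H, g * h * g⁻¹ ∈ (P : Subgroup G)} →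
      {x : G' // ∀ h ∈ H.map f, x * h * x⁻¹ ∈ (P.mapSurjective hf : Subgroup G')} :=
    fun g => ⟨f g.1, by
      rintro _ ⟨h, hh, rfl⟩
      exact ⟨g.1 * h * g.1⁻¹, g.2 h hh, by simp⟩⟩
  refine card_eq_of_fibres φ _ fun x => ?_
  obtain ⟨g₀, hg₀⟩ := hf x.1
  -- the conjugate of `H` lies in `P ker f`, so is conjugate into `P` by an element of `ker f`
  obtain ⟨g₁, hg₁, hg₁H⟩ : ∃ g₁, f g₁ = x.1 ∧ ∀ h ∈ H, g₁ * h * g₁⁻¹ ∈ (P : Subgroup G) := by
    set L := ((P : Subgroup G).map f).comap f with hL
    have hle : H.map (MulAut.conj g₀).toMonoidHom ≤ L := by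
      rintro _ ⟨h, hh, rfl⟩
      have := x.2 (f h) ⟨h, hh, rfl⟩
      rw [← hg₀, Sylow.coe_mapSurjective] at this
      rw [hL, Subgroup.mem_comap]
      simpa using this
    have hPL : (P : Subgroup G) ≤ L := Subgroup.le_comap_map f _
    set K := (H.map (MulAut.conj g₀).toMonoidHom).subgroupOf L with hK
    obtain ⟨Q, hKQ⟩ := IsPGroup.exists_le_sylow
      (P := K) ((hH.map _).comap_of_injective _ L.subtype_injective)
    obtain ⟨l, hl⟩ := MulAction.exists_smul_eq L Q (P.subtype hPL)
    have hlL : (l : G) ∈ (P : Subgroup G) ⊔ f.ker := by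
      rw [← Subgroup.comap_map_eq]; exact l.2
    obtain ⟨a, ha, m, hm, ham⟩ := Subgroup.mem_sup_of_normal_right.mp hlL
    refine ⟨m * g₀, by rw [map_mul, MonoidHom.mem_ker.mp hm, one_mul, hg₀], fun h hh => ?_⟩
    have hin : g₀ * h * g₀⁻¹ ∈ H.map (MulAut.conj g₀).toMonoidHom := ⟨h, hh, rfl⟩
    have h1 : (⟨g₀ * h * g₀⁻¹, hle hin⟩ : L) ∈ (Q : Subgroup L) := hKQ hin
    have h2 : l * ⟨g₀ * h * g₀⁻¹, hle hin⟩ * l⁻¹ ∈ ((P.subtype hPL : Sylow p L) : Subgroup L) := by
      rw [← hl]
      exact ⟨_, h1, rfl⟩
    have h3 : (l : G) * (g₀ * h * g₀⁻¹) * (l : G)⁻¹ ∈ (P : Subgroup G) := h2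
    have h4 := mul_mem (mul_mem (inv_mem ha) h3) ha
    rw [← ham] at h4
    convert h4 using 1
    group
  -- the others differ from it by centralising elements of `ker f`
  have hdis : ∀ y ∈ (P : Subgroup G), y ∈ f.ker → y = 1 := by
    intro y hy hyk
    obtain ⟨k, hk'⟩ := (IsPGroup.iff_orderOf.mp P.2) ⟨y, hy⟩
    have h1 : orderOf y ∣ Nat.card f.ker := Subgroup.orderOf_dvd_natCard _ hyk
    have hk'' : orderOf y = p ^ k := by rw [← hk', Subgroup.orderOf_mk]
    rw [← orderOf_eq_one_iff]
    exact Nat.eq_one_of_dvd_coprimes ((hk.pow_right k)) h1 hk''.dvd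
  exact Nat.card_congr
    { toFun := fun g => ⟨g₁⁻¹ * g.1.1, by
        have hgx : f g.1.1 = x.1 := congrArg Subtype.val g.2
        have hker : g₁⁻¹ * g.1.1 ∈ f.ker := by
          rw [MonoidHom.mem_ker, map_mul, map_inv, hg₁, hgx, inv_mul_cancel]
        refine ⟨hker, Subgroup.mem_centralizer_iff.mpr fun h hh => ?_⟩
        set m := g₁⁻¹ * g.1.1 with hm
        have ha : g₁ * (m * h * m⁻¹) * g₁⁻¹ ∈ (P : Subgroup G) := by
          have := g.1.2 h hh
          convert this using 1
          rw [hm]; group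
        have hy := mul_mem ha (inv_mem (hg₁H h hh))
        have hyk : g₁ * (m * h * m⁻¹) * g₁⁻¹ * (g₁ * h * g₁⁻¹)⁻¹ ∈ f.ker := by
          rw [MonoidHom.mem_ker]
          simp [MonoidHom.mem_ker.mp hker]
        have := hdis _ hy hyk
        rw [mul_inv_eq_one, mul_left_inj, mul_right_inj, mul_inv_eq_iff_eq_mul] at this
        exact this.symm⟩
      invFun := fun k => ⟨⟨g₁ * k.1, fun h hh => by
          have := Subgroup.mem_centralizer_iff.mp k.2.2 h hh
          convert hg₁H h hh using 1
          calc g₁ * k.1 * h * (g₁ * k.1)⁻¹ = g₁ * (k.1 * h) * k.1⁻¹ * g₁⁻¹ := by group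
            _ = g₁ * (h * k.1) * k.1⁻¹ * g₁⁻¹ := by rw [this]
            _ = g₁ * h * g₁⁻¹ := by group⟩,
        Subtype.ext (by simp [φ, map_mul, MonoidHom.mem_ker.mp k.2.1, hg₁])⟩
      left_inv := fun g => by ext; simp
      right_inv := fun k => by simp }

end Cfsg.Agent.Lib.OddLocal.Subnormalizer
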