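import Mathlib

/-!
# Decomposition matrices for Zassenhaus groups with a nonabelian 2-group kernel

The combinatorial part: integral matrices with the Gram matrix `δ + j d d'`.
-/

set_option autoImplicit false

namespace Cfsg.Agent.Lib.OddLocal.SuzukiMatrix

open Finset

variable {ι : Type*} [Fintype ι] [DecidableEq ι]

/-- An integer vector of norm two orthogonal to a positive weight is a difference of two unit
vectors. -/
theorem exists_diff (D m : ι → ℤ) (hm : ∀ x, 0 < m x) (hD : ∑ x, D x * D x = 2)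
    (h0 : ∑ x, m x * D x = 0) :
    ∃ p r, p ≠ r ∧ ∀ x, D x = (if x = p then 1 else 0) - (if x = r then 1 else 0) := by
  have hb : ∀ x, -1 ≤ D x ∧ D x ≤ 1 := by
    intro x
    have h1 : D x * D x ≤ 2 := hD ▸ single_le_sum (fun y _ => mul_self_nonneg (D y)) (mem_univ x)
    constructor <;> nlinarith
  obtain ⟨p, hp⟩ : ∃ p, D p = 1 := by
    by_contra hne
    push Not at hne
    have hle : ∀ x, D x ≤ 0 := fun x => by have := hb x; have := hne x; omega
    have h1 := (sum_eq_zero_iff_of_nonpos fun x _ =>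
      mul_nonpos_of_nonneg_of_nonpos (hm x).le (hle x)).mp h0
    have : ∀ x, D x = 0 := fun x =>
      (mul_eq_zero.mp (h1 x (mem_univ x))).resolve_left (hm x).ne'
    simp [this] at hD
  obtain ⟨r, hr⟩ : ∃ r, D r = -1 := by
    by_contra hne
    push Not at hne
    have hle : ∀ x, 0 ≤ D x := fun x => by have := hb x; have := hne x; omega
    have h1 := (sum_eq_zero_iff_of_nonneg fun x _ => mul_nonneg (hm x).le (hle x)).mp h0
    have := (mul_eq_zero.mp (h1 p (mem_univ p))).resolve_left (hm p).ne'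
    omega
  have hpr : p ≠ r := fun h' => by rw [h', hr] at hp; omega
  refine ⟨p, r, hpr, fun x => ?_⟩
  by_cases hxp : x = p
  · subst hxp; simp [hp, hpr]
  by_cases hxr : x = r
  · subst hxr; simp [hr, hpr.symm]
  rw [if_neg hxp, if_neg hxr, sub_zero]
  by_contra hx
  have h1 : ∑ y ∈ ({x, p, r} : Finset ι), D y * D y ≤ 2 :=
    hD ▸ sum_le_sum_of_subset_of_nonneg (subset_univ _) fun y _ _ => mul_self_nonneg (D y)
  rw [sum_insert (by simp [hxp, hxr]), sum_pair hpr, hp, hr] at h1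
  have : 0 < D x * D x := mul_self_pos.mpr hx
  omega

variable {K : Type*} [Fintype K] [DecidableEq K]

/-- The star lemma. -/
theorem star (hK : 3 ≤ Fintype.card K) (v : K → ι → ℤ) (m : ι → ℤ) (hm : ∀ x, 0 < m x) (g : ℤ)
    (hG : ∀ i k, ∑ x, v i x * v k x = (if i = k then 1 else 0) + g)
    (hM : ∀ i k, ∑ x, m x * v i x = ∑ x, m x * v k x) :
    ∃ (C : ι → ℤ) (δ : ℤ) (θ : K → ι) (c₀ : ℤ), (δ = 1 ∨ δ = -1) ∧ Function.Injective θ ∧
      (∀ k x, v k x = C x + if x = θ k then δ else 0) ∧ (∀ k, C (θ k) = c₀) ∧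
      ∑ x, C x * C x + 2 * δ * c₀ = g := by
  suffices h : ∃ (C : ι → ℤ) (δ : ℤ) (θ : K → ι), (δ = 1 ∨ δ = -1) ∧ Function.Injective θ ∧
      ∀ k x, v k x = C x + if x = θ k then δ else 0 by
    obtain ⟨C, δ, θ, hδ, hθ, hv⟩ := h
    have key : ∀ i k, ∑ x, C x * C x + δ * (C (θ i) + C (θ k)) = g := by
      intro i k
      have hδ2 : δ * δ = 1 := by rcases hδ with rfl | rfl <;> norm_num
      have h1 := hG i k
      simp only [hv, add_mul, mul_add, ite_mul, mul_ite, zero_mul, mul_zero, sum_add_distrib,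
        sum_ite_eq', mem_univ, if_true] at h1
      by_cases hik : i = k
      · subst hik
        simp only [if_true] at h1
        linear_combination h1 - hδ2
      · rw [if_neg (fun h => hik (hθ h.symm)), if_neg hik] at h1
        linear_combination h1
    obtain ⟨k₀⟩ : Nonempty K := Fintype.card_pos_iff.mp (by omega)
    have hc : ∀ k, C (θ k) = C (θ k₀) := by
      intro k
      have h1 := key k k₀
      have h2 := key k₀ k₀
      have h3 : δ * (C (θ k) - C (θ k₀)) = 0 := by linear_combination h1 - h2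
      rcases hδ with rfl | rfl <;> linarith
    exact ⟨C, δ, θ, C (θ k₀), hδ, hθ, hv, hc, by linear_combination key k₀ k₀⟩
  obtain ⟨k₀⟩ : Nonempty K := Fintype.card_pos_iff.mp (by omega)
  have hdiff : ∀ k l, k ≠ l → ∃ p r, p ≠ r ∧
      ∀ x, v k x - v l x = (if x = p then 1 else 0) - (if x = r then 1 else 0) := by
    intro k l hkl
    refine exists_diff _ m hm ?_ ?_
    · simp only [sub_mul, mul_sub, sum_sub_distrib, hG, if_neg hkl, if_neg hkl.symm, if_true]
      ring
    · simp only [mul_sub, sum_sub_distrib, hM k l, sub_self]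
  haveI : Nonempty ι := by
    obtain ⟨k₁, hk₁⟩ := Fintype.exists_ne_of_one_lt_card (by omega : 1 < Fintype.card K) k₀
    obtain ⟨p, -⟩ := hdiff k₁ k₀ hk₁
    exact ⟨p⟩
  choose! p r hpr hv using fun k (hk : k ≠ k₀) => hdiff k k₀ hk
  have hex : ∀ k l, k ≠ k₀ → l ≠ k₀ → k ≠ l →
      (p k = p l ∨ r k = r l) ∧ ¬(p k = p l ∧ r k = r l) := by
    intro k l hk hl hkl
    have h1 : ∑ x, (v k x - v k₀ x) * (v l x - v k₀ x) = 1 := by
      simp only [sub_mul, mul_sub, sum_sub_distrib, hG, if_neg hkl, if_neg hk, if_neg hl.symm,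
        if_true]
      ring
    simp only [hv k hk, hv l hl, sub_mul, mul_sub, ite_mul, mul_ite, one_mul, zero_mul, mul_zero,
      mul_one, sum_sub_distrib, sum_ite_eq', mem_univ, if_true] at h1
    have h2 := hpr k hk
    have h3 := hpr l hl
    split_ifs at h1 <;> first | omega | grind
  rcases em (∀ k l, k ≠ k₀ → l ≠ k₀ → p k = p l) with hP | hP
  · obtain ⟨k₁, hk₁⟩ : ∃ k, k ≠ k₀ := Fintype.exists_ne_of_one_lt_card (by omega) k₀
    refine ⟨fun x => v k₀ x + if x = p k₁ then 1 else 0, -1,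
      fun k => if k = k₀ then p k₁ else r k, Or.inr rfl, ?_, ?_⟩
    · intro k l hkl
      simp only at hkl
      by_contra hne
      by_cases hk : k = k₀ <;> by_cases hl : l = k₀
      · exact hne (hk.trans hl.symm)
      · rw [if_pos hk, if_neg hl, hP k₁ l hk₁ hl] at hkl
        exact hpr l hl hkl
      · rw [if_neg hk, if_pos hl, hP k₁ k hk₁ hk] at hkl
        exact hpr k hk hkl.symm
      · rw [if_neg hk, if_neg hl] at hkl
        exact (hex k l hk hl hne).2 ⟨hP k l hk hl, hkl⟩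
    · intro k x
      by_cases hk : k = k₀
      · subst hk; simp only [if_true]; split_ifs <;> ring
      · have h1 := hv k hk x
        rw [hP k k₁ hk hk₁] at h1
        simp only [if_neg hk]
        split_ifs at h1 ⊢ <;> linarith
  · push Not at hP
    obtain ⟨k₁, l₁, hk₁, hl₁, hne⟩ := hP
    have hne' : k₁ ≠ l₁ := fun h => hne (h ▸ rfl)
    have hr1 : r k₁ = r l₁ := ((hex k₁ l₁ hk₁ hl₁ hne').1).resolve_left hne
    have hR : ∀ k, k ≠ k₀ → r k = r k₁ := by
      intro k hk
      by_cases h1 : k = k₁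
      · rw [h1]
      by_cases h2 : k = l₁
      · rw [h2, hr1]
      rcases (hex k k₁ hk hk₁ h1).1 with h | h
      · rcases (hex k l₁ hk hl₁ h2).1 with h' | h'
        · exact absurd (h.symm.trans h') hne
        · rw [h', hr1]
      · exact h
    refine ⟨fun x => v k₀ x - if x = r k₁ then 1 else 0, 1,
      fun k => if k = k₀ then r k₁ else p k, Or.inl rfl, ?_, ?_⟩
    · intro k l hkl
      simp only at hkl
      by_contra hne
      by_cases hk : k = k₀ <;> by_cases hl : l = k₀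
      · exact hne (hk.trans hl.symm)
      · rw [if_pos hk, if_neg hl, ← hR l hl] at hkl
        exact hpr l hl hkl.symm
      · rw [if_neg hk, if_pos hl, ← hR k hk] at hkl
        exact hpr k hk hkl
      · rw [if_neg hk, if_neg hl] at hkl
        exact (hex k l hk hl hne).2 ⟨hkl, (hR k hk).trans (hR l hl).symm⟩
    · intro k x
      by_cases hk : k = k₀
      · subst hk; simp only [if_true]; split_ifs <;> ring
      · have h1 := hv k hk x
        rw [hR k hk] at h1
        simp only [if_neg hk]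
        split_ifs at h1 ⊢ <;> linarith

/-- The two Frobenius–Schur equations. -/
theorem counts {q j h L s p S T : ℤ} (hq : q = 2 * j + 2) (hL : h - q = (2 * j + 1) * q * L)
    (hh : 0 < h) (hj : 0 ≤ j) (hs : s ≤ 1) (hp : p ≤ j)
    (hE : 1 + h * s + (h + 1) * p + (2 * j + 1) * T = (2 * j + 1) * (h + 1) + 1)
    (hz : 1 + p + q * S - T = q * L) (hS : 2 * S ≤ L * q) :
    2 * S = L * q ∧ 2 * T = h - L * q := by
  subst hq
  have key : 0 = 2 * (h * (1 - s)) + 2 * ((h + 2 * j + 2) * (j - p)) +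
      (2 * j + 1) * (2 * j + 2) * (L * (2 * j + 2) - 2 * S) := by
    linear_combination 2 * hE + 2 * (2 * j + 1) * hz + 2 * j * hL
  have n1 : 0 ≤ h * (1 - s) := mul_nonneg hh.le (by omega)
  have n2 : 0 ≤ (h + 2 * j + 2) * (j - p) := mul_nonneg (by omega) (by omega)
  have n3 : 0 ≤ (2 * j + 1) * (2 * j + 2) * (L * (2 * j + 2) - 2 * S) :=
    mul_nonneg (by positivity) (by omega)
  have e3 : (2 * j + 1) * (2 * j + 2) * (L * (2 * j + 2) - 2 * S) = 0 := by omega
  have e2 : (h + 2 * j + 2) * (j - p) = 0 := by omega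
  have e1 : h * (1 - s) = 0 := by omega
  have hS' : L * (2 * j + 2) - 2 * S = 0 := (mul_eq_zero.mp e3).resolve_left (by positivity)
  have hp' : j - p = 0 := (mul_eq_zero.mp e2).resolve_left (by omega)
  refine ⟨by omega, ?_⟩
  linear_combination 2 * (-1) * hz + (-1) * (2 * j + 2) * hS' + (-2) * hp' + (-1) * hL

variable {M : Type*} [Fintype M] [DecidableEq M]

theorem int_le_sq (t : ℤ) : t ≤ t * t := by
  rcases le_or_gt t 0 with h | h <;> nlinarith

theorem abs_le_sq (t : ℤ) : |t| ≤ t * t := by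
  rcases abs_cases t with ⟨h1, h2⟩ | ⟨h1, h2⟩ <;> rw [h1] <;> nlinarith

theorem mul_sign_le (ν t : ℤ) (hν : |ν| ≤ 1) : ν * t ≤ t * t :=
  calc ν * t ≤ |ν * t| := le_abs_self _
    _ = |ν| * |t| := abs_mul _ _
    _ ≤ |t| := mul_le_of_le_one_left (abs_nonneg _) hν
    _ ≤ t * t := abs_le_sq t

/-- There is no decomposition matrix with `q + 1` linear columns. -/
theorem cube_false {j d : ℤ} {q : ℤ} (hq : q = 2 * j + 2) (hj : 1 ≤ j) (hd : 2 ≤ d)
    (hK : (Fintype.card K : ℤ) = q + 1) (hN : (Fintype.card M : ℤ) * d ^ 2 = q ^ 2)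
    (a : K → ι → ℤ) (b : M → ι → ℤ) (m ν : ι → ℤ) (hν : ∀ x, |ν x| ≤ 1) (ha : ∀ k x, 0 ≤ a k x)
    (hm : ∀ x, m x = ∑ k, a k x + d * ∑ i, b i x) (hpos : ∀ x, 0 < m x)
    (hker : ∀ x, ∃ i, b i x ≠ 0)
    (haa : ∀ i k, ∑ x, a i x * a k x = (if i = k then 1 else 0) + j)
    (hab : ∀ k i, ∑ x, a k x * b i x = j * d)
    (hbb : ∀ i i', ∑ x, b i x * b i' x = (if i = i' then 1 else 0) + j * d ^ 2)
    {s p : ℤ} (hs : s ≤ 1) (hp : p ≤ j)
    (hE : 1 + q ^ 3 * s + (q ^ 3 + 1) * p + (2 * j + 1) * ∑ x, ν x * m x =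
      (2 * j + 1) * (q ^ 3 + 1) + 1)
    (hz : 1 + p + q * (∑ x, ν x * ∑ k, a k x) - ∑ x, ν x * m x = q * (q + 1)) : False := by
  have hK3 : 3 ≤ Fintype.card K := by omega
  have hM : ∀ i k, ∑ x, m x * a i x = ∑ x, m x * a k x := by
    have key : ∀ i, ∑ x, m x * a i x = 1 + j * (Fintype.card K : ℤ) +
        d * ((Fintype.card M : ℤ) * (j * d)) := by
      intro i
      simp only [hm, add_mul, mul_assoc, sum_add_distrib, sum_mul, ← mul_sum]
      have e1 : ∑ x, ∑ k, a k x * a i x = ∑ k : K, ((if k = i then 1 else 0) + j) := by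
        rw [sum_comm]; exact sum_congr rfl fun k _ => haa k i
      have e2 : ∑ x, ∑ l, b l x * a i x = ∑ l : M, j * d := by
        rw [sum_comm]
        exact sum_congr rfl fun l _ => by rw [← hab i l]; exact sum_congr rfl fun x _ => mul_comm _ _
      rw [e1, e2]
      simp only [sum_add_distrib, sum_ite_eq', mem_univ, if_true, sum_const, card_univ, nsmul_eq_mul]
      ring
    intro i k
    rw [key, key]
  obtain ⟨C, δ, θ, c₀, hδ, hθ, hv, hc, hCsum⟩ := star hK3 a m hpos j haa hM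
  obtain ⟨k₀⟩ : Nonempty K := Fintype.card_pos_iff.mp (by omega)
  obtain ⟨k₁, hk₁⟩ : ∃ k, k ≠ k₀ := Fintype.exists_ne_of_one_lt_card (by omega) k₀
  have hCθ : (q + 1) * (c₀ * c₀) ≤ ∑ x, C x * C x := by
    rw [← hK]
    calc (Fintype.card K : ℤ) * (c₀ * c₀) = ∑ k, C (θ k) * C (θ k) := by
          simp [hc]
      _ = ∑ x ∈ univ.image θ, C x * C x := by
          rw [sum_image fun a _ b _ h => hθ h]
      _ ≤ _ := sum_le_sum_of_subset_of_nonneg (subset_univ _) fun y _ _ => mul_self_nonneg _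
  have hC0 : ∀ x, 0 ≤ C x + if x = θ k₁ then δ else 0 := fun x => hv k₁ x ▸ ha k₁ x
  rcases hδ with rfl | rfl
  swap
  · have h1 := hC0 (θ k₁)
    rw [if_pos rfl, hc] at h1
    have h2 : c₀ ≤ c₀ * c₀ := int_le_sq c₀
    have h3 : 1 ≤ c₀ * c₀ := by omega
    have h4 : j * 1 ≤ j * (c₀ * c₀) := mul_le_mul_of_nonneg_left h3 (by omega)
    rw [hq] at hCθ
    linarith
  have hc00 : c₀ = 0 := by
    have h1 := hC0 (θ k₀)
    rw [if_neg (fun h => hk₁ (hθ h).symm), hc, add_zero] at h1
    rcases h1.lt_or_eq with h2 | h2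
    · have h3 : c₀ ≤ c₀ * c₀ := int_le_sq c₀
      have h4 : j * 1 ≤ j * (c₀ * c₀) := mul_le_mul_of_nonneg_left (by omega) (by omega)
      rw [hq] at hCθ
      linarith
    · exact h2.symm
  subst hc00
  have hCC : ∑ x, C x * C x = j := by linarith
  have hsumθ : ∀ (f : ι → ℤ) k, ∑ x, (if x = θ k then (1 : ℤ) else 0) * f x = f (θ k) := by
    intro f k; simp [ite_mul]
  -- the linear part
  have hA : ∀ x, ∑ k, a k x = (q + 1) * C x + ∑ k, if x = θ k then (1 : ℤ) else 0 := by
    intro x; simp [hv, sum_add_distrib, hK]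
  set S := ∑ x, ν x * ∑ k, a k x with hSdef
  set T := ∑ x, ν x * m x with hTdef
  have hSeq : S = (q + 1) * ∑ x, ν x * C x + ∑ k, ν (θ k) := by
    simp only [hSdef, hA, mul_add, sum_add_distrib, mul_left_comm (ν _) (q + 1), ← mul_sum,
      add_right_inj]
    simp only [mul_sum]
    rw [sum_comm]
    exact sum_congr rfl fun k _ => by simp
  have hνC : ∑ x, ν x * C x ≤ j :=
    hCC ▸ sum_le_sum fun x _ => mul_sign_le _ _ (hν x)
  have hνθ : ∑ k, ν (θ k) ≤ q + 1 := by
    calc ∑ k, ν (θ k) ≤ ∑ _k : K, (1 : ℤ) := sum_le_sum fun k _ => (abs_le.mp (hν _)).2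
      _ = q + 1 := by simp [hK]
  have hS2 : 2 * S ≤ (q + 1) * q := by
    rw [hSeq]; nlinarith
  obtain ⟨hSv, hTv⟩ := counts (h := q ^ 3) (L := q + 1) (q := q) (j := j) hq
    (by rw [hq]; ring) (pow_pos (by omega) 3) (by omega) hs hp hE hz hS2
  have hνCe : ∑ x, ν x * C x = j := by
    rw [hSeq] at hSv; nlinarith
  have hνθe : ∑ k, ν (θ k) = q + 1 := by
    rw [hSeq, hνCe] at hSv; nlinarith
  have hνθ1 : ∀ k, ν (θ k) = 1 := by
    intro k
    have h0 : ∑ k, (1 - ν (θ k)) = 0 := by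
      rw [sum_sub_distrib, hνθe]; simp [hK]
    have := (sum_eq_zero_iff_of_nonneg fun k _ => sub_nonneg.mpr (abs_le.mp (hν _)).2).mp h0 k
      (mem_univ k)
    omega
  -- the nonlinear columns
  set u : M → ℤ := fun i => b i (θ k₀) with hu
  have hbθ : ∀ i k, b i (θ k) = u i := by
    intro i k
    have h1 := hab k i
    have h2 := hab k₀ i
    simp only [hv, add_mul, sum_add_distrib, hsumθ] at h1 h2
    show _ = b i (θ k₀)
    linarith
  have hCb : ∀ i, ∑ x, C x * b i x = j * d - u i := by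
    intro i
    have h1 := hab k₀ i
    simp only [hv, add_mul, sum_add_distrib, hsumθ] at h1
    linarith
  set y : M → ι → ℤ := fun i x => b i x - d * C x - u i * ∑ k, if x = θ k then (1 : ℤ) else 0
    with hy
  have hind : ∀ (f : ι → ℤ), ∑ x, (∑ k, if x = θ k then (1 : ℤ) else 0) * f x = ∑ k, f (θ k) := by
    intro f
    simp only [sum_mul]
    rw [sum_comm]
    exact sum_congr rfl fun k _ => hsumθ f k
  have hindθ : ∀ k, (∑ l, if θ k = θ l then (1 : ℤ) else 0) = 1 := by
    intro k; simp [hθ.eq_iff]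
  have hyy : ∀ i, ∑ x, y i x * y i x = 1 + 2 * d * u i - (q + 1) * (u i * u i) := by
    intro i
    have e : ∀ x, y i x * y i x = b i x * b i x + d ^ 2 * (C x * C x) - 2 * d * (C x * b i x) +
        (∑ k, if x = θ k then (1 : ℤ) else 0) * (u i * (u i * (∑ k, if x = θ k then (1 : ℤ) else 0)
          - 2 * b i x + 2 * d * C x)) := by
      intro x; simp only [hy]; ring
    rw [sum_congr rfl fun x _ => e x, sum_add_distrib, sum_sub_distrib, sum_add_distrib, ← mul_sum,
      ← mul_sum, hind, hbb, if_pos rfl, hCC, hCb]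
    simp only [hindθ, hc, hbθ, mul_zero, add_zero, sum_const, card_univ, nsmul_eq_mul, hK]
    ring
  have hyν : ∀ i, ∑ x, ν x * b i x = d * j + (q + 1) * u i + ∑ x, ν x * y i x := by
    intro i
    have h1 : ∑ x, (∑ k, if x = θ k then (1 : ℤ) else 0) * (u i * ν x) = (q + 1) * u i := by
      rw [hind]; simp [hνθ1, hK]
    calc ∑ x, ν x * b i x = ∑ x, (d * (ν x * C x) +
          (∑ k, if x = θ k then (1 : ℤ) else 0) * (u i * ν x) + ν x * y i x) :=
          sum_congr rfl fun x _ => by simp only [hy]; ring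
      _ = _ := by rw [sum_add_distrib, sum_add_distrib, ← mul_sum, hνCe, h1]
  have hT : T = S + d * ∑ i, ∑ x, ν x * b i x := by
    simp only [hTdef, hSdef, hm, mul_add, sum_add_distrib, mul_left_comm (ν _) d, ← mul_sum,
      add_right_inj]
    simp only [mul_sum]
    rw [sum_comm]
  have hbound : (q + 1) * (1 + d * ∑ i, u i) ≤
      1 + d * ∑ i, (1 + 2 * d * u i - (q + 1) * (u i * u i)) := by
    have h1 : ∑ i, -(∑ x, ν x * y i x) ≤ ∑ i, (1 + 2 * d * u i - (q + 1) * (u i * u i)) := by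
      refine sum_le_sum fun i _ => ?_
      rw [← hyy, ← sum_neg_distrib]
      refine sum_le_sum fun x _ => ?_
      rw [← neg_mul]
      exact mul_sign_le _ _ (by rw [abs_neg]; exact hν x)
    simp only [hyν, sum_add_distrib, sum_const, card_univ, nsmul_eq_mul, ← mul_sum] at hT
    rw [sum_neg_distrib] at h1
    have h2 := mul_le_mul_of_nonneg_left h1 (show 0 ≤ d by omega)
    have hqj : q ^ 3 - 2 * q ^ 2 = 2 * j * q ^ 2 := by rw [hq]; ring
    have hY : d * ∑ i, ∑ x, ν x * y i x = -q - d * (q + 1) * ∑ i, u i := by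
      refine mul_left_cancel₀ (two_ne_zero (α := ℤ)) ?_
      linear_combination (-2) * hT + (-2) * j * hN + hTv - hSv + hqj
    linear_combination h2 + hY
  have hu01 : ∀ i, u i = 0 ∨ (u i = 1 ∧ q ≤ 2 * d) := by
    intro i
    have h1 : (q + 1) * (u i * u i) ≤ 1 + 2 * d * u i := by
      have := hyy i ▸ sum_nonneg (fun x (_ : x ∈ univ) => mul_self_nonneg (y i x))
      linarith
    have hdq : d ≤ q := by
      have hM1 : (1 : ℤ) ≤ (Fintype.card M : ℤ) := by
        exact_mod_cast Fintype.card_pos_iff.mpr ⟨i⟩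
      exact (pow_le_pow_iff_left₀ (by omega) (by omega) two_ne_zero).mp
        (hN ▸ le_mul_of_one_le_left (sq_nonneg d) hM1)
    rcases lt_trichotomy (u i) 0 with h2 | h2 | h2
    · have h3 : 2 * d * u i ≤ 2 * d * (-1) := mul_le_mul_of_nonneg_left (by omega) (by omega)
      have h4 : 0 ≤ (q + 1) * (u i * u i) := mul_nonneg (by omega) (mul_self_nonneg _)
      linarith
    · exact Or.inl h2
    · by_cases h3 : u i = 1
      · rw [h3] at h1
        exact Or.inr ⟨h3, by linarith⟩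
      · have h4 : (q + 1) * (2 * u i) ≤ (q + 1) * (u i * u i) :=
          mul_le_mul_of_nonneg_left (mul_le_mul_of_nonneg_right (by omega) h2.le) (by omega)
        have h5 : d * u i ≤ q * u i := mul_le_mul_of_nonneg_right hdq h2.le
        linarith
  have huu : ∀ i, u i * u i = u i := fun i => by
    rcases hu01 i with h | ⟨h, -⟩ <;> simp [h]
  obtain ⟨i₀, hi₀⟩ := hker (θ k₀)
  have hdq2 : q ≤ 2 * d := ((hu01 i₀).resolve_left hi₀).2
  have hk : 1 ≤ ∑ i, u i :=
    (((hu01 i₀).resolve_left hi₀).1.symm.le).trans (single_le_sum (fun i _ => by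
      rcases hu01 i with h | ⟨h, -⟩ <;> omega) (mem_univ i₀))
  have hdq : d ≤ q := by
    have hM1 : (1 : ℤ) ≤ (Fintype.card M : ℤ) := by
      exact_mod_cast Fintype.card_pos_iff.mpr ⟨i₀⟩
    exact (pow_le_pow_iff_left₀ (by omega) (by omega) two_ne_zero).mp
      (hN ▸ le_mul_of_one_le_left (sq_nonneg d) hM1)
  simp only [huu, sum_sub_distrib, sum_add_distrib, sum_const, card_univ, nsmul_eq_mul,
    ← mul_sum] at hbound
  have h3 : q * d + 2 * d ^ 2 * ((∑ i, u i) * (q + 1 - d)) ≤ q ^ 2 := by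
    have h := mul_le_mul_of_nonneg_left hbound (show 0 ≤ d by omega)
    linear_combination h + hN
  have h4 : q + 1 - d ≤ (∑ i, u i) * (q + 1 - d) := le_mul_of_one_le_left (by omega) hk
  have h5 := mul_le_mul_of_nonneg_left h4 (show (0 : ℤ) ≤ 2 * d ^ 2 by positivity)
  rcases hdq.lt_or_eq with h6 | h6
  · have h7 : 2 * d ^ 2 * 2 ≤ 2 * d ^ 2 * (q + 1 - d) :=
      mul_le_mul_of_nonneg_left (by omega) (by positivity)
    have h8 : q * q ≤ (2 * d) * (2 * d) := mul_le_mul hdq2 hdq2 (by omega) (by omega)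
    have h9 : 0 < q * d := mul_pos (by omega) (by omega)
    linarith
  · subst h6
    have h7 : 0 < d ^ 2 := pow_pos (by omega) 2
    linarith

theorem square_numeric {N d q j a₀ z₀ δ X Y : ℤ} (hq : q = 2 * j + 2) (hd : 2 ≤ d) (hN4 : 4 ≤ N)
    (hN : N * d ^ 2 = q) (ha₀ : a₀ = 0 ∨ a₀ = 1) (hδ : δ = 1 ∨ δ = -1)
    (hX : N * a₀ + X = 1 + j) (hXY : X ≤ Y) (hY : N * (z₀ * z₀) + Y + 2 * δ * z₀ = d ^ 2)
    (hm : (q + 1) * a₀ + d * N * z₀ + d * δ ∣ q ^ 2 * (q ^ 2 + 1)) : False := by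
  have hd4 : 4 ≤ d ^ 2 := by
    have := pow_le_pow_left₀ (by norm_num) hd 2
    linarith
  have hz1 := int_le_sq z₀
  have hz2 := int_le_sq (-z₀)
  have hzz := mul_self_nonneg z₀
  have hNz : 4 * (z₀ * z₀) ≤ N * (z₀ * z₀) := mul_le_mul_of_nonneg_right hN4 hzz
  have hz₀ : 2 * (z₀ * z₀) ≤ N * (z₀ * z₀) + 2 * δ * z₀ := by
    rcases hδ with rfl | rfl <;> linarith
  have h4 : 4 * d ^ 2 ≤ N * d ^ 2 := mul_le_mul_of_nonneg_right hN4 (sq_nonneg d)
  rcases ha₀ with rfl | rfl
  · linarith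
  have h5 : (N - 2) * 2 ≤ (N - 2) * (d ^ 2 - 2) :=
    mul_le_mul_of_nonneg_left (by omega) (by omega)
  have hN' : N = 4 := by linarith
  subst hN'
  have hd2' : d ^ 2 = 4 := by linarith
  have hd2 : d = 2 :=
    le_antisymm ((pow_le_pow_iff_left₀ (by omega) (by norm_num) two_ne_zero).mp
      (hd2'.le.trans (by norm_num))) hd
  subst hd2
  have hq16 : q = 16 := by omega
  subst hq16
  have hj : j = 7 := by omega
  subst hj
  have hz0 : z₀ = 0 := mul_self_eq_zero.mp (le_antisymm (by linarith) hzz)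
  subst hz0
  rcases hδ with rfl | rfl <;> revert hm <;> decide

/-- With one linear column there are at most two nonlinear columns. -/
theorem square_false {j d : ℤ} {q : ℤ} (hq : q = 2 * j + 2) (hj : 1 ≤ j) (hd : 2 ≤ d)
    (hM : 4 ≤ Fintype.card M) (hN : (Fintype.card M : ℤ) * d ^ 2 = q)
    (a : ι → ℤ) (b : M → ι → ℤ) (m ν : ι → ℤ) (hν : ∀ x, |ν x| ≤ 1) (ha : ∀ x, 0 ≤ a x)
    (hm : ∀ x, m x = a x + d * ∑ i, b i x) (hpos : ∀ x, 0 < m x)
    (hdvd : ∀ x, m x ∣ q ^ 2 * (q ^ 2 + 1))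
    (haa : ∑ x, a x * a x = 1 + j) (hab : ∀ i, ∑ x, a x * b i x = j * d)
    (hbb : ∀ i i', ∑ x, b i x * b i' x = (if i = i' then 1 else 0) + j * d ^ 2)
    {s p : ℤ} (hs : s ≤ 1) (hp : p ≤ j)
    (hE : 1 + q ^ 2 * s + (q ^ 2 + 1) * p + (2 * j + 1) * ∑ x, ν x * m x =
      (2 * j + 1) * (q ^ 2 + 1) + 1)
    (hz : 1 + p + q * (∑ x, ν x * a x) - ∑ x, ν x * m x = q) : False := by
  have hνa : ∑ x, ν x * a x ≤ 1 + j := haa ▸ sum_le_sum fun x _ => mul_sign_le _ _ (hν x)
  obtain ⟨hSv, -⟩ := counts (h := q ^ 2) (L := 1) (q := q) (j := j) hq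
    (by rw [hq]; ring) (pow_pos (by omega) 2) (by omega) hs hp hE (hz.trans (mul_one q).symm)
    (by rw [hq]; linarith)
  have ha01 : ∀ x, a x = 0 ∨ a x = 1 := by
    intro x
    have h0 : ∑ x, (a x * a x - ν x * a x) = 0 := by
      rw [sum_sub_distrib, haa]; linarith
    have h1 := (sum_eq_zero_iff_of_nonneg fun x _ => sub_nonneg.mpr (mul_sign_le _ _ (hν x))).mp
      h0 x (mem_univ x)
    have h2 : ν x * a x ≤ a x := by
      nlinarith [(abs_le.mp (hν x)).2, ha x]
    have h3 : a x ≤ 1 := by nlinarith [ha x]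
    have := ha x
    omega
  have haa' : ∀ x, a x * a x = a x := fun x => by rcases ha01 x with h | h <;> simp [h]
  have hcount : ∑ x, a x = 1 + j := by rw [← haa]; exact sum_congr rfl fun x _ => (haa' x).symm
  set z : M → ι → ℤ := fun i x => b i x - d * a x with hzdef
  have hzz : ∀ i i', ∑ x, z i x * z i' x = (if i = i' then 1 else 0) + d ^ 2 := by
    intro i i'
    have e : ∀ x, z i x * z i' x = b i x * b i' x + d ^ 2 * (a x * a x) - d * (a x * b i x) -
        d * (a x * b i' x) := by intro x; simp only [hzdef]; ring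
    rw [sum_congr rfl fun x _ => e x]
    simp only [sum_sub_distrib, sum_add_distrib, ← mul_sum, hbb, haa, hab]
    ring
  have haz : ∀ i, ∑ x, a x * z i x = -d := by
    intro i
    have e : ∀ x, a x * z i x = a x * b i x - d * (a x * a x) := by
      intro x; simp only [hzdef]; ring
    rw [sum_congr rfl fun x _ => e x, sum_sub_distrib, ← mul_sum, hab, haa]
    ring
  have hmz : ∀ x, m x = (q + 1) * a x + d * ∑ i, z i x := by
    intro x
    simp only [hm, hzdef, sum_sub_distrib, sum_const, card_univ, nsmul_eq_mul]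
    linear_combination (a x) * hN
  have hMz : ∀ i k, ∑ x, m x * z i x = ∑ x, m x * z k x := by
    have key : ∀ i, ∑ x, m x * z i x = (q + 1) * (-d) + d * (1 + (Fintype.card M : ℤ) * d ^ 2) := by
      intro i
      simp only [hmz, add_mul, mul_assoc, sum_add_distrib, ← mul_sum, haz, sum_mul]
      rw [sum_comm]
      simp only [hzz, sum_add_distrib, sum_ite_eq', mem_univ, if_true, sum_const, card_univ,
        nsmul_eq_mul]
    intro i k
    rw [key, key]
  obtain ⟨C, δ, θ, z₀, hδ, hθ, hv, hc, hCsum⟩ := star (by omega) z m hpos (d ^ 2) hzz hMz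
  obtain ⟨k₀⟩ : Nonempty M := Fintype.card_pos_iff.mp (by omega)
  have hsumθ : ∀ (f : ι → ℤ) k, ∑ x, f x * (if x = θ k then δ else 0) = δ * f (θ k) := by
    intro f k; simp [mul_ite, mul_comm]
  have haθ : ∀ k, a (θ k) = a (θ k₀) := by
    intro k
    have h1 := haz k
    have h2 := haz k₀
    simp only [hv, mul_add, sum_add_distrib, hsumθ] at h1 h2
    rcases hδ with rfl | rfl <;> linarith
  set I := univ.image θ with hI
  have hIc : (I.card : ℤ) = Fintype.card M := by
    rw [hI, card_image_of_injective _ hθ, card_univ]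
  have hmx : ∀ x, m x = (q + 1) * a x + d * (Fintype.card M : ℤ) * C x +
      d * ∑ k, if x = θ k then δ else 0 := by
    intro x
    simp only [hmz, hv, sum_add_distrib, sum_const, card_univ, nsmul_eq_mul]
    ring
  have hcop : IsCoprime (q + 1) (q ^ 2) := IsCoprime.pow_right (⟨1, -1, by ring⟩)
  have hq1 : ¬ (q + 1) ∣ q ^ 2 * (q ^ 2 + 1) := by
    intro h
    have h1 : (q + 1) ∣ q ^ 2 + 1 := hcop.dvd_of_dvd_mul_left h
    have h2 : (q + 1) ∣ 2 := by
      have := dvd_sub h1 (dvd_mul_right (q + 1) (q - 1))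
      rwa [show q ^ 2 + 1 - (q + 1) * (q - 1) = 2 by ring] at this
    have := Int.le_of_dvd two_pos h2
    omega
  have hCne : ∀ x, x ∉ I → a x ≤ C x * C x := by
    intro x hx
    rcases ha01 x with h | h
    · rw [h]; exact mul_self_nonneg _
    by_cases hC : C x = 0
    · exfalso
      have h0 : (∑ k, if x = θ k then δ else 0) = 0 :=
        sum_eq_zero fun k _ => if_neg fun h' => hx (by rw [h']; exact mem_image_of_mem θ (mem_univ k))
      have h1 := hmx x
      rw [h, hC, h0] at h1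
      simp only [mul_one, mul_zero, add_zero] at h1
      exact hq1 (h1 ▸ hdvd x)
    · have := mul_self_pos.mpr hC
      omega
  have hCsq : (Fintype.card M : ℤ) * (z₀ * z₀) + ∑ x ∈ univ \ I, C x * C x = ∑ x, C x * C x := by
    rw [← sum_sdiff (subset_univ I), add_comm]
    congr 1
    rw [sum_congr rfl (g := fun _ => z₀ * z₀) fun x hx => ?_, sum_const, nsmul_eq_mul, hIc]
    obtain ⟨k, -, rfl⟩ := mem_image.mp hx
    rw [hc]
  have hsuma : (Fintype.card M : ℤ) * a (θ k₀) + ∑ x ∈ univ \ I, a x = 1 + j := by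
    rw [← hcount, ← sum_sdiff (subset_univ I) (f := a), add_comm]
    congr 1
    rw [sum_congr rfl (g := fun _ => a (θ k₀)) fun x hx => ?_, sum_const, nsmul_eq_mul, hIc]
    obtain ⟨k, -, rfl⟩ := mem_image.mp hx
    exact haθ k
  have hle : ∑ x ∈ univ \ I, a x ≤ ∑ x ∈ univ \ I, C x * C x :=
    sum_le_sum fun x hx => hCne x (mem_sdiff.mp hx).2
  have h6 := hmx (θ k₀)
  rw [hc, sum_eq_single k₀ (fun k _ hk => if_neg fun h' => hk (hθ h').symm)
    (fun h' => absurd (mem_univ _) h'), if_pos rfl] at h6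
  exact square_numeric hq hd (by exact_mod_cast hM) hN (ha01 (θ k₀)) hδ hsuma hle
    (by linarith) (h6 ▸ hdvd (θ k₀))

end Cfsg.Agent.Lib.OddLocal.SuzukiMatrix
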