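import Cfsg.Agent.Lib.OddLocal.SuzukiColumns
import Cfsg.Agent.Lib.OddLocal.SuzukiMatrix
import Cfsg.Agent.Lib.Characters.Gram

/-!
# Zassenhaus groups with a nonabelian 2-group kernel: the character counting
-/

set_option autoImplicit false
set_option linter.unusedSectionVars false
set_option linter.style.haveILetI false

namespace Cfsg.Agent.Lib.OddLocal.SuzukiChars

open MulAction
open Cfsg.Agent.Lib.Characters
open Cfsg.Agent.Lib.Characters.ZOdd
open Cfsg.Agent.Lib.OddLocal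
open scoped ComplexConjugate

universe u v

/-- The Frobenius–Schur counting of square roots. -/
theorem exists_indicator {G : Type u} [Group G] [Fintype G] [DecidableEq G]
    [Fintype (Cfsg.IrrCharacter G)] :
    ∃ ν : Cfsg.IrrCharacter G → ℤ, (∀ χ, |ν χ| ≤ 1) ∧ ν (trivIrr G) = 1 ∧
      ∀ g : G, ∑ χ, (ν χ : ℂ) * (χ : G → ℂ) g =
        ((Finset.univ.filter fun s : G => s * s = g).card : ℂ) := by
  classical
  have hex : ∀ χ : Cfsg.IrrCharacter G, ∃ k : ℤ, |k| ≤ 1 ∧
      (Nat.card G : ℂ)⁻¹ * ∑ s : G, (χ : G → ℂ) (s * s) = (k : ℂ) := by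
    intro χ
    by_cases hr : ∃ s : G, ((χ : G → ℂ) s).im ≠ 0
    · exact ⟨0, by norm_num, by rw [(frobeniusSchur χ.2).1 hr, Int.cast_zero]⟩
    · push Not at hr
      obtain ⟨n, B, ε, -, -, hε, -, hν⟩ := (frobeniusSchur χ.2).2 hr
      rcases hε with rfl | rfl
      · exact ⟨1, by norm_num, by rw [hν, Int.cast_one]⟩
      · exact ⟨-1, by norm_num, by rw [hν, Int.cast_neg, Int.cast_one]⟩
  choose ν hν hν' using hex
  refine ⟨ν, hν, ?_, fun g => ?_⟩
  · have h := hν' (trivIrr G)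
    simp only [trivIrr, Finset.sum_const, Finset.card_univ, nsmul_eq_mul, mul_one,
      ← Nat.card_eq_fintype_card, inv_mul_cancel₀ (natCard_ne_zero_complex (G := G))] at h
    exact_mod_cast h.symm
  set θ : G → ℂ := fun g => ((Finset.univ.filter fun s : G => s * s = g).card : ℂ)
  have hcl : Cfsg.IsClassFunction G θ := by
    intro g x
    show ((Finset.univ.filter fun s : G => s * s = x * g * x⁻¹).card : ℂ) = _
    congr 1
    refine Finset.card_bij (fun s _ => x⁻¹ * s * x) (fun s hs => ?_)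
      (fun _ _ _ _ h => mul_left_cancel (mul_right_cancel h))
      (fun s hs => ⟨x * s * x⁻¹, ?_, by group⟩)
    · simp only [Finset.mem_filter, Finset.mem_univ, true_and] at hs ⊢
      calc x⁻¹ * s * x * (x⁻¹ * s * x) = x⁻¹ * (s * s) * x := by group
        _ = g := by rw [hs]; group
    · simp only [Finset.mem_filter, Finset.mem_univ, true_and] at hs ⊢
      calc x * s * x⁻¹ * (x * s * x⁻¹) = x * (s * s) * x⁻¹ := by group
        _ = x * g * x⁻¹ := by rw [hs]
  have hinner : ∀ χ : Cfsg.IrrCharacter G, Cfsg.classInner θ (χ : G → ℂ) = (ν χ : ℂ) := by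
    intro χ
    have h1 : ∑ x : G, θ x * conj ((χ : G → ℂ) x) = conj (∑ s : G, (χ : G → ℂ) (s * s)) := by
      rw [map_sum, ← Finset.sum_fiberwise Finset.univ (fun s : G => s * s)
        (fun s => conj ((χ : G → ℂ) (s * s)))]
      refine Finset.sum_congr rfl fun x _ => ?_
      rw [Finset.sum_congr rfl (g := fun _ => conj ((χ : G → ℂ) x)) fun s hs => by
        rw [(Finset.mem_filter.mp hs).2], Finset.sum_const, nsmul_eq_mul]
    have h2 := congrArg conj (hν' χ)
    rw [map_mul, map_inv₀, map_natCast, map_intCast] at h2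
    rw [Cfsg.classInner, h1, h2]
  have h := congrFun (eq_sum_classInner hcl) g
  simp only [Finset.sum_apply, Pi.smul_apply, smul_eq_mul, hinner] at h
  exact h.symm

theorem int_le_one_of_abs {k : ℤ} (h : |k| ≤ 1) : k ≤ 1 := (abs_le.mp h).2

variable {G : Type u} [Group G] [Fintype G] [DecidableEq G] [IsSimpleGroup G] {Ω : Type v}
  [MulAction G Ω] [Fintype Ω] {a b : Ω} {h e : ℕ} {H : Subgroup G} [Fintype (stabilizer G a)]
  [Fintype (H.subgroupOf (stabilizer G a))] [(H.subgroupOf (stabilizer G a)).Normal]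

set_option maxHeartbeats 1600000 in
theorem numerics_aux [Fintype (Cfsg.IrrCharacter G)] [Fintype (Cfsg.IrrCharacter (stabilizer G a))]
    [Fintype (Cfsg.IrrCharacter (H.subgroupOf (stabilizer G a)))]
    (K : ZKer G a b h e H) (hP : IsPGroup 2 H) (hne : ∃ x y : H, x * y ≠ y * x) :
    ∃ n : ℕ, Odd n ∧ 1 < n ∧ e + 1 = 2 ^ n ∧ h = (e + 1) ^ 2 := by
  classical
  haveI : Fact (Nat.Prime 2) := ⟨Nat.prime_two⟩
  have he3 := K.three_le_e
  have hh1 := K.one_lt_h
  have he0 : (e : ℂ) ≠ 0 := Nat.cast_ne_zero.mpr (by omega)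
  have hh0 : (h : ℂ) ≠ 0 := Nat.cast_ne_zero.mpr (by omega)
  haveI := K.isPretransitive
  have hidx : (stabilizer G a).index = h + 1 := by
    rw [MulAction.index_stabilizer_of_transitive, Nat.card_eq_fintype_card, K.hh]
  -- the restriction coefficients
  choose c hc using fun (χ : Cfsg.IrrCharacter G) (η : Cfsg.IrrCharacter (stabilizer G a)) =>
    IsCharacter.exists_classInner_nat (IsCharacter.restrict (irr_isCharacter χ) (stabilizer G a))
      (irr_isCharacter η)
  have hcI : ∀ (χ : Cfsg.IrrCharacter G) (η : Cfsg.IrrCharacter (stabilizer G a)), Cfsg.classInner (Cfsg.indFun (stabilizer G a)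
      (η : stabilizer G a → ℂ)) (χ : G → ℂ) = (c χ η : ℂ) := fun χ η => by
    rw [classInner_indFun _ _ (irr_isClassFunction χ), ← classInner_conj_symm, hc, map_natCast]
  have hres : ∀ (χ : Cfsg.IrrCharacter G) (g : stabilizer G a),
      (χ : G → ℂ) g = ∑ η, (c χ η : ℂ) * (η : stabilizer G a → ℂ) g := fun χ g => by
    have h' := congrFun (eq_sum_classInner (IsCharacter.isClassFunction
      (IsCharacter.restrict (irr_isCharacter χ) (stabilizer G a)))) g
    simpa only [Finset.sum_apply, Pi.smul_apply, smul_eq_mul, hc] using h'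
  set Rel := {χ : Cfsg.IrrCharacter (stabilizer G a) //
    IsRelevant (H.subgroupOf (stabilizer G a)) (χ : stabilizer G a → ℂ)}
  set NR := Finset.univ.filter fun η : Cfsg.IrrCharacter (stabilizer G a) =>
    ¬ IsRelevant (H.subgroupOf (stabilizer G a)) (η : stabilizer G a → ℂ)
  set d : Rel → ℕ := redDeg (H.subgroupOf (stabilizer G a))
  set W : Cfsg.IrrCharacter G → ℕ := fun χ => ∑ μ ∈ NR, c χ μ with hWdef
  have hd1 : ∀ i : Rel, (i.1 : stabilizer G a → ℂ) 1 = ((e * d i : ℕ) : ℂ) := K.redDeg_one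
  have hsplit : ∀ f : Cfsg.IrrCharacter (stabilizer G a) → ℂ,
      ∑ η, f η = ∑ μ ∈ NR, f μ + ∑ i : Rel, f i.1 := by
    intro f
    rw [← Finset.sum_filter_not_add_sum_filter Finset.univ (fun η : Cfsg.IrrCharacter
      (stabilizer G a) => IsRelevant (H.subgroupOf (stabilizer G a)) (η : stabilizer G a → ℂ)) f]
    congr 1
    exact Finset.sum_subtype _ (fun x => by simp) f
  have hNR1 : ∀ μ ∈ NR, ∀ g : stabilizer G a, (g : G) ∈ H → (μ : stabilizer G a → ℂ) g = 1 := by
    intro μ hμ g hg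
    obtain ⟨lam, hl, hlH⟩ := K.nonrel.2 μ (Finset.mem_filter.mp hμ).2
    rw [hl]
    simp only [hlH g hg, Units.val_one]
  have hval : ∀ (χ : Cfsg.IrrCharacter G) (g : stabilizer G a), (g : G) ∈ H →
      (χ : G → ℂ) g = (W χ : ℂ) + ∑ i : Rel, (c χ i.1 : ℂ) * (i.1 : stabilizer G a → ℂ) g := by
    intro χ g hg
    rw [hres, hsplit, hWdef, Nat.cast_sum]
    congr 1
    exact Finset.sum_congr rfl fun μ hμ => by rw [hNR1 μ hμ g hg, mul_one]
  have hdeg : ∀ χ : Cfsg.IrrCharacter G, degNat χ = W χ + e * ∑ i : Rel, d i * c χ i.1 := by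
    intro χ
    refine degNat_eq ?_
    have h' := hval χ 1 (one_mem H)
    rw [OneMemClass.coe_one] at h'
    rw [h', Nat.cast_add, Nat.cast_mul, Nat.cast_sum, Nat.cast_sum, Finset.mul_sum]
    congr 1
    refine Finset.sum_congr rfl fun i _ => ?_
    rw [hd1]; push_cast; ring
  -- an involution in the kernel
  obtain ⟨t, htH, ht2⟩ := SuzukiKernel.exists_invol K hP
  have htt : t * t = 1 := by rw [← pow_two, ← ht2, pow_orderOf_eq_one]
  have ht1 : t ≠ 1 := fun h' => by simp [h'] at ht2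
  set z : stabilizer G a := ⟨t, K.hHa htH⟩
  have hz : z ∈ SuzukiColumns.zset H a := SuzukiColumns.mem_zset.mpr ⟨htH, htt⟩
  have hz1 : z ≠ 1 := fun h' => ht1 (congrArg Subtype.val h')
  set v : Rel → ℤ := fun i => if d i = 1 then (e : ℤ) else -(d i : ℤ) with hvdef
  have hv : ∀ i : Rel, (i.1 : stabilizer G a → ℂ) z = (v i : ℂ) := by
    intro i
    rw [SuzukiColumns.col_value K hP hne i hz hz1, hvdef]
    simp only [d]
    split_ifs <;> simp
  set V : Cfsg.IrrCharacter G → ℤ := fun χ => (W χ : ℤ) + ∑ i : Rel, (c χ i.1 : ℤ) * v i with hVdef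
  have hV : ∀ χ : Cfsg.IrrCharacter G, (χ : G → ℂ) t = (V χ : ℂ) := by
    intro χ
    rw [show t = ((z : stabilizer G a) : G) from rfl, hval χ z htH, hVdef]
    push_cast
    simp only [hv]
  -- the orthogonality of the columns
  have hgram : ∀ i k : Rel, ∑ χ, (c χ i.1 : ℤ) * c χ k.1 =
      (if i = k then 1 else 0) + (e : ℤ) * ((d i : ℤ) * d k) := by
    intro i k
    have h' := K.classInner_ind_ind i.1.2 i.2 k.1.2 (hd1 i) (hd1 k)
    rw [classInner_eq_sum_irr (isClassFunction_indFun _ _) (isClassFunction_indFun _ _),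
      classInner_irr] at h'
    simp only [hcI, map_natCast] at h'
    have h2 : ((∑ χ, (c χ i.1 : ℤ) * c χ k.1 : ℤ) : ℂ) =
        (((if i = k then 1 else 0) + (e : ℤ) * ((d i : ℤ) * d k) : ℤ) : ℂ) := by
      push_cast
      rw [h']
      by_cases hik : i = k
      · subst hik; simp [mul_assoc]
      · rw [if_neg hik, if_neg fun h'' => hik (Subtype.ext h'')]; push_cast; ring
    exact_mod_cast h2
  have hsumd : e * ∑ i : Rel, d i ^ 2 + 1 = h := K.sum_redDeg
  -- constituents of the characters induced from the linear characters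
  have htrivNR : trivIrr (stabilizer G a) ∈ NR := by
    refine Finset.mem_filter.mpr ⟨Finset.mem_univ _, ?_⟩
    rintro ⟨k, -, hk⟩
    exact hk rfl
  set M := NR.erase (trivIrr (stabilizer G a)) with hMdef
  have hMcard : M.card + 1 = e := by
    rw [hMdef, Finset.card_erase_add_one htrivNR]
    exact K.nonrel.1
  obtain ⟨St, hSt⟩ : ∃ St : Cfsg.IrrCharacter G, Cfsg.indFun (stabilizer G a)
      (fun _ => (1 : ℂ)) - (fun _ => 1) = (St : G → ℂ) := by
    have hI1 : Cfsg.classInner (Cfsg.indFun (stabilizer G a) fun _ => (1 : ℂ)) (fun _ : G => 1) = 1 := by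
      rw [classInner_indFun _ _ (IsCharacter.isClassFunction isCharacter_one)]
      exact IsIrrCharacter.classInner_self isIrrCharacter_one
    obtain ⟨χ, hχ | hχ⟩ := IsGeneralizedCharacter.eq_pm_irr
      (IsGeneralizedCharacter.sub (IsCharacter.isGeneralizedCharacter
          (IsCharacter.indFun (stabilizer G a) isCharacter_one))
        (IsCharacter.isGeneralizedCharacter (isCharacter_one (G := G)))) (by
        rw [classInner_sub_left, classInner_sub_right, classInner_sub_right,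
          K.classInner_ind_trivial, hI1, ← classInner_conj_symm _ (fun _ : G => (1 : ℂ)),
          hI1, map_one, IsIrrCharacter.classInner_self isIrrCharacter_one]
        norm_num)
    · exact ⟨χ, hχ⟩
    · exfalso
      have h' := congrFun hχ 1
      simp only [Pi.sub_apply, Pi.neg_apply, indFun_one, hidx, apply_one_eq_degNat, mul_one] at h'
      have h2 : ((h + degNat χ : ℕ) : ℂ) = 0 := by push_cast at h' ⊢; linear_combination h'
      rw [Nat.cast_eq_zero] at h2
      omega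
  have hSt1 : degNat St = h := degNat_eq (by
    rw [← hSt]
    simp only [Pi.sub_apply, indFun_one, hidx]
    push_cast; ring)
  have hStu : ∀ u ∈ H, u ≠ 1 → (St : G → ℂ) u = 0 := by
    intro u hu hu1
    rw [← hSt]
    have h' := K.indFun_kernel (1 : stabilizer G a →* ℂˣ) (fun _ _ => rfl) hu hu1
    simp only [MonoidHom.one_apply, Units.val_one] at h'
    simp [h']
  have hStne : St ≠ trivIrr G := fun h' => by
    have h1 : degNat (trivIrr G) = 1 := degNat_eq (by simp [trivIrr])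
    rw [← h', hSt1] at h1
    omega
  have hMirr : ∀ μ ∈ M, Cfsg.IsIrrCharacter G
      (Cfsg.indFun (stabilizer G a) (μ : stabilizer G a → ℂ)) ∧
      ∀ u ∈ H, u ≠ 1 → Cfsg.indFun (stabilizer G a) (μ : stabilizer G a → ℂ) u = 1 := by
    intro μ hμ
    have hμ' := Finset.mem_of_mem_erase hμ
    refine K.irr_indFun ⟨irr_isCharacter μ, hNR1 μ hμ' 1 (one_mem H)⟩ (hNR1 μ hμ') ?_
    exact fun h' => Finset.ne_of_mem_erase hμ (Subtype.ext h')
  let Φ : {μ // μ ∈ M} → Cfsg.IrrCharacter G := fun μ => ⟨_, (hMirr μ.1 μ.2).1⟩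
  have hcone : ∀ χ, c χ (trivIrr (stabilizer G a)) =
      (if χ = trivIrr G then 1 else 0) + if χ = St then 1 else 0 := by
    intro χ
    have h' := hcI χ (trivIrr (stabilizer G a))
    have e1 : Cfsg.indFun (stabilizer G a) (trivIrr (stabilizer G a) : stabilizer G a → ℂ) =
        (trivIrr G : G → ℂ) + (St : G → ℂ) := by
      rw [← hSt]
      exact (add_sub_cancel (fun _ : G => (1 : ℂ)) _).symm
    rw [e1, classInner_add_left, classInner_irr, classInner_irr] at h'
    have h2 : ((c χ (trivIrr (stabilizer G a)) : ℕ) : ℂ) =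
        (((if χ = trivIrr G then 1 else 0) + if χ = St then 1 else 0 : ℕ) : ℂ) := by
      rw [← h']; simp only [eq_comm (a := χ)]; push_cast; ring
    exact_mod_cast h2
  have hcM : ∀ χ (μ : {μ // μ ∈ M}), c χ μ.1 = if χ = Φ μ then 1 else 0 := by
    intro χ μ
    have h' := hcI χ μ.1
    rw [show Cfsg.indFun (stabilizer G a) (μ.1 : stabilizer G a → ℂ) = (Φ μ : G → ℂ) from rfl,
      classInner_irr] at h'
    have h2 : ((c χ μ.1 : ℕ) : ℂ) = ((if χ = Φ μ then 1 else 0 : ℕ) : ℂ) := by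
      rw [← h']; simp only [eq_comm (a := χ)]; push_cast; ring
    exact_mod_cast h2
  have hconst : ∀ (χ : Cfsg.IrrCharacter G) (κ : ℕ),
      (∀ u ∈ H, u ≠ 1 → (χ : G → ℂ) u = (κ : ℂ)) → degNat χ = h + κ →
      ∀ i : Rel, c χ i.1 = d i := by
    intro χ κ hκ hdg i
    have h' := K.classInner_ind_const i.1.2 i.2 (irr_isClassFunction χ) hκ
    rw [hcI, hd1, apply_one_eq_degNat, hdg, Nat.cast_add, add_sub_cancel_right, map_natCast] at h'
    have h2 : ((c χ i.1 : ℕ) : ℂ) = ((d i : ℕ) : ℂ) := by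
      rw [h']; push_cast; field_simp
    exact_mod_cast h2
  have hWconst : ∀ (χ : Cfsg.IrrCharacter G) (κ : ℕ), (∀ i : Rel, c χ i.1 = d i) →
      degNat χ = h + κ → W χ = κ + 1 := by
    intro χ κ hc' hdg
    have h' := hdeg χ
    simp only [hc', ← pow_two] at h'
    omega
  have hctriv : ∀ i : Rel, c (trivIrr G) i.1 = 0 := by
    intro i
    have h' := hcI (trivIrr G) i.1
    rw [classInner_indFun _ _ (irr_isClassFunction _)] at h'
    simp only [trivIrr] at h'
    rw [IsIrrCharacter.classInner_ne i.1.2 isIrrCharacter_one] at h'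
    · exact_mod_cast h'.symm
    · intro h''
      obtain ⟨k, -, hk⟩ := i.2
      exact hk (by rw [h''])
  have hWtriv : W (trivIrr G) = 1 := by
    have h1 : degNat (trivIrr G) = 1 := degNat_eq (by simp [trivIrr])
    have h' := hdeg (trivIrr G)
    simp only [hctriv, mul_zero, Finset.sum_const_zero, add_zero] at h'
    omega
  have hcSt : ∀ i : Rel, c St i.1 = d i :=
    hconst St 0 (fun u hu hu1 => by rw [hStu u hu hu1, Nat.cast_zero]) hSt1
  have hWSt : W St = 1 := hWconst St 0 hcSt hSt1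
  have hΦ1 : ∀ μ, degNat (Φ μ) = h + 1 := fun μ => degNat_eq (by
    show Cfsg.indFun (stabilizer G a) _ 1 = _
    rw [indFun_one, hidx, hNR1 μ.1 (Finset.mem_of_mem_erase μ.2) 1 (one_mem H), mul_one])
  have hcΦ : ∀ μ, ∀ i : Rel, c (Φ μ) i.1 = d i := fun μ =>
    hconst (Φ μ) 1 (fun u hu hu1 => by rw [Nat.cast_one]; exact (hMirr μ.1 μ.2).2 u hu hu1) (hΦ1 μ)
  have hWΦ : ∀ μ, W (Φ μ) = 2 := fun μ => hWconst (Φ μ) 1 (hcΦ μ) (hΦ1 μ)
  have hW012 : ∀ χ, W χ = 0 ∨ W χ = 1 ∨ W χ = 2 := by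
    intro χ
    by_cases h0 : W χ = 0
    · exact Or.inl h0
    obtain ⟨μ, hμ, hμ0⟩ := Finset.exists_ne_zero_of_sum_ne_zero h0
    by_cases hμt : μ = trivIrr (stabilizer G a)
    · rw [hμt, hcone] at hμ0
      by_cases h1 : χ = trivIrr G
      · rw [h1, hWtriv]; simp
      · by_cases h2 : χ = St
        · rw [h2, hWSt]; simp
        · simp [h1, h2] at hμ0
    · have hμM : μ ∈ M := Finset.mem_erase.mpr ⟨hμt, hμ⟩
      rw [hcM χ ⟨μ, hμM⟩] at hμ0
      by_cases h1 : χ = Φ ⟨μ, hμM⟩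
      · rw [h1, hWΦ]; simp
      · simp [h1] at hμ0
  have hsum2 : ∀ F : Cfsg.IrrCharacter G → ℤ, 2 * ∑ χ, F χ =
      2 * ∑ χ : {χ // W χ = 0}, F χ.1 +
        (2 * F (trivIrr G) + 2 * F St + ∑ μ : {μ // μ ∈ M}, F (Φ μ)) := by
    intro F
    let k : Cfsg.IrrCharacter G → ℤ := fun χ => if W χ = 1 then 2 * F χ else F χ
    have h1 : ∀ χ, 2 * F χ = (if W χ = 0 then 2 * F χ else 0) + (W χ : ℤ) * k χ := by
      intro χ
      rcases hW012 χ with h' | h' | h' <;> simp [k, h']
    have h2 : ∑ χ, (W χ : ℤ) * k χ =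
        k (trivIrr G) + k St + ∑ μ : {μ // μ ∈ M}, k (Φ μ) := by
      simp only [hWdef, Nat.cast_sum, Finset.sum_mul]
      rw [Finset.sum_comm, ← Finset.add_sum_erase _ _ htrivNR]
      congr 1
      · simp only [hcone, Nat.cast_add, Nat.cast_ite, Nat.cast_one, Nat.cast_zero, add_mul,
          ite_mul, one_mul, zero_mul, Finset.sum_add_distrib, Finset.sum_ite_eq', Finset.mem_univ,
          if_true]
      · rw [← hMdef, Finset.sum_subtype M (fun _ => Iff.rfl)]
        refine Finset.sum_congr rfl fun μ _ => ?_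
        simp [hcM]
    have h3 : (∑ χ, if W χ = 0 then 2 * F χ else 0) =
        ∑ χ : {χ // W χ = 0}, 2 * F χ.1 := by
      rw [← Finset.sum_filter]
      exact Finset.sum_subtype _ (fun x => by simp) _
    rw [Finset.mul_sum, Finset.sum_congr rfl fun χ _ => h1 χ, Finset.sum_add_distrib, h2, h3,
      Finset.mul_sum]
    simp only [k, hWtriv, hWSt, hWΦ, if_true, OfNat.ofNat_ne_one, if_false]
  -- square roots
  obtain ⟨ν, hν, hν1, hFS⟩ := exists_indicator (G := G)
  have hroot1 : ∑ χ, ν χ * (degNat χ : ℤ) = (e : ℤ) * ((h : ℤ) + 1) + 1 := by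
    have h' := hFS 1
    rw [SuzukiKernel.card_roots_one K hP hne] at h'
    simp only [apply_one_eq_degNat] at h'
    exact_mod_cast h'
  obtain ⟨r, hr, hrt⟩ : ∃ r : ℕ, (∑ χ, ν χ * V χ = (r : ℤ)) ∧ e * r + (e + 1) = h := by
    refine ⟨_, ?_, SuzukiKernel.card_roots K hP hne htH ht1 htt⟩
    have h' := hFS t
    simp only [hV] at h'
    exact_mod_cast h'
  -- the columns
  obtain ⟨j, hj⟩ := K.hodd
  set Lc := {i : Rel // d i = 1}
  set Mc := {i : Rel // ¬ d i = 1}
  have hsplitc : ∀ f : Rel → ℤ, ∑ i, f i = ∑ i : Lc, f i.1 + ∑ i : Mc, f i.1 := fun f =>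
    (Fintype.sum_subtype_add_sum_subtype (fun i : Rel => d i = 1) f).symm
  have hregz : ∑ i : Rel, ((e * d i : ℕ) : ℤ) * v i = -(e : ℤ) := by
    have h' := frob_sum_relevant (H.subgroupOf (stabilizer G a)) z
    rw [Finset.sum_subtype (p := fun χ : Cfsg.IrrCharacter (stabilizer G a) => IsRelevant
      (H.subgroupOf (stabilizer G a)) (χ : stabilizer G a → ℂ)) _ (fun x => by simp),
      if_neg hz1, if_pos (Subgroup.mem_subgroupOf.mpr htH), K.index_kernel, zero_sub] at h'
    have h2 : ((∑ i : Rel, ((e * d i : ℕ) : ℤ) * v i : ℤ) : ℂ) = ((-(e : ℤ) : ℤ) : ℂ) := by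
      push_cast
      rw [← h']
      exact Finset.sum_congr rfl fun i _ => by rw [hd1, hv, Nat.cast_mul]
    exact_mod_cast h2
  have hdL : ∀ i : Lc, d i.1 = 1 := fun i => i.2
  have hvL : ∀ i : Lc, v i.1 = (e : ℤ) := fun i => by simp only [hvdef, if_pos (hdL i)]
  have hvM : ∀ i : Mc, v i.1 = -(d i.1 : ℤ) := fun i => by simp only [hvdef, if_neg i.2]
  rw [hsplitc] at hregz
  simp only [hvL, hvM, hdL, mul_one, Finset.sum_const, Finset.card_univ, nsmul_eq_mul] at hregz
  obtain ⟨i₀⟩ : Nonempty Mc := by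
    by_contra hM0
    rw [not_nonempty_iff] at hM0
    rw [Fintype.sum_empty, add_zero] at hregz
    have : (0 : ℤ) ≤ (Fintype.card Lc : ℤ) * ((e : ℤ) * e) := by positivity
    omega
  set d₀ := d i₀.1
  have hd₀ : ∀ i : Mc, d i.1 = d₀ := fun i =>
    SuzukiColumns.col_uniform K hP hne i.1 i₀.1 i.2 i₀.2
  have hd₀2 : 2 ≤ d₀ := by
    have h1 : 0 < d₀ := (redDeg_spec (H.subgroupOf (stabilizer G a)) K.hC i₀.1).2.1
    have := i₀.2
    omega
  set L := Fintype.card Lc
  set N := Fintype.card Mc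
  have hNd : (N : ℤ) * (d₀ : ℤ) ^ 2 = (e : ℤ) * L + 1 := by
    simp only [hd₀, Nat.cast_mul, Finset.sum_const, Finset.card_univ, nsmul_eq_mul] at hregz
    refine mul_left_cancel₀ (Nat.cast_ne_zero.mpr (show e ≠ 0 by omega)) ?_
    linear_combination -hregz
  have hhL : (h : ℤ) = ((e : ℤ) + 1) * ((e : ℤ) * L + 1) := by
    have h' : (e : ℤ) * ∑ i : Rel, (d i : ℤ) ^ 2 + 1 = (h : ℤ) := by exact_mod_cast hsumd
    rw [hsplitc] at h'
    simp only [hdL, hd₀, Nat.cast_one, one_pow, Finset.sum_const, Finset.card_univ, nsmul_eq_mul,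
      mul_one] at h'
    linear_combination -h' + (e : ℤ) * hNd
  have hrL : (r : ℤ) = ((e : ℤ) + 1) * L := by
    have h' : (e : ℤ) * r + ((e : ℤ) + 1) = h := by exact_mod_cast hrt
    refine mul_left_cancel₀ (Nat.cast_ne_zero.mpr (show e ≠ 0 by omega)) ?_
    linear_combination h' + hhL
  -- the rows
  set X := {χ : Cfsg.IrrCharacter G // W χ = 0}
  set A : Lc → X → ℤ := fun i x => (c x.1 i.1.1 : ℤ) with hAdef
  set Bc : Mc → X → ℤ := fun i x => (c x.1 i.1.1 : ℤ) with hBdef
  set m : X → ℤ := fun x => ∑ i, A i x + (d₀ : ℤ) * ∑ i, Bc i x with hmdef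
  have hmd : ∀ x : X, (degNat x.1 : ℤ) = (e : ℤ) * m x := by
    intro x
    rw [hdeg x.1, x.2, zero_add]
    push_cast
    congr 1
    rw [hsplitc]
    simp only [hmdef, hAdef, hBdef, hdL, hd₀, Nat.cast_one, one_mul, Finset.mul_sum]
  have hmV : ∀ x : X, V x.1 = ((e : ℤ) + 1) * ∑ i, A i x - m x := by
    intro x
    rw [hVdef]
    simp only [x.2, Nat.cast_zero, zero_add]
    rw [hsplitc]
    simp only [hvL, hvM, hd₀, hmdef, hAdef, hBdef, mul_neg, Finset.sum_neg_distrib, ← Finset.sum_mul]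
    ring
  have hpos : ∀ x, 0 < m x := fun x => by
    have h1 : 0 < (degNat x.1 : ℤ) := by exact_mod_cast degNat_pos x.1
    rw [hmd] at h1
    exact (mul_pos_iff_of_pos_left (by exact_mod_cast (show 0 < e by omega))).mp h1
  have hker : ∀ x : X, ∃ i, Bc i x ≠ 0 := by
    intro x
    by_contra hall
    push Not at hall
    have hm' : m x = ∑ i, A i x := by simp [hmdef, hall]
    have h1 : (x.1 : G → ℂ) t = (x.1 : G → ℂ) 1 := by
      rw [hV, apply_one_eq_degNat, ← Int.cast_natCast (R := ℂ) (degNat x.1), hmV, hmd, ← hm']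
      push_cast
      ring
    have hne1 : (x.1 : G → ℂ) ≠ fun _ => 1 := fun h' => by
      have := x.2
      rw [show x.1 = trivIrr G from Subtype.ext h', hWtriv] at this
      exact one_ne_zero this
    exact ht1 (IsCharacter.eq_one_of_isSimpleGroup (irr_isCharacter x.1)
      (IsIrrCharacter.exists_ne_apply_one x.1.2 hne1) h1)
  have hdvd : ∀ x, m x ∣ (h : ℤ) * ((h : ℤ) + 1) := by
    intro x
    obtain ⟨nn, -, hnn, hdiv⟩ := IsIrrCharacter.exists_degree_dvd x.1.2
    rw [← degNat_eq hnn, K.card_group] at hdiv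
    have h1 : (e : ℤ) * m x ∣ (e : ℤ) * ((h : ℤ) * ((h : ℤ) + 1)) := by
      rw [← hmd]
      have h2 := Int.natCast_dvd_natCast.mpr hdiv
      push_cast at h2
      convert h2 using 1
      ring
    exact Int.dvd_of_mul_dvd_mul_left (Nat.cast_ne_zero.mpr (show e ≠ 0 by omega)) h1
  have hXgram : ∀ i k : Rel, ∑ x : X, (c x.1 i.1 : ℤ) * c x.1 k.1 =
      (if i = k then 1 else 0) + (j : ℤ) * ((d i : ℤ) * d k) := by
    intro i k
    have h' := hsum2 (fun χ => (c χ i.1 : ℤ) * c χ k.1)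
    simp only [hgram, hctriv, hcSt, hcΦ, Nat.cast_zero, mul_zero, zero_add, Finset.sum_const,
      Finset.card_univ, Fintype.card_coe, nsmul_eq_mul] at h'
    have hM2 : (M.card : ℤ) = 2 * j := by exact_mod_cast (show M.card = 2 * j by omega)
    rw [hM2, hj] at h'
    push_cast at h'
    refine mul_left_cancel₀ (two_ne_zero (α := ℤ)) ?_
    linear_combination -h'
  have haa : ∀ i k : Lc, ∑ x, A i x * A k x = (if i = k then 1 else 0) + (j : ℤ) := by
    intro i k
    rw [hAdef, hXgram, i.2, k.2]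
    by_cases hik : i = k
    · subst hik; simp
    · rw [if_neg hik, if_neg fun h' => hik (Subtype.ext h')]; simp
  have hab : ∀ (i : Lc) (k : Mc), ∑ x, A i x * Bc k x = (j : ℤ) * d₀ := by
    intro i k
    rw [hAdef, hBdef, hXgram, i.2, hd₀, if_neg (show i.1 ≠ k.1 from fun h' => k.2 (h' ▸ (i.2 : d i.1 = 1)))]
    simp
  have hbb : ∀ i k : Mc, ∑ x, Bc i x * Bc k x = (if i = k then 1 else 0) + (j : ℤ) * (d₀ : ℤ) ^ 2 := by
    intro i k
    rw [hBdef, hXgram, hd₀, hd₀, pow_two]
    by_cases hik : i = k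
    · subst hik; simp
    · rw [if_neg hik, if_neg fun h' => hik (Subtype.ext h')]
  -- the two equations
  set S := ∑ x : X, ν x.1 * ∑ i, A i x
  set T := ∑ x : X, ν x.1 * m x
  set s := ν St
  set P2 := ∑ μ : {μ // μ ∈ M}, ν (Φ μ) with hP2def
  have hE2 : 2 * ((e : ℤ) * ((h : ℤ) + 1) + 1) =
      2 * ((e : ℤ) * T) + (2 + 2 * (s * h) + P2 * ((h : ℤ) + 1)) := by
    rw [← hroot1, hsum2]
    have h1 : (degNat (trivIrr G) : ℤ) = 1 := by
      exact_mod_cast degNat_eq (φ := trivIrr G) (n := 1) (by simp [trivIrr])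
    simp only [h1, hν1, hSt1, hΦ1, hmd, mul_left_comm (ν _) (e : ℤ), ← Finset.mul_sum, mul_one]
    push_cast
    rw [← Finset.sum_mul]
  have hVtriv : V (trivIrr G) = 1 := by simp [hVdef, hWtriv, hctriv]
  have hVSt : V St = 0 := by
    have h1 := hV St
    rw [hStu t htH ht1] at h1
    exact_mod_cast h1.symm
  have hVΦ : ∀ μ, V (Φ μ) = 1 := fun μ => by
    have h1 := hV (Φ μ)
    rw [show (Φ μ : G → ℂ) t = 1 from (hMirr μ.1 μ.2).2 t htH ht1] at h1
    exact_mod_cast h1.symm
  have hz2 : 2 * (((e : ℤ) + 1) * L) = 2 * (((e : ℤ) + 1) * S - T) + (2 + P2) := by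
    rw [← hrL, ← hr, hsum2]
    simp only [hVtriv, hν1, hVSt, hVΦ, hmV, mul_sub, Finset.sum_sub_distrib,
      mul_left_comm (ν _) ((e : ℤ) + 1), ← Finset.mul_sum, mul_one, mul_zero, add_zero]
    rfl
  set p := ((e : ℤ) + 1) * L - 1 - ((e : ℤ) + 1) * S + T with hpdef
  have hP2 : P2 = 2 * p := by rw [hpdef]; linear_combination -hz2
  have hej : (e : ℤ) = 2 * j + 1 := by exact_mod_cast hj
  have hp : p ≤ j := by
    have h1 : P2 ≤ ∑ _μ : {μ // μ ∈ M}, (1 : ℤ) :=
      Finset.sum_le_sum fun μ _ => int_le_one_of_abs (hν _)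
    rw [Finset.sum_const, Finset.card_univ, Fintype.card_coe, nsmul_eq_mul, mul_one] at h1
    have h2 : (M.card : ℤ) + 1 = e := by exact_mod_cast hMcard
    omega
  have hs : s ≤ 1 := int_le_one_of_abs (hν _)
  have hE : 1 + (h : ℤ) * s + ((h : ℤ) + 1) * p + (2 * (j : ℤ) + 1) * T =
      (2 * (j : ℤ) + 1) * ((h : ℤ) + 1) + 1 := by
    refine mul_left_cancel₀ (two_ne_zero (α := ℤ)) ?_
    rw [hP2, hej] at hE2
    linear_combination -hE2
  have hzz : 1 + p + ((e : ℤ) + 1) * S - T = ((e : ℤ) + 1) * L := by rw [hpdef]; ring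
  have hj1 : (1 : ℤ) ≤ j := by omega
  have hq : (e : ℤ) + 1 = 2 * j + 2 := by omega
  rcases SuzukiKernel.h_cases K hP hne with hh | hh
  · -- the square case
    have hhZ : (h : ℤ) = ((e : ℤ) + 1) ^ 2 := by exact_mod_cast hh
    have hL1 : (L : ℤ) = 1 := by
      have h1 : (e : ℤ) * L + 1 = (e : ℤ) + 1 :=
        mul_left_cancel₀ (show ((e : ℤ) + 1) ≠ 0 by omega) (by linear_combination hhZ - hhL)
      exact mul_left_cancel₀ (Nat.cast_ne_zero.mpr (show e ≠ 0 by omega)) (by linarith)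
    have hNd' : (N : ℤ) * (d₀ : ℤ) ^ 2 = (e : ℤ) + 1 := by rw [hNd, hL1, mul_one]
    have hNdn : N * d₀ ^ 2 = e + 1 := by exact_mod_cast hNd'
    obtain ⟨n, hn⟩ := IsPGroup.iff_card.mp (hP.to_subgroup (Subgroup.center H))
    rw [SuzukiKernel.card_center K hP hne] at hn
    obtain ⟨kN, -, hkN⟩ := (Nat.dvd_prime_pow Nat.prime_two).mp (Dvd.intro _ (hNdn.trans hn))
    obtain ⟨k, -, hk⟩ := (Nat.dvd_prime_pow Nat.prime_two).mp
      ((dvd_pow_self d₀ two_ne_zero).trans (Dvd.intro_left N (hNdn.trans hn)))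
    rcases kN with _ | _ | kN
    · exact (SuzukiColumns.col_single K hP hne i₀.1 i₀.2 hh
        (by rw [← hNdn, hkN, pow_zero, one_mul])).elim
    · refine ⟨n, ?_, ?_, hn, hh⟩
      all_goals
        have h1 : 2 ^ n = 2 ^ (2 * k + 1) := by
          rw [← hn, ← hNdn, hkN, hk, ← pow_mul, ← pow_add]
          congr 1
          ring
        have hnk := Nat.pow_right_injective le_rfl h1
      · exact ⟨k, by omega⟩
      · rcases k with _ | k
        · rw [hk] at hd₀2; norm_num at hd₀2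
        · omega
    · exfalso
      have hN4 : 4 ≤ Fintype.card Mc := by
        show 4 ≤ N
        rw [hkN, pow_succ, pow_succ]
        have := Nat.one_le_two_pow (n := kN)
        omega
      obtain ⟨l₀, hl₀⟩ := Fintype.card_eq_one_iff.mp (show Fintype.card Lc = 1 by exact_mod_cast hL1)
      have hAsum : ∀ x, ∑ i, A i x = A l₀ x := fun x =>
        Fintype.sum_eq_single l₀ fun i hi => absurd (hl₀ i) hi
      refine SuzukiMatrix.square_false (j := (j : ℤ)) (d := (d₀ : ℤ)) hq hj1 (by exact_mod_cast hd₀2)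
        hN4 hNd' (A l₀) Bc m (fun x => ν x.1) (fun x => hν x.1) (fun x => Int.natCast_nonneg _)
        (fun x => by rw [← hAsum, hmdef]) hpos (fun x => hhZ ▸ hdvd x)
        (by rw [haa, if_pos rfl]) (fun i => hab l₀ i) hbb hs hp (by rw [hhZ] at hE; exact hE) ?_
      rw [hL1, mul_one] at hzz
      simpa only [S, hAsum] using hzz
  · -- the cube case
    exfalso
    have hhZ : (h : ℤ) = ((e : ℤ) + 1) ^ 3 := by exact_mod_cast hh
    have hLq : (L : ℤ) = ((e : ℤ) + 1) + 1 := by
      have h1 : (e : ℤ) * L + 1 = ((e : ℤ) + 1) ^ 2 :=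
        mul_left_cancel₀ (show ((e : ℤ) + 1) ≠ 0 by omega) (by linear_combination hhZ - hhL)
      exact mul_left_cancel₀ (Nat.cast_ne_zero.mpr (show e ≠ 0 by omega))
        (by linear_combination h1)
    have hNd' : (N : ℤ) * (d₀ : ℤ) ^ 2 = ((e : ℤ) + 1) ^ 2 := by
      rw [hNd, hLq]; ring
    refine SuzukiMatrix.cube_false (j := (j : ℤ)) (d := (d₀ : ℤ)) hq hj1 (by exact_mod_cast hd₀2)
      hLq hNd' A Bc m (fun x => ν x.1) (fun x => hν x.1) (fun i x => Int.natCast_nonneg _)
      (fun x => by rw [hmdef]) hpos hker haa hab hbb hs hp (by rw [hhZ] at hE; exact hE) ?_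
    rw [hLq] at hzz
    exact hzz

omit [Fintype (stabilizer G a)] [Fintype (H.subgroupOf (stabilizer G a))]
  [(H.subgroupOf (stabilizer G a)).Normal] [Fintype G] [DecidableEq G] in
/-- In the nonabelian 2-group case the kernel has order `q²` and `q` is an odd power of two. -/
theorem numerics [Finite G] (K : ZKer G a b h e H) (hP : IsPGroup 2 H)
    (hne : ∃ x y : H, x * y ≠ y * x) :
    ∃ n : ℕ, Odd n ∧ 1 < n ∧ e + 1 = 2 ^ n ∧ h = (e + 1) ^ 2 := by
  classical
  letI := Fintype.ofFinite G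
  letI := Fintype.ofFinite (stabilizer G a)
  letI := Fintype.ofFinite (H.subgroupOf (stabilizer G a))
  haveI := K.normal
  letI := Fintype.ofFinite (Cfsg.IrrCharacter G)
  letI := Fintype.ofFinite (Cfsg.IrrCharacter (stabilizer G a))
  letI := Fintype.ofFinite (Cfsg.IrrCharacter (H.subgroupOf (stabilizer G a)))
  exact numerics_aux K hP hne

end Cfsg.Agent.Lib.OddLocal.SuzukiChars
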