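import Cfsg.Agent.Lib.OddLocal.SuzukiKernel
import Cfsg.Agent.Lib.Characters.AbelianTI
import Cfsg.Agent.Lib.Characters.FrobeniusSchur

/-!
# Characters of the point stabilizer that are nontrivial on a nonabelian 2-group kernel
-/

set_option autoImplicit false
set_option linter.unusedSectionVars false
set_option linter.style.haveILetI false

namespace Cfsg.Agent.Lib.OddLocal.SuzukiColumns

open MulAction
open Cfsg.Agent.Lib.Characters
open Cfsg.Agent.Lib.Characters.ZOdd
open Cfsg.Agent.Lib.OddLocal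
open scoped ComplexConjugate

universe u v

/-- In a group of class two the square of the degree times the order of the radical of the central
character is the group order; outside the radical the character vanishes. -/
theorem deg_sq_mul {P : Type u} [Group P] [Fintype P] {φ : P → ℂ} (hφ : Cfsg.IsIrrCharacter P φ)
    (hc : ∀ x y : P, y * x * y⁻¹ * x⁻¹ ∈ Subgroup.center P) {d : ℕ} (hd : φ 1 = (d : ℂ)) :
    d ^ 2 * Nat.card {x : P // ∀ y, φ (y * x * y⁻¹ * x⁻¹) = φ 1} = Nat.card P ∧
      ∀ x, ¬ (∀ y, φ (y * x * y⁻¹ * x⁻¹) = φ 1) → φ x = 0 := by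
  classical
  have hvan : ∀ x, ¬ (∀ y, φ (y * x * y⁻¹ * x⁻¹) = φ 1) → φ x = 0 := by
    intro x hx
    push Not at hx
    obtain ⟨y, hy⟩ := hx
    obtain ⟨ω, -, hω⟩ := IsIrrCharacter.exists_central_value hφ (hc x y)
    have h1 : φ x = ω * φ x := by
      rw [← hω, Subgroup.mem_center_iff.mp (hc x y) x, inv_mul_cancel_right]
      exact (IsCharacter.conj_apply (IsIrrCharacter.isCharacter hφ) x y).symm
    have h2 : ω ≠ 1 := fun h => hy (by simpa [h] using hω 1)
    have h3 : (ω - 1) * φ x = 0 := by linear_combination -h1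
    exact (mul_eq_zero.mp h3).resolve_left (sub_ne_zero.mpr h2)
  refine ⟨?_, hvan⟩
  have hval : ∀ x, (∀ y, φ (y * x * y⁻¹ * x⁻¹) = φ 1) → φ x * conj (φ x) = (d : ℂ) ^ 2 := by
    intro x hx
    obtain ⟨m, ρ, hρ, rfl⟩ := hφ
    have hcomm : ∀ y, ρ x * ρ y = ρ y * ρ x := by
      intro y
      have h1 : ρ (y * x * y⁻¹ * x⁻¹) = 1 :=
        (char_eq_finrank_iff ρ _).mp ((hx y).trans ρ.char_one)
      have h2 : ρ (y * x * y⁻¹ * x⁻¹) * (ρ x * ρ y) = ρ y * ρ x := by
        rw [← map_mul, ← map_mul, ← map_mul]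
        congr 1
        group
      rwa [h1, one_mul] at h2
    obtain ⟨μ, hμ⟩ := exists_smul_of_commute ρ (ρ x) hcomm
    have h1 := rep_pow_card ρ x
    rw [hμ, ← Module.End.one_eq_id, smul_pow, one_pow] at h1
    have h2 := congrArg (LinearMap.trace ℂ (Fin m → ℂ)) h1
    rw [map_smul, LinearMap.trace_one, smul_eq_mul] at h2
    have hd0 : ((Module.finrank ℂ (Fin m → ℂ) : ℕ) : ℂ) ≠ 0 :=
      Nat.cast_ne_zero.mpr (finrank_pos_of_isIrreducible ρ).ne'
    have hn := norm_eq_one_of_pow_eq_one' Nat.card_pos.ne' (mul_eq_right₀ hd0 |>.mp h2)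
    have hx' : ρ.character x = μ * (d : ℂ) := by
      rw [← hd, ρ.char_one]
      simp only [Representation.character, hμ, ← Module.End.one_eq_id, map_smul, LinearMap.trace_one,
        smul_eq_mul]
    rw [hx', map_mul, Complex.conj_natCast,
      show μ * (d : ℂ) * (conj μ * d) = μ * conj μ * (d : ℂ) ^ 2 by ring, Complex.mul_conj',
      hn, Complex.ofReal_one, one_pow, one_mul]
  have h1 := IsIrrCharacter.classInner_self hφ
  rw [Cfsg.classInner, Finset.sum_congr rfl (g := fun x =>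
    if ∀ y, φ (y * x * y⁻¹ * x⁻¹) = φ 1 then (d : ℂ) ^ 2 else 0) fun x _ => ?_] at h1
  · rw [← Finset.sum_filter, Finset.sum_const, ← Fintype.card_subtype, ← Nat.card_eq_fintype_card,
      nsmul_eq_mul, inv_mul_eq_one₀ natCard_ne_zero_complex] at h1
    rw [mul_comm]
    exact_mod_cast h1.symm
  · split_ifs with hx
    · exact hval x hx
    · rw [hvan x hx, zero_mul]

variable {G : Type u} [Group G] [Fintype G] [DecidableEq G] [IsSimpleGroup G] {Ω : Type v}
  [MulAction G Ω] [Fintype Ω] {a b : Ω} {h e : ℕ} {H : Subgroup G} [Fintype (stabilizer G a)]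
  [Fintype (H.subgroupOf (stabilizer G a))] [(H.subgroupOf (stabilizer G a)).Normal]

/-- The elements of exponent two of the kernel. -/
noncomputable def zset (H : Subgroup G) (a : Ω) [Fintype (stabilizer G a)] :
    Finset (stabilizer G a) :=
  haveI := Classical.decPred fun z : stabilizer G a => (z : G) ∈ H
  Finset.univ.filter fun z => (z : G) ∈ H ∧ (z : G) * (z : G) = 1

omit [IsSimpleGroup G] [Fintype (H.subgroupOf (stabilizer G a))]
  [(H.subgroupOf (stabilizer G a)).Normal] in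
theorem mem_zset {z : stabilizer G a} : z ∈ zset H a ↔ (z : G) ∈ H ∧ (z : G) * (z : G) = 1 := by
  simp [zset]

variable (K : ZKer G a b h e H) (hP : IsPGroup 2 H) (hne : ∃ x y : H, x * y ≠ y * x)
include K hP hne

theorem card_zset : (zset H a).card = e + 1 := by
  rw [← SuzukiKernel.card_center K hP hne, ← Nat.card_eq_finsetCard]
  refine Nat.card_congr
    { toFun := fun z => ⟨⟨(z.1 : G), (mem_zset.mp z.2).1⟩,
        (SuzukiKernel.mem_center_iff K hP hne _).mpr (Subtype.ext (mem_zset.mp z.2).2)⟩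
      invFun := fun x => ⟨⟨((x : H) : G), K.hHa (x : H).2⟩, mem_zset.mpr ⟨(x : H).2,
        congrArg Subtype.val ((SuzukiKernel.mem_center_iff K hP hne x).mp x.2)⟩⟩
      left_inv := fun _ => rfl
      right_inv := fun _ => rfl }

theorem conj_mem_zset (x : stabilizer G a) {z : stabilizer G a} (hz : z ∈ zset H a) :
    x⁻¹ * z * x ∈ zset H a := by
  obtain ⟨hzH, hz2⟩ := mem_zset.mp hz
  refine mem_zset.mpr ⟨?_, ?_⟩
  · simpa using K.conj_mem (g := ((x⁻¹ : stabilizer G a) : G)) (x⁻¹).2 hzH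
  · simp only [Subgroup.coe_mul, Subgroup.coe_inv]
    calc _ = (x : G)⁻¹ * ((z : G) * z) * x := by group
      _ = 1 := by rw [hz2]; group

theorem zset_mul {z t : stabilizer G a} (hz : z ∈ zset H a) (ht : t ∈ zset H a) :
    z * t ∈ zset H a := by
  obtain ⟨hzH, hz2⟩ := mem_zset.mp hz
  obtain ⟨htH, ht2⟩ := mem_zset.mp ht
  refine mem_zset.mpr ⟨mul_mem hzH htH, ?_⟩
  simp only [Subgroup.coe_mul]
  have hc := SuzukiKernel.invol_commute K hP hne htH ht2 hzH
  calc (z : G) * t * (z * t) = z * ((t : G) * z) * t := by group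
    _ = (z : G) * z * (t * t) := by rw [← hc]; group
    _ = 1 := by rw [hz2, ht2, one_mul]

theorem sum_zset_conj (x : stabilizer G a) (f : stabilizer G a → ℂ) :
    ∑ z ∈ zset H a, f (x⁻¹ * z * x) = ∑ z ∈ zset H a, f z :=
  Finset.sum_nbij' (fun z => x⁻¹ * z * x) (fun z => x * z * x⁻¹)
    (fun z hz => conj_mem_zset K hP hne x hz)
    (fun z hz => by simpa using conj_mem_zset K hP hne x⁻¹ hz)
    (fun z _ => by group) (fun z _ => by group) (fun _ _ => rfl)

/-- A character of the point stabilizer is constant on the involutions of the kernel. -/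
theorem apply_invol {χ : stabilizer G a → ℂ} (hχ : Cfsg.IsClassFunction (stabilizer G a) χ)
    {z t : stabilizer G a} (hz : z ∈ zset H a) (hz1 : z ≠ 1) (ht : t ∈ zset H a) (ht1 : t ≠ 1) :
    χ t = χ z := by
  obtain ⟨hzH, hz2⟩ := mem_zset.mp hz
  obtain ⟨htH, ht2⟩ := mem_zset.mp ht
  obtain ⟨g, hg, hgz⟩ := SuzukiKernel.conj_trans K hP hzH (fun h => hz1 (Subtype.ext h)) hz2 htH
    (fun h => ht1 (Subtype.ext h)) ht2
  rw [show t = ⟨g, (mem_inf_stabilizer.mp hg).1⟩ * z * (⟨g, (mem_inf_stabilizer.mp hg).1⟩)⁻¹ from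
    Subtype.ext hgz.symm]
  exact hχ z _

theorem mem_center_sub {z : H.subgroupOf (stabilizer G a)} (hz : (z : stabilizer G a) ∈ zset H a) :
    z ∈ Subgroup.center (H.subgroupOf (stabilizer G a)) :=
  Subgroup.mem_center_iff.mpr fun y => Subtype.ext (Subtype.ext
    (SuzukiKernel.invol_commute K hP hne (mem_zset.mp hz).1 (mem_zset.mp hz).2
      (Subgroup.mem_subgroupOf.mp y.2)))

theorem comm_mem_zset (x y : H.subgroupOf (stabilizer G a)) :
    ((y * x * y⁻¹ * x⁻¹ : H.subgroupOf (stabilizer G a)) : stabilizer G a) ∈ zset H a :=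
  mem_zset.mpr ⟨Subgroup.mem_subgroupOf.mp (y * x * y⁻¹ * x⁻¹).2, by
    simpa using SuzukiKernel.comm_invol K hP hne (Subgroup.mem_subgroupOf.mp x.2)
      (Subgroup.mem_subgroupOf.mp y.2)⟩

variable {φ : H.subgroupOf (stabilizer G a) → ℂ}
  (hφ : Cfsg.IsIrrCharacter (H.subgroupOf (stabilizer G a)) φ)
include hφ

/-- The central character takes the values `±1`. -/
theorem central_sign {z : H.subgroupOf (stabilizer G a)}
    (hz : (z : stabilizer G a) ∈ zset H a) :
    ∃ ω : ℂ, (ω = 1 ∨ ω = -1) ∧ ∀ y, φ (y * z) = ω * φ y := by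
  obtain ⟨ω, -, hω⟩ := IsIrrCharacter.exists_central_value hφ (mem_center_sub K hP hne hz)
  refine ⟨ω, ?_, hω⟩
  have h1 := hω z
  have h2 : φ z = ω * φ 1 := by simpa using hω 1
  rw [show z * z = 1 from Subtype.ext (Subtype.ext (mem_zset.mp hz).2), h2] at h1
  have h3 : (ω * ω - 1) * φ 1 = 0 := by linear_combination -h1
  exact mul_self_eq_one_iff.mp (sub_eq_zero.mp
    ((mul_eq_zero.mp h3).resolve_right (IsIrrCharacter.apply_one_ne_zero hφ)))

theorem zset_mem_sub {z : stabilizer G a} (hz : z ∈ zset H a) :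
    z ∈ H.subgroupOf (stabilizer G a) :=
  Subgroup.mem_subgroupOf.mpr (mem_zset.mp hz).1

theorem sum_zset_cases {d : ℕ} (hd : φ 1 = (d : ℂ)) :
    (∀ z (hz : z ∈ zset H a), φ ⟨z, zset_mem_sub K hP hne hφ hz⟩ = φ 1) ∧
        ∑ z ∈ zset H a, Cfsg.extendByZero _ φ z = ((e + 1) * d : ℕ) ∨
      (∃ z, ∃ hz : z ∈ zset H a, φ ⟨z, zset_mem_sub K hP hne hφ hz⟩ ≠ φ 1) ∧
        ∑ z ∈ zset H a, Cfsg.extendByZero _ φ z = 0 := by
  classical
  by_cases htriv : ∀ z (hz : z ∈ zset H a), φ ⟨z, zset_mem_sub K hP hne hφ hz⟩ = φ 1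
  · refine Or.inl ⟨htriv, ?_⟩
    rw [Finset.sum_congr rfl (g := fun _ => (d : ℂ)) fun z hz => by
      rw [extendByZero_of_mem _ _ (zset_mem_sub K hP hne hφ hz), htriv z hz, hd],
      Finset.sum_const, card_zset K hP hne, nsmul_eq_mul, Nat.cast_mul]
  · push Not at htriv
    obtain ⟨z₀, hz₀, hz₀'⟩ := htriv
    refine Or.inr ⟨⟨z₀, hz₀, hz₀'⟩, ?_⟩
    obtain ⟨ω, -, hω⟩ := central_sign K hP hne hφ (z := ⟨z₀, zset_mem_sub K hP hne hφ hz₀⟩) hz₀
    have hω1 : ω ≠ 1 := fun h' => hz₀' (by simpa [h'] using hω 1)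
    have hinv : z₀ * z₀ = 1 := Subtype.ext (mem_zset.mp hz₀).2
    have h1 : ∑ z ∈ zset H a, Cfsg.extendByZero _ φ z =
        ω * ∑ z ∈ zset H a, Cfsg.extendByZero _ φ z := by
      rw [Finset.mul_sum]
      refine (Finset.sum_nbij' (fun z => z * z₀) (fun z => z * z₀)
        (fun z hz => zset_mul K hP hne hz hz₀) (fun z hz => zset_mul K hP hne hz hz₀)
        (fun z _ => by rw [mul_assoc, hinv, mul_one]) (fun z _ => by rw [mul_assoc, hinv, mul_one])
        fun z hz => ?_).symm
      rw [extendByZero_of_mem _ _ (zset_mem_sub K hP hne hφ hz),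
        extendByZero_of_mem _ _ (zset_mem_sub K hP hne hφ (zset_mul K hP hne hz hz₀))]
      exact (hω ⟨z, _⟩).symm
    have h2 : (ω - 1) * ∑ z ∈ zset H a, Cfsg.extendByZero _ φ z = 0 := by linear_combination -h1
    exact (mul_eq_zero.mp h2).resolve_left (sub_ne_zero.mpr hω1)

/-- The degree is one iff the elements of exponent two are in the kernel. -/
theorem deg_one_iff {d : ℕ} (hd : φ 1 = (d : ℂ)) :
    d = 1 ↔ ∀ z (hz : z ∈ zset H a), φ ⟨z, zset_mem_sub K hP hne hφ hz⟩ = φ 1 := by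
  constructor
  · intro h1 z hz
    subst h1
    obtain ⟨lam, hlam⟩ := IsCharacter.exists_hom_of_apply_one (IsIrrCharacter.isCharacter hφ)
      (by rw [hd, Nat.cast_one])
    by_cases hz1 : z = 1
    · subst hz1; rfl
    obtain ⟨x, hx, y, hy, hxy⟩ := SuzukiKernel.exists_comm K hP hne (mem_zset.mp hz).1
      (fun h' => hz1 (Subtype.ext h')) (mem_zset.mp hz).2
    have e1 : (⟨z, zset_mem_sub K hP hne hφ hz⟩ : H.subgroupOf (stabilizer G a)) =
        ⟨⟨y, K.hHa hy⟩, Subgroup.mem_subgroupOf.mpr hy⟩ * ⟨⟨x, K.hHa hx⟩,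
          Subgroup.mem_subgroupOf.mpr hx⟩ * (⟨⟨y, K.hHa hy⟩, Subgroup.mem_subgroupOf.mpr hy⟩ :
          H.subgroupOf (stabilizer G a))⁻¹ * (⟨⟨x, K.hHa hx⟩, Subgroup.mem_subgroupOf.mpr hx⟩ :
          H.subgroupOf (stabilizer G a))⁻¹ := Subtype.ext (Subtype.ext hxy.symm)
    simp only [hlam, e1, map_mul, map_inv, map_one]
    rw [mul_inv_cancel_comm, mul_inv_cancel]
  · intro htriv
    obtain ⟨h1, -⟩ := deg_sq_mul hφ (fun x y => mem_center_sub K hP hne (comm_mem_zset K hP hne x y))
      hd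
    rw [Nat.card_congr (Equiv.subtypeUnivEquiv fun x y =>
      (htriv _ (comm_mem_zset K hP hne x y)))] at h1
    have h2 : d ^ 2 = 1 := (mul_eq_right₀ Nat.card_pos.ne').mp h1
    exact (Nat.pow_eq_one.mp h2).resolve_right two_ne_zero

omit hφ

/-- Values on the involutions of the kernel. -/
theorem col_value [Fintype (Cfsg.IrrCharacter (H.subgroupOf (stabilizer G a)))]
    (i : {χ : Cfsg.IrrCharacter (stabilizer G a) //
      IsRelevant (H.subgroupOf (stabilizer G a)) (χ : stabilizer G a → ℂ)})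
    {z : stabilizer G a} (hz : z ∈ zset H a) (hz1 : z ≠ 1) :
    (i.1 : stabilizer G a → ℂ) z = if redDeg (H.subgroupOf (stabilizer G a)) i = 1 then (e : ℂ)
      else -(redDeg (H.subgroupOf (stabilizer G a)) i : ℂ) := by
  classical
  obtain ⟨-, -, φ, -, hind, hdeg⟩ := redDeg_spec (H.subgroupOf (stabilizer G a)) K.hC i
  set d := redDeg (H.subgroupOf (stabilizer G a)) i
  have hd : (φ : H.subgroupOf (stabilizer G a) → ℂ) 1 = (d : ℂ) := by
    rw [apply_one_eq_degNat, hdeg]
  set S := ∑ t ∈ zset H a, Cfsg.extendByZero _ (φ : H.subgroupOf (stabilizer G a) → ℂ) t with hS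
  have hone : (1 : stabilizer G a) ∈ zset H a := mem_zset.mpr ⟨one_mem H, one_mul 1⟩
  have hh0 : (h : ℂ) ≠ 0 := Nat.cast_ne_zero.mpr (by have := K.one_lt_h; omega)
  have hsum : ∑ t ∈ zset H a, (i.1 : stabilizer G a → ℂ) t = (e : ℂ) * S := by
    simp only [← hind, indFun_apply, K.card_kernel, ← Finset.mul_sum]
    rw [Finset.sum_comm, Finset.sum_congr rfl fun x _ => sum_zset_conj K hP hne x
      (Cfsg.extendByZero _ (φ : H.subgroupOf (stabilizer G a) → ℂ)), Finset.sum_const,
      Finset.card_univ, ← Nat.card_eq_fintype_card, K.card_stabilizer, nsmul_eq_mul, ← hS,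
      Nat.cast_mul, mul_assoc, inv_mul_cancel_left₀ hh0]
  rw [← Finset.add_sum_erase _ _ hone, Finset.sum_congr rfl
    (g := fun _ => (i.1 : stabilizer G a → ℂ) z) fun t ht =>
      apply_invol K hP hne (irr_isClassFunction i.1) hz hz1 (Finset.mem_of_mem_erase ht)
        (Finset.ne_of_mem_erase ht), Finset.sum_const, Finset.card_erase_of_mem hone,
    card_zset K hP hne, Nat.add_sub_cancel, nsmul_eq_mul, K.redDeg_one i, Nat.cast_mul] at hsum
  have he0 : (e : ℂ) ≠ 0 := Nat.cast_ne_zero.mpr (by have := K.three_le_e; omega)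
  have hval : (i.1 : stabilizer G a → ℂ) z = S - d := by
    refine mul_left_cancel₀ he0 ?_
    linear_combination hsum
  rw [hval]
  rcases sum_zset_cases K hP hne φ.2 hd with ⟨htriv, hS'⟩ | ⟨⟨t, ht, hne'⟩, hS'⟩
  · have h1 := (deg_one_iff K hP hne φ.2 hd).mpr htriv
    rw [if_pos h1, hS, hS', h1]
    push_cast
    ring
  · rw [if_neg fun h1 => hne' ((deg_one_iff K hP hne φ.2 hd).mp h1 t ht), hS, hS', zero_sub]

/-- The nonlinear columns have equal degrees. -/
theorem col_uniform [Fintype (Cfsg.IrrCharacter (H.subgroupOf (stabilizer G a)))]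
    (i i' : {χ : Cfsg.IrrCharacter (stabilizer G a) //
      IsRelevant (H.subgroupOf (stabilizer G a)) (χ : stabilizer G a → ℂ)})
    (hi : redDeg (H.subgroupOf (stabilizer G a)) i ≠ 1)
    (hi' : redDeg (H.subgroupOf (stabilizer G a)) i' ≠ 1) :
    redDeg (H.subgroupOf (stabilizer G a)) i = redDeg (H.subgroupOf (stabilizer G a)) i' := by
  classical
  obtain ⟨-, -, φ, -, hind, hdeg⟩ := redDeg_spec (H.subgroupOf (stabilizer G a)) K.hC i
  obtain ⟨-, hd'0, φ', -, -, hdeg'⟩ := redDeg_spec (H.subgroupOf (stabilizer G a)) K.hC i'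
  set d := redDeg (H.subgroupOf (stabilizer G a)) i with hdd
  set d' := redDeg (H.subgroupOf (stabilizer G a)) i' with hdd'
  have hd : (φ : (H.subgroupOf (stabilizer G a)) → ℂ) 1 = (d : ℂ) := by rw [apply_one_eq_degNat, hdeg]
  have hd' : (φ' : (H.subgroupOf (stabilizer G a)) → ℂ) 1 = (d' : ℂ) := by rw [apply_one_eq_degNat, hdeg']
  set f := Cfsg.extendByZero (H.subgroupOf (stabilizer G a)) (φ : (H.subgroupOf (stabilizer G a)) → ℂ) with hf
  set f' := Cfsg.extendByZero (H.subgroupOf (stabilizer G a)) (φ' : (H.subgroupOf (stabilizer G a)) → ℂ) with hf'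
  have hS' : ∑ z ∈ zset H a, f' z = 0 := by
    rcases sum_zset_cases K hP hne φ'.2 hd' with ⟨htriv, -⟩ | ⟨-, hS⟩
    · exact absurd ((deg_one_iff K hP hne φ'.2 hd').mpr htriv) hi'
    · exact hS
  have hone : (1 : stabilizer G a) ∈ zset H a := mem_zset.mpr ⟨one_mem H, one_mul 1⟩
  have hf1 : f' 1 = (d' : ℂ) := by
    rw [hf', extendByZero_of_mem _ _ (one_mem (H.subgroupOf (stabilizer G a)))]; exact hd'
  have hh0 : (h : ℂ) ≠ 0 := Nat.cast_ne_zero.mpr (by have := K.one_lt_h; omega)
  -- some conjugate has the same central character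
  obtain ⟨x, hx⟩ : ∃ x : stabilizer G a,
      ∑ z ∈ zset H a, f (x⁻¹ * z * x) * conj (f' z) ≠ 0 := by
    by_contra hall
    push Not at hall
    have h0 : ∑ x : stabilizer G a, ∑ z ∈ zset H a, f (x⁻¹ * z * x) * conj (f' z) = 0 :=
      Finset.sum_eq_zero fun x _ => hall x
    have hχ : ∀ z, ∑ x : stabilizer G a, f (x⁻¹ * z * x) = (h : ℂ) * (i.1 : stabilizer G a → ℂ) z := by
      intro z
      rw [← hind, indFun_apply, K.card_kernel, mul_inv_cancel_left₀ hh0]
    rw [Finset.sum_comm, Finset.sum_congr rfl fun z _ => by rw [← Finset.sum_mul, hχ],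
      ← Finset.add_sum_erase _ _ hone, K.redDeg_one i, hf1,
      Finset.sum_congr rfl (g := fun z => -((h : ℂ) * (d : ℂ)) * conj (f' z)) fun z hz => by
        rw [col_value K hP hne i (Finset.mem_of_mem_erase hz) (Finset.ne_of_mem_erase hz),
          if_neg hi]; ring,
      ← Finset.mul_sum] at h0
    rw [← Finset.add_sum_erase _ _ hone, hf1, add_eq_zero_iff_eq_neg'] at hS'
    rw [← map_sum, hS', map_neg, Complex.conj_natCast, Nat.cast_mul] at h0
    have h2 : (h : ℂ) * ((e + 1 : ℕ) * ((d : ℂ) * d')) = 0 := by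
      push_cast
      linear_combination h0
    have hd0 : 0 < d := (redDeg_spec (H.subgroupOf (stabilizer G a)) K.hC i).2.1
    exact mul_ne_zero hh0 (mul_ne_zero (Nat.cast_ne_zero.mpr (Nat.succ_ne_zero e))
      (mul_ne_zero (Nat.cast_ne_zero.mpr hd0.ne') (Nat.cast_ne_zero.mpr hd'0.ne'))) h2
  set c : (H.subgroupOf (stabilizer G a)) → (H.subgroupOf (stabilizer G a)) := fun y => ⟨x⁻¹ * (y : stabilizer G a) * x, by
    simpa using (inferInstance : (H.subgroupOf (stabilizer G a)).Normal).conj_mem _ y.2 x⁻¹⟩ with hc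
  -- the two central characters agree
  have hsame : ∀ z : (H.subgroupOf (stabilizer G a)), (z : stabilizer G a) ∈ zset H a →
      ((φ : (H.subgroupOf (stabilizer G a)) → ℂ) (c z) = (φ : (H.subgroupOf (stabilizer G a)) → ℂ) 1 ↔ (φ' : (H.subgroupOf (stabilizer G a)) → ℂ) z = (φ' : (H.subgroupOf (stabilizer G a)) → ℂ) 1) := by
    intro z hz
    have hcz : ((c z : (H.subgroupOf (stabilizer G a))) : stabilizer G a) ∈ zset H a := conj_mem_zset K hP hne x hz
    obtain ⟨ω, hω1, hω⟩ := central_sign K hP hne φ.2 hcz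
    obtain ⟨ω', hω1', hω'⟩ := central_sign K hP hne φ'.2 hz
    have hinv : (z : stabilizer G a) * z = 1 := Subtype.ext (mem_zset.mp hz).2
    have h1 : ∑ t ∈ zset H a, f (x⁻¹ * t * x) * conj (f' t) =
        ω * conj ω' * ∑ t ∈ zset H a, f (x⁻¹ * t * x) * conj (f' t) := by
      rw [Finset.mul_sum]
      refine (Finset.sum_nbij' (fun t => t * (z : stabilizer G a)) (fun t => t * (z : stabilizer G a))
        (fun t ht => zset_mul K hP hne ht hz) (fun t ht => zset_mul K hP hne ht hz)
        (fun t _ => by rw [mul_assoc, hinv, mul_one]) (fun t _ => by rw [mul_assoc, hinv, mul_one])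
        fun t ht => ?_).symm
      have ht' : t ∈ (H.subgroupOf (stabilizer G a)) := zset_mem_sub K hP hne φ.2 ht
      have htz : t * (z : stabilizer G a) ∈ (H.subgroupOf (stabilizer G a)) := mul_mem ht' z.2
      rw [hf, hf', extendByZero_of_mem _ _ (show x⁻¹ * t * x ∈ (H.subgroupOf (stabilizer G a)) from (c ⟨t, ht'⟩).2),
        extendByZero_of_mem _ _ ht',
        extendByZero_of_mem _ _ (show x⁻¹ * (t * z) * x ∈ (H.subgroupOf (stabilizer G a)) from (c ⟨_, htz⟩).2),
        extendByZero_of_mem _ _ htz,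
        show (⟨x⁻¹ * (t * z) * x, (c ⟨_, htz⟩).2⟩ : (H.subgroupOf (stabilizer G a))) = c ⟨t, ht'⟩ * c z from
          Subtype.ext (by simp only [hc, Subgroup.coe_mul]; group), hω,
        show (⟨t * z, htz⟩ : (H.subgroupOf (stabilizer G a))) = ⟨t, ht'⟩ * z from rfl, hω', map_mul]
      ring
    have h2 : ω * conj ω' = 1 :=
      (mul_eq_right₀ hx).mp h1.symm
    have e1 : (φ : (H.subgroupOf (stabilizer G a)) → ℂ) (c z) = ω * (φ : (H.subgroupOf (stabilizer G a)) → ℂ) 1 := by simpa using hω 1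
    have e2 : (φ' : (H.subgroupOf (stabilizer G a)) → ℂ) z = ω' * (φ' : (H.subgroupOf (stabilizer G a)) → ℂ) 1 := by simpa using hω' 1
    rw [e1, e2, mul_eq_right₀ (IsIrrCharacter.apply_one_ne_zero φ.2),
      mul_eq_right₀ (IsIrrCharacter.apply_one_ne_zero φ'.2)]
    rcases hω1' with rfl | rfl
    · rw [map_one, mul_one] at h2; simp [h2]
    · rw [map_neg, map_one, mul_neg, mul_one] at h2
      have h3 : ω = -1 := by linear_combination -h2
      simp [h3]
  have hcen : ∀ u w : (H.subgroupOf (stabilizer G a)), w * u * w⁻¹ * u⁻¹ ∈ Subgroup.center (H.subgroupOf (stabilizer G a)) := fun u w =>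
    mem_center_sub K hP hne (comm_mem_zset K hP hne u w)
  obtain ⟨e1, -⟩ := deg_sq_mul φ.2 hcen hd
  obtain ⟨e2, -⟩ := deg_sq_mul φ'.2 hcen hd'
  let cE : (H.subgroupOf (stabilizer G a)) ≃ (H.subgroupOf (stabilizer G a)) :=
    { toFun := c
      invFun := fun y => ⟨x * (y : stabilizer G a) * x⁻¹,
        (inferInstance : (H.subgroupOf (stabilizer G a)).Normal).conj_mem _ y.2 x⟩
      left_inv := fun y => Subtype.ext (by simp only [hc]; group)
      right_inv := fun y => Subtype.ext (by simp only [hc]; group) }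
  have hcomm : ∀ u w : (H.subgroupOf (stabilizer G a)), c (w * u * w⁻¹ * u⁻¹) = c w * c u * (c w)⁻¹ * (c u)⁻¹ := fun u w =>
    Subtype.ext (by simp only [hc, Subgroup.coe_mul, Subgroup.coe_inv]; group)
  have hcard : Nat.card {u : (H.subgroupOf (stabilizer G a)) // ∀ w, (φ' : (H.subgroupOf (stabilizer G a)) → ℂ) (w * u * w⁻¹ * u⁻¹) = (φ' : (H.subgroupOf (stabilizer G a)) → ℂ) 1} =
      Nat.card {u : (H.subgroupOf (stabilizer G a)) // ∀ w, (φ : (H.subgroupOf (stabilizer G a)) → ℂ) (w * u * w⁻¹ * u⁻¹) = (φ : (H.subgroupOf (stabilizer G a)) → ℂ) 1} := by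
    refine Nat.card_congr (cE.subtypeEquiv fun u => ⟨fun h' w => ?_, fun h' w => ?_⟩)
    · obtain ⟨w', rfl⟩ := cE.surjective w
      show (φ : (H.subgroupOf (stabilizer G a)) → ℂ) (c w' * c u * (c w')⁻¹ * (c u)⁻¹) = _
      rw [← hcomm]
      exact (hsame _ (comm_mem_zset K hP hne u w')).mpr (h' w')
    · refine (hsame _ (comm_mem_zset K hP hne u w)).mp ?_
      rw [hcomm]
      exact h' (c w)
  rw [hcard, ← e1] at e2
  exact (Nat.pow_left_injective two_ne_zero
    (Nat.eq_of_mul_eq_mul_right (Nat.pos_of_ne_zero fun h0 => by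
      rw [h0, mul_zero] at e1; exact Nat.card_pos.ne e1) e2)).symm

open scoped Classical in
/-- A single nonlinear column is impossible when the kernel has order `(e + 1) ^ 2`. -/
theorem col_single [Fintype (Cfsg.IrrCharacter (H.subgroupOf (stabilizer G a)))]
    (i : {χ : Cfsg.IrrCharacter (stabilizer G a) //
      IsRelevant (H.subgroupOf (stabilizer G a)) (χ : stabilizer G a → ℂ)})
    (hi : redDeg (H.subgroupOf (stabilizer G a)) i ≠ 1) (hh : h = (e + 1) ^ 2)
    (hd2 : redDeg (H.subgroupOf (stabilizer G a)) i ^ 2 = e + 1) : False := by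
  obtain ⟨-, hdpos, φ, -, hind, hdeg⟩ := redDeg_spec (H.subgroupOf (stabilizer G a)) K.hC i
  set d := redDeg (H.subgroupOf (stabilizer G a)) i with hdd
  have hd : (φ : (H.subgroupOf (stabilizer G a)) → ℂ) 1 = (d : ℂ) := by rw [apply_one_eq_degNat, hdeg]
  have hcen : ∀ u w : (H.subgroupOf (stabilizer G a)), w * u * w⁻¹ * u⁻¹ ∈ Subgroup.center (H.subgroupOf (stabilizer G a)) := fun u w =>
    mem_center_sub K hP hne (comm_mem_zset K hP hne u w)
  obtain ⟨e1, hvan⟩ := deg_sq_mul φ.2 hcen hd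
  rw [hd2, K.card_kernel, hh, pow_two, mul_right_inj' (Nat.succ_ne_zero e), Nat.card_eq_fintype_card,
    Fintype.card_subtype] at e1
  -- the support is the set of elements of exponent two
  set R := Finset.univ.filter fun u : (H.subgroupOf (stabilizer G a)) =>
    ∀ w, (φ : (H.subgroupOf (stabilizer G a)) → ℂ) (w * u * w⁻¹ * u⁻¹) = (φ : (H.subgroupOf (stabilizer G a)) → ℂ) 1
  set Z := Finset.univ.filter fun u : (H.subgroupOf (stabilizer G a)) => (u : stabilizer G a) ∈ zset H a
  have hZR : Z = R := by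
    refine Finset.eq_of_subset_of_card_le (fun u hu => ?_) ?_
    · refine Finset.mem_filter.mpr ⟨Finset.mem_univ _, fun w => congrArg _ ?_⟩
      rw [Subgroup.mem_center_iff.mp (mem_center_sub K hP hne (Finset.mem_filter.mp hu).2) w,
        mul_inv_cancel_right, mul_inv_cancel]
    · rw [e1, ← card_zset K hP hne]
      exact Finset.card_le_card_of_injOn (fun z => if hz : z ∈ (H.subgroupOf (stabilizer G a)) then ⟨z, hz⟩ else 1)
        (fun z hz => by
          simp only [Finset.mem_coe, dif_pos (zset_mem_sub K hP hne φ.2 hz)]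
          exact Finset.mem_filter.mpr ⟨Finset.mem_univ _, hz⟩)
        (fun z hz t ht hzt => by
          simp only [dif_pos (zset_mem_sub K hP hne φ.2 hz),
            dif_pos (zset_mem_sub K hP hne φ.2 ht)] at hzt
          exact congrArg Subtype.val hzt)
  have hreal : ∀ u : (H.subgroupOf (stabilizer G a)), ((φ : (H.subgroupOf (stabilizer G a)) → ℂ) u).im = 0 := by
    intro u
    by_cases hu : u ∈ R
    · rw [← hZR] at hu
      obtain ⟨ω, hω, hω'⟩ := central_sign K hP hne φ.2 (Finset.mem_filter.mp hu).2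
      have h1 : (φ : (H.subgroupOf (stabilizer G a)) → ℂ) u = ω * (d : ℂ) := by simpa [hd] using hω' 1
      rcases hω with rfl | rfl <;> simp [h1]
    · rw [hvan u fun h' => hu (Finset.mem_filter.mpr ⟨Finset.mem_univ _, h'⟩), Complex.zero_im]
  obtain ⟨n, B, ε, -, -, hε, -, hFS⟩ := (frobeniusSchur φ.2).2 hreal
  have hsum : ∑ s : (H.subgroupOf (stabilizer G a)), (φ : (H.subgroupOf (stabilizer G a)) → ℂ) (s * s) = 0 := by
    -- symmetrise over the point stabilizer
    have hsq : ∀ s : (H.subgroupOf (stabilizer G a)), ((s * s : (H.subgroupOf (stabilizer G a))) : stabilizer G a) ∈ zset H a := fun s =>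
      mem_zset.mpr ⟨Subgroup.mem_subgroupOf.mp (s * s).2, by
        simpa using SuzukiKernel.sq_invol K hP hne (Subgroup.mem_subgroupOf.mp s.2)⟩
    have hconj : ∀ x : stabilizer G a, ∑ s : (H.subgroupOf (stabilizer G a)), Cfsg.extendByZero (H.subgroupOf (stabilizer G a)) (φ : (H.subgroupOf (stabilizer G a)) → ℂ)
        (x⁻¹ * ((s * s : (H.subgroupOf (stabilizer G a))) : stabilizer G a) * x) = ∑ s : (H.subgroupOf (stabilizer G a)), (φ : (H.subgroupOf (stabilizer G a)) → ℂ) (s * s) := by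
      intro x
      let eq : (H.subgroupOf (stabilizer G a)) ≃ (H.subgroupOf (stabilizer G a)) :=
        { toFun := fun s => ⟨x⁻¹ * (s : stabilizer G a) * x, by
            simpa using (inferInstance : (H.subgroupOf (stabilizer G a)).Normal).conj_mem _ s.2 x⁻¹⟩
          invFun := fun s => ⟨x * (s : stabilizer G a) * x⁻¹,
            (inferInstance : (H.subgroupOf (stabilizer G a)).Normal).conj_mem _ s.2 x⟩
          left_inv := fun s => Subtype.ext (by show x * _ * _ = _; simp only; group)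
          right_inv := fun s => Subtype.ext (by show x⁻¹ * _ * _ = _; simp only; group) }
      refine Fintype.sum_equiv eq _ _
        fun s => ?_
      rw [← extendByZero_coe (H.subgroupOf (stabilizer G a)) (φ : (H.subgroupOf (stabilizer G a)) → ℂ)]
      congr 1
      simp only [eq, Equiv.coe_fn_mk, Subgroup.coe_mul]
      group
    have hh0 : (h : ℂ) ≠ 0 := Nat.cast_ne_zero.mpr (by have := K.one_lt_h; omega)
    have h1 : ∑ s : (H.subgroupOf (stabilizer G a)), (h : ℂ) * (i.1 : stabilizer G a → ℂ) ((s * s : (H.subgroupOf (stabilizer G a))) : stabilizer G a) =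
        ((h * e : ℕ) : ℂ) * ∑ s : (H.subgroupOf (stabilizer G a)), (φ : (H.subgroupOf (stabilizer G a)) → ℂ) (s * s) := by
      simp only [← hind, indFun_apply, K.card_kernel, mul_inv_cancel_left₀ hh0]
      rw [Finset.sum_comm, Finset.sum_congr rfl fun x _ => hconj x, Finset.sum_const,
        Finset.card_univ, ← Nat.card_eq_fintype_card, K.card_stabilizer, nsmul_eq_mul]
    have hcZ : (Finset.univ.filter fun s : (H.subgroupOf (stabilizer G a)) => s * s = 1).card = e + 1 := by
      rw [← e1, ← hZR]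
      congr 1
      ext s
      simp only [Z, Finset.mem_filter, Finset.mem_univ, true_and, mem_zset, Subtype.ext_iff,
        Subgroup.coe_mul, Subgroup.coe_one]
      exact ⟨fun h' => ⟨Subgroup.mem_subgroupOf.mp s.2, h'⟩, fun h' => h'.2⟩
    have hsA : ∀ s ∈ Finset.univ.filter (fun s : (H.subgroupOf (stabilizer G a)) => s * s = 1),
        (i.1 : stabilizer G a → ℂ) ((s * s : (H.subgroupOf (stabilizer G a))) : stabilizer G a) =
          ((e * d : ℕ) : ℂ) := fun s hs => by
      rw [(Finset.mem_filter.mp hs).2, OneMemClass.coe_one, K.redDeg_one i]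
    have hsB : ∀ s ∈ Finset.univ.filter (fun s : (H.subgroupOf (stabilizer G a)) => ¬ s * s = 1),
        (i.1 : stabilizer G a → ℂ) ((s * s : (H.subgroupOf (stabilizer G a))) : stabilizer G a) =
          -(d : ℂ) := fun s hs => by
      rw [col_value K hP hne i (hsq s) (fun h' => (Finset.mem_filter.mp hs).2 (Subtype.ext h')),
        if_neg hi]
    rw [← Finset.mul_sum, ← Finset.sum_filter_add_sum_filter_not Finset.univ
      (fun s : (H.subgroupOf (stabilizer G a)) => s * s = 1), Finset.sum_congr rfl hsA,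
      Finset.sum_congr rfl hsB, Finset.sum_const, Finset.sum_const, hcZ] at h1
    have hrest : (Finset.univ.filter fun s : (H.subgroupOf (stabilizer G a)) => ¬ s * s = 1).card = (e + 1) * e := by
      have h2 := Finset.card_filter_add_card_filter_not (s := (Finset.univ : Finset (H.subgroupOf (stabilizer G a))))
        (fun s : (H.subgroupOf (stabilizer G a)) => s * s = 1)
      rw [hcZ, Finset.card_univ, ← Nat.card_eq_fintype_card, K.card_kernel, hh] at h2
      linarith
    rw [hrest, nsmul_eq_mul, nsmul_eq_mul] at h1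
    have h3 : ((h * e : ℕ) : ℂ) * ∑ s : (H.subgroupOf (stabilizer G a)), (φ : (H.subgroupOf (stabilizer G a)) → ℂ) (s * s) = 0 := by
      rw [← h1]; push_cast; ring
    exact (mul_eq_zero.mp h3).resolve_left (Nat.cast_ne_zero.mpr
      (Nat.mul_ne_zero (by have := K.one_lt_h; omega) (by have := K.three_le_e; omega)))
  rw [hsum, mul_zero] at hFS
  rcases hε with rfl | rfl <;> norm_num at hFS

end Cfsg.Agent.Lib.OddLocal.SuzukiColumns
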