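import Cfsg.Agent.Lib.Characters.ZassenhausOdd
import Cfsg.Agent.Lib.Characters.FeitZassenhaus
import Cfsg.Agent.Lib.Suzuki.Order
import Cfsg.Agent.Lib.Suzuki.Structure

/-!
# The kernel of a Zassenhaus group when it is a nonabelian 2-group
-/

set_option autoImplicit false
set_option linter.unusedSectionVars false
set_option linter.style.haveILetI false

namespace Cfsg.Agent.Lib.OddLocal.SuzukiKernel

open MulAction
open Cfsg.Agent.Lib.Characters.ZOdd
open Cfsg.Agent.Lib.Suzuki (InvTrans Reg)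

universe u v

variable {G : Type u} [Group G] [Finite G] [IsSimpleGroup G] {Ω : Type v} [MulAction G Ω]
  [Fintype Ω] {a b : Ω} {h e : ℕ} {H : Subgroup G}

theorem pair_cyclic (K : ZKer G a b h e H) :
    IsCyclic ↥(stabilizer G a ⊓ stabilizer G b : Subgroup G) := by
  classical
  letI := Fintype.ofFinite G
  haveI := K.normal
  haveI := K.isZGroup
  haveI : Group.IsNilpotent ↥(stabilizer G a ⊓ stabilizer G b : Subgroup G) :=
    letI : CommGroup ↥(stabilizer G a ⊓ stabilizer G b : Subgroup G) :=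
      { (inferInstance : Group ↥(stabilizer G a ⊓ stabilizer G b : Subgroup G)) with
        mul_comm := K.pair_comm }
    inferInstance
  infer_instance

theorem pair_conj_mem (K : ZKer G a b h e H) {g : G}
    (hg : g ∈ stabilizer G a ⊓ stabilizer G b) {x : G} (hx : x ∈ H) : g * x * g⁻¹ ∈ H :=
  K.conj_mem (mem_inf_stabilizer.mp hg).1 hx

theorem eq_one_of_commute (K : ZKer G a b h e H) {g : G}
    (hg : g ∈ stabilizer G a ⊓ stabilizer G b) {x : G} (hx : x ∈ H) (hx1 : x ≠ 1)
    (hgx : g * x * g⁻¹ = x) : g = 1 :=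
  K.disjoint_pair (K.centralizer_le hx hx1 (mul_inv_eq_iff_eq_mul.mp hgx))
    (mem_inf_stabilizer.mp hg).2

theorem exists_invol (K : ZKer G a b h e H) (hP : IsPGroup 2 H) :
    ∃ t ∈ H, orderOf t = 2 := by
  haveI : Fact (Nat.Prime 2) := ⟨Nat.prime_two⟩
  haveI : Nontrivial H := Finite.one_lt_card_iff_nontrivial.mp (K.hHcard ▸ K.one_lt_h)
  obtain ⟨x, hx⟩ := exists_ne (1 : H)
  obtain ⟨t, -, ht1, ht2⟩ := Cfsg.Agent.Lib.Suzuki.exists_invol_mem hP (Subgroup.mem_top x) hx
  refine ⟨t, t.2, ?_⟩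
  rw [Subgroup.orderOf_coe]
  exact orderOf_eq_prime (by rw [pow_two, ht2]) ht1

variable [Fintype G] [DecidableEq G]

theorem card_invol (K : ZKer G a b h e H) (hP : IsPGroup 2 H) [DecidableEq Ω] :
    (Finset.univ.filter fun t : G => orderOf t = 2 ∧ t • a = a).card = e := by
  obtain ⟨t, ht, ht2⟩ := exists_invol K hP
  exact (K.card_involutions_fix ht2 (K.hHa ht)).2

theorem mem_invol_iff (K : ZKer G a b h e H) [DecidableEq Ω] {t : G} :
    t ∈ (Finset.univ.filter fun t : G => orderOf t = 2 ∧ t • a = a) ↔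
      t ∈ H ∧ t ≠ 1 ∧ t * t = 1 := by
  simp only [Finset.mem_filter, Finset.mem_univ, true_and]
  constructor
  · rintro ⟨ht, hta⟩
    refine ⟨K.mem_of_involution ht hta, fun h1 => by simp [h1] at ht, ?_⟩
    rw [← pow_two, ← ht, pow_orderOf_eq_one]
  · rintro ⟨htH, ht1, ht2⟩
    exact ⟨orderOf_eq_prime (by rw [pow_two, ht2]) ht1, K.hHa htH⟩

/-- The two-point stabilizer permutes the involutions of the kernel transitively. -/
theorem conj_trans (K : ZKer G a b h e H) (hP : IsPGroup 2 H) {s t : G} (hs : s ∈ H)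
    (hs1 : s ≠ 1) (hs2 : s * s = 1) (ht : t ∈ H) (ht1 : t ≠ 1) (ht2 : t * t = 1) :
    ∃ g ∈ stabilizer G a ⊓ stabilizer G b, g * s * g⁻¹ = t := by
  classical
  set E := (stabilizer G a ⊓ stabilizer G b : Subgroup G)
  letI := Fintype.ofFinite E
  set T := Finset.univ.filter fun t : G => orderOf t = 2 ∧ t • a = a
  let f : E → G := fun g => (g : G) * s * (g : G)⁻¹
  have hinj : Function.Injective f := fun x y hxy => by
    have hxy' : (x : G) * s * (x : G)⁻¹ = (y : G) * s * (y : G)⁻¹ := hxy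
    have h1 : ((y⁻¹ * x : E) : G) = 1 := eq_one_of_commute K (y⁻¹ * x).2 hs hs1 <| by
      calc ((y⁻¹ * x : E) : G) * s * ((y⁻¹ * x : E) : G)⁻¹
          = (y : G)⁻¹ * ((x : G) * s * (x : G)⁻¹) * y := by
            rw [Subgroup.coe_mul, Subgroup.coe_inv]; group
        _ = s := by rw [hxy']; group
    exact (inv_mul_eq_one.mp (Subtype.ext h1 : y⁻¹ * x = 1)).symm
  have himg : Finset.univ.image f = T := by
    refine Finset.eq_of_subset_of_card_le (fun u hu => ?_) ?_
    · obtain ⟨g, -, rfl⟩ := Finset.mem_image.mp hu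
      refine (mem_invol_iff K).mpr ⟨pair_conj_mem K g.2 hs, fun h1 => hs1 ?_, ?_⟩
      · simpa [f] using h1
      · show (g : G) * s * (g : G)⁻¹ * ((g : G) * s * (g : G)⁻¹) = 1
        calc _ = (g : G) * (s * s) * (g : G)⁻¹ := by group
          _ = 1 := by rw [hs2]; group
    · rw [card_invol K hP, Finset.card_image_of_injective _ hinj, Finset.card_univ,
        ← Nat.card_eq_fintype_card, K.he]
  have : t ∈ T := (mem_invol_iff K).mpr ⟨ht, ht1, ht2⟩
  rw [← himg, Finset.mem_image] at this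
  obtain ⟨g, -, hg⟩ := this
  exact ⟨g, g.2, hg⟩

/-- A generator of the two-point stabilizer acts on the kernel as in a Suzuki 2-group. -/
theorem exists_kappa (K : ZKer G a b h e H) (hP : IsPGroup 2 H) :
    ∃ κ : MulAut H, InvTrans κ ∧ Reg κ ∧ ∀ m : ℕ, κ ^ m = 1 → e ∣ m := by
  classical
  set E := (stabilizer G a ⊓ stabilizer G b : Subgroup G)
  haveI : IsCyclic E := pair_cyclic K
  obtain ⟨d, hd⟩ := IsCyclic.exists_generator (α := E)
  have hd' : ((d : G))⁻¹ ∈ E := inv_mem d.2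
  let κ : MulAut H :=
    { toFun := fun x => ⟨(d : G) * x * (d : G)⁻¹, pair_conj_mem K d.2 x.2⟩
      invFun := fun x => ⟨(d : G)⁻¹ * x * d,
        by simpa using pair_conj_mem K hd' x.2⟩
      left_inv := fun x => Subtype.ext (by show _ * _ * _ = _; simp; group)
      right_inv := fun x => Subtype.ext (by show _ * _ * _ = _; simp; group)
      map_mul' := fun x y => Subtype.ext (by simp) }
  have hpow : ∀ (j : ℕ) (x : H), (((κ ^ j) x : H) : G) = (d : G) ^ j * x * ((d : G) ^ j)⁻¹ := by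
    intro j
    induction j with
    | zero => intro x; simp
    | succ j ih =>
      intro x
      rw [pow_succ', MulAut.mul_apply]
      show (d : G) * (((κ ^ j) x : H) : G) * (d : G)⁻¹ = _
      rw [ih, pow_succ']
      group
  have hord : orderOf d = e := by rw [orderOf_eq_card_of_forall_mem_zpowers hd, K.he]
  have hfix : ∀ (j : ℕ) (x : H), x ≠ 1 → (κ ^ j) x = x → e ∣ j := by
    intro j x hx hjx
    have h1 : (d : G) ^ j = 1 := eq_one_of_commute K (pow_mem d.2 j) x.2
      (fun h => hx (Subtype.ext h)) (by rw [← hpow j x, hjx])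
    rw [← hord]
    exact orderOf_dvd_of_pow_eq_one (Subtype.ext (by simpa using h1))
  have he1 : κ ^ e = 1 := by
    refine MulEquiv.ext fun x => Subtype.ext ?_
    have h1 : (d : G) ^ e = 1 := by
      rw [← SubmonoidClass.coe_pow, ← hord, pow_orderOf_eq_one, OneMemClass.coe_one]
    rw [hpow, h1]
    simp
  refine ⟨κ, ?_, ⟨e, K.hodd, by have := K.three_le_e; omega, he1, hfix⟩, fun m hm => ?_⟩
  · intro x y hx1 hx2 hy1 hy2
    obtain ⟨g, hg, hgx⟩ := conj_trans K hP x.2 (fun h => hx1 (Subtype.ext h))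
      (congrArg Subtype.val hx2) y.2 (fun h => hy1 (Subtype.ext h)) (congrArg Subtype.val hy2)
    obtain ⟨j, hj⟩ := mem_powers_iff_mem_zpowers.mpr (hd ⟨g, hg⟩)
    refine ⟨j, Subtype.ext ?_⟩
    rw [hpow, ← hgx, ← SubmonoidClass.coe_pow, show d ^ j = (⟨g, hg⟩ : E) from hj]
  · obtain ⟨t, ht, ht2⟩ := exists_invol K hP
    exact hfix m ⟨t, ht⟩ (fun h1 => by
      simp [congrArg Subtype.val h1 |> fun h : t = 1 => h] at ht2) (by rw [hm]; rfl)

variable (K : ZKer G a b h e H) (hP : IsPGroup 2 H) (hne : ∃ x y : H, x * y ≠ y * x)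
include K hP hne

theorem mem_center_iff (x : H) : x ∈ Subgroup.center H ↔ x * x = 1 := by
  obtain ⟨κ, htr, -, -⟩ := exists_kappa K hP
  exact ⟨Cfsg.Agent.Lib.Suzuki.center_mul_self hP htr hne x,
    Cfsg.Agent.Lib.Suzuki.invol_central hP htr⟩

/-- The involutions of the kernel are central in it. -/
theorem invol_commute {z x : G} (hz : z ∈ H) (hz2 : z * z = 1) (hx : x ∈ H) : x * z = z * x :=
  congrArg Subtype.val
    (Subgroup.mem_center_iff.mp ((mem_center_iff K hP hne ⟨z, hz⟩).mpr (Subtype.ext hz2)) ⟨x, hx⟩)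

theorem card_center : Nat.card (Subgroup.center H) = e + 1 := by
  classical
  set T := Finset.univ.filter fun t : G => orderOf t = 2 ∧ t • a = a with hT
  have h1 : (1 : G) ∉ T := fun h' => ((mem_invol_iff K).mp h').2.1 rfl
  rw [← card_invol K hP, ← hT, ← Finset.card_insert_of_notMem h1, ← Nat.card_eq_finsetCard]
  refine Nat.card_congr
    { toFun := fun x => ⟨((x : H) : G), ?_⟩
      invFun := fun g => ⟨⟨g.1, ?_⟩, ?_⟩
      left_inv := fun _ => rfl
      right_inv := fun _ => rfl }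
  · rw [Finset.mem_insert]
    by_cases hx : ((x : H) : G) = 1
    · exact Or.inl hx
    · exact Or.inr ((mem_invol_iff K).mpr ⟨(x : H).2, hx,
        congrArg Subtype.val ((mem_center_iff K hP hne x).mp x.2)⟩)
  · rcases Finset.mem_insert.mp g.2 with hg | hg
    · rw [hg]; exact one_mem H
    · exact ((mem_invol_iff K).mp hg).1
  · refine (mem_center_iff K hP hne _).mpr (Subtype.ext ?_)
    rcases Finset.mem_insert.mp g.2 with hg | hg
    · show g.1 * g.1 = 1
      rw [hg, one_mul]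
    · exact ((mem_invol_iff K).mp hg).2.2

theorem h_cases : h = (e + 1) ^ 2 ∨ h = (e + 1) ^ 3 := by
  obtain ⟨κ, htr, hreg, hκ⟩ := exists_kappa K hP
  have := Cfsg.Agent.Lib.Suzuki.card_eq hP htr hreg hne fun m hm => by
    rw [card_center K hP hne, Nat.add_sub_cancel]
    exact hκ m hm
  rwa [card_center K hP hne, K.hHcard] at this

theorem sq_invol {x : G} (hx : x ∈ H) : x * x * (x * x) = 1 := by
  obtain ⟨κ, htr, hreg, -⟩ := exists_kappa K hP
  exact congrArg Subtype.val ((mem_center_iff K hP hne _).mp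
    (Cfsg.Agent.Lib.Suzuki.sq_mem_center hP htr hreg hne ⟨x, hx⟩))

theorem comm_mem_center (x y : H) : y * x * y⁻¹ * x⁻¹ ∈ Subgroup.center H := by
  obtain ⟨κ, htr, hreg, -⟩ := exists_kappa K hP
  have hs := Cfsg.Agent.Lib.Suzuki.sq_mem_center hP htr hreg hne
  have h1 : y * x * y⁻¹ * x⁻¹ = y * x * (y * x) * (x⁻¹ * (y⁻¹ * y⁻¹) * x⁻¹) := by group
  rw [h1, Subgroup.mem_center_iff.mp (hs y⁻¹) x⁻¹, mul_assoc (y⁻¹ * y⁻¹)]
  exact mul_mem (hs _) (mul_mem (hs _) (hs _))

theorem comm_invol {x y : G} (hx : x ∈ H) (hy : y ∈ H) :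
    y * x * y⁻¹ * x⁻¹ * (y * x * y⁻¹ * x⁻¹) = 1 :=
  congrArg Subtype.val ((mem_center_iff K hP hne _).mp (comm_mem_center K hP hne ⟨x, hx⟩ ⟨y, hy⟩))

/-- Every involution of the kernel is a commutator. -/
theorem exists_comm {z : G} (hz : z ∈ H) (hz1 : z ≠ 1) (hz2 : z * z = 1) :
    ∃ x ∈ H, ∃ y ∈ H, y * x * y⁻¹ * x⁻¹ = z := by
  obtain ⟨x, y, hxy⟩ := hne
  have hc1 : (y : G) * x * (y : G)⁻¹ * (x : G)⁻¹ ≠ 1 := fun h1 => hxy (Subtype.ext (by
    simp only [Subgroup.coe_mul]
    rw [mul_inv_eq_one, mul_inv_eq_iff_eq_mul] at h1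
    exact h1.symm))
  obtain ⟨g, hg, hgz⟩ := conj_trans K hP
    (mul_mem (mul_mem (mul_mem y.2 x.2) (inv_mem y.2)) (inv_mem x.2)) hc1
    (comm_invol K hP ⟨x, y, hxy⟩ x.2 y.2) hz hz1 hz2
  refine ⟨g * x * g⁻¹, pair_conj_mem K hg x.2, g * y * g⁻¹, pair_conj_mem K hg y.2, ?_⟩
  rw [← hgz]
  group

theorem card_roots_one :
    (Finset.univ.filter fun s : G => s * s = 1).card = e * (h + 1) + 1 := by
  classical
  obtain ⟨t, ht, ht2⟩ := exists_invol K hP
  have hev := (K.card_involutions_fix ht2 (K.hHa ht)).1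
  rcases K.involutions ht2 with ⟨-, -, hI⟩ | ⟨hodd, -, -⟩
  · rw [← hI, ← Finset.card_insert_of_notMem (a := (1 : G)) (by simp)]
    congr 1
    ext s
    simp only [Finset.mem_filter, Finset.mem_univ, true_and, Finset.mem_insert]
    constructor
    · intro hs
      exact or_iff_not_imp_left.mpr fun h1 => orderOf_eq_prime (by rw [pow_two, hs]) h1
    · rintro (rfl | hs)
      · exact one_mul 1
      · rw [← pow_two, ← hs, pow_orderOf_eq_one]
  · exact absurd hev hodd

theorem card_roots {z : G} (hz : z ∈ H) (hz1 : z ≠ 1) (hz2 : z * z = 1) :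
    e * (Finset.univ.filter fun s : G => s * s = z).card + (e + 1) = h := by
  classical
  set T := Finset.univ.filter fun t : G => orderOf t = 2 ∧ t • a = a with hT
  have hT1 : (1 : G) ∉ T := fun h' => ((mem_invol_iff K).mp h').2.1 rfl
  set HF := Finset.univ.filter fun s : G => s ∈ H with hHF
  have hHc : HF.card = h := by
    rw [hHF, ← Fintype.card_subtype, ← Nat.card_eq_fintype_card]
    exact K.hHcard
  have hmaps : ∀ s ∈ HF, s * s ∈ insert 1 T := by
    intro s hs
    have hsH : s ∈ H := (Finset.mem_filter.mp hs).2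
    by_cases h1 : s * s = 1
    · simp [h1]
    · exact Finset.mem_insert_of_mem ((mem_invol_iff K).mpr
        ⟨mul_mem hsH hsH, h1, sq_invol K hP hne hsH⟩)
  have hroot : ∀ t ∈ T, (HF.filter fun s => s * s = t).card =
      (Finset.univ.filter fun s : G => s * s = z).card := by
    intro t ht
    obtain ⟨htH, ht1, ht2⟩ := (mem_invol_iff K).mp ht
    obtain ⟨g, hg, hgt⟩ := conj_trans K hP hz hz1 hz2 htH ht1 ht2
    refine (Finset.card_bij (fun s _ => g * s * g⁻¹) (fun s hs => ?_)
      (fun _ _ _ _ h => mul_left_cancel (mul_right_cancel h))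
      (fun s hs => ⟨g⁻¹ * s * g, ?_, by group⟩)).symm
    · simp only [hHF, Finset.mem_filter, Finset.mem_univ, true_and] at hs ⊢
      refine ⟨pair_conj_mem K hg (K.centralizer_le hz hz1 ?_), ?_⟩
      · show s * z = z * s
        rw [← hs, mul_assoc]
      · rw [← hgt, ← hs]; group
    · simp only [hHF, Finset.mem_filter, Finset.mem_univ, true_and] at hs ⊢
      calc g⁻¹ * s * g * (g⁻¹ * s * g) = g⁻¹ * (s * s) * g := by group
        _ = z := by rw [hs.2, ← hgt]; group
  have hone : (HF.filter fun s => s * s = 1).card = e + 1 := by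
    rw [← card_invol K hP, ← hT, ← Finset.card_insert_of_notMem hT1]
    congr 1
    ext s
    simp only [hHF, Finset.mem_filter, Finset.mem_univ, true_and, Finset.mem_insert]
    constructor
    · intro hs
      exact or_iff_not_imp_left.mpr fun h1 => (mem_invol_iff K).mpr ⟨hs.1, h1, hs.2⟩
    · rintro (rfl | hs)
      · exact ⟨one_mem H, one_mul 1⟩
      · obtain ⟨hsH, -, hs2⟩ := (mem_invol_iff K).mp hs
        exact ⟨hsH, hs2⟩
  have key := Finset.card_eq_sum_card_fiberwise hmaps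
  rw [Finset.sum_insert hT1, hone, Finset.sum_congr rfl hroot, Finset.sum_const,
    card_invol K hP, smul_eq_mul, hHc] at key
  omega

end Cfsg.Agent.Lib.OddLocal.SuzukiKernel
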