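import Cfsg.Agent.Lib.OddLocal.PLengthMinSimple
import Cfsg.Agent.S1461

/-!
Fusion in a Sylow subgroup of a minimal simple group of odd order is controlled by its normalizer.
-/

set_option autoImplicit false

universe u

namespace Cfsg.Agent.Lib.OddLocal

open Cfsg.Agent.Lib
open scoped commutatorElement

variable {G : Type u} [Group G] [Finite G] (hG : Cfsg.IsMinSimpleOddOrder G)
include hG

theorem normalizer_ne_top_of_pGroup {p : ℕ} [Fact p.Prime] {Q : Subgroup G} (hQ : IsPGroup p Q)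
    (h1 : Q ≠ ⊥) : Subgroup.normalizer (Q : Set G) ≠ ⊤ := by
  intro h
  have hn : Q.Normal := Subgroup.normalizer_eq_top_iff.mp h
  rcases hG.2.1.eq_bot_or_eq_top_of_normal Q hn with h' | h'
  · exact h1 h'
  · apply hG.2.2.1
    haveI : Group.IsSolvable G := by
      haveI : Group.IsNilpotent Q := hQ.isNilpotent
      have : Group.IsSolvable (⊤ : Subgroup G) := h' ▸ (inferInstance : Group.IsSolvable Q)
      exact Group.isSolvable_of_surjective (f := (Subgroup.topEquiv (G := G)).toMonoidHom)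
        (MulEquiv.surjective _)
    haveI := hG.2.1
    exact ⟨⟨fun a b => (IsSimpleGroup.comm_iff_isSolvable.mpr inferInstance) a b⟩⟩

omit hG in
theorem mem_map_conj_iff {x w : G} {Q : Subgroup G} :
    w ∈ Q.map (MulAut.conj x).toMonoidHom ↔ x⁻¹ * w * x ∈ Q := by
  constructor
  · rintro ⟨v, hv, rfl⟩
    simpa [mul_assoc] using hv
  · intro h
    exact ⟨_, h, by simp [mul_assoc]⟩

/-- Fusion of subgroups of a Sylow subgroup, and the Sylow subgroups of their normalizers. -/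
theorem sylow_fusion {p : ℕ} [Fact p.Prime] (P : Sylow p G) :
    ∀ (n : ℕ) (Q : Subgroup G), Q ≤ (P : Subgroup G) → Nat.card (P : Subgroup G) - Nat.card Q = n → Q ≠ ⊥ →
      (∀ T : Subgroup G, IsPGroup p T → (P : Subgroup G) ⊓ Subgroup.normalizer (Q : Set G) ≤ T →
          T ≤ Subgroup.normalizer (Q : Set G) → T ≤ (P : Subgroup G)) ∧
        ∀ x : G, (∀ w ∈ Q, x * w * x⁻¹ ∈ (P : Subgroup G)) →
          ∃ y ∈ Subgroup.normalizer ((P : Subgroup G) : Set G), ∃ c ∈ Subgroup.centralizer (Q : Set G), x = y * c := by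
  intro n
  induction n using Nat.strong_induction_on with
  | _ n IH =>
  intro Q hQP hn hQ1
  have hp : p.Prime := Fact.out
  rcases eq_or_lt_of_le hQP with rfl | hlt
  · refine ⟨fun T hT hle _ => ?_, fun x hx => ⟨x, ?_, 1, one_mem _, (mul_one x).symm⟩⟩
    · rw [inf_eq_left.mpr Subgroup.le_normalizer] at hle
      exact (P.3 hT hle).le
    · rw [Subgroup.mem_normalizer_iff_map_conj_eq]
      refine Subgroup.eq_of_le_of_card_ge ?_ (Subgroup.card_map_of_injective (MulAut.conj x).injective).ge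
      rintro _ ⟨w, hw, rfl⟩
      exact hx w hw
  have hbig : ∀ Q' : Subgroup G, Q' < (P : Subgroup G) → Nat.card Q' = Nat.card Q →
      ∀ R : Subgroup G, (P : Subgroup G) ⊓ Subgroup.normalizer (Q' : Set G) ≤ R → R ≤ (P : Subgroup G) →
      ∀ x : G, (∀ w ∈ R, x * w * x⁻¹ ∈ (P : Subgroup G)) →
        ∃ y ∈ Subgroup.normalizer ((P : Subgroup G) : Set G), ∃ c ∈ Subgroup.centralizer (R : Set G), x = y * c := by
    intro Q' hQ' hc R hR hRP
    have hnil : Group.IsNilpotent (P : Subgroup G) := P.2.isNilpotent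
    have hlt' : Q' < (P : Subgroup G) ⊓ Subgroup.normalizer (Q' : Set G) := by
      refine lt_of_le_of_ne (le_inf hQ'.le Subgroup.le_normalizer) fun h => hQ'.ne ?_
      exact eq_of_normalizer_inf_le hnil hQ'.le h.ge
    have hcard : Nat.card Q < Nat.card R := by
      rw [← hc]
      refine lt_of_lt_of_le ?_ (Subgroup.card_le_of_le hR)
      exact lt_of_le_of_ne (Subgroup.card_le_of_le hlt'.le) fun h =>
        hlt'.ne (Subgroup.eq_of_le_of_card_ge hlt'.le h.ge)
    have hRle := Subgroup.card_le_of_le hRP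
    refine (IH _ (by omega) R hRP rfl fun h => ?_).2
    rw [h, Subgroup.card_bot] at hcard
    have := Nat.card_pos (α := Q)
    omega
  -- the Sylow subgroup of a normalizer
  have hsyl : ∀ Q' : Subgroup G, Q' < (P : Subgroup G) → Nat.card Q' = Nat.card Q →
      ∀ T : Subgroup G, IsPGroup p T → (P : Subgroup G) ⊓ Subgroup.normalizer (Q' : Set G) ≤ T →
        T ≤ Subgroup.normalizer (Q' : Set G) → T ≤ (P : Subgroup G) := by
    intro Q' hQ' hc T hT hle hTN
    obtain ⟨S, hS⟩ := hT.exists_le_sylow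
    obtain ⟨g, hg⟩ := MulAction.exists_smul_eq G S P
    have hgT : ∀ w ∈ T, g * w * g⁻¹ ∈ (P : Subgroup G) := fun w hw => by
      rw [← hg]
      exact ⟨w, hS hw, rfl⟩
    obtain ⟨y, hy, c, hc', rfl⟩ := hbig Q' hQ' hc _ le_rfl inf_le_left g fun w hw => hgT w (hle hw)
    have hcN : c ∈ Subgroup.normalizer (Q' : Set G) := by
      refine Subgroup.centralizer_le_normalizer _ (Subgroup.mem_centralizer_iff.mpr fun w hw => ?_)
      exact Subgroup.mem_centralizer_iff.mp hc' w (le_inf hQ'.le Subgroup.le_normalizer hw)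
    have hcT : ∀ w ∈ T, c * w * c⁻¹ ∈ (P : Subgroup G) ⊓ Subgroup.normalizer (Q' : Set G) := fun w hw => by
      refine Subgroup.mem_inf.mpr ⟨?_, mul_mem (mul_mem hcN (hTN hw)) (inv_mem hcN)⟩
      have h1 := (Subgroup.mem_normalizer_iff.mp (inv_mem hy) _).mp (hgT w hw)
      simpa [mul_assoc] using h1
    have hcard : Nat.card T ≤ Nat.card ↥((P : Subgroup G) ⊓ Subgroup.normalizer (Q' : Set G)) := by
      rw [← show Nat.card (T.map (MulAut.conj c).toMonoidHom) = Nat.card T from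
        Subgroup.card_map_of_injective (MulAut.conj c).injective]
      refine Subgroup.card_le_of_le ?_
      rintro _ ⟨w, hw, rfl⟩
      exact hcT w hw
    exact (Subgroup.eq_of_le_of_card_ge hle hcard).symm.le.trans inf_le_left
  refine ⟨hsyl Q hlt rfl, fun x hx => ?_⟩
  set Q' := Q.map (MulAut.conj x).toMonoidHom with hQ'def
  have hQ'c : Nat.card Q' = Nat.card Q := Subgroup.card_map_of_injective (MulAut.conj x).injective
  have hQ'P : Q' < (P : Subgroup G) := by
    refine lt_of_le_of_ne (by rintro _ ⟨w, hw, rfl⟩; exact hx w hw) fun h => hlt.ne ?_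
    exact Subgroup.eq_of_le_of_card_ge hlt.le (by rw [← h, hQ'c])
  have hQ'1 : Q' ≠ ⊥ := fun h => hQ1 (by
    rw [← Subgroup.card_eq_one, ← hQ'c, Subgroup.card_eq_one]; exact h)
  set H := Subgroup.normalizer (Q' : Set G) with hH
  have hHne : H ≠ ⊤ := normalizer_ne_top_of_pGroup hG (P.2.to_le hQ'P.le) hQ'1
  set R' := (P : Subgroup G) ⊓ H with hR'
  set R := (P : Subgroup G) ⊓ Subgroup.normalizer (Q : Set G) with hR
  have hR'p : IsPGroup p (R'.subgroupOf H) := (P.2.to_le inf_le_left).comap_of_injective H.subtype Subtype.val_injective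
  obtain ⟨S, hS⟩ := hR'p.exists_le_sylow
  have hSeq : (S : Subgroup H) = R'.subgroupOf H := by
    refine le_antisymm (fun w hw => ?_) hS
    refine Subgroup.mem_inf.mpr ⟨hsyl Q' hQ'P hQ'c ((S : Subgroup H).map H.subtype) (S.2.map _) (fun v hv => ?_)
      (Subgroup.map_subtype_le _) ⟨w, hw, rfl⟩, w.2⟩
    exact ⟨⟨v, hv.2⟩, hS (show (⟨v, hv.2⟩ : H) ∈ R'.subgroupOf H from hv), rfl⟩
  haveI : Group.IsSolvable H := isSolvable_of_ne_top hG hHne
  -- move `R` into `R'` inside `H`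
  have hRx : ∀ w ∈ R, x * w * x⁻¹ ∈ H := by
    intro w hw
    rw [hH, Subgroup.mem_normalizer_iff]
    intro v
    rw [hQ'def, mem_map_conj_iff, mem_map_conj_iff, Subgroup.mem_normalizer_iff.mp hw.2 (x⁻¹ * v * x)]
    simp [mul_assoc]
  have hTp : IsPGroup p ((R.map (MulAut.conj x).toMonoidHom).subgroupOf H) :=
    ((P.2.to_le inf_le_left).map _).comap_of_injective H.subtype Subtype.val_injective
  obtain ⟨S₂, hS₂⟩ := hTp.exists_le_sylow
  obtain ⟨h, hh⟩ := MulAction.exists_smul_eq H S₂ S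
  have hmove : ∀ w ∈ R, ((h : G) * x) * w * ((h : G) * x)⁻¹ ∈ (P : Subgroup G) := by
    intro w hw
    have h1 : (⟨x * w * x⁻¹, hRx w hw⟩ : H) ∈ (S₂ : Subgroup H) := hS₂ ⟨w, hw, rfl⟩
    have h2 : h * (⟨x * w * x⁻¹, hRx w hw⟩ : H) * h⁻¹ ∈ (S : Subgroup H) := by
      rw [← hh]; exact ⟨_, h1, rfl⟩
    rw [hSeq] at h2
    have h3 : (h : G) * (x * w * x⁻¹) * (h : G)⁻¹ ∈ R' := h2
    rw [show (h : G) * x * w * ((h : G) * x)⁻¹ = (h : G) * (x * w * x⁻¹) * (h : G)⁻¹ by group]
    exact h3.1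
  obtain ⟨y, hy, c, hc, hyc⟩ := hbig Q hlt rfl R le_rfl inf_le_left _ hmove
  have hcQ : c ∈ Subgroup.centralizer (Q : Set G) := Subgroup.mem_centralizer_iff.mpr fun w hw =>
    Subgroup.mem_centralizer_iff.mp hc w (Subgroup.mem_inf.mpr ⟨hlt.le hw, Subgroup.le_normalizer hw⟩)
  -- decompose the element of `H`
  obtain ⟨-, hfus, -⟩ := S1461.result p (pLengthLE_one_of_minSimple hG hHne) S
  have hY : ((Q'.subgroupOf H : Subgroup H) : Set H) ⊆ ((S : Subgroup H) : Set H) := fun w hw => by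
    rw [SetLike.mem_coe, hSeq]
    exact Subgroup.mem_inf.mpr ⟨hQ'P.le hw, w.2⟩
  obtain ⟨g, hg, c₂, hc₂, hgc⟩ := hfus _ h⁻¹ hY (by
    rintro _ ⟨w, hw, rfl⟩
    refine hY ?_
    show ((h⁻¹ : H) : G) * (w : G) * (((h⁻¹ : H) : G))⁻¹ ∈ Q'
    exact (Subgroup.mem_normalizer_iff.mp (h⁻¹).2 _).mp hw)
  have hgR : ∀ w ∈ R', (g : G) * w * (g : G)⁻¹ ∈ R' := by
    intro w hw
    have h1 : (⟨w, hw.2⟩ : H) ∈ (S : Subgroup H) := by rw [hSeq]; exact hw
    have h2 := (Subgroup.mem_normalizer_iff.mp hg _).mp h1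
    rw [hSeq] at h2
    exact h2
  obtain ⟨y₁, hy₁, c₁, hc₁, hyc₁⟩ := hbig Q' hQ'P hQ'c R' le_rfl inf_le_left _ fun w hw => (hgR w hw).1
  have hc₁' : c₁ * c₂ ∈ Subgroup.centralizer (Q' : Set G) := by
    refine mul_mem (Subgroup.mem_centralizer_iff.mpr fun w hw => ?_) (Subgroup.mem_centralizer_iff.mpr fun w hw => ?_)
    · exact Subgroup.mem_centralizer_iff.mp hc₁ w (Subgroup.mem_inf.mpr ⟨hQ'P.le hw, Subgroup.le_normalizer hw⟩)
    · exact congrArg Subtype.val (Subgroup.mem_centralizer_iff.mp hc₂ ⟨w, Subgroup.le_normalizer hw⟩ hw)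
  refine ⟨y₁ * y, mul_mem hy₁ hy, y⁻¹ * (c₁ * c₂) * y * c, mul_mem ?_ hcQ, ?_⟩
  · rw [Subgroup.mem_centralizer_iff]
    intro w hw
    have hmem : y * w * y⁻¹ ∈ Q' := by
      have hw' : y * w * y⁻¹ = ((h : G) * x) * w * ((h : G) * x)⁻¹ := by
        rw [hyc, mul_inv_rev]
        have := Subgroup.mem_centralizer_iff.mp hcQ w hw
        calc y * w * y⁻¹ = y * (w * c) * c⁻¹ * y⁻¹ := by group
          _ = y * (c * w) * c⁻¹ * y⁻¹ := by rw [this]
          _ = _ := by group
      rw [hw', show (h : G) * x * w * ((h : G) * x)⁻¹ = (h : G) * (x * w * x⁻¹) * (h : G)⁻¹ by group]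
      exact (Subgroup.mem_normalizer_iff.mp h.2 _).mp ⟨w, hw, rfl⟩
    have h1 := Subgroup.mem_centralizer_iff.mp hc₁' _ hmem
    calc w * (y⁻¹ * (c₁ * c₂) * y) = y⁻¹ * ((y * w * y⁻¹) * (c₁ * c₂)) * y := by group
      _ = y⁻¹ * ((c₁ * c₂) * (y * w * y⁻¹)) * y := by rw [h1]
      _ = _ := by group
  · have hgc' : (g : G) * (c₂ : G) = (h : G)⁻¹ := congrArg Subtype.val hgc
    calc x = (h : G)⁻¹ * ((h : G) * x) := by group
      _ = (g : G) * (c₂ : G) * (y * c) := by rw [hgc', hyc]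
      _ = _ := by rw [hyc₁]; group

/-- Every conjugation between subgroups of a Sylow subgroup is induced by its normalizer. -/
theorem exists_normalizer_mul_centralizer {p : ℕ} [Fact p.Prime] (P : Sylow p G) {Q : Subgroup G}
    (hQ : Q ≤ (P : Subgroup G)) {x : G} (hx : ∀ w ∈ Q, x * w * x⁻¹ ∈ (P : Subgroup G)) :
    ∃ y ∈ Subgroup.normalizer ((P : Subgroup G) : Set G), ∃ c ∈ Subgroup.centralizer (Q : Set G), x = y * c := by
  by_cases h : Q = ⊥
  · subst h
    exact ⟨1, one_mem _, x, Subgroup.mem_centralizer_iff.mpr fun w hw => by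
      rw [Subgroup.mem_bot.mp hw, one_mul, mul_one], (one_mul x).symm⟩
  exact (sylow_fusion hG P _ Q hQ rfl h).2 x hx

theorem commutator_sylow_complement {p : ℕ} [Fact p.Prime] (P : Sylow p G) {V : Subgroup G}
    (hV : Cfsg.IsComplIn (P : Subgroup G) V (Subgroup.normalizer ((P : Subgroup G) : Set G))) :
    ⁅(P : Subgroup G), V⁆ = (P : Subgroup G) := by
  set C := ⁅(P : Subgroup G), V⁆ with hC
  have hCP : C ≤ (P : Subgroup G) := Coprime.commutator_le_of_le_normalizer hV.2.1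
  haveI hn : (C.subgroupOf (P : Subgroup G)).Normal :=
    Subgroup.normal_subgroupOf_of_le_normalizer (Subgroup.normalizer_commutator_ge_left _ V)
  -- every element is a product of a commutator and an element of `C`
  have hPle : (P : Subgroup G) ≤ ⁅(P : Subgroup G), (P : Subgroup G)⁆ ⊔ C := by
    refine (le_inf le_top le_rfl).trans ?_
    rw [← commutator_eq_top_of_minSimple hG, Subgroup.commutator_inf_eq_focalSubgroup, Subgroup.focalSubgroup_def,
      Subgroup.closure_le]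
    rintro g ⟨hg, x, hx, u, rfl⟩
    have hconj : u * x⁻¹ * u⁻¹ ∈ (P : Subgroup G) := by
      have h1 : x⁻¹ * ⁅x, u⁆ ∈ (P : Subgroup G) := mul_mem (inv_mem hx) hg
      rwa [show x⁻¹ * ⁅x, u⁆ = u * x⁻¹ * u⁻¹ by rw [commutatorElement_def]; group] at h1
    obtain ⟨y, hy, c, hc, rfl⟩ := exists_normalizer_mul_centralizer hG P (x := u)
      (Subgroup.zpowers_le.mpr (inv_mem hx)) fun w hw => by
        obtain ⟨k, rfl⟩ := Subgroup.mem_zpowers_iff.mp hw
        rw [← conj_zpow]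
        exact zpow_mem hconj k
    have hcx : c * x⁻¹ * c⁻¹ = x⁻¹ := by
      rw [← Subgroup.mem_centralizer_iff.mp hc x⁻¹ (Subgroup.mem_zpowers _), mul_inv_cancel_right]
    have he : ⁅x, y * c⁆ = ⁅x, y⁆ := by
      rw [commutatorElement_def, commutatorElement_def]
      calc x * (y * c) * x⁻¹ * (y * c)⁻¹ = x * y * (c * x⁻¹ * c⁻¹) * y⁻¹ := by group
        _ = _ := by rw [hcx]
    show ⁅x, y * c⁆ ∈ _
    rw [he]
    obtain ⟨a, ha, b, hb, rfl⟩ := hV.2.2.2 y hy
    have e : ⁅x, a * b⁆ = ⁅x, a⁆ * (a * ⁅x, b⁆ * a⁻¹) := by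
      simp only [commutatorElement_def]; group
    rw [e]
    refine mul_mem (Subgroup.mem_sup_left (Subgroup.commutator_mem_commutator hx ha)) (Subgroup.mem_sup_right ?_)
    exact (Subgroup.mem_normalizer_iff.mp (Subgroup.normalizer_commutator_ge_left (P : Subgroup G) V ha) _).mp
      (Subgroup.commutator_mem_commutator hx hb)
  -- so the quotient is perfect
  refine le_antisymm hCP ?_
  by_contra hne
  have hlt : C.subgroupOf (P : Subgroup G) ≠ ⊤ := fun h => hne (Subgroup.subgroupOf_eq_top.mp h)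
  haveI : Nontrivial ((P : Subgroup G) ⧸ C.subgroupOf (P : Subgroup G)) := QuotientGroup.nontrivial_iff.mpr hlt
  haveI : Group.IsNilpotent ((P : Subgroup G) ⧸ C.subgroupOf (P : Subgroup G)) :=
    (P.2.to_quotient _).isNilpotent
  refine (Group.IsSolvable.commutator_lt_top_of_nontrivial
    (G := (P : Subgroup G) ⧸ C.subgroupOf (P : Subgroup G))).ne (eq_top_iff.mpr fun w _ => ?_)
  obtain ⟨v, rfl⟩ := QuotientGroup.mk'_surjective _ w
  set π := QuotientGroup.mk' (C.subgroupOf (P : Subgroup G))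
  have h1 : (v : G) ∈ ((commutator ↥(P : Subgroup G)) ⊔ C.subgroupOf (P : Subgroup G)).map (P : Subgroup G).subtype := by
    rw [Subgroup.map_sup, Subgroup.map_subtype_commutator, Subgroup.map_subgroupOf_eq_of_le hCP]
    exact hPle v.2
  obtain ⟨v', hv', hvv⟩ := h1
  rw [← Subtype.ext hvv] at *
  have h2 := Subgroup.mem_map_of_mem π hv'
  rw [Subgroup.map_sup, (Subgroup.map_eq_bot_iff (C.subgroupOf (P : Subgroup G))).mpr (QuotientGroup.ker_mk' _).ge, sup_bot_eq,
    commutator_def, Subgroup.map_commutator] at h2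
  exact Subgroup.commutator_mono le_top le_top h2

end Cfsg.Agent.Lib.OddLocal
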