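import Cfsg.Agent.Lib.OddLocal.SigmaFusion
import Cfsg.Agent.Lib.OddLocal.AlphaCore

/-!
Elementary abelian subgroups of a maximal subgroup of `p`-rank two, for `p` outside `σ(M)`.
-/

set_option autoImplicit false

universe u

namespace Cfsg.Agent.Lib.OddLocal

open Cfsg.Agent.Lib

variable {G : Type u} [Group G] [Finite G] (hG : Cfsg.IsMinSimpleOddOrder G)
include hG

theorem maximal_elementary_of_rank_two {M : Subgroup G} (hM : IsCoatom M) {p : ℕ} [Fact p.Prime]
    (hr2 : Cfsg.PRankLE p 2 M) {A : Subgroup G} (hA : A ≤ M) (hAe : Cfsg.IsElementaryAbelian p A)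
    (hAc : Nat.card A = p ^ 2) {B : Subgroup G} (hB : Cfsg.IsElementaryAbelian p B) (hAB : A ≤ B) : B = A := by
  by_contra hne
  have hp : p.Prime := Fact.out
  have hlt : p ^ 2 < Nat.card B := by
    rw [← hAc]
    exact lt_of_le_of_ne (Subgroup.card_le_of_le hAB)
      fun h => hne (Subgroup.eq_of_le_of_card_ge hAB h.ge).symm
  have hBU := inUniqueMaximal_elementary hG hB hlt
  obtain ⟨K, ⟨hK, hAK⟩, huniq⟩ := inUniqueMaximal_of_centralizing hG hBU hAe
    (by rw [hAc]; exact lt_self_pow₀ hp.one_lt one_lt_two) (hAB.trans (le_centralizer_self hB.1))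
  obtain ⟨L, hL, hBL⟩ := exists_coatom_ge hG (ne_top_of_isPGroup hG (isPGroup_of_elementary hB))
  have hBM : B ≤ M := by
    rw [huniq M ⟨hM, hA⟩, ← huniq L ⟨hL, hAB.trans hBL⟩]
    exact hBL
  haveI := hB.1
  have h := hr2 (B.subgroupOf M) inferInstance (fun z hz => Subtype.ext (hB.2 _ hz))
  rw [Nat.card_congr (Subgroup.subgroupOfEquivOfLe hBM).toEquiv] at h
  exact absurd h (not_le.mpr hlt)

theorem not_isIdealPrime_of_rank_two {M : Subgroup G} (hM : IsCoatom M) {p : ℕ} [Fact p.Prime]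
    (hr2 : Cfsg.PRankLE p 2 M) {A : Subgroup G} (hA : A ≤ M) (hAe : Cfsg.IsElementaryAbelian p A)
    (hAc : Nat.card A = p ^ 2) : ¬ Cfsg.IsIdealPrime p G := by
  rintro ⟨-, -, h⟩
  obtain ⟨P, hP⟩ := (isPGroup_of_elementary hAe).exists_le_sylow
  obtain ⟨B, -, hB, hlt⟩ := h P A hP hAe hAc
  exact hlt.ne (maximal_elementary_of_rank_two hG hM hr2 hA hAe hAc hB hlt.le).symm

end Cfsg.Agent.Lib.OddLocal
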