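import Cfsg.Agent.Lib.OddLocal.SL2Odd

/-! A group of odd order of 2×2 matrices in odd characteristic `p` of order divisible by `p` fixes a
line. -/

set_option autoImplicit false

namespace Cfsg.Agent.Lib.OddLocal

open Subgroup Matrix

universe u v

variable {F : Type v} [Field F]

theorem exists_smul_of_mulVec_eq_zero {N : Matrix (Fin 2) (Fin 2) F} (hN : N ≠ 0) {v w : Fin 2 → F}
    (hv : v ≠ 0) (h1 : N *ᵥ v = 0) (h2 : N *ᵥ w = 0) : ∃ c : F, w = c • v := by
  have hD : v 0 * w 1 - v 1 * w 0 = 0 := by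
    by_contra hD
    refine hN ?_
    have a0 := congrFun h1 0; have a1 := congrFun h1 1
    have b0 := congrFun h2 0; have b1 := congrFun h2 1
    simp [Matrix.mulVec, dotProduct, Fin.sum_univ_two] at a0 a1 b0 b1
    ext i j
    fin_cases i <;> fin_cases j <;> simp only [Fin.zero_eta, Fin.mk_one, Matrix.zero_apply]
    · exact mul_left_cancel₀ hD (by linear_combination w 1 * a0 - v 1 * b0)
    · exact mul_left_cancel₀ hD (by linear_combination v 0 * b0 - w 0 * a0)
    · exact mul_left_cancel₀ hD (by linear_combination w 1 * a1 - v 1 * b1)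
    · exact mul_left_cancel₀ hD (by linear_combination v 0 * b1 - w 0 * a1)
  by_cases h0 : v 0 = 0
  · have h1' : v 1 ≠ 0 := by
      intro h; apply hv; ext i; fin_cases i <;> assumption
    refine ⟨w 1 / v 1, ?_⟩
    ext i; fin_cases i <;> simp only [Fin.zero_eta, Fin.mk_one, Pi.smul_apply, smul_eq_mul]
    · rw [h0, mul_zero]
      rw [h0, zero_mul, zero_sub, neg_eq_zero, mul_eq_zero] at hD
      exact hD.resolve_left h1'
    · field_simp
  · refine ⟨w 0 / v 0, ?_⟩
    ext i; fin_cases i <;> simp only [Fin.zero_eta, Fin.mk_one, Pi.smul_apply, smul_eq_mul]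
    · field_simp
    · field_simp; linear_combination hD

theorem exists_fixed_line {X : Type u} [Group X] [Finite X] (p : ℕ) [hp : Fact p.Prime] [CharP F p]
    (hp2 : p ≠ 2) (hodd : Odd (Nat.card X)) (f : X →* Matrix (Fin 2) (Fin 2) F)
    (hf : Function.Injective f) (hdvd : p ∣ Nat.card X) :
    ∃ v : Fin 2 → F, v ≠ 0 ∧ ∀ x : X, ∃ c : F, f x *ᵥ v = c • v := by
  let D : X →* F :=
    { toFun := fun x => (f x).det
      map_one' := by simp
      map_mul' := fun a b => by simp }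
  let X₁ : Subgroup X :=
    { carrier := {x | D x = 1}
      one_mem' := map_one D
      mul_mem' := fun {a b} ha hb => by simp_all [map_mul]
      inv_mem' := fun {a} ha => by
        have := map_mul D a⁻¹ a
        rw [inv_mul_cancel, map_one, show D a = 1 from ha, mul_one] at this
        exact this.symm }
  have hX₁n : X₁.Normal := ⟨fun a ha g => by
    show D (g * a * g⁻¹) = 1
    rw [map_mul, map_mul, show D a = 1 from ha, mul_one, ← map_mul, mul_inv_cancel, map_one]⟩
  have hord : ∀ x : X, x ^ p = 1 → D x = 1 := by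
    intro x hx
    have : (D x) ^ p = 1 ^ p := by rw [← map_pow, hx, map_one, one_pow]
    exact frobenius_inj F p this
  obtain ⟨z₀, hz₀⟩ := exists_prime_orderOf_dvd_card' p hdvd
  have hz₀1 : z₀ ∈ X₁ := hord z₀ (hz₀ ▸ pow_orderOf_eq_one z₀)
  let f₁ : X₁ →* Matrix (Fin 2) (Fin 2) F := f.comp X₁.subtype
  have hf₁ : Function.Injective f₁ := hf.comp Subtype.coe_injective
  have hodd₁ : Odd (Nat.card X₁) := hodd.of_dvd_nat (card_subgroup_dvd_card X₁)
  obtain ⟨P⟩ : Nonempty (Sylow p X₁) := inferInstance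
  have hP1 : (P : Subgroup X₁) ≠ ⊥ := by
    refine P.ne_bot_of_dvd_card ?_
    refine dvd_trans (dvd_of_eq ?_) (orderOf_dvd_natCard (⟨z₀, hz₀1⟩ : X₁))
    rw [← Subgroup.orderOf_coe]; exact hz₀.symm
  haveI : Nontrivial (P : Subgroup X₁) := (nontrivial_iff_ne_bot _).mpr hP1
  obtain ⟨z, hzP, hz1, hzc⟩ : ∃ z ∈ (P : Subgroup X₁), z ≠ 1 ∧
      ∀ y ∈ (P : Subgroup X₁), y * z = z * y := by
    haveI := P.2.center_nontrivial
    obtain ⟨⟨⟨z, hzP⟩, hz⟩, hne⟩ := exists_ne (1 : center (P : Subgroup X₁))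
    exact ⟨z, hzP, fun h => hne (Subtype.ext (Subtype.ext h)), fun y hy =>
      congrArg Subtype.val (mem_center_iff.mp hz ⟨y, hy⟩)⟩
  haveI : CharP (Matrix (Fin 2) (Fin 2) F) p := charP_of_injective_algebraMap' F p
  have hzN : f₁ z - 1 ≠ 0 := fun h => hz1 (hf₁ ((sub_eq_zero.mp h).trans (map_one f₁).symm))
  obtain ⟨k, hk⟩ := P.2 ⟨z, hzP⟩
  have hk' : z ^ p ^ k = 1 := congrArg Subtype.val hk
  have hzd : (f₁ z - 1).det = 0 := by
    have h1 : (f₁ z - 1) ^ p ^ k = 0 := by
      rw [sub_pow_char_pow_of_commute p _ (Commute.one_right _), one_pow, ← map_pow, hk', map_one,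
        sub_self]
    have := congrArg Matrix.det h1
    rw [Matrix.det_pow, Matrix.det_zero] at this
    exact pow_eq_zero_iff (pow_ne_zero _ hp.out.ne_zero) |>.mp this
  obtain ⟨v, hv, hzv⟩ := Matrix.exists_mulVec_eq_zero_iff.mpr hzd
  have hzv' : f₁ z *ᵥ v = v := by
    rwa [Matrix.sub_mulVec, Matrix.one_mulVec, sub_eq_zero] at hzv
  have hfix : ∀ w : X₁, w ∈ (P : Subgroup X₁) → f₁ w *ᵥ v = v := by
    intro w hw
    obtain ⟨c, hc⟩ := exists_smul_of_mulVec_eq_zero hzN hv hzv (w := f₁ w *ᵥ v) (by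
      rw [Matrix.sub_mulVec, Matrix.one_mulVec, Matrix.mulVec_mulVec, ← map_mul, ← hzc w hw, map_mul,
        ← Matrix.mulVec_mulVec, hzv', sub_self])
    obtain ⟨j, hj⟩ := P.2 ⟨w, hw⟩
    have hj' : w ^ p ^ j = 1 := congrArg Subtype.val hj
    have hpow : ∀ n : ℕ, f₁ (w ^ n) *ᵥ v = c ^ n • v := by
      intro n
      induction n with
      | zero => simp
      | succ n ih => rw [pow_succ, map_mul, ← Matrix.mulVec_mulVec, hc, Matrix.mulVec_smul, ih,
          smul_smul, ← pow_succ']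
    have := hpow (p ^ j)
    rw [hj', map_one, Matrix.one_mulVec] at this
    have hc1 : c ^ p ^ j = 1 := by
      by_contra hne
      refine hv ?_
      have h2 : (c ^ p ^ j - 1) • v = 0 := by rw [sub_smul, ← this, one_smul, sub_self]
      exact (smul_eq_zero.mp h2).resolve_left (sub_ne_zero.mpr hne)
    rw [hc, iterateFrobenius_inj F p j (show iterateFrobenius F p j c = iterateFrobenius F p j 1 by
      simpa [iterateFrobenius_def] using hc1), one_smul]
  have hline : ∀ x : X, ∀ w : X₁, w ∈ (P : Subgroup X₁) → (z : X) = x * w * x⁻¹ →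
      ∃ c : F, f x *ᵥ v = c • v := by
    intro x w hw he
    refine exists_smul_of_mulVec_eq_zero hzN hv hzv ?_
    show (f (z : X) - 1) *ᵥ (f x *ᵥ v) = 0
    have e : (z : X) * x = x * w := by rw [he]; group
    rw [Matrix.sub_mulVec, Matrix.one_mulVec, Matrix.mulVec_mulVec, ← map_mul, e, map_mul,
      ← Matrix.mulVec_mulVec]
    rw [show f (w : X) *ᵥ v = v from hfix w hw, sub_self]
  have hPn : (P : Subgroup X₁).Normal := by
    refine sylow_normal_of_sl2 p hp2 hodd₁ f₁ hf₁ (fun x => x.2) P hP1 fun C hC hCp a ha b hb => ?_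
    have hl : ∀ y ∈ C, ∃ c : F, f₁ y *ᵥ v = c • v := fun y hy =>
      hline y (y⁻¹ * z * y) ((mem_normalizer_iff''.mp (hC hy) z).mp hzP) (by simp [mul_assoc])
    obtain ⟨ca, hca⟩ := hl a ha; obtain ⟨cb, hcb⟩ := hl b hb
    obtain ⟨cd, hcd⟩ := hl (b * a)⁻¹ (inv_mem (mul_mem hb ha))
    have hcom : f₁ (a * b * (b * a)⁻¹) *ᵥ v = v := by
      have h1 : f₁ (a * b) *ᵥ v = f₁ (b * a) *ᵥ v := by
        simp only [map_mul, ← Matrix.mulVec_mulVec, hca, hcb, Matrix.mulVec_smul, smul_smul, mul_comm]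
      rw [map_mul, ← Matrix.mulVec_mulVec, hcd, Matrix.mulVec_smul, h1, ← Matrix.mulVec_smul, ← hcd,
        Matrix.mulVec_mulVec, ← map_mul, mul_inv_cancel, map_one, Matrix.one_mulVec]
    have hdz : (f₁ (a * b * (b * a)⁻¹) - 1).det = 0 :=
      Matrix.exists_mulVec_eq_zero_iff.mp ⟨v, hv, by
        rw [Matrix.sub_mulVec, Matrix.one_mulVec, hcom, sub_self]⟩
    have hd : (f₁ (a * b * (b * a)⁻¹)).det = 1 := (a * b * (b * a)⁻¹).2
    have htr : (f₁ (a * b * (b * a)⁻¹)).trace = 2 := by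
      rw [Matrix.det_fin_two] at hdz
      simp only [Matrix.sub_apply, Matrix.one_apply_eq, ne_eq, Fin.zero_eq_one_iff, OfNat.ofNat_ne_one,
        not_false_eq_true, Matrix.one_apply_ne, sub_zero, one_ne_zero] at hdz
      rw [Matrix.det_fin_two] at hd
      rw [Matrix.trace_fin_two]
      linear_combination hd - hdz
    have hpow := pow_eq_one_of_trace_two p hd htr
    rw [← map_pow, ← map_one f₁] at hpow
    have := orderOf_eq_one_iff.mp (Nat.eq_one_of_dvd_coprimes hCp
      (orderOf_dvd_natCard C (mul_mem (mul_mem ha hb) (inv_mem (mul_mem hb ha))))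
      (orderOf_dvd_of_pow_eq_one (hf₁ hpow)))
    exact mul_inv_eq_one.mp this
  refine ⟨v, hv, fun x => ?_⟩
  let w : X₁ := ⟨x⁻¹ * z * x, by simpa using hX₁n.conj_mem _ z.2 x⁻¹⟩
  have hw : w ∈ (P : Subgroup X₁) := by
    have hwk : w ^ p ^ k = 1 := by
      have e : (x⁻¹ * (z : X) * x) ^ p ^ k = x⁻¹ * (z : X) ^ p ^ k * x := by
        have hc : ∀ n : ℕ, (x⁻¹ * (z : X) * x) ^ n = x⁻¹ * (z : X) ^ n * x := by
          intro n
          induction n with
          | zero => simp
          | succ n ih => rw [pow_succ, ih, pow_succ]; group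
        exact hc _
      refine Subtype.ext ?_
      show (x⁻¹ * (z : X) * x) ^ p ^ k = 1
      rw [e, show (z : X) ^ p ^ k = 1 from congrArg Subtype.val hk']
      simp
    obtain ⟨j, -, hj⟩ := (Nat.dvd_prime_pow hp.out).mp (orderOf_dvd_of_pow_eq_one hwk)
    obtain ⟨Q, hQ⟩ := (IsPGroup.of_card (n := j) (by rw [Nat.card_zpowers, hj]) :
      IsPGroup p (zpowers w)).exists_le_sylow
    have hsub : Subsingleton (Sylow p X₁) := by
      haveI := hPn
      letI := P.unique_of_normal hPn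
      infer_instance
    exact Subsingleton.elim Q P ▸ hQ (mem_zpowers w)
  exact hline x w hw (by simp [w, mul_assoc])

end Cfsg.Agent.Lib.OddLocal
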