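import Mathlib

/-!
Independence of distinct powers of a fixed-point-free automorphism of an abelian group.
-/

set_option autoImplicit false

namespace Cfsg.Agent.Lib.OddLocal

open Polynomial

theorem vandermonde_action {M : Type*} [CommGroup M] (a : MulAut M) {n : ℕ} (m : Fin n → ℕ)
    (hfix : ∀ i j, i ≠ j → ∀ w, (a ^ m i) w = (a ^ m j) w → w = 1) :
    (∀ c : Fin n → M, (∀ j, ∏ i : Fin n, (a ^ (m j * (i : ℕ))) (c i) = 1) → c = 1) ∧
      (∀ c : Fin n → M, (∀ i : Fin n, ∏ j, (a ^ (m j * (i : ℕ))) (c j) = 1) → c = 1) := by
  classical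
  let T : AddMonoid.End (Additive M) := MonoidHom.toAdditive (a : M →* M)
  letI : Module ℤ[X] (Additive M) := Module.compHom _ (Polynomial.aeval (R := ℤ) T).toRingHom
  have hX : ∀ (k : ℕ) (w : M), (X ^ k : ℤ[X]) • Additive.ofMul w = Additive.ofMul ((a ^ k) w) := by
    intro k
    induction k with
    | zero => intro w; rw [pow_zero, pow_zero, one_smul]; rfl
    | succ k ih =>
      intro w
      rw [pow_succ', pow_succ', mul_smul, ih]
      show (Polynomial.aeval T) (X : ℤ[X]) (Additive.ofMul ((a ^ k) w)) = _
      rw [Polynomial.aeval_X]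
      rfl
  set v : Fin n → ℤ[X] := fun j => X ^ m j with hv
  have hdet : ∀ w : Additive M, (Matrix.vandermonde v).det • w = 0 → w = 0 := by
    rw [Matrix.det_vandermonde]
    have key : ∀ (s : Finset (Fin n × Fin n)), (∀ q ∈ s, q.1 ≠ q.2) → ∀ w : Additive M,
        (∏ q ∈ s, (v q.2 - v q.1)) • w = 0 → w = 0 := by
      intro s
      induction s using Finset.induction_on with
      | empty => intro _ w hw; simpa using hw
      | insert q s hq ih =>
        intro hs w hw
        rw [Finset.prod_insert hq, mul_smul, sub_smul, sub_eq_zero] at hw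
        refine ih (fun q' hq' => hs q' (Finset.mem_insert_of_mem hq')) w ?_
        obtain ⟨u, hu⟩ : ∃ u : M, Additive.ofMul u = (∏ q ∈ s, (v q.2 - v q.1)) • w :=
          ⟨Additive.toMul _, rfl⟩
        rw [← hu, hv] at hw
        simp only [hX] at hw
        rw [← hu, hfix q.2 q.1 (Ne.symm (hs q (Finset.mem_insert_self _ _))) u (Additive.ofMul.injective hw)]
        rfl
    intro w hw
    refine key (Finset.univ.filter fun q : Fin n × Fin n => q.1 < q.2)
      (fun q hq => (Finset.mem_filter.mp hq).2.ne) w ?_
    convert hw using 2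
    rw [Finset.prod_filter, ← Finset.univ_product_univ, Finset.prod_product]
    refine Finset.prod_congr rfl fun i _ => ?_
    rw [← Finset.prod_filter]
    refine Finset.prod_congr ?_ fun _ _ => rfl
    ext j
    simp
  have gen : ∀ (A : Matrix (Fin n) (Fin n) ℤ[X]), A.det = (Matrix.vandermonde v).det →
      ∀ c : Fin n → Additive M, (∀ j, ∑ i, A j i • c i = 0) → c = 0 := by
    intro A hA c hc
    funext k
    refine hdet _ ?_
    rw [← hA]
    calc A.det • c k = ∑ i, ((A.adjugate * A) k i) • c i := by
          rw [Matrix.adjugate_mul, Finset.sum_eq_single k]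
          · simp
          · intro i _ hik; simp [Matrix.one_apply, Ne.symm hik]
          · simp
      _ = ∑ j, A.adjugate k j • ∑ i, A j i • c i := by
          simp only [Matrix.mul_apply, Finset.sum_smul, mul_smul, Finset.smul_sum]
          exact Finset.sum_comm
      _ = 0 := by simp [hc]
  have hsmul : ∀ (j i : Fin n) (w : M),
      Matrix.vandermonde v j i • Additive.ofMul w = Additive.ofMul ((a ^ (m j * (i : ℕ))) w) := by
    intro j i w
    rw [Matrix.vandermonde_apply, hv, ← hX, pow_mul]
  refine ⟨fun c hc => ?_, fun c hc => ?_⟩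
  · have h := gen _ rfl (fun i => Additive.ofMul (c i)) fun j => by
      simp only [hsmul]
      rw [← ofMul_prod, hc j, ofMul_one]
    funext i
    exact Additive.ofMul.injective (congrFun h i)
  · have h := gen (Matrix.vandermonde v).transpose (Matrix.det_transpose _)
      (fun i => Additive.ofMul (c i)) fun i => by
      simp only [Matrix.transpose_apply, hsmul]
      rw [← ofMul_prod, hc i, ofMul_one]
    funext j
    exact Additive.ofMul.injective (congrFun h j)

end Cfsg.Agent.Lib.OddLocal
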