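import Cfsg.Agent.Lib.Characters.ZassenhausOdd

/-!
Zassenhaus groups with two-point stabilizer of odd order without normal complements: the transfer argument of the
simple case only needs the two-point stabilizer to lie in the commutator subgroup.
-/

set_option linter.style.haveILetI false
set_option linter.unusedSectionVars false

namespace Cfsg.Agent.Lib.OddLocal.ZassTransfer

open MulAction
open scoped commutatorElement
open Cfsg.Agent.Lib.Characters.ZOdd

universe u v

variable {G : Type u} [Group G] [Finite G] {Ω : Type v} [MulAction G Ω] [Fintype Ω]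
  {a b : Ω} {h e : ℕ} {H : Subgroup G}

theorem transfer_pair_of_comm (D : ZHyp G a b h e) (hcom : stabilizer G a ⊓ stabilizer G b ≤ commutator G)
    (φ : stabilizer G a →* ℂˣ) {w x : G} (hwa : w • a = b) (hwb : w • b = a)
    (hx : x ∈ stabilizer G a ⊓ stabilizer G b) :
    φ ⟨x, (mem_inf_stabilizer.mp hx).1⟩ *
      φ ⟨w⁻¹ * x * w, (mem_inf_stabilizer.mp (D.conj_mem_pair hwa hwb hx)).1⟩ = 1 := by
  classical
  have htriv : MonoidHom.transfer φ x = 1 := by
    have h1 := Abelianization.commutator_subset_ker (MonoidHom.transfer φ)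
    exact h1 (hcom hx)
  letI := Fintype.ofFinite (Quotient (orbitRel (Subgroup.zpowers x) (G ⧸ (stabilizer G a))))
  rw [MonoidHom.transfer_eq_prod_quotient_orbitRel_zpowers_quot] at htriv
  have hxa := (mem_inf_stabilizer.mp hx).1
  have hxb := (mem_inf_stabilizer.mp hx).2
  -- fixed cosets
  set qa : Quotient (orbitRel (Subgroup.zpowers x) (G ⧸ (stabilizer G a))) :=
    Quotient.mk'' ((1 : G) : G ⧸ (stabilizer G a)) with hqa
  set qb : Quotient (orbitRel (Subgroup.zpowers x) (G ⧸ (stabilizer G a))) :=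
    Quotient.mk'' ((w : G) : G ⧸ (stabilizer G a)) with hqb
  have hfixa : x • ((1 : G) : G ⧸ (stabilizer G a)) = ((1 : G) : G ⧸ (stabilizer G a)) := by
    show ((x * 1 : G) : G ⧸ (stabilizer G a)) = _
    rw [QuotientGroup.eq]
    simp [inv_smul_eq_iff, hxa]
  have hfixb : x • ((w : G) : G ⧸ (stabilizer G a)) = ((w : G) : G ⧸ (stabilizer G a)) := by
    show ((x * w : G) : G ⧸ (stabilizer G a)) = _
    rw [QuotientGroup.eq]
    simp [mul_smul, hwa, hxb, inv_smul_eq_iff]
  have hout : ∀ c : G ⧸ (stabilizer G a), x • c = c →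
      (Quotient.mk'' c : Quotient (orbitRel (Subgroup.zpowers x) (G ⧸ (stabilizer G a)))).out = c := by
    intro c hc
    have h1 := Quotient.mk_out (s := orbitRel (Subgroup.zpowers x) (G ⧸ (stabilizer G a))) c
    obtain ⟨⟨z, hz⟩, hzc⟩ := h1
    refine hzc.symm.trans ?_
    show z • c = c
    exact (Subgroup.zpowers_le.mpr (show x ∈ stabilizer G c from hc) hz)
  have hne : qa ≠ qb := by
    intro heq
    have h1 := congrArg Quotient.out heq
    rw [hqa, hqb, hout _ hfixa, hout _ hfixb, QuotientGroup.eq] at h1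
    simp [hwa] at h1
    exact D.hab h1.symm
  have hperiod : ∀ c : G ⧸ (stabilizer G a), x • c = c → Function.minimalPeriod (x • ·) c = 1 :=
    fun c hc => Function.minimalPeriod_eq_one_iff_isFixedPt.mpr hc
  rw [Fintype.prod_eq_mul qa qb hne ?_] at htriv
  · have e1 : ∀ (k : G) (hk : k ∈ (stabilizer G a)) (z : (stabilizer G a)) (hz : k⁻¹ * (z : G) * k ∈ (stabilizer G a)),
        φ ⟨k⁻¹ * (z : G) * k, hz⟩ = φ z := by
      intro k hk z hz
      rw [show (⟨k⁻¹ * (z : G) * k, hz⟩ : (stabilizer G a)) = (⟨k, hk⟩ : (stabilizer G a))⁻¹ * z * ⟨k, hk⟩ from rfl, map_mul,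
        map_mul, map_inv, mul_right_comm, inv_mul_cancel, one_mul]
    refine Eq.trans (congrArg₂ (· * ·) ?_ ?_) htriv
    · have h1 : qa.out = ((1 : G) : G ⧸ (stabilizer G a)) := hout _ hfixa
      have hk : qa.out.out ∈ (stabilizer G a) := by
        have h2 : ((qa.out.out : G) : G ⧸ (stabilizer G a)) = ((1 : G) : G ⧸ (stabilizer G a)) := by
          rw [QuotientGroup.out_eq', h1]
        have := QuotientGroup.eq.mp h2.symm
        simpa using this
      rw [← e1 _ hk ⟨x, hxa⟩ (mul_mem (mul_mem (inv_mem hk) hxa) hk)]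
      congr 1
      apply Subtype.ext
      simp only [h1, hperiod _ hfixa, pow_one]
    · have h1 : qb.out = ((w : G) : G ⧸ (stabilizer G a)) := hout _ hfixb
      set k := w⁻¹ * qb.out.out with hkdef
      have hk : k ∈ (stabilizer G a) := by
        have h2 : ((qb.out.out : G) : G ⧸ (stabilizer G a)) = ((w : G) : G ⧸ (stabilizer G a)) := by
          rw [QuotientGroup.out_eq', h1]
        exact QuotientGroup.eq.mp h2.symm
      have hwx : w⁻¹ * x * w ∈ (stabilizer G a) := (mem_inf_stabilizer.mp (D.conj_mem_pair hwa hwb hx)).1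
      rw [← e1 k hk ⟨w⁻¹ * x * w, hwx⟩ (mul_mem (mul_mem (inv_mem hk) hwx) hk)]
      congr 1
      apply Subtype.ext
      simp only [h1, hperiod _ hfixb, pow_one, hkdef, mul_inv_rev, inv_inv, mul_assoc,
        mul_inv_cancel_left]
  · rintro q ⟨hqa', hqb'⟩
    set g := q.out.out with hg
    have hga : g • a ≠ a := by
      intro hga
      apply hqa'
      have h2 : q.out = ((1 : G) : G ⧸ (stabilizer G a)) := by
        rw [← QuotientGroup.out_eq' q.out, QuotientGroup.eq]
        simp [← hg, inv_smul_eq_iff, hga]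
      rw [← Quotient.out_eq' q, h2]
    have hgb : g • a ≠ b := by
      intro hgb
      apply hqb'
      have h2 : q.out = ((w : G) : G ⧸ (stabilizer G a)) := by
        rw [← QuotientGroup.out_eq' q.out, QuotientGroup.eq]
        simp [← hg, mul_smul, hgb, hwa, inv_smul_eq_iff]
      rw [← Quotient.out_eq' q, h2]
    set m := Function.minimalPeriod (x • ·) q.out
    have hm := QuotientGroup.out_conj_pow_minimalPeriod_mem (stabilizer G a) x q.out
    have hxm : x ^ m = 1 := by
      refine D.three D.hab (Ne.symm hgb) (Ne.symm hga) ?_ ?_ ?_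
      · exact pow_mem (show x ∈ stabilizer G a from hxa) m
      · exact pow_mem (show x ∈ stabilizer G b from hxb) m
      · have : (g⁻¹ * x ^ m * g) • a = a := hm
        rwa [mul_smul, mul_smul, inv_smul_eq_iff] at this
    rw [← map_one φ]
    congr 1
    apply Subtype.ext
    simp [show x ^ Function.minimalPeriod (x • ·) q.out = 1 from hxm]

theorem conj_eq_inv_of_comm (K : ZKer G a b h e H) (hcom : stabilizer G a ⊓ stabilizer G b ≤ commutator G) {w : G} (hwa : w • a = b)
    (hwb : w • b = a) {x : G} (hx : x ∈ stabilizer G a ⊓ stabilizer G b) :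
    w⁻¹ * x * w = x⁻¹ := by
  classical
  set E := (stabilizer G a ⊓ stabilizer G b : Subgroup G) with hEdef
  haveI := K.isZGroup
  haveI : IsCyclic (commutator E) := IsZGroup.isCyclic_commutator E
  let τ : E →* E :=
    { toFun := fun y => ⟨w⁻¹ * (y : G) * w, K.conj_mem_pair hwa hwb y.2⟩
      map_one' := Subtype.ext (by simp)
      map_mul' := fun y z => Subtype.ext (by simp [mul_assoc]) }
  have hτsurj : Function.Surjective τ := Finite.injective_iff_surjective.mp fun y z hyz =>
    Subtype.ext (mul_left_cancel (mul_right_cancel (congrArg Subtype.val hyz)))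
  -- τ y * y lies in the commutator
  have hmem : ∀ y : E, y * τ y ∈ commutator E := by
    intro y
    by_contra hy
    have hne : Abelianization.of (y * τ y) ≠ (1 : Abelianization E) := fun h1 =>
      hy ((QuotientGroup.eq_one_iff _).mp h1)
    haveI : NeZero ((Monoid.exponent (Abelianization E) : ℕ) : ℂ) :=
      ⟨by exact_mod_cast Monoid.ExponentExists.of_finite.exponent_ne_zero⟩
    obtain ⟨ψ, hψ⟩ := CommGroup.exists_apply_ne_one_of_hasEnoughRootsOfUnity
      (Abelianization E) ℂ hne
    obtain ⟨π, hπ, -⟩ := K.exists_proj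
    have := transfer_pair_of_comm K.toZHyp hcom ((ψ.comp Abelianization.of).comp π) hwa hwb y.2
    simp only [MonoidHom.comp_apply] at this
    rw [hπ y] at this
    erw [hπ (τ y)] at this
    rw [← map_mul, ← map_mul] at this
    exact hψ this
  -- conjugation on the commutator is by power maps
  have hpow : ∀ y : E, ∃ i : ℤ, ∀ c ∈ commutator E, y * c * y⁻¹ = c ^ i := by
    intro y
    obtain ⟨i, hi⟩ := MonoidHom.map_cyclic
      ((MulAut.conjNormal (H := commutator E) y).toMonoidHom)
    exact ⟨i, fun c hc => by simpa using congrArg Subtype.val (hi ⟨c, hc⟩)⟩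
  have hτc : ∀ c ∈ commutator E, ∃ c₀ ∈ commutator E, τ c₀ = c := by
    intro c hc
    obtain ⟨c₀, rfl⟩ := hτsurj c
    refine ⟨c₀, ?_, rfl⟩
    have h1 : (commutator E).map τ = commutator E := by
      rw [map_commutator_eq, MonoidHom.range_eq_top.mpr hτsurj]
      rfl
    obtain ⟨d, hd, hdc⟩ := (h1.symm ▸ hc : τ c₀ ∈ (commutator E).map τ)
    exact ((Finite.injective_iff_surjective.mpr hτsurj) hdc) ▸ hd
  have hcomm_c : ∀ c ∈ commutator E, ∀ d ∈ commutator E, c * d = d * c := fun c hc d hd =>
    congrArg Subtype.val (IsCyclic.commGroup.mul_comm (⟨c, hc⟩ : commutator E) ⟨d, hd⟩)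
  have hsq : ∀ y : E, ∀ c ∈ commutator E, Commute (y ^ 2) c := by
    intro y c hc
    obtain ⟨i, hi⟩ := hpow y
    obtain ⟨c₀, hc₀, rfl⟩ := hτc c hc
    have h1 : τ y * τ c₀ * (τ y)⁻¹ = y * τ c₀ * y⁻¹ := by
      rw [hi _ hc, ← map_zpow, ← hi _ hc₀, map_mul, map_mul, map_inv]
    set d := y * τ y with hd
    have hty : τ y = y⁻¹ * d := by rw [hd, inv_mul_cancel_left]
    have hdc := hcomm_c d (hmem y) _ hc
    rw [hty] at h1
    have h2 : y⁻¹ * τ c₀ * y = y * τ c₀ * y⁻¹ := by
      rw [← h1]
      calc y⁻¹ * τ c₀ * y = y⁻¹ * (τ c₀ * (d * d⁻¹)) * y := by rw [mul_inv_cancel, mul_one]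
        _ = y⁻¹ * (d * τ c₀) * d⁻¹ * y := by rw [hdc]; group
        _ = y⁻¹ * d * τ c₀ * (y⁻¹ * d)⁻¹ := by group
    show y ^ 2 * τ c₀ = τ c₀ * y ^ 2
    calc y ^ 2 * τ c₀ = y * (y * τ c₀ * y⁻¹) * y := by rw [pow_two]; group
      _ = y * (y⁻¹ * τ c₀ * y) * y := by rw [h2]
      _ = τ c₀ * y ^ 2 := by rw [pow_two]; group
  have hcentral : commutator E ≤ Subgroup.center E := by
    intro c hc
    rw [Subgroup.mem_center_iff]
    intro y
    obtain ⟨j, hj⟩ := K.hodd
    have hy : y = (y ^ 2) ^ (j + 1) := by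
      rw [← pow_mul, show 2 * (j + 1) = e + 1 by omega, pow_succ,
        show y ^ e = 1 from K.he ▸ pow_card_eq_one', one_mul]
    rw [hy]
    exact (hsq y c hc).pow_left _
  have habel : ∀ y z : E, y * z = z * y :=
    commutative_of_cyclic_center_quotient (Abelianization.of (G := E))
      (by rw [Abelianization.ker_of]; exact hcentral)
  have hbot : commutator E = ⊥ := by
    rw [commutator_def, Subgroup.commutator_eq_bot_iff_le_centralizer]
    intro y _
    rw [Subgroup.mem_centralizer_iff]
    exact fun z _ => habel z y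
  have := hmem ⟨x, hx⟩
  rw [hbot, Subgroup.mem_bot] at this
  exact eq_inv_of_mul_eq_one_right (congrArg Subtype.val this)

theorem pair_le_commutator (K : ZKer G a b h e H)
    (hnil : ∀ q : ℕ, q.Prime → q ∣ e → ¬ ∃ N : Subgroup G, N.Normal ∧ N.index = q ^ (Nat.card G).factorization q)
    (hdvd : e ∣ h - 1) : stabilizer G a ⊓ stabilizer G b ≤ commutator G := by
  classical
  set E := (stabilizer G a ⊓ stabilizer G b : Subgroup G) with hE
  haveI := K.isZGroup
  suffices hI : ((commutator G).subgroupOf E).index = 1 by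
    exact Subgroup.subgroupOf_eq_top.mp (Subgroup.index_eq_one.mp hI)
  by_contra hne
  obtain ⟨q, hq, hqI⟩ := Nat.exists_prime_and_dvd hne
  haveI := Fact.mk hq
  have hqe : q ∣ e := K.he ▸ hqI.trans (Subgroup.index_dvd_card _)
  obtain ⟨Q⟩ : Nonempty (Sylow q E) := inferInstance
  have hh1 := K.one_lt_h
  have hq2 : q ≠ 2 := fun e' => (Nat.not_even_iff_odd.mpr K.hodd) (even_iff_two_dvd.mpr (e' ▸ hqe))
  have hqh : ¬ q ∣ h := fun h' => hq.one_lt.ne' (Nat.dvd_one.mp (by
    have := Nat.dvd_sub h' (hqe.trans hdvd)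
    rwa [show h - (h - 1) = 1 by omega] at this))
  have hqh1 : ¬ q ∣ h + 1 := fun h' => hq2 ((Nat.prime_dvd_prime_iff_eq hq Nat.prime_two).mp (by
    have := Nat.dvd_sub h' (hqe.trans hdvd)
    rwa [show h + 1 - (h - 1) = 2 by omega] at this))
  have hfact : (Nat.card G).factorization q = e.factorization q := by
    have he0 : e ≠ 0 := by have := K.three_le_e; omega
    rw [K.toZHyp.card_group, Nat.factorization_mul (by omega) (by positivity),
      Nat.factorization_mul (by omega) he0]
    simp only [Finsupp.add_apply, Nat.factorization_eq_zero_of_not_dvd hqh,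
      Nat.factorization_eq_zero_of_not_dvd hqh1, zero_add]
  have hcard : Nat.card ↥((Q : Subgroup E).map E.subtype) = q ^ (Nat.card G).factorization q := by
    rw [Subgroup.card_subtype, Q.card_eq_multiplicity, K.he, hfact]
  let P : Sylow q G := Sylow.ofCard _ hcard
  haveI : IsCyclic (Q : Subgroup E) := inferInstance
  haveI : IsCyclic P :=
    isCyclic_of_surjective _
      ((Q : Subgroup E).equivMapOfInjective E.subtype E.subtype_injective).surjective
  rcases Sylow.normalizer_le_centralizer_or_le_commutator P with hP | hP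
  · refine hnil q hq hqe ⟨(MonoidHom.transferSylow P hP).ker, inferInstance, ?_⟩
    rw [(MonoidHom.ker_transferSylow_isComplement' P hP).symm.index_eq_card, P.card_eq_multiplicity]
  · refine Q.not_dvd_index (hqI.trans (Subgroup.index_dvd_of_le ?_))
    intro x hx
    exact Subgroup.mem_subgroupOf.mpr (hP ⟨x, hx, rfl⟩)

end Cfsg.Agent.Lib.OddLocal.ZassTransfer
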